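import Mathlib

set_option autoImplicit false

namespace Cfsg.Agent.Helper5

open Matrix

section
variable {n : Type*} [Fintype n] [DecidableEq n] {F : Type*} [Field F]

theorem range_toGL_eq_ker_det :
    (SpecialLinearGroup.toGL : SpecialLinearGroup n F →* GL n F).range =
      (GeneralLinearGroup.det : GL n F →* Fˣ).ker := by
  ext g
  constructor
  · rintro ⟨s, rfl⟩
    simp [MonoidHom.mem_ker]
  · intro hg
    rw [MonoidHom.mem_ker] at hg
    refine ⟨⟨g.1, ?_⟩, ?_⟩
    · have := congrArg Units.val hg
      simpa using this
    · ext i j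
      rfl

theorem card_ker_det_eq_card_SL :
    Nat.card (GeneralLinearGroup.det : GL n F →* Fˣ).ker = Nat.card (SpecialLinearGroup n F) := by
  rw [← range_toGL_eq_ker_det]
  exact (Nat.card_congr (MonoidHom.ofInjective SpecialLinearGroup.toGL_injective).toEquiv).symm

theorem card_GL_eq_card_SL_mul [Fintype F] [Nonempty n] :
    Nat.card (GL n F) = Nat.card (SpecialLinearGroup n F) * (Fintype.card F - 1) := by
  have h1 := Subgroup.card_eq_card_quotient_mul_card_subgroup
    (GeneralLinearGroup.det : GL n F →* Fˣ).ker
  have h2 : Nat.card (GL n F ⧸ (GeneralLinearGroup.det : GL n F →* Fˣ).ker) = Nat.card Fˣ :=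
    Nat.card_congr (QuotientGroup.quotientKerEquivOfSurjective _
      GeneralLinearGroup.det_surjective).toEquiv
  rw [h1, h2, card_ker_det_eq_card_SL, Nat.card_units, Nat.card_eq_fintype_card, mul_comm]

theorem card_center_GL [Fintype F] [Nonempty n] :
    Nat.card (Subgroup.center (GL n F)) = Fintype.card F - 1 := by
  rw [GeneralLinearGroup.center_eq_range_scalar]
  have hinj : Function.Injective (GeneralLinearGroup.scalar n : Fˣ →* GL n F) := by
    intro a b hab
    obtain ⟨i⟩ := ‹Nonempty n›
    have := congrArg (fun g : GL n F => (g : Matrix n n F) i i) hab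
    simp at this
    exact Units.ext this
  rw [← Nat.card_congr (MonoidHom.ofInjective hinj).toEquiv, Nat.card_units,
    Nat.card_eq_fintype_card]

end

end Cfsg.Agent.Helper5
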