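import Mathlib

set_option autoImplicit false

namespace Cfsg.Agent.Helper5

open scoped LinearAlgebra.Projectivization Matrix MatrixGroups
open Projectivization Matrix.ProjGenLinGroup

section
variable {K : Type*} [Field K]

/-- the 2×2 determinant of two vectors -/
def det2 (u v : Fin 2 → K) : K := u 0 * v 1 - u 1 * v 0

theorem mk_eq_mk_iff_det2 {u v : Fin 2 → K} (hu : u ≠ 0) (hv : v ≠ 0) :
    Projectivization.mk K u hu = Projectivization.mk K v hv ↔ det2 u v = 0 := by
  rw [Projectivization.mk_eq_mk_iff']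
  constructor
  · rintro ⟨a, rfl⟩
    simp [det2]; ring
  · intro h
    unfold det2 at h
    by_cases h0 : v 0 = 0
    · have hv1 : v 1 ≠ 0 := by
        intro h1
        apply hv
        ext i; fin_cases i <;> simpa
      have hu0 : u 0 = 0 := by
        rw [h0, mul_zero, sub_zero] at h
        exact (mul_eq_zero.1 h).resolve_right hv1
      refine ⟨u 1 / v 1, ?_⟩
      ext i; fin_cases i
      · simp [h0, hu0]
      · simp; field_simp
    · refine ⟨u 0 / v 0, ?_⟩
      ext i; fin_cases i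
      · simp; field_simp
      · simp; field_simp; linear_combination h

theorem e1_ne_zero : (![1, 0] : Fin 2 → K) ≠ 0 := by
  intro h; have := congr_fun h 0; simp at this

theorem e2_ne_zero : (![0, 1] : Fin 2 → K) ≠ 0 := by
  intro h; have := congr_fun h 1; simp at this

theorem e12_ne_zero : (![1, 1] : Fin 2 → K) ≠ 0 := by
  intro h; have := congr_fun h 0; simp at this

/-- The standard frame of the projective line. -/
noncomputable def pt1 : ℙ K (Fin 2 → K) := Projectivization.mk K ![1, 0] e1_ne_zero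
noncomputable def pt2 : ℙ K (Fin 2 → K) := Projectivization.mk K ![0, 1] e2_ne_zero
noncomputable def pt12 : ℙ K (Fin 2 → K) := Projectivization.mk K ![1, 1] e12_ne_zero

theorem exists_pgl_frame (a b c : ℙ K (Fin 2 → K)) (hab : a ≠ b) (hac : a ≠ c) (hbc : b ≠ c) :
    ∃ g : PGL(Fin 2, K), g • pt1 = a ∧ g • pt2 = b ∧ g • pt12 = c := by
  induction a using Projectivization.ind with | _ u hu =>
  induction b using Projectivization.ind with | _ v hv =>
  induction c using Projectivization.ind with | _ w hw =>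
  rw [Ne, mk_eq_mk_iff_det2] at hab hac hbc
  set α := det2 w v with hα
  set β := det2 u w with hβ
  have hα0 : α ≠ 0 := by
    intro h; apply hbc; rw [hα] at h; unfold det2 at h ⊢; linear_combination -h
  let M : Matrix (Fin 2) (Fin 2) K := !![α * u 0, β * v 0; α * u 1, β * v 1]
  have hdet : M.det ≠ 0 := by
    rw [Matrix.det_fin_two_of]
    have : α * u 0 * (β * v 1) - β * v 0 * (α * u 1) = α * β * det2 u v := by
      unfold det2; ring
    rw [this]
    exact mul_ne_zero (mul_ne_zero hα0 hac) hab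
  refine ⟨Matrix.ProjGenLinGroup.mk (Matrix.GeneralLinearGroup.mkOfDetNeZero M hdet), ?_, ?_, ?_⟩
  · unfold pt1
    rw [PGL.mk_smul_mk, Projectivization.mk_eq_mk_iff']
    refine ⟨α, ?_⟩
    ext i
    change _ = (M *ᵥ ![1, 0]) i
    fin_cases i <;> simp [M, Matrix.mulVec, Matrix.vecHead, Matrix.vecTail]
  · unfold pt2
    rw [PGL.mk_smul_mk, Projectivization.mk_eq_mk_iff']
    refine ⟨β, ?_⟩
    ext i
    change _ = (M *ᵥ ![0, 1]) i
    fin_cases i <;> simp [M, Matrix.mulVec, Matrix.vecHead, Matrix.vecTail]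
  · unfold pt12
    rw [PGL.mk_smul_mk, Projectivization.mk_eq_mk_iff']
    refine ⟨det2 u v, ?_⟩
    ext i
    change _ = (M *ᵥ ![1, 1]) i
    fin_cases i <;> simp [M, Matrix.mulVec, Matrix.vecHead, Matrix.vecTail, hα, hβ, det2] <;> ring

theorem pgl_eq_one_of_fix_frame (g : PGL(Fin 2, K)) (h1 : g • pt1 = (pt1 : ℙ K (Fin 2 → K)))
    (h2 : g • pt2 = (pt2 : ℙ K (Fin 2 → K))) (h12 : g • pt12 = (pt12 : ℙ K (Fin 2 → K))) : g = 1 := by
  induction g using Matrix.ProjGenLinGroup.induction_on with | mk g =>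
  unfold pt1 at h1
  unfold pt2 at h2
  unfold pt12 at h12
  rw [PGL.mk_smul_mk, Projectivization.mk_eq_mk_iff'] at h1 h2 h12
  obtain ⟨l, hl⟩ := h1
  obtain ⟨m, hm⟩ := h2
  obtain ⟨n, hn⟩ := h12
  have hl' : g.1 *ᵥ ![1, 0] = l • ![1, 0] := hl.symm
  have hm' : g.1 *ᵥ ![0, 1] = m • ![0, 1] := hm.symm
  have hn' : g.1 *ᵥ ![1, 1] = n • ![1, 1] := hn.symm
  have a00 := congr_fun hl' 0
  have a10 := congr_fun hl' 1
  have a01 := congr_fun hm' 0
  have a11 := congr_fun hm' 1
  have b0 := congr_fun hn' 0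
  have b1 := congr_fun hn' 1
  simp [Matrix.mulVec, Matrix.vecHead, Matrix.vecTail] at a00 a10 a01 a11 b0 b1
  rw [Matrix.ProjGenLinGroup.mk_eq_one, Matrix.GeneralLinearGroup.mem_center_iff_val_mem_range_scalar]
  refine ⟨l, ?_⟩
  ext i j
  fin_cases i <;> fin_cases j <;> simp [Matrix.scalar_apply, a00, a10, a01, a11]
  rw [a00, a01] at b0
  rw [a10, a11] at b1
  linear_combination b0 - b1

end

end Cfsg.Agent.Helper5
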