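import Mathlib
import Cfsg.Agent.Helper5.Card

set_option autoImplicit false

namespace Cfsg.Agent.Helper5

open Matrix
open scoped LinearAlgebra.Projectivization

section
variable {F : Type*} [Field F] [Fintype F]

theorem card_SL2 : Nat.card (SpecialLinearGroup (Fin 2) F) = Fintype.card F * (Fintype.card F ^ 2 - 1) := by
  have h := card_GL_eq_card_SL_mul (n := Fin 2) (F := F)
  rw [Matrix.card_GL_field] at h
  have hq : 2 ≤ Fintype.card F := Fintype.one_lt_card
  set q := Fintype.card F with hq_def
  have hq1 : 0 < q - 1 := by omega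
  simp only [Fin.prod_univ_two, Fin.val_zero, Fin.val_one, pow_zero, pow_one] at h
  have h3 : (q ^ 2 - 1) * (q ^ 2 - q) = (q * (q ^ 2 - 1)) * (q - 1) := by
    have : q ^ 2 - q = q * (q - 1) := by
      rw [Nat.mul_sub, mul_one, sq]
    rw [this]; ring
  rw [h3] at h
  exact (Nat.eq_of_mul_eq_mul_right hq1 h).symm

theorem card_projLine : Nat.card (ℙ F (Fin 2 → F)) = Fintype.card F + 1 := by
  rw [Projectivization.card_of_finrank_two (k := F) (V := Fin 2 → F) (by simp), Nat.card_eq_fintype_card]

end

end Cfsg.Agent.Helper5
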