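import Mathlib
import Cfsg.Agent.Helper5.ProjLine

set_option autoImplicit false

namespace Cfsg.Agent.Helper5

open Matrix
open scoped LinearAlgebra.Projectivization

/-- A group that embeds in `Perm α` with index 2 is the alternating group. -/
theorem equiv_alternating_of_injective {G : Type*} [Group G] {α : Type*} [Fintype α] [DecidableEq α]
    (φ : G →* Equiv.Perm α) (hφ : Function.Injective φ)
    (hcard : 2 * Nat.card G = Nat.card (Equiv.Perm α)) :
    Nonempty (G ≃* alternatingGroup α) := by
  have e1 : G ≃* φ.range := MonoidHom.ofInjective hφ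
  have hc : Nat.card φ.range = Nat.card G := (Nat.card_congr e1.toEquiv).symm
  have hidx : φ.range.index = 2 := by
    have h := φ.range.index_mul_card
    rw [hc, ← hcard] at h
    have hG : 0 < Nat.card G := by
      rcases Nat.eq_zero_or_pos (Nat.card G) with h0 | h0
      · rw [h0] at hcard
        have : 0 < Nat.card (Equiv.Perm α) := Nat.card_pos
        omega
      · exact h0
    exact Nat.eq_of_mul_eq_mul_right hG h
  have hr : φ.range = alternatingGroup α := Equiv.Perm.eq_alternatingGroup_of_index_eq_two hidx
  exact ⟨e1.trans (MulEquiv.subgroupCongr hr)⟩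

section
variable {F : Type*} [Field F] [Fintype F]

theorem two_ne_zero_of_odd_card (hF : Odd (Fintype.card F)) : (2 : F) ≠ 0 := by
  intro h2
  have hchar : ringChar F = 2 := by
    have hdvd : ringChar F ∣ 2 := (ringChar.spec F 2).1 (by exact_mod_cast h2)
    have hp : (ringChar F).Prime := CharP.char_is_prime F (ringChar F)
    rcases (Nat.dvd_prime Nat.prime_two).1 hdvd with h | h
    · exact absurd h hp.ne_one
    · exact h
  have := FiniteField.even_card_of_char_two hchar
  rcases hF with ⟨k, hk⟩
  omega

theorem two_eq_zero_of_even_card (hF : Even (Fintype.card F)) : (2 : F) = 0 := by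
  have hchar : ringChar F = 2 := by
    by_contra h
    have := FiniteField.odd_card_of_char_ne_two h
    rcases hF with ⟨k, hk⟩
    omega
  have := ringChar.Nat.cast_ringChar (R := F)
  rw [hchar] at this
  exact_mod_cast this

theorem card_PSL2_mul :
    Nat.card (Matrix.ProjectiveSpecialLinearGroup (Fin 2) F) *
      Nat.card (Subgroup.center (SpecialLinearGroup (Fin 2) F)) =
    Fintype.card F * (Fintype.card F ^ 2 - 1) := by
  rw [← card_SL2]
  exact (Subgroup.card_eq_card_quotient_mul_card_subgroup _).symm

omit [Fintype F] in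
theorem card_center_SL2_of_two_eq_zero (h2 : (2 : F) = 0) :
    Nat.card (Subgroup.center (SpecialLinearGroup (Fin 2) F)) = 1 := by
  have hbot : Subgroup.center (SpecialLinearGroup (Fin 2) F) = ⊥ := ?_
  · rw [hbot]; simp
  rw [Subgroup.eq_bot_iff_forall]
  intro A hA
  rw [Matrix.SpecialLinearGroup.mem_center_iff] at hA
  obtain ⟨r, hr, hA⟩ := hA
  have hr1 : r = 1 := by
    have h : (r - 1) ^ 2 = 0 := by
      have : (r - 1) ^ 2 = r ^ 2 - 2 * r + 1 := by ring
      rw [this, h2]
      simp only [Fintype.card_fin] at hr
      rw [hr]; 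
      have : (1 : F) + 1 = 0 := by rw [one_add_one_eq_two, h2]
      linear_combination this
    have := pow_eq_zero_iff (two_ne_zero) |>.1 h
    linear_combination this
  rw [hr1] at hA
  apply Subtype.ext
  rw [← hA]; simp

omit [Fintype F] in
theorem card_center_SL2_of_two_ne_zero (h2 : (2 : F) ≠ 0) :
    Nat.card (Subgroup.center (SpecialLinearGroup (Fin 2) F)) = 2 := by
  rw [Nat.card_congr (Matrix.SpecialLinearGroup.center_equiv_rootsOfUnity' (n := Fin 2) (R := F) 0).toEquiv]
  simp only [Fintype.card_fin]
  have hprim : IsPrimitiveRoot (-1 : F) 2 := by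
    rw [IsPrimitiveRoot.iff_def]
    refine ⟨by simp, ?_⟩
    intro l hl
    by_contra hnd
    have hodd : Odd l := by
      rcases Nat.even_or_odd l with he | ho
      · exact absurd (even_iff_two_dvd.1 he) hnd
      · exact ho
    rw [hodd.neg_one_pow] at hl
    apply h2
    linear_combination -hl
  exact hprim.card_rootsOfUnity

end

end Cfsg.Agent.Helper5
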