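import Mathlib
import Cfsg.Agent.Helper1.MinDeg.Defs
import Cfsg.Agent.Helper1.MinDeg.CaseADefs

set_option autoImplicit false
set_option linter.unusedSectionVars false

/-!
# S2140 (helper1), case A: common lemmas for the pieces (A1), (A3), (A4)

* `exists_mul_eq`: `SL = Qc x * K` if `|Qc x| = |SL : K|` and `K ∩ Qc x = 1`;
* `card_Qc_single`: `|Qc e0| = q^(n-1)`;
* `hel_unique`: if `hel a b c, hel a b' c' ∈ K` then `b = b'` and `c = c'`;
* `conj_hel`: conjugates of `hel a b c`;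
* `SRel_of_conj`: if `g * hel a b c * g⁻¹ = hel a' b' c'` and `hel a b c ∈ K` then `SRel K a' b'`.
-/

namespace Cfsg.Agent.Helper5.MinDeg

open Matrix Cfsg.Agent.Helper14.AutPSL Cfsg.Agent.Helper1.MinDeg

variable {F : Type*} [Field F] {n : ℕ}

/-- `tv a φ ⁻¹ = tv (-a) φ` -/
theorem tv_inv_left (a φ : Fin n → F) (h : φ ⬝ᵥ a = 0) :
    (tv a φ h)⁻¹ = tv (-a) φ (by rw [dotProduct_neg, h, neg_zero]) := by
  rw [tv_inv]
  apply Subtype.ext
  rw [tv_coe, tv_coe, vecMulVec_neg, neg_vecMulVec]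

/-- `SL = Qc x * K` when `|Qc x| = |SL : K|` and `K ∩ Qc x = 1` -/
theorem exists_mul_eq [Fintype F] (K : Subgroup (SpecialLinearGroup (Fin n) F)) (x : Fin n → F)
    (hcard : Nat.card (Qc x) = K.index) (hK : K ⊓ Qc x = ⊥) (g : SpecialLinearGroup (Fin n) F) :
    ∃ u ∈ Qc x, ∃ k ∈ K, g = u * k := by
  classical
  let f : Qc x → SpecialLinearGroup (Fin n) F ⧸ K := fun u => QuotientGroup.mk u.1
  have hinj : Function.Injective f := by
    intro u u' h
    have h1 : (u.1)⁻¹ * u'.1 ∈ K := QuotientGroup.eq.mp h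
    have h2 : (u.1)⁻¹ * u'.1 ∈ Qc x := (Qc x).mul_mem ((Qc x).inv_mem u.2) u'.2
    have h3 : (u.1)⁻¹ * u'.1 ∈ K ⊓ Qc x := ⟨h1, h2⟩
    rw [hK, Subgroup.mem_bot] at h3
    exact Subtype.ext (inv_mul_eq_one.mp h3)
  have hbij : Function.Bijective f := by
    rw [Nat.bijective_iff_injective_and_card]
    exact ⟨hinj, by rw [hcard]; rfl⟩
  obtain ⟨u, hu⟩ := hbij.2 (QuotientGroup.mk g)
  have h1 : (u.1)⁻¹ * g ∈ K := QuotientGroup.eq.mp hu
  exact ⟨u.1, u.2, _, h1, by group⟩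


theorem tv_eq {a a' φ φ' : Fin n → F} (h : φ ⬝ᵥ a = 0) (h' : φ' ⬝ᵥ a' = 0) (ha : a = a')
    (hφ : φ = φ') : tv a φ h = tv a' φ' h' := by
  subst ha; subst hφ; rfl

section hel

variable (i0 il : Fin n) (h0l : i0 ≠ il)

/-- the Heisenberg commutation: conjugating `hel a b c` by an element of `Qc e0` only changes `c` -/
theorem heis_conj {a b : Fin n → F} (c : F) (ha : IsMid i0 il a) (hb : IsMid i0 il b)
    (φ : Fin n → F) (hφ : φ ⬝ᵥ (Pi.single i0 1 : Fin n → F) = 0) :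
    (tv (Pi.single i0 1) φ hφ)⁻¹ * hel i0 il h0l a b c ha hb * tv (Pi.single i0 1) φ hφ =
      hel i0 il h0l a b (c - φ ⬝ᵥ b) ha hb := by
  unfold hel
  have e1 : (Pi.single il 1 : Fin n → F) ⬝ᵥ (Pi.single i0 1 : Fin n → F) = 0 := by
    rw [dotProduct_single, mul_one, Pi.single_eq_of_ne h0l]
  -- `t u t⁻¹`
  have h1 := conj_tv (tv b (Pi.single il 1) (hel_aux2 hb)) (Pi.single i0 1) φ hφ
  have h2 : tv b (Pi.single il 1) (hel_aux2 hb) * tv (Pi.single i0 1) φ hφ =
      tv (Pi.single i0 1) (φ - (φ ⬝ᵥ b) • (Pi.single il 1 : Fin n → F)) (by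
        rw [sub_dotProduct, hφ, smul_dotProduct, e1, smul_zero, sub_zero]) *
      tv b (Pi.single il 1) (hel_aux2 hb) := by
    have h3 : tv b (Pi.single il 1) (hel_aux2 hb) * tv (Pi.single i0 1) φ hφ =
        (tv b (Pi.single il 1) (hel_aux2 hb) * tv (Pi.single i0 1) φ hφ *
          (tv b (Pi.single il 1) (hel_aux2 hb))⁻¹) * tv b (Pi.single il 1) (hel_aux2 hb) := by group
    rw [h3, h1]
    congr 1
    apply tv_eq
    · rw [tv_mulVec, e1, zero_smul, add_zero]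
    · rw [tv_inv, vecMul_tv, smul_neg, sub_eq_add_neg]
  rw [mul_assoc, mul_assoc, h2, ← mul_assoc, ← mul_assoc, tv_inv, tv_mul_center, tv_mul_center]
  congr 1
  apply tv_eq _ _ rfl
  rw [sub_smul]
  abel

/-- uniqueness: `hel a b c, hel a b' c' ∈ K` force `b = b'`, `c = c'` -/
theorem hel_unique (K : Subgroup (SpecialLinearGroup (Fin n) F))
    (hK : ∀ x : Fin n → F, x ≠ 0 → K ⊓ Qc x = ⊥) {a b b' : Fin n → F} (c c' : F)
    (ha : IsMid i0 il a) (hb : IsMid i0 il b) (hb' : IsMid i0 il b')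
    (h : hel i0 il h0l a b c ha hb ∈ K) (h' : hel i0 il h0l a b' c' ha hb' ∈ K) :
    b = b' ∧ c = c' := by
  have e1 : (Pi.single il 1 : Fin n → F) ⬝ᵥ (Pi.single i0 1 : Fin n → F) = 0 := by
    rw [dotProduct_single, mul_one, Pi.single_eq_of_ne h0l]
  have hv : (Pi.single il 1 : Fin n → F) ⬝ᵥ (-b + (c' - c) • (Pi.single i0 1 : Fin n → F) + b') = 0 := by
    rw [dotProduct_add, dotProduct_add, dotProduct_neg, hel_aux2 hb, hel_aux2 hb', dotProduct_smul, e1]
    simp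
  have key : (hel i0 il h0l a b c ha hb)⁻¹ * hel i0 il h0l a b' c' ha hb' =
      tv (-b + (c' - c) • (Pi.single i0 1 : Fin n → F) + b') (Pi.single il 1) hv := by
    unfold hel
    rw [_root_.mul_inv_rev, mul_assoc, ← mul_assoc _ (tv (Pi.single i0 1) _ _) _, tv_inv (Pi.single i0 1),
      tv_mul_center]
    have e2 : tv (Pi.single i0 1) (-(a + c • (Pi.single il 1 : Fin n → F)) + (a + c' • (Pi.single il 1 : Fin n → F)))
        (by rw [add_dotProduct, neg_dotProduct, hel_aux1 h0l ha c, hel_aux1 h0l ha c', neg_zero, add_zero]) =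
        tv ((c' - c) • (Pi.single i0 1 : Fin n → F)) (Pi.single il 1) (by
          rw [dotProduct_smul, e1, smul_zero]) := by
      rw [tv_smul_left (c' - c) (Pi.single i0 1) (Pi.single il 1) e1]
      apply tv_eq _ _ rfl
      rw [sub_smul]; abel
    rw [e2, tv_inv_left, tv_mul_axis, tv_mul_axis]
    exact tv_eq _ _ (add_assoc _ _ _).symm rfl
  have hmem : tv (-b + (c' - c) • (Pi.single i0 1 : Fin n → F) + b') (Pi.single il 1) hv ∈ K := by
    rw [← key]; exact K.mul_mem (K.inv_mem h) h'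
  have hzero : -b + (c' - c) • (Pi.single i0 1 : Fin n → F) + b' = 0 := by
    by_contra hne
    have h2 : tv (-b + (c' - c) • (Pi.single i0 1 : Fin n → F) + b') (Pi.single il 1) hv ∈
        K ⊓ Qc (-b + (c' - c) • (Pi.single i0 1 : Fin n → F) + b') := ⟨hmem, tv_mem_Qc _ _ _⟩
    rw [hK _ hne, Subgroup.mem_bot, tv_eq_one_iff] at h2
    rcases h2 with h2 | h2
    · exact hne h2
    · have := congrFun h2 il
      rw [Pi.single_eq_same, Pi.zero_apply] at this
      exact one_ne_zero this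
  have hc : c' - c = 0 := by
    have := congrFun hzero i0
    simpa [hb.1, hb'.1] using this
  have hc' : c = c' := (sub_eq_zero.mp hc).symm
  refine ⟨?_, hc'⟩
  rw [hc, zero_smul, add_zero] at hzero
  exact (neg_add_eq_zero.mp hzero)

/-- if a conjugate of an element `hel a b c` of `K` is again of the form `hel a' b' c'` then `SRel K a' b'`
(`SL = Qc e0 * K`, and `Qc e0` changes only the last parameter). -/
theorem SRel_of_conj [Fintype F] (K : Subgroup (SpecialLinearGroup (Fin n) F))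
    (hcard : Nat.card (Qc (Pi.single i0 1 : Fin n → F)) = K.index)
    (hK0 : K ⊓ Qc (Pi.single i0 1 : Fin n → F) = ⊥) (g : SpecialLinearGroup (Fin n) F)
    {a b a' b' : Fin n → F} (c c' : F) (ha : IsMid i0 il a) (hb : IsMid i0 il b)
    (ha' : IsMid i0 il a') (hb' : IsMid i0 il b') (hmem : hel i0 il h0l a b c ha hb ∈ K)
    (hconj : g * hel i0 il h0l a b c ha hb * g⁻¹ = hel i0 il h0l a' b' c' ha' hb') :
    SRel K i0 il h0l a' b' := by
  obtain ⟨u, hu, k, hk, rfl⟩ := exists_mul_eq K _ hcard hK0 g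
  obtain ⟨φ, hφ, rfl⟩ := hu
  refine ⟨ha', hb', c' - φ ⬝ᵥ b', ?_⟩
  rw [← heis_conj i0 il h0l c' ha' hb' φ hφ, ← hconj]
  have : (tv (Pi.single i0 1) φ hφ)⁻¹ * (tv (Pi.single i0 1) φ hφ * k * hel i0 il h0l a b c ha hb *
      (tv (Pi.single i0 1) φ hφ * k)⁻¹) * tv (Pi.single i0 1) φ hφ =
      k * hel i0 il h0l a b c ha hb * k⁻¹ := by group
  rw [this]
  exact K.mul_mem (K.mul_mem hk hmem) (K.inv_mem hk)

end hel

end Cfsg.Agent.Helper5.MinDeg
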