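import Mathlib
import Cfsg.Agent.Helper5.MinDegACommon
import Cfsg.Agent.Helper14.MinDegM2

set_option autoImplicit false
set_option linter.unusedSectionVars false

/-!
# S2140 (helper1), piece (A1): `SRel_exists`
-/

namespace Cfsg.Agent.Helper5.MinDeg

open Matrix Cfsg.Agent.Helper14.AutPSL Cfsg.Agent.Helper1.MinDeg

variable {F : Type*} [Field F] {n : ℕ}

theorem single_one_ne_zero (i0 : Fin n) : (Pi.single i0 1 : Fin n → F) ≠ 0 := by
  intro h
  have := congrFun h i0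
  rw [Pi.single_eq_same, Pi.zero_apply] at this
  exact one_ne_zero this

section caseA

variable [Fintype F]

theorem card_Qc_e0 (K : Subgroup (SpecialLinearGroup (Fin n) F)) (hn : 3 ≤ n)
    (hidx : K.index = Fintype.card F ^ (n - 1)) (i0 : Fin n) :
    Nat.card (Qc (Pi.single i0 1 : Fin n → F)) = K.index := by
  rw [hidx]
  exact Cfsg.Agent.Helper14.MinDeg.card_Qc (by omega) (single_one_ne_zero i0)

/-- for every mid `b` there are a mid `a` and `c` with `hel a b c ∈ K` -/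
theorem exists_hel_mem (K : Subgroup (SpecialLinearGroup (Fin n) F)) (hn : 3 ≤ n)
    (hidx : K.index = Fintype.card F ^ (n - 1))
    (hK : ∀ x : Fin n → F, x ≠ 0 → K ⊓ Qc x = ⊥) (i0 il : Fin n) (h0l : i0 ≠ il)
    {b : Fin n → F} (hb : IsMid i0 il b) :
    ∃ (a : Fin n → F) (ha : IsMid i0 il a) (c : F), hel i0 il h0l a b c ha hb ∈ K := by
  obtain ⟨u, hu, k, hk, e⟩ := exists_mul_eq K (Pi.single i0 1) (card_Qc_e0 K hn hidx i0)
    (hK _ (single_one_ne_zero i0)) (tv b (Pi.single il 1) (hel_aux2 hb))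
  obtain ⟨φ, hφ, rfl⟩ := hu
  have hφ0 : φ i0 = 0 := by
    have := hφ
    rwa [dotProduct_single, mul_one] at this
  have ha : IsMid i0 il (-φ + (φ il) • (Pi.single il 1 : Fin n → F)) := by
    constructor
    · rw [Pi.add_apply, Pi.neg_apply, Pi.smul_apply, hφ0, Pi.single_eq_of_ne h0l]
      simp
    · rw [Pi.add_apply, Pi.neg_apply, Pi.smul_apply, Pi.single_eq_same]
      simp
  refine ⟨-φ + (φ il) • (Pi.single il 1 : Fin n → F), ha, -φ il, ?_⟩
  have e' : k = (tv (Pi.single i0 1) φ hφ)⁻¹ * tv b (Pi.single il 1) (hel_aux2 hb) := by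
    rw [e]; group
  have : hel i0 il h0l (-φ + (φ il) • (Pi.single il 1 : Fin n → F)) b (-φ il) ha hb = k := by
    unfold hel
    rw [e', tv_inv]
    congr 1
    apply tv_eq _ _ rfl
    rw [neg_smul]
    abel
  rw [this]
  exact hk

/-- (A1) existence: every mid-supported `a` occurs. -/
theorem SRel_exists (K : Subgroup (SpecialLinearGroup (Fin n) F)) (hn : 3 ≤ n) (hidx : K.index = Fintype.card F ^ (n - 1))
    (hK : ∀ x : Fin n → F, x ≠ 0 → K ⊓ Qc x = ⊥) (i0 il : Fin n) (h0l : i0 ≠ il)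
    {a : Fin n → F} (ha : IsMid i0 il a) : ∃ b, SRel K i0 il h0l a b := by
  classical
  -- the map `b ↦ a_b` on mid vectors
  have hex : ∀ b : {b : Fin n → F // IsMid i0 il b}, ∃ a' : {a : Fin n → F // IsMid i0 il a},
      ∃ c : F, hel i0 il h0l a'.1 b.1 c a'.2 b.2 ∈ K := by
    intro b
    obtain ⟨a', ha', c, h⟩ := exists_hel_mem K hn hidx hK i0 il h0l b.2
    exact ⟨⟨a', ha'⟩, c, h⟩
  choose Φ hΦ using hex
  have hinj : Function.Injective Φ := by
    intro b b' hbb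
    obtain ⟨c, hc⟩ := hΦ b
    obtain ⟨c', hc'⟩ := hΦ b'
    have hc'' : hel i0 il h0l (Φ b).1 b'.1 c' (Φ b).2 b'.2 ∈ K := by
      have : ∀ (x : {a : Fin n → F // IsMid i0 il a}), x = Φ b' →
          hel i0 il h0l x.1 b'.1 c' x.2 b'.2 ∈ K := by
        intro x hx; subst hx; exact hc'
      exact this _ hbb
    exact Subtype.ext (hel_unique i0 il h0l K hK c c' (Φ b).2 b.2 b'.2 hc hc'').1
  have hsurj : Function.Surjective Φ := Finite.injective_iff_surjective.mp hinj
  obtain ⟨b, hb⟩ := hsurj ⟨a, ha⟩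
  obtain ⟨c, hc⟩ := hΦ b
  refine ⟨b.1, ha, b.2, c, ?_⟩
  have : ∀ (x : {a : Fin n → F // IsMid i0 il a}) (hx : x = ⟨a, ha⟩),
      hel i0 il h0l x.1 b.1 c x.2 b.2 ∈ K → hel i0 il h0l a b.1 c ha b.2 ∈ K := by
    intro x hx h; subst hx; exact h
  exact this _ hb hc

end caseA

end Cfsg.Agent.Helper5.MinDeg
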