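import Mathlib
import Cfsg.Agent.Helper5.MinDegA1

set_option autoImplicit false
set_option linter.unusedSectionVars false

/-!
# S2140 (helper1), piece (A3): `SRel_elem`
-/

namespace Cfsg.Agent.Helper5.MinDeg

open Matrix Cfsg.Agent.Helper14.AutPSL Cfsg.Agent.Helper1.MinDeg

variable {F : Type*} [Field F] {n : ℕ}

/-- conjugation of `hel a b c` by `g`, as a product of two transvections -/
theorem conj_hel (i0 il : Fin n) (h0l : i0 ≠ il) (g : SpecialLinearGroup (Fin n) F)
    {a b : Fin n → F} (c : F) (ha : IsMid i0 il a) (hb : IsMid i0 il b) :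
    g * hel i0 il h0l a b c ha hb * g⁻¹ =
      (g * tv (Pi.single i0 1) (a + c • (Pi.single il 1 : Fin n → F)) (hel_aux1 h0l ha c) * g⁻¹) *
        (g * tv b (Pi.single il 1) (hel_aux2 hb) * g⁻¹) := by
  unfold hel
  group

section caseA

variable [Fintype F]

/-- (A3) equivariance under the elementary matrices of the middle block. -/
theorem SRel_elem (K : Subgroup (SpecialLinearGroup (Fin n) F)) (hn : 3 ≤ n) (hidx : K.index = Fintype.card F ^ (n - 1))
    (hK : ∀ x : Fin n → F, x ≠ 0 → K ⊓ Qc x = ⊥) (i0 il : Fin n) (h0l : i0 ≠ il)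
    {i j : Fin n} (hij : i ≠ j) (hi0 : i ≠ i0) (hil : i ≠ il) (hj0 : j ≠ i0) (hjl : j ≠ il)
    (s : F) {a b : Fin n → F} (h : SRel K i0 il h0l a b) :
    SRel K i0 il h0l (a - (s * a i) • Pi.single j 1) (b + (s * b j) • Pi.single i 1) := by
  obtain ⟨ha, hb, c, hmem⟩ := h
  have hg : (Pi.single j 1 : Fin n → F) ⬝ᵥ (s • (Pi.single i 1 : Fin n → F)) = 0 := by
    rw [dotProduct_smul, single_dotProduct, one_mul, Pi.single_eq_of_ne (Ne.symm hij), smul_zero]
  have ha' : IsMid i0 il (a - (s * a i) • (Pi.single j 1 : Fin n → F)) := by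
    have := (IsMid.single (F := F) hj0 hjl 1).smul (s * a i)
    have h2 := ha.add this.neg
    rwa [← sub_eq_add_neg] at h2
  have hb' : IsMid i0 il (b + (s * b j) • (Pi.single i 1 : Fin n → F)) :=
    hb.add ((IsMid.single (F := F) hi0 hil 1).smul (s * b j))
  refine SRel_of_conj i0 il h0l K (card_Qc_e0 K hn hidx i0) (hK _ (single_one_ne_zero i0))
    (tv (s • (Pi.single i 1 : Fin n → F)) (Pi.single j 1) hg) c c ha hb ha' hb' hmem ?_
  rw [conj_hel, conj_tv, conj_tv]
  unfold hel
  congr 1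
  · apply tv_eq
    · rw [tv_mulVec, single_dotProduct, one_mul, Pi.single_eq_of_ne hj0, zero_smul, add_zero]
    · rw [tv_inv, vecMul_tv, dotProduct_smul, dotProduct_single, mul_one, Pi.add_apply, Pi.smul_apply,
        Pi.single_eq_of_ne hil, smul_zero, add_zero, smul_neg, smul_eq_mul]
      abel
  · apply tv_eq
    · rw [tv_mulVec, single_dotProduct, one_mul, smul_smul, mul_comm]
    · rw [tv_inv, vecMul_tv, dotProduct_smul, dotProduct_single, mul_one, Pi.single_eq_of_ne hil,
        smul_zero, zero_smul, add_zero]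

end caseA

end Cfsg.Agent.Helper5.MinDeg
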