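import Mathlib
import Cfsg.Agent.Helper5.MinDegA3

set_option autoImplicit false
set_option linter.unusedSectionVars false

/-!
# S2140 (helper1), piece (A4): `SRel_diag`
-/

namespace Cfsg.Agent.Helper5.MinDeg

open Matrix Cfsg.Agent.Helper14.AutPSL Cfsg.Agent.Helper1.MinDeg

variable {F : Type*} [Field F] {n : ℕ}

/-- the diagonal matrix `d` of determinant one -/
def diagSL (d : Fin n → F) (hd : ∏ k, d k = 1) : SpecialLinearGroup (Fin n) F :=
  ⟨diagonal d, by rw [det_diagonal, hd]⟩

theorem diagSL_ne_zero (d : Fin n → F) (hd : ∏ k, d k = 1) (k : Fin n) : d k ≠ 0 := by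
  intro h
  have : ∏ k, d k = 0 := Finset.prod_eq_zero (Finset.mem_univ k) h
  rw [hd] at this
  exact one_ne_zero this

theorem diagSL_inv_coe (d : Fin n → F) (hd : ∏ k, d k = 1) :
    ((diagSL d hd)⁻¹).1 = diagonal (fun k => (d k)⁻¹) := by
  have h1 : (diagSL d hd).1 * diagonal (fun k => (d k)⁻¹) = 1 := by
    show diagonal d * diagonal (fun k => (d k)⁻¹) = 1
    rw [diagonal_mul_diagonal]
    have : (fun k => d k * (d k)⁻¹) = fun _ => (1 : F) := by
      funext k; exact mul_inv_cancel₀ (diagSL_ne_zero d hd k)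
    rw [this, diagonal_one]
  have h2 : ((diagSL d hd)⁻¹).1 * (diagSL d hd).1 = 1 := by
    have h3 : ((diagSL d hd)⁻¹ * diagSL d hd).1 = 1 := by rw [inv_mul_cancel]; rfl
    exact h3
  calc ((diagSL d hd)⁻¹).1 = ((diagSL d hd)⁻¹).1 * ((diagSL d hd).1 * diagonal (fun k => (d k)⁻¹)) := by
        rw [h1, Matrix.mul_one]
    _ = diagonal (fun k => (d k)⁻¹) := by rw [← Matrix.mul_assoc, h2, Matrix.one_mul]

section caseA

variable [Fintype F]

/-- (A4) equivariance under the diagonal matrices of determinant one. -/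
theorem SRel_diag (K : Subgroup (SpecialLinearGroup (Fin n) F)) (hn : 3 ≤ n) (hidx : K.index = Fintype.card F ^ (n - 1))
    (hK : ∀ x : Fin n → F, x ≠ 0 → K ⊓ Qc x = ⊥) (i0 il : Fin n) (h0l : i0 ≠ il)
    (d : Fin n → F) (hd : ∏ k, d k = 1)
    {a b : Fin n → F} (h : SRel K i0 il h0l a b) :
    SRel K i0 il h0l (fun k => d i0 * a k / d k) (fun k => d k * b k / d il) := by
  obtain ⟨ha, hb, c, hmem⟩ := h
  have hd0 := diagSL_ne_zero d hd
  have ha' : IsMid i0 il (fun k => d i0 * a k / d k) := by
    constructor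
    · show d i0 * a i0 / d i0 = 0
      rw [ha.1, mul_zero, zero_div]
    · show d i0 * a il / d il = 0
      rw [ha.2, mul_zero, zero_div]
  have hb' : IsMid i0 il (fun k => d k * b k / d il) := by
    constructor
    · show d i0 * b i0 / d il = 0
      rw [hb.1, mul_zero, zero_div]
    · show d il * b il / d il = 0
      rw [hb.2, mul_zero, zero_div]
  refine SRel_of_conj i0 il h0l K (card_Qc_e0 K hn hidx i0) (hK _ (single_one_ne_zero i0))
    (diagSL d hd) c (d i0 * c / d il) ha hb ha' hb' hmem ?_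
  rw [conj_hel, conj_tv, conj_tv]
  unfold hel
  congr 1
  · apply tv_eq_of_vecMulVec_eq
    ext r k
    rw [vecMulVec_apply, vecMulVec_apply, diagSL_inv_coe]
    show (diagonal d *ᵥ (Pi.single i0 1 : Fin n → F)) r * _ = _
    rw [mulVec_diagonal, vecMul_diagonal]
    by_cases hr : r = i0
    · subst hr
      rw [Pi.single_eq_same, mul_one, one_mul, Pi.add_apply, Pi.add_apply,
        Pi.smul_apply, Pi.smul_apply]
      by_cases hk : k = il
      · subst hk
        rw [Pi.single_eq_same, ha.2]
        simp only [smul_eq_mul, mul_one, zero_add, mul_zero, zero_div]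
        field_simp
      · rw [Pi.single_eq_of_ne hk]
        simp only [smul_eq_mul, mul_zero, add_zero]
        field_simp
    · rw [Pi.single_eq_of_ne hr]
      simp
  · apply tv_eq_of_vecMulVec_eq
    ext r k
    rw [vecMulVec_apply, vecMulVec_apply, diagSL_inv_coe]
    show (diagonal d *ᵥ b) r * _ = _
    rw [mulVec_diagonal, vecMul_diagonal]
    by_cases hk : k = il
    · subst hk
      rw [Pi.single_eq_same]
      field_simp
    · rw [Pi.single_eq_of_ne hk]
      simp

end caseA

end Cfsg.Agent.Helper5.MinDeg
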