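import Mathlib

set_option autoImplicit false
set_option linter.unusedSimpArgs false

namespace Cfsg.Agent.Helper5

open Matrix Matrix.SpecialLinearGroup
open scoped commutatorElement

section
variable {ι F : Type*} [DecidableEq ι] [Fintype ι] [Field F]

theorem diag2n_eq_prod_transvection {i j : ι} (hij : i ≠ j) (a : F) (ha : a ≠ 0) :
    diag2n hij a ha = transvection hij a * transvection hij.symm (-a⁻¹) * transvection hij a *
      transvection hij (-1) * transvection hij.symm 1 * transvection hij (-1) := by
  apply Subtype.ext
  simp only [coe_mul, transvection_coe, diag2n_coe]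
  have hji := hij.symm
  simp only [mul_add, add_mul, mul_one, one_mul, single_mul_single_same,
    single_mul_single_of_ne _ _ _ _ hij, single_mul_single_of_ne _ _ _ _ hji,
    add_zero]
  ext k l
  simp only [Matrix.add_apply, Matrix.single_apply, Matrix.one_apply, Matrix.diagonal_apply]
  by_cases hki : i = k <;> by_cases hkj : j = k <;> by_cases hli : i = l <;> by_cases hlj : j = l <;>
    (try subst hki) <;> (try subst hkj) <;> (try subst hli) <;> (try subst hlj) <;>
    simp_all [eq_comm]

/-- Every element of `SL ι F` is a product of transvections. -/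
theorem transvection_induction [Nontrivial ι] (P : SpecialLinearGroup ι F → Prop)
    (htransvec : ∀ (i j : ι) (hij : i ≠ j) (a : F), P (transvection hij a))
    (hmul : ∀ A B, P A → P B → P (A * B)) (M : SpecialLinearGroup ι F) : P M := by
  refine diagonal_transvection_induction' P M (fun i j hij c hc => ?_) htransvec hmul
  rw [diag2n_eq_prod_transvection hij c hc]
  refine hmul _ _ (hmul _ _ (hmul _ _ (hmul _ _ (hmul _ _ ?_ ?_) ?_) ?_) ?_) ?_
  all_goals exact htransvec _ _ _ _

theorem closure_transvection_eq_top [Nontrivial ι] :
    Subgroup.closure {M : SpecialLinearGroup ι F | ∃ (i j : ι) (hij : i ≠ j) (a : F), M = transvection hij a} = ⊤ := by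
  rw [eq_top_iff]
  intro M _
  refine transvection_induction (fun M => M ∈ Subgroup.closure {M : SpecialLinearGroup ι F | ∃ (i j : ι) (hij : i ≠ j) (a : F), M = transvection hij a}) ?_ ?_ M
  · intro i j hij a
    exact Subgroup.subset_closure ⟨i, j, hij, a, rfl⟩
  · intro A B hA hB
    exact mul_mem hA hB

theorem commutator_transvection {i j k : ι} (hij : i ≠ j) (hik : i ≠ k) (hkj : k ≠ j) (a : F) :
    ⁅transvection hik a, transvection hkj (1 : F)⁆ = transvection hij a := by
  rw [commutatorElement_def, transvection_inv, transvection_inv]
  apply Subtype.ext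
  simp only [coe_mul, transvection_coe]
  simp only [mul_add, add_mul, mul_one, one_mul, single_mul_single_same,
    single_mul_single_of_ne _ _ _ _ hik.symm, single_mul_single_of_ne _ _ _ _ hkj.symm,
    single_mul_single_of_ne _ _ _ _ hij.symm, single_mul_single_of_ne _ _ _ _ hij,
    single_mul_single_of_ne _ _ _ _ hik, single_mul_single_of_ne _ _ _ _ hkj,
    add_zero, zero_add, Matrix.mul_zero, Matrix.zero_mul]
  ext x y
  simp only [Matrix.add_apply, Matrix.single_apply, Matrix.one_apply]
  by_cases h1 : i = x <;> by_cases h2 : k = x <;> by_cases h3 : k = y <;> by_cases h4 : j = y <;>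
    (try subst h1) <;> (try subst h2) <;> (try subst h3) <;> (try subst h4) <;>
    simp_all [eq_comm]

theorem transvection_mem_commutator_of_three_le (h3 : 3 ≤ Fintype.card ι) {i j : ι} (hij : i ≠ j) (a : F) :
    transvection hij a ∈ commutator (SpecialLinearGroup ι F) := by
  obtain ⟨k, hk⟩ : ∃ k, k ∉ ({i, j} : Finset ι) := by
    by_contra hcon
    simp only [not_exists, not_not] at hcon
    have : (Finset.univ : Finset ι) ⊆ {i, j} := fun x _ => hcon x
    have := Finset.card_le_card this
    rw [Finset.card_univ] at this
    have h2 : ({i, j} : Finset ι).card ≤ 2 := Finset.card_le_two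
    omega
  simp only [Finset.mem_insert, Finset.mem_singleton, not_or] at hk
  have hik : i ≠ k := fun h => hk.1 h.symm
  have hkj : k ≠ j := hk.2
  rw [← commutator_transvection hij hik hkj a]
  exact Subgroup.commutator_mem_commutator (Subgroup.mem_top _) (Subgroup.mem_top _)

theorem commutator_SL_eq_top_of_three_le (h3 : 3 ≤ Fintype.card ι) :
    commutator (SpecialLinearGroup ι F) = ⊤ := by
  have : Nontrivial ι := Fintype.one_lt_card_iff_nontrivial.1 (by omega)
  rw [eq_top_iff]
  intro M _
  exact transvection_induction (fun M => M ∈ commutator (SpecialLinearGroup ι F))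
    (fun i j hij a => transvection_mem_commutator_of_three_le h3 hij a)
    (fun A B hA hB => mul_mem hA hB) M

end

end Cfsg.Agent.Helper5
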