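import Mathlib

set_option autoImplicit false

namespace Cfsg.Agent.Helper5

/-- If the order of a Sylow `r`-subgroup divides the order of some element, then the Sylow
`r`-subgroups are cyclic. -/
theorem sylow_isCyclic_of_card_dvd_orderOf {G : Type*} [Group G] [Finite G] {r : ℕ} [Fact r.Prime]
    (R : Sylow r G) (g : G) (h : Nat.card (R : Subgroup G) ∣ orderOf g) :
    IsCyclic (R : Subgroup G) := by
  classical
  set c := Nat.card (R : Subgroup G) with hc
  have hcpos : 0 < c := Nat.card_pos
  have hnpos : 0 < orderOf g := orderOf_pos g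
  obtain ⟨k, hk⟩ := h
  have hkpos : 0 < k := by
    rcases Nat.eq_zero_or_pos k with h0 | h0
    · rw [h0, mul_zero] at hk; omega
    · exact h0
  set x := g ^ k with hx
  have hxord : orderOf x = c := by
    rw [hx, orderOf_pow_of_dvd hkpos.ne' ⟨c, by rw [hk, mul_comm]⟩, hk,
      Nat.mul_div_cancel _ hkpos]
  have hcardZ : Nat.card (Subgroup.zpowers x) = c := by
    rw [Nat.card_zpowers, hxord]
  have hpg : IsPGroup r (Subgroup.zpowers x) := by
    obtain ⟨n, hn⟩ := (IsPGroup.iff_card.1 R.isPGroup')
    exact IsPGroup.of_card (n := n) (by rw [hcardZ, hc, hn])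
  obtain ⟨Q, hQ⟩ := hpg.exists_le_sylow
  have hQcard : Nat.card (Q : Subgroup G) = c := by
    rw [Sylow.card_eq_multiplicity, hc, Sylow.card_eq_multiplicity]
  have hQeq : Subgroup.zpowers x = (Q : Subgroup G) := by
    apply Subgroup.eq_of_le_of_card_ge hQ
    rw [hQcard, hcardZ]
  have hQcyc : IsCyclic (Q : Subgroup G) := by
    rw [← hQeq]
    infer_instance
  obtain ⟨y, hy⟩ := MulAction.exists_smul_eq G Q R
  have e := Sylow.equivSMul Q y
  rw [hy] at e
  exact isCyclic_of_surjective e e.surjective

end Cfsg.Agent.Helper5
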