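import Mathlib
import Cfsg.Agent.Helper13.SympTrans

set_option autoImplicit false
set_option linter.unusedSimpArgs false

namespace Cfsg.Agent.Helper5

open Matrix Cfsg.Agent.Helper13

section general
variable {F : Type*} [Field F]

/-- For `x ≠ 0`, the affine hyperplane `x ⬝ y = c` has `q^(n-1)` points (general index type). -/
theorem card_dotProduct_eq' [Fintype F] {ι : Type*} [Fintype ι] [DecidableEq ι]
    (x : ι → F) (hx : x ≠ 0) (c : F) :
    Nat.card {y : ι → F // x ⬝ᵥ y = c} = Fintype.card F ^ (Fintype.card ι - 1) := by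
  classical
  obtain ⟨i, hi⟩ : ∃ i, x i ≠ 0 := by
    by_contra h
    simp only [not_exists, not_not] at h
    exact hx (funext h)
  have hm : 1 ≤ Fintype.card ι := Fintype.card_pos_iff.2 ⟨i⟩
  let f : (ι → F) →+ F :=
    { toFun := fun y => x ⬝ᵥ y
      map_zero' := by simp
      map_add' := fun y z => by simp [dotProduct_add] }
  have hsurj : ∀ d : F, d ∈ Set.range f := by
    intro d
    refine ⟨Pi.single i (d / x i), ?_⟩
    change x ⬝ᵥ Pi.single i (d / x i) = d
    rw [dotProduct_single]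
    field_simp
  have hfib : ∀ d : F, Finset.card {y | f y = d} = Finset.card {y | f y = c} := fun d =>
    AddMonoidHom.card_fiber_eq_of_mem_range f (hsurj d) (hsurj c)
  have htot : Fintype.card (ι → F) = ∑ d : F, Finset.card {y | f y = d} := by
    rw [← Finset.card_univ]
    exact Finset.card_eq_sum_card_fiberwise (fun y _ => Finset.mem_univ (f y))
  rw [Finset.sum_congr rfl (fun d _ => hfib d), Finset.sum_const, Finset.card_univ, smul_eq_mul,
    Fintype.card_fun] at htot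
  have hq : 0 < Fintype.card F := Fintype.card_pos
  have hk : Finset.card {y | f y = c} = Fintype.card F ^ (Fintype.card ι - 1) := by
    have : Fintype.card F ^ Fintype.card ι = Fintype.card F * Fintype.card F ^ (Fintype.card ι - 1) := by
      rw [← pow_succ']; congr 1; omega
    rw [this] at htot
    exact (Nat.eq_of_mul_eq_mul_left hq htot).symm
  rw [← hk, Nat.card_eq_fintype_card, Fintype.card_subtype]
  rfl

theorem card_subtype_prod_eq_sum {A B : Type*} [Fintype A] [Finite B] (P : A → B → Prop) :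
    Nat.card {p : A × B // P p.1 p.2} = ∑ a, Nat.card {b // P a b} := by
  rw [Nat.card_congr (Equiv.subtypeProdEquivSigmaSubtype P), Nat.card_sigma]

/-- block computation: a form-preserving matrix of shape `[[A₁,0],[C,1]]` for a block-diagonal form
with invertible second block has `C = 0` and `A₁` preserves the first block. -/
theorem block_stab {α β : Type*} [Fintype α] [Fintype β] [DecidableEq α] [DecidableEq β]
    (Ω₁ : Matrix α α F) (Ω₂ : Matrix β β F) (Ω₂' : Matrix β β F) (hΩ₂ : Ω₂' * Ω₂ = 1)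
    (A₁ : Matrix α α F) (C : Matrix β α F)
    (h : (fromBlocks A₁ 0 C 1)ᵀ * fromBlocks Ω₁ 0 0 Ω₂ * fromBlocks A₁ 0 C 1 = fromBlocks Ω₁ 0 0 Ω₂) :
    C = 0 ∧ A₁ᵀ * Ω₁ * A₁ = Ω₁ := by
  rw [fromBlocks_transpose, fromBlocks_multiply, fromBlocks_multiply, fromBlocks_inj] at h
  obtain ⟨h11, h12, h21, h22⟩ := h
  simp only [Matrix.mul_zero, Matrix.zero_mul, add_zero, zero_add, transpose_zero, transpose_one,
    Matrix.one_mul, Matrix.mul_one] at h11 h12 h21 h22
  have hC : C = 0 := by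
    have := congrArg (fun M => Ω₂' * M) h21
    simp only [← Matrix.mul_assoc, hΩ₂, Matrix.one_mul, Matrix.mul_zero] at this
    exact this
  refine ⟨hC, ?_⟩
  rw [hC] at h11
  simpa using h11

end general

section sp
variable {F : Type*} [Field F]

/-- index type `(Fin k ⊕ Fin k) ⊕ (Unit ⊕ Unit)` -/
abbrev SpIdx (k : ℕ) := (Fin k ⊕ Fin k) ⊕ (Unit ⊕ Unit)

/-- reindexing equivalence peeling off the first hyperbolic pair -/
def spIdxEquiv (k : ℕ) : SpIdx k ≃ Fin (k + 1) ⊕ Fin (k + 1) where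
  toFun := Sum.elim (Sum.map Fin.succ Fin.succ) (Sum.elim (fun _ => Sum.inl 0) (fun _ => Sum.inr 0))
  invFun := Sum.elim (Fin.cases (Sum.inr (Sum.inl ())) (fun a => Sum.inl (Sum.inl a)))
    (Fin.cases (Sum.inr (Sum.inr ())) (fun a => Sum.inl (Sum.inr a)))
  left_inv := by
    rintro ((a | a) | (⟨⟩ | ⟨⟩)) <;> simp
  right_inv := by
    rintro (a | a) <;> refine Fin.cases ?_ (fun b => ?_) a <;> simp

theorem J_submatrix (k : ℕ) :
    (J (Fin (k + 1)) F).submatrix (spIdxEquiv k) (spIdxEquiv k) =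
      fromBlocks (J (Fin k) F) 0 0 (J Unit F) := by
  ext x y
  rcases x with (a | a) | (⟨⟩ | ⟨⟩) <;> rcases y with (b | b) | (⟨⟩ | ⟨⟩) <;>
    simp [spIdxEquiv, J, Matrix.one_apply, Fin.succ_ne_zero, (Fin.succ_ne_zero _).symm]

theorem J_eq_submatrix (k : ℕ) :
    J (Fin (k + 1)) F =
      (fromBlocks (J (Fin k) F) 0 0 (J Unit F)).submatrix (spIdxEquiv k).symm (spIdxEquiv k).symm := by
  rw [← J_submatrix]
  ext x y
  simp

/-- first vector of the base hyperbolic pair -/
def spE0 (k : ℕ) (F : Type*) [Field F] : Fin (k + 1) ⊕ Fin (k + 1) → F := Pi.single (Sum.inr 0) 1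
/-- second vector of the base hyperbolic pair -/
def spF0 (k : ℕ) (F : Type*) [Field F] : Fin (k + 1) ⊕ Fin (k + 1) → F := Pi.single (Sum.inl 0) 1

theorem sympForm_spE0_spF0 (k : ℕ) : Cfsg.sympForm (k + 1) F (spE0 k F) (spF0 k F) = 1 := by
  rw [sympForm_def, spE0, spF0, Matrix.mulVec_single_one, single_one_dotProduct]
  simp [J]

theorem mem_stabilizer_iff (k : ℕ) (A : Matrix.symplecticGroup (Fin (k + 1)) F) :
    A ∈ MulAction.stabilizer (Matrix.symplecticGroup (Fin (k + 1)) F) (spE0 k F, spF0 k F) ↔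
      (A : Matrix _ _ F) *ᵥ spE0 k F = spE0 k F ∧ (A : Matrix _ _ F) *ᵥ spF0 k F = spF0 k F := by
  rw [MulAction.mem_stabilizer_iff]
  constructor
  · intro h
    exact ⟨congrArg Prod.fst h, congrArg Prod.snd h⟩
  · rintro ⟨h1, h2⟩
    exact Prod.ext h1 h2

/-- the block embedding `A₁ ↦ diag(A₁, 1)` reindexed -/
def spEmbedMatrix (k : ℕ) (A₁ : Matrix (Fin k ⊕ Fin k) (Fin k ⊕ Fin k) F) :
    Matrix (Fin (k + 1) ⊕ Fin (k + 1)) (Fin (k + 1) ⊕ Fin (k + 1)) F :=
  (fromBlocks A₁ 0 0 (1 : Matrix (Unit ⊕ Unit) (Unit ⊕ Unit) F)).submatrix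
    (spIdxEquiv k).symm (spIdxEquiv k).symm

theorem spEmbedMatrix_mem (k : ℕ) (A₁ : Matrix (Fin k ⊕ Fin k) (Fin k ⊕ Fin k) F)
    (h : A₁ ∈ Matrix.symplecticGroup (Fin k) F) :
    spEmbedMatrix k A₁ ∈ Matrix.symplecticGroup (Fin (k + 1)) F := by
  rw [SymplecticGroup.mem_iff'] at h ⊢
  rw [spEmbedMatrix, J_eq_submatrix, transpose_submatrix, submatrix_mul_equiv, submatrix_mul_equiv,
    fromBlocks_transpose, fromBlocks_multiply, fromBlocks_multiply]
  simp [h]

theorem spE0_comp (k : ℕ) : spE0 k F ∘ (spIdxEquiv k) = Pi.single (Sum.inr (Sum.inr ())) 1 := by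
  ext x
  rcases x with (a | a) | (⟨⟩ | ⟨⟩) <;> simp [spE0, spIdxEquiv, Pi.single_apply]

theorem spF0_comp (k : ℕ) : spF0 k F ∘ (spIdxEquiv k) = Pi.single (Sum.inr (Sum.inl ())) 1 := by
  ext x
  rcases x with (a | a) | (⟨⟩ | ⟨⟩) <;> simp [spF0, spIdxEquiv, Pi.single_apply, Fin.succ_ne_zero]

theorem spEmbedMatrix_mulVec_spE0 (k : ℕ) (A₁ : Matrix (Fin k ⊕ Fin k) (Fin k ⊕ Fin k) F) :
    spEmbedMatrix k A₁ *ᵥ spE0 k F = spE0 k F := by
  rw [spEmbedMatrix, submatrix_mulVec_equiv, Equiv.symm_symm, spE0_comp, Matrix.mulVec_single_one]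
  ext x
  have : x = spIdxEquiv k ((spIdxEquiv k).symm x) := by simp
  rw [Function.comp_apply]
  conv_rhs => rw [this, ← Function.comp_apply (f := spE0 k F), spE0_comp]
  rcases (spIdxEquiv k).symm x with (a | a) | (⟨⟩ | ⟨⟩) <;> simp [Matrix.col_apply, Matrix.one_apply, Pi.single_apply]

theorem spEmbedMatrix_mulVec_spF0 (k : ℕ) (A₁ : Matrix (Fin k ⊕ Fin k) (Fin k ⊕ Fin k) F) :
    spEmbedMatrix k A₁ *ᵥ spF0 k F = spF0 k F := by
  rw [spEmbedMatrix, submatrix_mulVec_equiv, Equiv.symm_symm, spF0_comp, Matrix.mulVec_single_one]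
  ext x
  have : x = spIdxEquiv k ((spIdxEquiv k).symm x) := by simp
  rw [Function.comp_apply]
  conv_rhs => rw [this, ← Function.comp_apply (f := spF0 k F), spF0_comp]
  rcases (spIdxEquiv k).symm x with (a | a) | (⟨⟩ | ⟨⟩) <;> simp [Matrix.col_apply, Matrix.one_apply, Pi.single_apply]


/-- structure of a stabilizer element after reindexing -/
theorem stab_blocks (k : ℕ) (A : Matrix (Fin (k + 1) ⊕ Fin (k + 1)) (Fin (k + 1) ⊕ Fin (k + 1)) F)
    (hA : A ∈ Matrix.symplecticGroup (Fin (k + 1)) F)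
    (hE : A *ᵥ spE0 k F = spE0 k F) (hF : A *ᵥ spF0 k F = spF0 k F) :
    (A.submatrix (spIdxEquiv k) (spIdxEquiv k)).toBlocks₁₁ ∈ Matrix.symplecticGroup (Fin k) F ∧
    A.submatrix (spIdxEquiv k) (spIdxEquiv k) =
      fromBlocks (A.submatrix (spIdxEquiv k) (spIdxEquiv k)).toBlocks₁₁ 0 0 1 := by
  set A' := A.submatrix (spIdxEquiv k) (spIdxEquiv k) with hA'
  have h12 : A'.toBlocks₁₂ = 0 := by
    ext x y
    rcases y with ⟨⟩ | ⟨⟩
    · have := congrFun hF (spIdxEquiv k (Sum.inl x))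
      rw [spF0, Matrix.mulVec_single_one] at this
      simp only [toBlocks₁₂, hA', Matrix.of_apply, submatrix_apply, Matrix.zero_apply]
      rw [Matrix.col_apply] at this
      have h2 : (spIdxEquiv k (Sum.inr (Sum.inl ()))) = Sum.inl 0 := rfl
      rw [h2, this]
      rcases x with a | a <;> simp [spIdxEquiv, Pi.single_apply, Fin.succ_ne_zero]
    · have := congrFun hE (spIdxEquiv k (Sum.inl x))
      rw [spE0, Matrix.mulVec_single_one] at this
      simp only [toBlocks₁₂, hA', Matrix.of_apply, submatrix_apply, Matrix.zero_apply]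
      rw [Matrix.col_apply] at this
      have h2 : (spIdxEquiv k (Sum.inr (Sum.inr ()))) = Sum.inr 0 := rfl
      rw [h2, this]
      rcases x with a | a <;> simp [spIdxEquiv, Pi.single_apply, Fin.succ_ne_zero]
  have h22 : A'.toBlocks₂₂ = 1 := by
    ext x y
    rcases y with ⟨⟩ | ⟨⟩
    · have := congrFun hF (spIdxEquiv k (Sum.inr x))
      rw [spF0, Matrix.mulVec_single_one] at this
      simp only [toBlocks₂₂, hA', Matrix.of_apply, submatrix_apply]
      rw [Matrix.col_apply] at this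
      have h2 : (spIdxEquiv k (Sum.inr (Sum.inl ()))) = Sum.inl 0 := rfl
      rw [h2, this]
      rcases x with ⟨⟩ | ⟨⟩ <;> simp [spIdxEquiv, Pi.single_apply, Matrix.one_apply]
    · have := congrFun hE (spIdxEquiv k (Sum.inr x))
      rw [spE0, Matrix.mulVec_single_one] at this
      simp only [toBlocks₂₂, hA', Matrix.of_apply, submatrix_apply]
      rw [Matrix.col_apply] at this
      have h2 : (spIdxEquiv k (Sum.inr (Sum.inr ()))) = Sum.inr 0 := rfl
      rw [h2, this]
      rcases x with ⟨⟩ | ⟨⟩ <;> simp [spIdxEquiv, Pi.single_apply, Matrix.one_apply]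
  have hform : A'ᵀ * fromBlocks (J (Fin k) F) 0 0 (J Unit F) * A' =
      fromBlocks (J (Fin k) F) 0 0 (J Unit F) := by
    rw [SymplecticGroup.mem_iff'] at hA
    rw [← J_submatrix, hA', transpose_submatrix, submatrix_mul_equiv, submatrix_mul_equiv, hA]
  have hdecomp : A' = fromBlocks A'.toBlocks₁₁ 0 A'.toBlocks₂₁ 1 := by
    conv_lhs => rw [← fromBlocks_toBlocks A', h12, h22]
  rw [hdecomp] at hform
  obtain ⟨hC, h11⟩ := block_stab (J (Fin k) F) (J Unit F) (-J Unit F)
    (by rw [Matrix.neg_mul, J_squared, neg_neg]) _ _ hform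
  refine ⟨SymplecticGroup.mem_iff'.2 h11, ?_⟩
  conv_lhs => rw [hdecomp, hC]

theorem stab_blocks' (k : ℕ)
    (A : MulAction.stabilizer (Matrix.symplecticGroup (Fin (k + 1)) F) (spE0 k F, spF0 k F)) :
    (A.1.1.submatrix (spIdxEquiv k) (spIdxEquiv k)).toBlocks₁₁ ∈ Matrix.symplecticGroup (Fin k) F ∧
    A.1.1.submatrix (spIdxEquiv k) (spIdxEquiv k) =
      fromBlocks (A.1.1.submatrix (spIdxEquiv k) (spIdxEquiv k)).toBlocks₁₁ 0 0 1 :=
  stab_blocks k A.1.1 A.1.2 ((mem_stabilizer_iff k A.1).1 A.2).1 ((mem_stabilizer_iff k A.1).1 A.2).2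

/-- the stabilizer of the base hyperbolic pair in `Sp_{2(k+1)}` is in bijection with `Sp_{2k}` -/
noncomputable def stabEquiv (k : ℕ) :
    MulAction.stabilizer (Matrix.symplecticGroup (Fin (k + 1)) F) (spE0 k F, spF0 k F) ≃
      Matrix.symplecticGroup (Fin k) F where
  toFun A := ⟨(A.1.1.submatrix (spIdxEquiv k) (spIdxEquiv k)).toBlocks₁₁, (stab_blocks' k A).1⟩
  invFun A₁ := ⟨⟨spEmbedMatrix k A₁.1, spEmbedMatrix_mem k A₁.1 A₁.2⟩,
    (mem_stabilizer_iff k _).2 ⟨spEmbedMatrix_mulVec_spE0 k A₁.1, spEmbedMatrix_mulVec_spF0 k A₁.1⟩⟩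
  left_inv A := by
    apply Subtype.ext
    apply Subtype.ext
    have h := (stab_blocks' k A).2
    have h' := congrArg (fun M => M.submatrix (spIdxEquiv k).symm (spIdxEquiv k).symm) h
    refine h'.symm.trans ?_
    ext x y
    simp
  right_inv A₁ := by
    apply Subtype.ext
    simp only [spEmbedMatrix]
    ext x y
    simp [toBlocks₁₁]


theorem orbit_base_eq (k : ℕ) :
    MulAction.orbit (Matrix.symplecticGroup (Fin (k + 1)) F) (spE0 k F, spF0 k F) =
      {p | Cfsg.sympForm (k + 1) F p.1 p.2 = 1} := by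
  ext ⟨u, v⟩
  constructor
  · rintro ⟨A, hA⟩
    have h1 : (A : Matrix _ _ F) *ᵥ spE0 k F = u := congrArg Prod.fst hA
    have h2 : (A : Matrix _ _ F) *ᵥ spF0 k F = v := congrArg Prod.snd hA
    change Cfsg.sympForm (k + 1) F u v = 1
    rw [← h1, ← h2, (mem_symplecticGroup_iff_preserves _).1 A.2, sympForm_spE0_spF0]
  · intro h
    obtain ⟨A, -, hA1, hA2⟩ := exists_transvection_map_pair (sympForm_spE0_spF0 (F := F) k) h
    exact ⟨A, Prod.ext hA1 hA2⟩

theorem card_hyperbolic_pairs [Fintype F] (n : ℕ) :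
    Nat.card {p : (Fin n ⊕ Fin n → F) × (Fin n ⊕ Fin n → F) // Cfsg.sympForm n F p.1 p.2 = 1} =
      (Fintype.card F ^ (2 * n) - 1) * Fintype.card F ^ (2 * n - 1) := by
  classical
  rw [card_subtype_prod_eq_sum (fun (u v : Fin n ⊕ Fin n → F) => Cfsg.sympForm n F u v = 1)]
  rw [← Finset.add_sum_erase _ _ (Finset.mem_univ (0 : Fin n ⊕ Fin n → F))]
  have h0 : Nat.card {v : Fin n ⊕ Fin n → F // Cfsg.sympForm n F 0 v = 1} = 0 := by
    rw [Nat.card_eq_fintype_card, Fintype.card_eq_zero_iff]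
    constructor
    rintro ⟨v, hv⟩
    rw [sympForm_zero_left] at hv
    exact zero_ne_one hv
  have h1 : ∀ u ∈ (Finset.univ : Finset (Fin n ⊕ Fin n → F)).erase 0,
      Nat.card {v : Fin n ⊕ Fin n → F // Cfsg.sympForm n F u v = 1} =
        Fintype.card F ^ (2 * n - 1) := by
    intro u hu
    have hu0 : u ≠ 0 := Finset.ne_of_mem_erase hu
    have hJ : u ᵥ* J (Fin n) F ≠ 0 := by
      intro h
      have h2 : (u ᵥ* J (Fin n) F) ᵥ* J (Fin n) F = -u := by
        rw [Matrix.vecMul_vecMul, J_squared, Matrix.vecMul_neg, Matrix.vecMul_one]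
      rw [h, Matrix.zero_vecMul] at h2
      exact hu0 (by simpa using h2.symm)
    have := card_dotProduct_eq' (u ᵥ* J (Fin n) F) hJ 1
    rw [Fintype.card_sum, Fintype.card_fin, ← two_mul] at this
    rw [← this]
    refine Nat.card_congr (Equiv.subtypeEquivRight ?_)
    intro v
    rw [sympForm_def, Matrix.dotProduct_mulVec]
  rw [h0, zero_add, Finset.sum_congr rfl h1, Finset.sum_const, Finset.card_erase_of_mem (Finset.mem_univ _),
    Finset.card_univ, smul_eq_mul, Fintype.card_fun, Fintype.card_sum, Fintype.card_fin, ← two_mul]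

theorem card_sp_succ [Fintype F] (k : ℕ) :
    Nat.card (Matrix.symplecticGroup (Fin (k + 1)) F) =
      (Fintype.card F ^ (2 * (k + 1)) - 1) * Fintype.card F ^ (2 * (k + 1) - 1) *
        Nat.card (Matrix.symplecticGroup (Fin k) F) := by
  have h1 := Subgroup.index_mul_card
    (MulAction.stabilizer (Matrix.symplecticGroup (Fin (k + 1)) F) (spE0 k F, spF0 k F))
  rw [MulAction.index_stabilizer, orbit_base_eq, ← Nat.card_coe_set_eq,
    Nat.card_congr (stabEquiv k)] at h1
  rw [← h1]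
  congr 1
  exact card_hyperbolic_pairs (k + 1)

theorem card_sp [Fintype F] (m : ℕ) :
    Nat.card (Matrix.symplecticGroup (Fin m) F) =
      Fintype.card F ^ (m ^ 2) * ∏ i ∈ Finset.range m, (Fintype.card F ^ (2 * (i + 1)) - 1) := by
  induction m with
  | zero =>
    have : Subsingleton (Matrix.symplecticGroup (Fin 0) F) :=
      ⟨fun a b => Subtype.ext (Subsingleton.elim _ _)⟩
    rw [Nat.card_of_subsingleton (1 : Matrix.symplecticGroup (Fin 0) F)]
    simp
  | succ k ih =>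
    rw [card_sp_succ, ih, Finset.prod_range_succ]
    have : (k + 1) ^ 2 = k ^ 2 + (2 * (k + 1) - 1) := by
      have : 2 * (k + 1) - 1 = 2 * k + 1 := by omega
      rw [this]; ring
    rw [this, pow_add]
    ring

end sp

end Cfsg.Agent.Helper5
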