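import Mathlib
import Cfsg.Agent.Helper13.SympGen2

set_option autoImplicit false
set_option linter.unusedSimpArgs false
set_option linter.unnecessarySeqFocus false

namespace Cfsg.Agent.Helper5

open Matrix Cfsg.Agent.Helper13
open scoped commutatorElement

section spblocks
variable {F : Type*} [Field F] {m : ℕ}

local notation "Vec" => (Fin m ⊕ Fin m → F)
local notation "Mat" => Matrix (Fin m ⊕ Fin m) (Fin m ⊕ Fin m) F
local notation "Sp" => Matrix.symplecticGroup (Fin m) F
local notation "M'" => Matrix (Fin m) (Fin m) F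

/-- the unipotent element `[[1,S],[0,1]]`, `S` symmetric -/
def spU (S : M') (hS : Sᵀ = S) : Sp :=
  ⟨fromBlocks 1 S 0 1, by
    rw [SymplecticGroup.fromBlocks_mem_iff]
    refine ⟨by simp, by simp [hS], by simp⟩⟩

/-- the Levi element `[[A,0],[0,A⁻ᵀ]]` -/
def spD (A B : M') (hBA : B * A = 1) : Sp :=
  ⟨fromBlocks A 0 0 Bᵀ, by
    rw [SymplecticGroup.fromBlocks_mem_iff]
    refine ⟨by simp, by simp, ?_⟩
    simp only [transpose_zero, Matrix.zero_mul, sub_zero]
    rw [← transpose_mul, hBA, transpose_one]⟩

theorem spU_mul (S S' : M') (hS : Sᵀ = S) (hS' : S'ᵀ = S') :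
    spU S hS * spU S' hS' = spU (S + S') (by rw [transpose_add, hS, hS']) := by
  apply Subtype.ext
  change fromBlocks 1 S 0 1 * fromBlocks 1 S' 0 1 = fromBlocks 1 (S + S') 0 1
  rw [fromBlocks_multiply]
  simp [add_comm]

theorem spD_mul_spU (A B : M') (hBA : B * A = 1) (S : M') (hS : Sᵀ = S) :
    spD A B hBA * spU S hS =
      spU (A * S * Aᵀ) (by rw [transpose_mul, transpose_mul, transpose_transpose, hS, Matrix.mul_assoc]) *
        spD A B hBA := by
  apply Subtype.ext
  change fromBlocks A 0 0 Bᵀ * fromBlocks 1 S 0 1 = fromBlocks 1 (A * S * Aᵀ) 0 1 * fromBlocks A 0 0 Bᵀ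
  rw [fromBlocks_multiply, fromBlocks_multiply]
  simp only [Matrix.mul_one, Matrix.mul_zero, add_zero, Matrix.zero_mul, zero_add, Matrix.one_mul]
  rw [Matrix.mul_assoc (A * S), ← transpose_mul, hBA, transpose_one, Matrix.mul_one]

theorem commutator_spD_spU (A B : M') (hBA : B * A = 1) (S : M') (hS : Sᵀ = S) :
    ⁅spD A B hBA, spU S hS⁆ = spU (A * S * Aᵀ - S) (by
      rw [transpose_sub, transpose_mul, transpose_mul, transpose_transpose, hS, Matrix.mul_assoc]) := by
  rw [commutatorElement_def, spD_mul_spU, mul_inv_cancel_right, mul_inv_eq_iff_eq_mul, spU_mul]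
  congr 1
  abel

theorem spU_mem_commutator (A B : M') (hBA : B * A = 1) (S : M') (hS : Sᵀ = S)
    (T : M') (hT : Tᵀ = T) (h : A * S * Aᵀ - S = T) :
    spU T hT ∈ commutator Sp := by
  have := commutator_spD_spU A B hBA S hS
  have h2 : spU T hT = ⁅spD A B hBA, spU S hS⁆ := by
    rw [this]; congr 1; exact h.symm
  rw [h2]
  exact Subgroup.commutator_mem_commutator (Subgroup.mem_top _) (Subgroup.mem_top _)

theorem spU_single_eq (i : Fin m) (c : F) :
    spU (Matrix.single i i c) (by simp) = sympTransvectionElt (Pi.single (Sum.inl i) 1) c := by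
  apply Subtype.ext
  change fromBlocks 1 (Matrix.single i i c) 0 1 = Cfsg.sympTransvection m (Pi.single (Sum.inl i) 1) c
  rw [Cfsg.sympTransvection, Matrix.mulVec_single_one]
  ext x y
  rcases x with x | x <;> rcases y with y | y <;>
    simp [Matrix.vecMulVec_apply, J, Matrix.one_apply, Matrix.single_apply, Pi.single_apply, Matrix.col_apply]
  · by_cases h1 : i = x <;> by_cases h2 : i = y <;> simp [h1, h2, eq_comm]


theorem one_sub_single_mul_one_add_single {i j : Fin m} (hij : i ≠ j) :
    ((1 : M') - Matrix.single i j 1) * (1 + Matrix.single i j 1) = 1 := by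
  simp only [mul_add, sub_mul, mul_one, one_mul, single_mul_single_of_ne _ _ _ _ hij.symm]
  abel

theorem caseC_identity {i j : Fin m} (hij : i ≠ j) (c : F) :
    ((1 : M') + Matrix.single i j 1) * (Matrix.single i j c + Matrix.single j i c) *
      ((1 : M') + Matrix.single i j 1)ᵀ - (Matrix.single i j c + Matrix.single j i c) =
      Matrix.single i i (2 * c) := by
  simp only [transpose_add, transpose_one, transpose_single, mul_add, add_mul, mul_one, one_mul,
    single_mul_single_same, single_mul_single_of_ne _ _ _ _ hij, single_mul_single_of_ne _ _ _ _ hij.symm,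
    add_zero, zero_add, Matrix.zero_mul, Matrix.mul_zero]
  ext x y
  simp only [Matrix.add_apply, Matrix.sub_apply, Matrix.single_apply]
  by_cases h1 : i = x <;> by_cases h2 : i = y <;> by_cases h3 : j = x <;> by_cases h4 : j = y <;>
    simp_all [eq_comm] <;> ring

theorem caseB_identity_X {i j : Fin m} (hij : i ≠ j) (c : F) :
    ((1 : M') + Matrix.single i j 1) * (Matrix.single j j c) *
      ((1 : M') + Matrix.single i j 1)ᵀ - (Matrix.single j j c) =
      Matrix.single i j c + Matrix.single j i c + Matrix.single i i c := by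
  simp only [transpose_add, transpose_one, transpose_single, mul_add, add_mul, mul_one, one_mul,
    single_mul_single_same, single_mul_single_of_ne _ _ _ _ hij, single_mul_single_of_ne _ _ _ _ hij.symm,
    add_zero, zero_add, Matrix.zero_mul, Matrix.mul_zero]
  ext x y
  simp only [Matrix.add_apply, Matrix.sub_apply, Matrix.single_apply]
  by_cases h1 : i = x <;> by_cases h2 : i = y <;> by_cases h3 : j = x <;> by_cases h4 : j = y <;>
    simp_all [eq_comm]

theorem caseB_identity_Y {i j k : Fin m} (hij : i ≠ j) (hik : i ≠ k) (hjk : j ≠ k) (c : F) :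
    ((1 : M') + Matrix.single j k 1) * (Matrix.single i k c + Matrix.single k i c) *
      ((1 : M') + Matrix.single j k 1)ᵀ - (Matrix.single i k c + Matrix.single k i c) =
      Matrix.single i j c + Matrix.single j i c := by
  simp only [transpose_add, transpose_one, transpose_single, mul_add, add_mul, mul_one, one_mul,
    single_mul_single_same, single_mul_single_of_ne _ _ _ _ hij, single_mul_single_of_ne _ _ _ _ hij.symm,
    single_mul_single_of_ne _ _ _ _ hik, single_mul_single_of_ne _ _ _ _ hik.symm,
    single_mul_single_of_ne _ _ _ _ hjk, single_mul_single_of_ne _ _ _ _ hjk.symm,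
    add_zero, zero_add, Matrix.zero_mul, Matrix.mul_zero]
  ext x y
  simp only [Matrix.add_apply, Matrix.sub_apply, Matrix.single_apply]
  by_cases h1 : i = x <;> by_cases h2 : i = y <;> by_cases h3 : j = x <;> by_cases h4 : j = y <;>
    by_cases h5 : k = x <;> by_cases h6 : k = y <;>
    simp_all [eq_comm]

/-- Case C: `m ≥ 2` and `2 ≠ 0`. -/
theorem transvection_mem_commutator_caseC {i j : Fin m} (hij : i ≠ j) (h2 : (2 : F) ≠ 0) (c : F) :
    sympTransvectionElt (Pi.single (Sum.inl i) (1 : F)) c ∈ commutator Sp := by
  rw [← spU_single_eq]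
  have hc : c = 2 * (c / 2) := by field_simp
  have key := spU_mem_commutator (1 + Matrix.single i j 1) (1 - Matrix.single i j 1)
    (one_sub_single_mul_one_add_single hij) (Matrix.single i j (c / 2) + Matrix.single j i (c / 2))
    (by simp [add_comm]) (Matrix.single i i (2 * (c / 2))) (by simp) (caseC_identity hij (c / 2))
  convert key using 2
  rw [← hc]

/-- Case B: `m ≥ 3`. -/
theorem transvection_mem_commutator_caseB {i j k : Fin m} (hij : i ≠ j) (hik : i ≠ k) (hjk : j ≠ k)
    (c : F) :
    sympTransvectionElt (Pi.single (Sum.inl i) (1 : F)) c ∈ commutator Sp := by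
  rw [← spU_single_eq]
  have keyX := spU_mem_commutator (1 + Matrix.single i j 1) (1 - Matrix.single i j 1)
    (one_sub_single_mul_one_add_single hij) (Matrix.single j j c) (by simp)
    (Matrix.single i j c + Matrix.single j i c + Matrix.single i i c)
    (by simp [add_comm]) (caseB_identity_X hij c)
  have keyY := spU_mem_commutator (1 + Matrix.single j k 1) (1 - Matrix.single j k 1)
    (one_sub_single_mul_one_add_single hjk) (Matrix.single i k (-c) + Matrix.single k i (-c))
    (by simp [add_comm])
    (Matrix.single i j (-c) + Matrix.single j i (-c))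
    (by simp [add_comm]) (caseB_identity_Y hij hik hjk (-c))
  have := mul_mem keyX keyY
  rw [spU_mul] at this
  convert this using 2
  ext x y
  simp only [Matrix.add_apply, Matrix.single_apply]
  by_cases h1 : i = x <;> by_cases h2 : i = y <;> by_cases h3 : j = x <;> by_cases h4 : j = y <;>
    simp_all [eq_comm]

end spblocks

section spperf
variable {F : Type*} [Field F] {m : ℕ}

local notation "Vec" => (Fin m ⊕ Fin m → F)
local notation "Mat" => Matrix (Fin m ⊕ Fin m) (Fin m ⊕ Fin m) F
local notation "Sp" => Matrix.symplecticGroup (Fin m) F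

/-- general conjugation formula for symplectic transvections -/
theorem sympTransvectionElt_conj (A : Sp) (v : Vec) (c : F) :
    A * sympTransvectionElt v c * A⁻¹ = sympTransvectionElt ((A : Mat) *ᵥ v) c := by
  rw [mul_inv_eq_iff_eq_mul]
  apply Subtype.ext
  change (A : Mat) * Cfsg.sympTransvection m v c = Cfsg.sympTransvection m ((A : Mat) *ᵥ v) c * (A : Mat)
  apply matrix_eq_of_mulVec
  intro x
  rw [← Matrix.mulVec_mulVec, ← Matrix.mulVec_mulVec, sympTransvection_mulVec, sympTransvection_mulVec,
    (mem_symplecticGroup_iff_preserves _).1 A.2, Matrix.mulVec_add, Matrix.mulVec_smul]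

theorem sympTransvectionElt_mul (v : Vec) (c d : F) :
    sympTransvectionElt v c * sympTransvectionElt v d = sympTransvectionElt v (c + d) := by
  apply Subtype.ext
  exact sympTransvection_mul v c d

theorem sympTransvectionElt_zero (v : Vec) : sympTransvectionElt v (0 : F) = 1 := by
  apply Subtype.ext
  exact sympTransvection_zero v

theorem sympTransvectionElt_inv (v : Vec) (c : F) :
    (sympTransvectionElt v c)⁻¹ = sympTransvectionElt v (-c) := by
  rw [inv_eq_iff_mul_eq_one, sympTransvectionElt_mul, add_neg_cancel, sympTransvectionElt_zero]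

theorem sympTransvectionElt_smul (v : Vec) (a c : F) :
    sympTransvectionElt (a • v) c = sympTransvectionElt v (c * a ^ 2) := by
  apply Subtype.ext
  change Cfsg.sympTransvection m (a • v) c = Cfsg.sympTransvection m v (c * a ^ 2)
  apply matrix_eq_of_mulVec
  intro x
  rw [sympTransvection_mulVec, sympTransvection_mulVec, sympForm_smul_right, smul_smul]
  congr 2
  ring

/-- A normal subgroup containing `T_e(c)` for one nonzero `e` and all `c` is everything. -/
theorem normal_eq_top_of_transvection (N : Subgroup Sp) [N.Normal] (e : Vec) (he : e ≠ 0)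
    (h : ∀ c : F, sympTransvectionElt e c ∈ N) : N = ⊤ := by
  rw [eq_top_iff, ← sympTransvectionSubgroup_eq_top, sympTransvectionSubgroup, Subgroup.closure_le]
  rintro A ⟨w, c, hA⟩
  have hA' : A = sympTransvectionElt w c := Subtype.ext hA
  rw [hA']
  by_cases hw : w = 0
  · have : sympTransvectionElt w c = 1 := by
      apply Subtype.ext
      change Cfsg.sympTransvection m w c = 1
      rw [hw]
      apply matrix_eq_of_mulVec
      intro x
      rw [sympTransvection_mulVec]
      simp
    rw [this]
    exact one_mem _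
  · obtain ⟨B, -, hB⟩ := exists_transvection_map_of_ne_zero he hw
    rw [SetLike.mem_coe, ← hB, ← sympTransvectionElt_conj]
    exact Subgroup.Normal.conj_mem inferInstance _ (h c) B

/-- Case A: if there is `a ≠ 0` with `a^2 ≠ 1` then `Sp_{2m}(F)` is perfect. -/
theorem commutator_sp_eq_top_of_exists (h : ∃ a : F, a ≠ 0 ∧ a ^ 2 ≠ 1) :
    commutator Sp = ⊤ := by
  obtain ⟨a, ha0, ha1⟩ := h
  rcases Nat.eq_zero_or_pos m with rfl | hm
  · have : Subsingleton (Matrix.symplecticGroup (Fin 0) F) :=
      ⟨fun a b => Subtype.ext (Subsingleton.elim _ _)⟩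
    exact Subsingleton.elim _ _
  let e : Vec := Pi.single (Sum.inl ⟨0, hm⟩) 1
  have he : e ≠ 0 := by
    intro h
    have := congrFun h (Sum.inl ⟨0, hm⟩)
    simp [e] at this
  have hae : a • e ≠ 0 := smul_ne_zero ha0 he
  obtain ⟨A, -, hA⟩ := exists_transvection_map_of_ne_zero he hae
  apply normal_eq_top_of_transvection (commutator Sp) e he
  intro c
  have hkey : ⁅A, sympTransvectionElt e (c / (a ^ 2 - 1))⁆ = sympTransvectionElt e c := by
    rw [commutatorElement_def, sympTransvectionElt_conj, hA, sympTransvectionElt_smul,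
      sympTransvectionElt_inv, sympTransvectionElt_mul]
    congr 1
    have : a ^ 2 - 1 ≠ 0 := sub_ne_zero.2 ha1
    field_simp
    ring
  rw [← hkey]
  exact Subgroup.commutator_mem_commutator (Subgroup.mem_top _) (Subgroup.mem_top _)

end spperf


section spmain
variable {F : Type*} [Field F] {m : ℕ}

theorem commutator_sp_eq_top_of_three_le (hm : 3 ≤ m) :
    commutator (Matrix.symplecticGroup (Fin m) F) = ⊤ := by
  let i : Fin m := ⟨0, by omega⟩
  let j : Fin m := ⟨1, by omega⟩
  let k : Fin m := ⟨2, by omega⟩
  have hij : i ≠ j := by simp [i, j, Fin.ext_iff]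
  have hik : i ≠ k := by simp [i, k, Fin.ext_iff]
  have hjk : j ≠ k := by simp [j, k, Fin.ext_iff]
  apply normal_eq_top_of_transvection (commutator (Matrix.symplecticGroup (Fin m) F))
    (Pi.single (Sum.inl i) 1)
  · intro h
    have := congrFun h (Sum.inl i)
    simp at this
  · intro c
    exact transvection_mem_commutator_caseB hij hik hjk c

theorem commutator_sp_eq_top_of_two_le (hm : 2 ≤ m) (h2 : (2 : F) ≠ 0) :
    commutator (Matrix.symplecticGroup (Fin m) F) = ⊤ := by
  let i : Fin m := ⟨0, by omega⟩
  let j : Fin m := ⟨1, by omega⟩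
  have hij : i ≠ j := by simp [i, j, Fin.ext_iff]
  apply normal_eq_top_of_transvection (commutator (Matrix.symplecticGroup (Fin m) F))
    (Pi.single (Sum.inl i) 1)
  · intro h
    have := congrFun h (Sum.inl i)
    simp at this
  · intro c
    exact transvection_mem_commutator_caseC hij h2 c

end spmain

end Cfsg.Agent.Helper5
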