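import Mathlib
import Cfsg.Agent.Helper5.SpPerfect

set_option autoImplicit false
set_option linter.unusedSimpArgs false

namespace Cfsg.Agent.Helper5

open Matrix Cfsg.Agent.Helper13 MulAction
open scoped LinearAlgebra.Projectivization Pointwise

section psp
variable {F : Type*} [Field F] {m : ℕ}

local notation "Vec" => (Fin m ⊕ Fin m → F)
local notation "Mat" => Matrix (Fin m ⊕ Fin m) (Fin m ⊕ Fin m) F
local notation "Sp" => Matrix.symplecticGroup (Fin m) F

theorem sympForm_nondeg_right {u : Vec} (hu : u ≠ 0) : ∃ x, Cfsg.sympForm m F u x ≠ 0 := by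
  obtain ⟨x, hx⟩ := sympForm_nondeg_left hu
  exact ⟨x, by rw [sympForm_swap]; exact neg_ne_zero.2 hx⟩

theorem eq_zero_of_sympForm_eq_zero {w : Vec} (h : ∀ y, Cfsg.sympForm m F w y = 0) : w = 0 := by
  by_contra hw
  obtain ⟨x, hx⟩ := sympForm_nondeg_right hw
  exact hx (h x)

/-- if `v` is not a multiple of `u ≠ 0`, some `z` is orthogonal to `u` but not to `v` -/
theorem exists_orth_sep {u v : Vec} (hu : u ≠ 0) (hv : ∀ a : F, v ≠ a • u) :
    ∃ z, Cfsg.sympForm m F u z = 0 ∧ Cfsg.sympForm m F v z ≠ 0 := by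
  by_contra hcon
  simp only [not_exists, not_and, not_not] at hcon
  obtain ⟨x0, hx0⟩ := sympForm_nondeg_right hu
  set x1 := (Cfsg.sympForm m F u x0)⁻¹ • x0 with hx1
  have h1 : Cfsg.sympForm m F u x1 = 1 := by
    rw [hx1, sympForm_smul_right, inv_mul_cancel₀ hx0]
  apply hv (Cfsg.sympForm m F v x1)
  have : v - Cfsg.sympForm m F v x1 • u = 0 := by
    apply eq_zero_of_sympForm_eq_zero
    intro y
    have h2 := hcon (y - Cfsg.sympForm m F u y • x1) (by
      rw [sympForm_sub_right, sympForm_smul_right, h1, mul_one, sub_self])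
    rw [sympForm_sub_right, sympForm_smul_right] at h2
    rw [sympForm_sub_left, sympForm_smul_left]
    linear_combination h2
  exact sub_eq_zero.1 this

theorem sp_smul_mk (A : Sp) {v : Vec} (hv : v ≠ 0) :
    ∃ h : (A : Mat) *ᵥ v ≠ 0, A • Projectivization.mk F v hv = Projectivization.mk F ((A : Mat) *ᵥ v) h := by
  have h : (A : Mat) *ᵥ v ≠ 0 := (smul_ne_zero_iff_ne A).mpr hv
  exact ⟨h, rfl⟩

theorem mk_smul_eq {v : Vec} (hv : v ≠ 0) {a : F} (ha : a ≠ 0) (h : a • v ≠ 0) :
    Projectivization.mk F (a • v) h = Projectivization.mk F v hv := by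
  rw [Projectivization.mk_eq_mk_iff]
  exact ⟨Units.mk0 a ha, rfl⟩

instance sp_isPretransitive : IsPretransitive Sp (ℙ F Vec) := by
  constructor
  intro p q
  induction p using Projectivization.ind with | _ u hu =>
  induction q using Projectivization.ind with | _ w hw =>
  obtain ⟨A, -, hA⟩ := exists_transvection_map_of_ne_zero hu hw
  refine ⟨A, ?_⟩
  obtain ⟨h, e⟩ := sp_smul_mk A hu
  rw [e]
  congr 1

/-- Claim 1 -/
theorem block_claim1 {B : Set (ℙ F Vec)} (hB : IsBlock Sp B) {u v w : Vec} (hu : u ≠ 0) (hv : v ≠ 0)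
    (hw : w ≠ 0) (huB : Projectivization.mk F u hu ∈ B) (hvB : Projectivization.mk F v hv ∈ B)
    (huv : Cfsg.sympForm m F u v ≠ 0) (huw : Cfsg.sympForm m F u w ≠ 0) :
    Projectivization.mk F w hw ∈ B := by
  have h1 : Cfsg.sympForm m F u ((Cfsg.sympForm m F u v)⁻¹ • v) = 1 := by
    rw [sympForm_smul_right, inv_mul_cancel₀ huv]
  have h2 : Cfsg.sympForm m F u ((Cfsg.sympForm m F u w)⁻¹ • w) = 1 := by
    rw [sympForm_smul_right, inv_mul_cancel₀ huw]
  obtain ⟨A, -, hAu, hAv⟩ := exists_transvection_fix_map h1 h2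
  have hAB : A • B = B := by
    apply hB.smul_eq_of_mem huB
    obtain ⟨h, e⟩ := sp_smul_mk A hu
    rw [e]
    convert huB using 2
  have : A • Projectivization.mk F v hv ∈ B := by
    rw [← hAB]
    exact Set.smul_mem_smul_set hvB
  obtain ⟨h, e⟩ := sp_smul_mk A hv
  rw [e] at this
  convert this using 1
  rw [Projectivization.mk_eq_mk_iff]
  rw [Matrix.mulVec_smul] at hAv
  -- (ω(u,v))⁻¹ • A v = (ω(u,w))⁻¹ • w
  refine ⟨Units.mk0 (Cfsg.sympForm m F u w * (Cfsg.sympForm m F u v)⁻¹)
    (mul_ne_zero huw (inv_ne_zero huv)), ?_⟩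
  change (Cfsg.sympForm m F u w * (Cfsg.sympForm m F u v)⁻¹) • ((A : Mat) *ᵥ v) = w
  rw [mul_smul, hAv, smul_smul, mul_inv_cancel₀ huw, one_smul]

/-- Lemma I: a block containing two non-orthogonal points is everything. -/
theorem block_eq_univ_of_nonorth {B : Set (ℙ F Vec)} (hB : IsBlock Sp B) {u v : Vec} (hu : u ≠ 0)
    (hv : v ≠ 0) (huB : Projectivization.mk F u hu ∈ B) (hvB : Projectivization.mk F v hv ∈ B)
    (huv : Cfsg.sympForm m F u v ≠ 0) : B = Set.univ := by
  rw [Set.eq_univ_iff_forall]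
  intro q
  induction q using Projectivization.ind with | _ w hw =>
  by_cases huw : Cfsg.sympForm m F u w = 0
  · obtain ⟨x, hxu, hxw⟩ := exists_sympForm_ne_zero_both hu hw
    have hx : x ≠ 0 := by
      rintro rfl
      simp at hxu
    have hux : Cfsg.sympForm m F u x ≠ 0 := by
      rw [sympForm_swap]; exact neg_ne_zero.2 hxu
    have hxB := block_claim1 hB hu hv hx huB hvB huv hux
    exact block_claim1 hB hx hu hw hxB huB hxu hxw
  · exact block_claim1 hB hu hv hw huB hvB huv huw

instance sp_isPreprimitive : IsPreprimitive Sp (ℙ F Vec) where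
  isTrivialBlock_of_isBlock {B} hB := by
    by_cases hsub : B.Subsingleton
    · exact Or.inl hsub
    right
    rw [Set.not_subsingleton_iff] at hsub
    obtain ⟨p, hp, p', hp', hne⟩ := hsub
    induction p using Projectivization.ind with | _ u hu =>
    induction p' using Projectivization.ind with | _ v hv =>
    by_cases huv : Cfsg.sympForm m F u v = 0
    · have hvu : ∀ a : F, v ≠ a • u := by
        intro a hva
        apply hne
        have ha : a ≠ 0 := by
          rintro rfl
          simp at hva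
          exact hv hva
        rw [Projectivization.mk_eq_mk_iff]
        exact ⟨(Units.mk0 a ha)⁻¹, by
          change a⁻¹ • v = u
          rw [hva, smul_smul, inv_mul_cancel₀ ha, one_smul]⟩
      obtain ⟨z, hz1, hz2⟩ := exists_orth_sep hu hvu
      set A : Sp := sympTransvectionElt z 1 with hA
      have hAu : (A : Mat) *ᵥ u = u := by
        change Cfsg.sympTransvection m z 1 *ᵥ u = u
        rw [sympTransvection_mulVec, hz1, mul_zero, zero_smul, add_zero]
      have hAv : (A : Mat) *ᵥ v = v + Cfsg.sympForm m F v z • z := by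
        change Cfsg.sympTransvection m z 1 *ᵥ v = _
        rw [sympTransvection_mulVec, one_mul]
      have hAB : A • B = B := by
        apply hB.smul_eq_of_mem hp
        obtain ⟨h, e⟩ := sp_smul_mk A hu
        rw [e]
        convert hp using 2
      have hAvB : A • Projectivization.mk F v hv ∈ B := by
        rw [← hAB]
        exact Set.smul_mem_smul_set hp'
      obtain ⟨h, e⟩ := sp_smul_mk A hv
      rw [e] at hAvB
      apply block_eq_univ_of_nonorth hB hv h hp' hAvB
      rw [hAv, sympForm_add_right, sympForm_self, zero_add, sympForm_smul_right]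
      exact mul_ne_zero hz2 hz2
    · exact block_eq_univ_of_nonorth hB hu hv hp hp' huv

end psp

end Cfsg.Agent.Helper5
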