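import Mathlib
import Cfsg.Prelude.Def_Classical
import Cfsg.Agent.Helper94.SpRootA
import Cfsg.Agent.Helper5.SpPrimitive
import Cfsg.Agent.S0246

/-!
# Automorphisms of `PSp_{2m}(q)`, part A: basic vector-level tools
-/

set_option autoImplicit false
set_option linter.unusedSectionVars false
set_option linter.unusedVariables false
set_option linter.unusedSimpArgs false

namespace Cfsg.Agent.Helper5.AutSp

open Matrix Cfsg.Agent.Helper13 Cfsg.Agent.Helper94.SpRoot

variable {F : Type*} [Field F] {m : ℕ}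

local notation "Vec" => (Fin m ⊕ Fin m → F)
local notation "Mat" => Matrix (Fin m ⊕ Fin m) (Fin m ⊕ Fin m) F
local notation "Sp" => Matrix.symplecticGroup (Fin m) F
local notation "B" => Cfsg.sympForm m F

theorem smul_def (g : Sp) (x : Vec) : g • x = (g : Mat) *ᵥ x := rfl

theorem B_smul (g : Sp) (x y : Vec) : B (g • x) (g • y) = B x y := sp_preserves g x y

theorem B_smul_left (g : Sp) (x y : Vec) : B (g • x) y = B x (g⁻¹ • y) := by
  rw [← B_smul g x (g⁻¹ • y), smul_inv_smul]

theorem tE_smul_vec (a : Vec) (c : F) (x : Vec) : tE a c • x = x + (c * B x a) • a :=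
  tE_mulVec a c x

theorem ext_smul {g h : Sp} (hh : ∀ x : Vec, g • x = h • x) : g = h := sp_ext hh

theorem conj_tE (g : Sp) (a : Vec) (c : F) : g * tE a c * g⁻¹ = tE (g • a) c := tE_conj g a c

theorem B_swap (x y : Vec) : B x y = - B y x := sympForm_swap x y

theorem B_eq_zero_symm {x y : Vec} (h : B x y = 0) : B y x = 0 := by
  rw [B_swap, h, neg_zero]

theorem negOne_smul (x : Vec) : Cfsg.Agent.S0246.negOne m F • x = -x := by
  rw [smul_def]
  show (-1 : Mat) *ᵥ x = -x
  rw [Matrix.neg_mulVec, Matrix.one_mulVec]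

/-- two elements of `Sp` with the same image in `PSp` and a common non-zero fixed vector are equal -/
theorem eq_of_mk_eq_of_fix (hm : 1 ≤ m) {g h : Sp}
    (hgh : (QuotientGroup.mk g : Cfsg.PSp m F) = QuotientGroup.mk h) {v : Vec} (hv : v ≠ 0)
    (hg : g • v = v) (hh : h • v = v) : g = h := by
  rw [QuotientGroup.eq] at hgh
  rcases (Cfsg.Agent.S0246.mem_center_iff hm _).1 hgh with h1 | h1
  · rw [inv_mul_eq_one] at h1
    exact h1
  · have h2 : (g⁻¹ * h) • v = v := by
      rw [mul_smul, hh, ← hg, inv_smul_smul, hg]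
    rw [h1, negOne_smul] at h2
    -- `-v = v` with `v ≠ 0` forces `-1 = 1` in `F`
    have h3 : (2 : F) = 0 := by
      by_contra h20
      apply hv
      have h4 : (2 : F) • v = 0 := by
        rw [two_smul]
        nth_rewrite 1 [← h2]
        exact neg_add_cancel v
      exact (smul_eq_zero.1 h4).resolve_left h20
    have h5 : Cfsg.Agent.S0246.negOne m F = 1 := by
      apply ext_smul
      intro x
      rw [negOne_smul, one_smul]
      have : (2 : F) • x = 0 := by rw [h3, zero_smul]
      rw [two_smul] at this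
      exact neg_eq_of_add_eq_zero_left this
    rw [h5, inv_mul_eq_one] at h1
    exact h1

/-- the relation in `Sp` behind an equality in `PSp` -/
theorem mk_eq_iff (hm : 1 ≤ m) {g h : Sp} :
    (QuotientGroup.mk g : Cfsg.PSp m F) = QuotientGroup.mk h ↔
      h = g ∨ h = g * Cfsg.Agent.S0246.negOne m F := by
  rw [QuotientGroup.eq, Cfsg.Agent.S0246.mem_center_iff hm]
  constructor
  · rintro (h1 | h1)
    · left
      rw [inv_mul_eq_one] at h1
      exact h1.symm
    · right
      rw [← h1]
      group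
  · rintro (h1 | h1)
    · left
      rw [h1]
      group
    · right
      rw [h1]
      group

/-- transvections with the same action: the centres are proportional -/
theorem smul_of_tE_eq {a b : Vec} {c d : F} (ha : a ≠ 0) (hc : c ≠ 0) (h : tE a c = tE b d) :
    ∃ l : F, l ≠ 0 ∧ a = l • b ∧ d = c * l ^ 2 := by
  obtain ⟨x, hx⟩ := sympForm_nondeg_left ha
  have h1 := tE_smul_vec a c x
  rw [h, tE_smul_vec] at h1
  have h2 : (d * B x b) • b = (c * B x a) • a := add_left_cancel h1
  have hca : c * B x a ≠ 0 := mul_ne_zero hc hx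
  have h3 : a = ((c * B x a)⁻¹ * (d * B x b)) • b := by
    rw [mul_smul, h2, smul_smul, inv_mul_cancel₀ hca, one_smul]
  set l := (c * B x a)⁻¹ * (d * B x b) with hl
  have hl0 : l ≠ 0 := by
    intro h0
    rw [h0, zero_smul] at h3
    exact ha h3
  refine ⟨l, hl0, h3, ?_⟩
  have hb : b ≠ 0 := by
    rintro rfl
    rw [smul_zero] at h3
    exact ha h3
  have h4 : tE b (c * l ^ 2) = tE b d := by
    rw [← tE_smul, ← h3, h]
  have h5 : tE b (d - c * l ^ 2) = 1 := by
    rw [sub_eq_add_neg, ← tE_mul, ← tE_inv, h4, mul_inv_cancel]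
  exact (sub_eq_zero.1 ((tE_eq_one_iff hb _).1 h5))

theorem tE_ne_one {a : Vec} {c : F} (ha : a ≠ 0) (hc : c ≠ 0) : tE a c ≠ 1 :=
  fun h => hc ((tE_eq_one_iff ha c).1 h)

/-- a `p`-power torsion scalar with square one is one -/
theorem smul_eq_of_tE_fix {g : Sp} {a : Vec} {c : F} (ha : a ≠ 0) (hc : c ≠ 0)
    (h : g * tE a c * g⁻¹ = tE a c) : g • a = a ∨ g • a = -a := by
  rw [conj_tE] at h
  have hga : g • a ≠ 0 := (smul_ne_zero_iff_ne g).2 ha
  obtain ⟨l, hl0, hl, hl2⟩ := smul_of_tE_eq hga hc h
  have h1 : l ^ 2 = 1 := by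
    have : c * (l ^ 2 - 1) = 0 := by linear_combination -hl2
    rcases mul_eq_zero.1 this with h0 | h0
    · exact absurd h0 hc
    · linear_combination h0
  have h2 : (l - 1) * (l + 1) = 0 := by linear_combination h1
  rcases mul_eq_zero.1 h2 with h0 | h0
  · left
    rw [hl, show l = 1 by linear_combination h0, one_smul]
  · right
    rw [hl, show l = -1 by linear_combination h0, neg_smul, one_smul]

/-- a vector orthogonal to everything orthogonal to `e` is a multiple of `e` -/
theorem mem_span_of_perp_perp {e d : Vec} (he : e ≠ 0)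
    (h : ∀ x : Vec, B e x = 0 → B d x = 0) : ∃ l : F, d = l • e := by
  by_contra hcon
  push Not at hcon
  obtain ⟨z, hz1, hz2⟩ := exists_orth_sep he hcon
  exact hz2 (h z hz1)

end Cfsg.Agent.Helper5.AutSp
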