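import Mathlib
import Cfsg.Agent.Helper5.AutSpA

/-!
# Automorphisms of `PSp_{2m}(q)`, part B: the unipotent radical `Q_e` of a point stabiliser
-/

set_option autoImplicit false
set_option linter.unusedSectionVars false
set_option linter.unusedVariables false
set_option linter.unusedSimpArgs false

namespace Cfsg.Agent.Helper5.AutSp

open Matrix Cfsg.Agent.Helper13 Cfsg.Agent.Helper94.SpRoot

variable {F : Type*} [Field F] {m : ℕ}

local notation "Vec" => (Fin m ⊕ Fin m → F)
local notation "Mat" => Matrix (Fin m ⊕ Fin m) (Fin m ⊕ Fin m) F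
local notation "Sp" => Matrix.symplecticGroup (Fin m) F
local notation "B" => Cfsg.sympForm m F

/-- the element `x ↦ x + B(x,e) w + B(x,w) e + c B(x,e) e` (for `w ⊥ e`), as a product of
transvections -/
def uE (e w : Vec) (c : F) : Sp := tE (e + w) 1 * tE w (-1) * tE e (c - 1)

theorem uE_smul_vec {e w : Vec} (h : B e w = 0) (c : F) (x : Vec) :
    uE e w c • x = x + B x e • w + B x w • e + (c * B x e) • e := by
  have h' : B w e = 0 := B_eq_zero_symm h
  unfold uE
  rw [mul_smul, mul_smul, tE_smul_vec, tE_smul_vec, tE_smul_vec]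
  simp only [sympForm_add_left, sympForm_add_right, sympForm_smul_left, sympForm_smul_right,
    sympForm_self, h, h', mul_zero, add_zero, zero_add, one_mul, neg_mul, mul_neg]
  module

theorem uE_zero (e : Vec) (c : F) : uE e 0 c = tE e c := by
  unfold uE
  rw [add_zero, tE_zero_vec, mul_one, tE_mul]
  congr 1
  ring

theorem uE_zero_zero (e : Vec) : uE e 0 (0 : F) = 1 := by
  rw [uE_zero, tE_zero]

theorem uE_mul {e w w' : Vec} (h : B e w = 0) (h' : B e w' = 0) (c c' : F) :
    uE e w c * uE e w' c' = uE e (w + w') (c + c' + B w' w) := by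
  have h2 : B e (w + w') = 0 := by rw [sympForm_add_right, h, h', add_zero]
  have hw : B w e = 0 := B_eq_zero_symm h
  have hw' : B w' e = 0 := B_eq_zero_symm h'
  apply ext_smul
  intro x
  rw [mul_smul, uE_smul_vec h', uE_smul_vec h, uE_smul_vec h2]
  simp only [sympForm_add_left, sympForm_add_right, sympForm_smul_left, sympForm_smul_right,
    sympForm_self, h, h', hw, hw', mul_zero, add_zero, zero_add]
  module

theorem uE_inv {e w : Vec} (h : B e w = 0) (c : F) : (uE e w c)⁻¹ = uE e (-w) (-c) := by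
  have h' : B e (-w) = 0 := by rw [sympForm_neg_right, h, neg_zero]
  rw [inv_eq_iff_mul_eq_one, uE_mul h h', add_neg_cancel, add_neg_cancel, sympForm_neg_left,
    sympForm_self, neg_zero, add_zero, uE_zero_zero]

theorem conj_uE (g : Sp) (e w : Vec) (c : F) :
    g * uE e w c * g⁻¹ = uE (g • e) (g • w) c := by
  have h1 : uE (g • e) (g • w) c
      = (g * tE (e + w) 1 * g⁻¹) * (g * tE w (-1) * g⁻¹) * (g * tE e (c - 1) * g⁻¹) := by
    unfold uE
    rw [conj_tE, conj_tE, conj_tE, smul_add]
  rw [h1]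
  unfold uE
  group

theorem uE_add_smul {e w : Vec} (h : B e w = 0) (l c : F) :
    uE e (w + l • e) c = uE e w (c + 2 * l) := by
  have h2 : B e (w + l • e) = 0 := by
    rw [sympForm_add_right, sympForm_smul_right, sympForm_self, h, mul_zero, add_zero]
  apply ext_smul
  intro x
  rw [uE_smul_vec h2, uE_smul_vec h]
  simp only [sympForm_add_right, sympForm_smul_right]
  module

theorem uE_pow {e w : Vec} (h : B e w = 0) (c : F) (n : ℕ) :
    (uE e w c) ^ n = uE e ((n : F) • w) ((n : F) * c) := by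
  induction n with
  | zero => rw [pow_zero, Nat.cast_zero, zero_smul, zero_mul, uE_zero_zero]
  | succ n ih =>
    have h2 : B e ((n : F) • w) = 0 := by rw [sympForm_smul_right, h, mul_zero]
    rw [pow_succ, ih, uE_mul h2 h, sympForm_smul_right, sympForm_self, mul_zero, add_zero]
    congr 1
    · rw [Nat.cast_succ, add_smul, one_smul]
    · rw [Nat.cast_succ]
      ring

/-- equality of two `uE` -/
theorem uE_eq {e w w' : Vec} (he : e ≠ 0) (h : B e w = 0) (h' : B e w' = 0) {c c' : F}
    (heq : uE e w c = uE e w' c') : ∃ l : F, w = w' + l • e ∧ c' = c + 2 * l := by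
  have hd : B e (w - w') = 0 := by rw [sympForm_sub_right, h, h', sub_zero]
  have h1 : ∀ x : Vec, B e x = 0 → B (w - w') x = 0 := by
    intro x hx
    have hx' : B x e = 0 := B_eq_zero_symm hx
    have h2 := uE_smul_vec h c x
    rw [heq, uE_smul_vec h', hx'] at h2
    simp only [zero_smul, mul_zero, add_zero] at h2
    have h3 : (B x w - B x w') • e = 0 := by
      rw [sub_smul]
      have := add_left_cancel h2
      rw [this, sub_self]
    have h4 : B x w - B x w' = 0 := (smul_eq_zero.1 h3).resolve_right he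
    rw [B_swap, sympForm_sub_right, h4, neg_zero]
  obtain ⟨l, hl⟩ := mem_span_of_perp_perp he h1
  refine ⟨l, by rw [← hl]; abel, ?_⟩
  have hw : w = w' + l • e := by rw [← hl]; abel
  rw [hw, uE_add_smul h'] at heq
  have h5 : uE e w' (c + 2 * l) * (uE e w' c')⁻¹ = 1 := by rw [heq, mul_inv_cancel]
  have hn : B e (-w') = 0 := by rw [sympForm_neg_right, h', neg_zero]
  rw [uE_inv h', uE_mul h' hn, add_neg_cancel, sympForm_neg_left, sympForm_self, neg_zero,
    add_zero, uE_zero, tE_eq_one_iff he] at h5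
  linear_combination -h5

theorem uE_eq_one {e w : Vec} (he : e ≠ 0) (h : B e w = 0) {c : F}
    (heq : uE e w c = 1) : ∃ l : F, w = l • e ∧ c = -(2 * l) := by
  rw [← uE_zero_zero e] at heq
  have h0 : B e (0 : Vec) = 0 := sympForm_zero_right e
  obtain ⟨l, hl, hc⟩ := uE_eq he h h0 heq
  rw [zero_add] at hl
  exact ⟨l, hl, by linear_combination -hc⟩

/-- the unipotent radical of the stabiliser of `e` -/
def Qe (e : Vec) : Subgroup Sp where
  carrier := {g | ∃ (w : Vec) (c : F), B e w = 0 ∧ g = uE e w c}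
  mul_mem' := by
    rintro _ _ ⟨w, c, h, rfl⟩ ⟨w', c', h', rfl⟩
    exact ⟨w + w', c + c' + B w' w, by rw [sympForm_add_right, h, h', add_zero], uE_mul h h' c c'⟩
  one_mem' := ⟨0, 0, sympForm_zero_right e, (uE_zero_zero e).symm⟩
  inv_mem' := by
    rintro _ ⟨w, c, h, rfl⟩
    exact ⟨-w, -c, by rw [sympForm_neg_right, h, neg_zero], uE_inv h c⟩

theorem mem_Qe {e : Vec} {g : Sp} : g ∈ Qe e ↔ ∃ (w : Vec) (c : F), B e w = 0 ∧ g = uE e w c :=
  Iff.rfl

theorem tE_mem_Qe (e : Vec) (c : F) : tE e c ∈ Qe e :=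
  ⟨0, c, sympForm_zero_right e, (uE_zero e c).symm⟩

theorem conj_mem_Qe {e : Vec} {g u : Sp} (hg : g • e = e) (hu : u ∈ Qe e) :
    g * u * g⁻¹ ∈ Qe e := by
  obtain ⟨w, c, h, rfl⟩ := hu
  refine ⟨g • w, c, ?_, ?_⟩
  · rw [← hg, B_smul, h]
  · rw [conj_uE, hg]

/-- membership in `Q_e` in terms of the action -/
theorem mem_Qe_of_action {e : Vec} (he : e ≠ 0) {g : Sp} (hge : g • e = e)
    (hg : ∀ w : Vec, B w e = 0 → ∃ c : F, g • w = w + c • e) : g ∈ Qe e := by
  obtain ⟨f0, hf0⟩ := sympForm_nondeg_left he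
  obtain ⟨f, hf⟩ : ∃ f : Vec, f = (B f0 e)⁻¹ • f0 := ⟨_, rfl⟩
  have hfe : B f e = 1 := by rw [hf, sympForm_smul_left, inv_mul_cancel₀ hf0]
  obtain ⟨y, hy⟩ : ∃ y : Vec, y = g • f - f := ⟨_, rfl⟩
  have hye : B y e = 0 := by
    rw [hy, sympForm_sub_left, hfe]
    nth_rewrite 1 [← hge]
    rw [B_smul, hfe, sub_self]
  have hey : B e y = 0 := B_eq_zero_symm hye
  refine ⟨y, -B f y, hey, ?_⟩
  apply ext_smul
  intro x
  obtain ⟨w, hw⟩ : ∃ w : Vec, w = x - B x e • f := ⟨_, rfl⟩
  have hx2 : B w e = 0 := by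
    rw [hw, sympForm_sub_left, sympForm_smul_left, hfe, mul_one, sub_self]
  obtain ⟨φ, hφ⟩ := hg w hx2
  -- determine φ
  have h1 : B (g • f) (g • w) = B f w := B_smul g f w
  have hgf : g • f = f + y := by rw [hy]; abel
  rw [hgf, hφ] at h1
  simp only [sympForm_add_left, sympForm_add_right, sympForm_smul_right, hfe, hye, mul_zero,
    add_zero, mul_one] at h1
  have hφ' : φ = B w y := by
    rw [B_swap w y]
    linear_combination h1
  have hgx : g • x = B x e • (g • f) + g • w := by
    rw [← smul_comm g (B x e) f, ← smul_add]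
    congr 1
    rw [hw]
    abel
  rw [hgx, hgf, hφ, hφ', uE_smul_vec hey, hw]
  simp only [sympForm_sub_left, sympForm_smul_left]
  module

theorem uE_smul_self {e w : Vec} (h : B e w = 0) (c : F) : uE e w c • e = e := by
  rw [uE_smul_vec h, sympForm_self, h]
  simp

theorem uE_smul_perp {e w : Vec} (h : B e w = 0) (c : F) {x : Vec} (hx : B x e = 0) :
    uE e w c • x = x + B x w • e := by
  rw [uE_smul_vec h, hx]
  simp

end Cfsg.Agent.Helper5.AutSp
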