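import Mathlib
import Cfsg.Agent.Helper5.AutSpB
import Cfsg.Agent.Helper14.AutSylow3

/-!
# Automorphisms of `PSp_{2m}(q)`, part C: Sylow-central elements lie in some `Q_e`;
in odd characteristic they are transvections
-/

set_option autoImplicit false
set_option linter.unusedSectionVars false
set_option linter.unusedVariables false
set_option linter.unusedSimpArgs false

namespace Cfsg.Agent.Helper5.AutSp

open Matrix Cfsg.Agent.Helper13 Cfsg.Agent.Helper94.SpRoot Cfsg.Agent.Helper14.AutPSL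

variable {F : Type*} [Field F] {m : ℕ}

local notation "Vec" => (Fin m ⊕ Fin m → F)
local notation "Mat" => Matrix (Fin m ⊕ Fin m) (Fin m ⊕ Fin m) F
local notation "Sp" => Matrix.symplecticGroup (Fin m) F
local notation "B" => Cfsg.sympForm m F

/-- the projection `Sp → PSp` -/
def prj : Sp →* Cfsg.PSp m F := QuotientGroup.mk' _

theorem prj_apply (g : Sp) : prj g = (QuotientGroup.mk g : Cfsg.PSp m F) := rfl

theorem prj_surjective : Function.Surjective (prj : Sp →* Cfsg.PSp m F) :=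
  QuotientGroup.mk'_surjective _

theorem eq_of_prj_eq_of_fix (hm : 1 ≤ m) {g h : Sp} (hgh : prj g = prj h) {v : Vec} (hv : v ≠ 0)
    (hg : g • v = v) (hh : h • v = v) : g = h :=
  eq_of_mk_eq_of_fix hm hgh hv hg hh

/-- the image of a transvection in `PSp` -/
def IsTv (x : Cfsg.PSp m F) : Prop :=
  ∃ (a : Vec) (c : F), a ≠ 0 ∧ c ≠ 0 ∧ x = prj (tE a c)

section char
variable [Fintype F] {p : ℕ} [hp : Fact p.Prime] [CharP F p]

theorem exists_fixed_vec (hm : 1 ≤ m) (U : Subgroup Sp) (hU : IsPGroup p U) :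
    ∃ e : Vec, e ≠ 0 ∧ ∀ g ∈ U, g • e = e := by
  have hcard : p ∣ Nat.card Vec := by
    obtain ⟨n, -, hn⟩ := FiniteField.card F p
    rw [Nat.card_eq_fintype_card, Fintype.card_fun, Fintype.card_sum, Fintype.card_fin, hn]
    have hpos : 0 < (n : ℕ) * (m + m) := Nat.mul_pos n.pos (by omega)
    rw [← pow_mul]
    exact dvd_pow_self p hpos.ne'
  have h0 : (0 : Vec) ∈ MulAction.fixedPoints U Vec := by
    intro g
    exact smul_zero g
  obtain ⟨e, he, hne⟩ := hU.exists_fixed_point_of_prime_dvd_card_of_fixed_point Vec hcard h0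
  refine ⟨e, fun h => hne h.symm, ?_⟩
  intro g hg
  exact he ⟨g, hg⟩

theorem isPGroup_Qe (e : Vec) : IsPGroup p (Qe e) := by
  rintro ⟨g, w, c, h, rfl⟩
  refine ⟨1, ?_⟩
  apply Subtype.ext
  rw [pow_one]
  show (uE e w c) ^ p = 1
  rw [uE_pow h, CharP.cast_eq_zero F p, zero_smul, zero_mul, uE_zero_zero]

theorem Qe_le_sylow (U : Sylow p Sp) {e : Vec} (he : ∀ g ∈ (U : Subgroup Sp), g • e = e) :
    Qe e ≤ (U : Subgroup Sp) := by
  have hn : (U : Subgroup Sp) ≤ Subgroup.normalizer ((Qe e : Subgroup Sp) : Set Sp) := by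
    intro g hg
    rw [Subgroup.mem_normalizer_iff]
    intro u
    constructor
    · intro hu
      exact conj_mem_Qe (he g hg) hu
    · intro hu
      have hg' : g⁻¹ • e = e := by
        rw [inv_smul_eq_iff, he g hg]
      have := conj_mem_Qe hg' hu
      have h2 : g⁻¹ * (g * u * g⁻¹) * g⁻¹⁻¹ = u := by group
      rwa [h2] at this
  have h1 : IsPGroup p ((U : Subgroup Sp) ⊔ Qe e : Subgroup Sp) :=
    IsPGroup.to_sup_of_normal_right' U.isPGroup' (isPGroup_Qe e) hn
  have h2 := U.is_maximal' h1 le_sup_left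
  rw [← h2]
  exact le_sup_right

/-- `-1` in a `p`-subgroup is trivial -/
theorem negOne_eq_one_of_mem (U : Subgroup Sp) (hU : IsPGroup p U)
    (h : Cfsg.Agent.S0246.negOne m F ∈ U) : Cfsg.Agent.S0246.negOne m F = 1 := by
  by_cases hp2 : p = 2
  · subst hp2
    apply ext_smul
    intro x
    rw [negOne_smul, one_smul]
    funext i
    exact CharTwo.neg_eq (x i)
  · obtain ⟨k, hk⟩ := hU ⟨_, h⟩
    have hk' : (Cfsg.Agent.S0246.negOne m F) ^ (p ^ k) = 1 := by
      have := congrArg Subtype.val hk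
      simpa using this
    have h2 : (Cfsg.Agent.S0246.negOne m F) ^ 2 = 1 := by
      apply ext_smul
      intro x
      rw [pow_two, mul_smul, negOne_smul, negOne_smul, neg_neg, one_smul]
    have h3 := pow_gcd_eq_one.2 ⟨hk', h2⟩
    have hcop : Nat.gcd (p ^ k) 2 = 1 := by
      apply Nat.Coprime.pow_left
      rw [Nat.coprime_primes hp.out Nat.prime_two]
      exact hp2
    rwa [hcop, pow_one] at h3

/-- lifting a Sylow-central element of `PSp` to `Sp` -/
theorem exists_lift_sylCentral (hm : 1 ≤ m) {x : Cfsg.PSp m F} (hx : IsSylCentral p x) :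
    ∃ (U : Sylow p Sp) (z : Sp), z ∈ (U : Subgroup Sp) ∧ prj z = x ∧
      ∀ u ∈ (U : Subgroup Sp), u * z = z * u := by
  obtain ⟨Q, hxQ, hc⟩ := hx
  obtain ⟨U, rfl⟩ := Sylow.mapSurjective_surjective (prj_surjective (F := F) (m := m)) p Q
  rw [Sylow.coe_mapSurjective, Subgroup.mem_map] at hxQ
  obtain ⟨z, hzU, hz⟩ := hxQ
  refine ⟨U, z, hzU, hz, ?_⟩
  intro u hu
  have h1 : prj u * x = x * prj u := hc (prj u) (by
    rw [Sylow.coe_mapSurjective]
    exact Subgroup.mem_map_of_mem _ hu)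
  rw [← hz, ← map_mul, ← map_mul] at h1
  rcases (mk_eq_iff hm).1 h1 with h2 | h2
  · exact h2.symm
  · have h3 : Cfsg.Agent.S0246.negOne m F ∈ (U : Subgroup Sp) := by
      have h4 : Cfsg.Agent.S0246.negOne m F = (u * z)⁻¹ * (z * u) := by
        rw [h2]; group
      rw [h4]
      exact mul_mem (inv_mem (mul_mem hu hzU)) (mul_mem hzU hu)
    rw [negOne_eq_one_of_mem _ U.isPGroup' h3, mul_one] at h2
    exact h2.symm

/-- a central element of a Sylow `p`-subgroup `U` lies in `Q_e` for every vector `e` fixed by `U` -/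
theorem mem_Qe_of_central (U : Sylow p Sp) {e : Vec} (he0 : e ≠ 0)
    (he : ∀ g ∈ (U : Subgroup Sp), g • e = e) {z : Sp} (hz : z ∈ (U : Subgroup Sp))
    (hc : ∀ u ∈ (U : Subgroup Sp), u * z = z * u) :
    z ∈ Qe e ∧ ∀ w : Vec, B e w = 0 → ∃ l : F, z • w = w + l • e ∧ 2 * l = 0 := by
  have hze : z • e = e := he z hz
  have key : ∀ w : Vec, B e w = 0 → ∃ l : F, z • w = w + l • e ∧ 2 * l = 0 := by
    intro w hw
    have h1 : uE e w 0 ∈ (U : Subgroup Sp) := Qe_le_sylow U he ⟨w, 0, hw, rfl⟩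
    have h2 := hc _ h1
    have h3 : z * uE e w 0 * z⁻¹ = uE e w 0 := by
      rw [← h2]; group
    rw [conj_uE, hze] at h3
    have hw' : B e (z • w) = 0 := by
      rw [← hze, B_smul, hw]
    obtain ⟨l, hl, hl2⟩ := uE_eq he0 hw' hw h3
    exact ⟨l, hl, by linear_combination -hl2⟩
  refine ⟨mem_Qe_of_action he0 hze ?_, key⟩
  intro w hw
  obtain ⟨l, hl, -⟩ := key w (B_eq_zero_symm hw)
  exact ⟨l, hl⟩

/-- an element fixing `e^⊥` pointwise is a transvection -/
theorem eq_tE_of_fix_perp {e : Vec} (he : e ≠ 0) {g : Sp}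
    (h : ∀ w : Vec, B w e = 0 → g • w = w) : ∃ c : F, g = tE e c := by
  have hge : g • e = e := h e (sympForm_self e)
  have hQ : g ∈ Qe e := mem_Qe_of_action he hge (fun w hw => ⟨0, by rw [h w hw, zero_smul, add_zero]⟩)
  obtain ⟨w, c, hw, rfl⟩ := hQ
  have h1 : ∀ x : Vec, B e x = 0 → B w x = 0 := by
    intro x hx
    have hx' : B x e = 0 := B_eq_zero_symm hx
    have h2 := h x hx'
    rw [uE_smul_perp hw c hx'] at h2
    have h3 : B x w • e = 0 := by
      have := h2
      rwa [add_eq_left] at this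
    have h4 : B x w = 0 := (smul_eq_zero.1 h3).resolve_right he
    exact B_eq_zero_symm h4
  obtain ⟨l, hl⟩ := mem_span_of_perp_perp he h1
  refine ⟨c + 2 * l, ?_⟩
  have h0 : B e (0 : Vec) = 0 := sympForm_zero_right e
  rw [hl, ← zero_add (l • e), uE_add_smul h0, uE_zero]

/-- transvections are Sylow-central -/
theorem isSylCentral_tE (hm : 1 ≤ m) {a : Vec} (ha : a ≠ 0) (c : F) :
    IsSylCentral p (prj (tE a c)) := by
  obtain ⟨U⟩ : Nonempty (Sylow p Sp) := Sylow.nonempty
  obtain ⟨e, he0, he⟩ := exists_fixed_vec hm (U : Subgroup Sp) U.isPGroup'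
  have h1 : IsSylCentral p (prj (tE e c)) := by
    refine ⟨U.mapSurjective prj_surjective, ?_, ?_⟩
    · rw [Sylow.coe_mapSurjective]
      exact Subgroup.mem_map_of_mem _ (Qe_le_sylow U he (tE_mem_Qe e c))
    · intro x hx
      rw [Sylow.coe_mapSurjective, Subgroup.mem_map] at hx
      obtain ⟨u, hu, rfl⟩ := hx
      rw [← map_mul, ← map_mul]
      congr 1
      have h2 := conj_tE u e c
      rw [he u hu, mul_inv_eq_iff_eq_mul] at h2
      exact h2
  obtain ⟨A, -, hA⟩ := exists_transvection_map_of_ne_zero he0 ha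
  have h3 : prj (tE a c) = MulAut.conj (prj A) (prj (tE e c)) := by
    rw [MulAut.conj_apply, ← map_mul, ← map_inv, ← map_mul, conj_tE]
    congr 2
    exact hA.symm
  rw [h3]
  exact h1.map _

/-- in odd characteristic, non-trivial Sylow-central elements are transvections -/
theorem isTv_of_isSylCentral (hm : 1 ≤ m) (hp2 : p ≠ 2) {x : Cfsg.PSp m F}
    (hx : IsSylCentral p x) (hx1 : x ≠ 1) : IsTv x := by
  obtain ⟨U, z, hzU, hz, hc⟩ := exists_lift_sylCentral hm hx
  obtain ⟨e, he0, he⟩ := exists_fixed_vec hm (U : Subgroup Sp) U.isPGroup'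
  obtain ⟨-, key⟩ := mem_Qe_of_central U he0 he hzU hc
  have h2 : (2 : F) ≠ 0 := by
    intro h
    have h3 : ((2 : ℕ) : F) = 0 := by exact_mod_cast h
    rw [CharP.cast_eq_zero_iff F p] at h3
    exact hp2 ((Nat.prime_dvd_prime_iff_eq hp.out Nat.prime_two).1 h3)
  have hfix : ∀ w : Vec, B w e = 0 → z • w = w := by
    intro w hw
    obtain ⟨l, hl, hl2⟩ := key w (B_eq_zero_symm hw)
    have : l = 0 := by
      rcases mul_eq_zero.1 hl2 with h | h
      · exact absurd h h2
      · exact h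
    rw [hl, this, zero_smul, add_zero]
  obtain ⟨c, rfl⟩ := eq_tE_of_fix_perp he0 hfix
  refine ⟨e, c, he0, ?_, hz.symm⟩
  rintro rfl
  apply hx1
  rw [← hz, tE_zero, map_one]

/-- in any characteristic, Sylow-central elements are images of elements of some `Q_e` -/
theorem exists_uE_of_isSylCentral (hm : 1 ≤ m) {x : Cfsg.PSp m F} (hx : IsSylCentral p x) :
    ∃ (e w : Vec) (c : F), e ≠ 0 ∧ B e w = 0 ∧ x = prj (uE e w c) := by
  obtain ⟨U, z, hzU, hz, hc⟩ := exists_lift_sylCentral hm hx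
  obtain ⟨e, he0, he⟩ := exists_fixed_vec hm (U : Subgroup Sp) U.isPGroup'
  obtain ⟨⟨w, c, hw, rfl⟩, -⟩ := mem_Qe_of_central U he0 he hzU hc
  exact ⟨e, w, c, he0, hw, hz.symm⟩

end char

end Cfsg.Agent.Helper5.AutSp
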