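import Mathlib
import Cfsg.Agent.Helper5.AutSpC

/-!
# Automorphisms of `PSp_{2m}(q)`, part D: in characteristic two, transvections are distinguished
among the elements of `Q_e` by the absence of conjugates with product of order four
-/

set_option autoImplicit false
set_option linter.unusedSectionVars false
set_option linter.unusedVariables false
set_option linter.unusedSimpArgs false

namespace Cfsg.Agent.Helper5.AutSp

open Matrix Cfsg.Agent.Helper13 Cfsg.Agent.Helper94.SpRoot Cfsg.Agent.Helper14.AutPSL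

variable {F : Type*} [Field F] {m : ℕ}

local notation "Vec" => (Fin m ⊕ Fin m → F)
local notation "Mat" => Matrix (Fin m ⊕ Fin m) (Fin m ⊕ Fin m) F
local notation "Sp" => Matrix.symplecticGroup (Fin m) F
local notation "B" => Cfsg.sympForm m F

/-- a non-zero vector orthogonal to fewer than `2m` given vectors -/
theorem exists_ne_zero_orth {k : ℕ} (s : Fin k → Vec) (hk : k < 2 * m) :
    ∃ v : Vec, v ≠ 0 ∧ ∀ i, B v (s i) = 0 := by
  let Φ : Vec →ₗ[F] (Fin k → F) :=
    { toFun := fun v i => B v (s i)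
      map_add' := fun v v' => by
        funext i
        exact sympForm_add_left v v' (s i)
      map_smul' := fun c v => by
        funext i
        simp [sympForm_smul_left] }
  have h1 : LinearMap.ker Φ ≠ ⊥ := by
    apply LinearMap.ker_ne_bot_of_finrank_lt
    rw [Module.finrank_fintype_fun_eq_card, Module.finrank_fintype_fun_eq_card, Fintype.card_fin,
      Fintype.card_sum, Fintype.card_fin]
    omega
  obtain ⟨v, hv, hv0⟩ := Submodule.exists_mem_ne_zero_of_ne_bot h1
  refine ⟨v, hv0, fun i => ?_⟩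
  have := LinearMap.mem_ker.1 hv
  exact congrFun this i

/-- moving `u` to `v` while fixing `a`, inside `a^⊥` -/
theorem exists_fix_map {a u v : Vec} (ha : a ≠ 0) (hu : B a u = 0) (hv : B a v = 0)
    (hu' : ∀ l : F, u ≠ l • a) (hv' : ∀ l : F, v ≠ l • a) :
    ∃ g : Sp, g • a = a ∧ g • u = v := by
  have step : ∀ {u v : Vec}, B a u = 0 → B a v = 0 → B u v ≠ 0 →
      ∃ g : Sp, g • a = a ∧ g • u = v := by
    intro u v hu hv huv
    obtain ⟨A, -, hA, hfix⟩ := exists_transvection_map huv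
    refine ⟨A, ?_, hA⟩
    apply hfix
    rw [sympForm_sub_right, hu, hv, sub_zero]
  by_cases huv : B u v = 0
  · obtain ⟨z₁, hz₁a, hz₁u⟩ := exists_orth_sep ha hu'
    obtain ⟨z₂, hz₂a, hz₂v⟩ := exists_orth_sep ha hv'
    have hx : ∃ x : Vec, B a x = 0 ∧ B u x ≠ 0 ∧ B v x ≠ 0 := by
      by_cases h1 : B v z₁ = 0
      · by_cases h2 : B u z₂ = 0
        · refine ⟨z₁ + z₂, ?_, ?_, ?_⟩
          · rw [sympForm_add_right, hz₁a, hz₂a, add_zero]
          · rw [sympForm_add_right, h2, add_zero]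
            exact hz₁u
          · rw [sympForm_add_right, h1, zero_add]
            exact hz₂v
        · exact ⟨z₂, hz₂a, h2, hz₂v⟩
      · exact ⟨z₁, hz₁a, hz₁u, h1⟩
    obtain ⟨x, hxa, hxu, hxv⟩ := hx
    have hxv' : B x v ≠ 0 := by
      rw [B_swap]
      exact neg_ne_zero.2 hxv
    obtain ⟨g₁, hg₁a, hg₁⟩ := step hu hxa hxu
    obtain ⟨g₂, hg₂a, hg₂⟩ := step hxa hv hxv'
    exact ⟨g₂ * g₁, by rw [mul_smul, hg₁a, hg₂a], by rw [mul_smul, hg₁, hg₂]⟩
  · exact step hu hv huv

/-- transitivity of `Sp` on pairs of independent orthogonal vectors -/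
theorem exists_map_orth_pair {a b a' b' : Vec} (ha : a ≠ 0) (hb : ∀ l : F, b ≠ l • a)
    (hab : B a b = 0) (ha' : a' ≠ 0) (hb' : ∀ l : F, b' ≠ l • a') (hab' : B a' b' = 0) :
    ∃ g : Sp, g • a = a' ∧ g • b = b' := by
  obtain ⟨A, -, hA⟩ := exists_transvection_map_of_ne_zero ha ha'
  have hA' : A • a = a' := hA
  have h1 : B a' (A • b) = 0 := by rw [← hA', B_smul, hab]
  have h2 : ∀ l : F, A • b ≠ l • a' := by
    intro l h
    apply hb l
    rw [← hA', ← smul_comm] at h
    exact smul_left_cancel A h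
  obtain ⟨g, hga, hgb⟩ := exists_fix_map ha' h1 hab' h2 hb'
  exact ⟨g * A, by rw [mul_smul, hA', hga], by rw [mul_smul, hgb]⟩

/-- the invariant separating transvections from the other elements of `Q_e` -/
def NoOrd4 (x : Cfsg.PSp m F) : Prop :=
  ∀ g : Cfsg.PSp m F, (x * (g * x * g⁻¹)) ^ 4 = 1 → (x * (g * x * g⁻¹)) ^ 2 = 1

theorem NoOrd4.map {x : Cfsg.PSp m F} (h : NoOrd4 x) (β : Cfsg.PSp m F ≃* Cfsg.PSp m F) :
    NoOrd4 (β x) := by
  intro g hg
  have h1 := h (β.symm g) (by
    apply β.injective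
    rw [map_pow, map_mul, map_mul, map_mul, map_inv, β.apply_symm_apply, map_one]
    exact hg)
  have h2 := congrArg β h1
  rw [map_pow, map_mul, map_mul, map_mul, map_inv, β.apply_symm_apply, map_one] at h2
  exact h2

section char2
variable [CharP F 2]

theorem vec_add_self (x : Vec) : x + x = 0 := by
  funext i
  exact CharTwo.add_self_eq_zero (x i)

theorem negOne_eq_one : Cfsg.Agent.S0246.negOne m F = 1 := by
  apply ext_smul
  intro x
  rw [negOne_smul, one_smul]
  funext i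
  exact CharTwo.neg_eq (x i)

theorem prj_injective_char2 (hm : 1 ≤ m) : Function.Injective (prj : Sp →* Cfsg.PSp m F) := by
  intro g h hgh
  rcases (mk_eq_iff hm).1 hgh with h1 | h1
  · exact h1.symm
  · rw [negOne_eq_one, mul_one] at h1
    exact h1.symm

theorem tE_sq (a : Vec) (c : F) : tE a c * tE a c = 1 := by
  rw [tE_mul, CharTwo.add_self_eq_zero, tE_zero]

theorem uE_sq {e w : Vec} (h : B e w = 0) (c : F) : uE e w c * uE e w c = 1 := by
  rw [uE_mul h h, vec_add_self, CharTwo.add_self_eq_zero, sympForm_self, add_zero, uE_zero_zero]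

/-- transvections have no conjugate with product of order four -/
theorem noOrd4_tE (hm : 1 ≤ m) (a : Vec) (c : F) : NoOrd4 (prj (tE a c)) := by
  intro g hg
  obtain ⟨h, rfl⟩ := prj_surjective g
  obtain ⟨b, hb⟩ : ∃ b : Vec, b = h • a := ⟨_, rfl⟩
  have h1 : prj (tE a c) * (prj h * prj (tE a c) * (prj h)⁻¹) = prj (tE a c * tE b c) := by
    rw [← map_inv, ← map_mul, ← map_mul, ← map_mul, conj_tE, hb]
  rw [h1, ← map_pow] at hg ⊢
  have hg' : (tE a c * tE b c) ^ 4 = 1 := prj_injective_char2 hm (by rw [hg, map_one])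
  suffices hh : (tE a c * tE b c) ^ 2 = 1 by rw [hh, map_one]
  by_cases hc : c = 0
  · rw [hc, tE_zero, tE_zero, one_mul, one_pow]
  by_cases hab : B a b = 0
  · rw [pow_two]
    calc tE a c * tE b c * (tE a c * tE b c)
        = tE a c * (tE b c * tE a c) * tE b c := by group
      _ = tE a c * (tE a c * tE b c) * tE b c := by
          rw [tE_commute_of_orth (B_eq_zero_symm hab)]
      _ = (tE a c * tE a c) * (tE b c * tE b c) := by group
      _ = 1 := by rw [tE_sq, tE_sq, one_mul]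
  · exfalso
    obtain ⟨t, ht⟩ : ∃ t : Sp, t = tE a c := ⟨_, rfl⟩
    obtain ⟨t', ht'⟩ : ∃ t' : Sp, t' = tE b c := ⟨_, rfl⟩
    have htt : t * t = 1 := by rw [ht, tE_sq]
    have htt' : t' * t' = 1 := by rw [ht', tE_sq]
    rw [← ht, ← ht'] at hg'
    have hb0 : b ≠ 0 := by
      rintro rfl
      exact hab (sympForm_zero_right a)
    -- `ζ = (t t')²` commutes with `t'`
    have h2 : t * t' * t * (t' * t * t' * t * t') = 1 := by
      have : (t * t') ^ 4 = t * t' * t * (t' * t * t' * t * t') := by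
        rw [pow_succ, pow_succ, pow_succ, pow_one]
        group
      rw [← this, hg']
    have h3 : t' * t * t' * t * t' = t * t' * t := by
      have h4 : t' * t * t' * t * t' = (t * t' * t)⁻¹ := eq_inv_of_mul_eq_one_right h2
      have h5 : (t * t' * t)⁻¹ = t * t' * t := by
        rw [inv_eq_iff_mul_eq_one]
        calc t * t' * t * (t * t' * t) = t * t' * (t * t) * t' * t := by group
          _ = t * (t' * t') * t := by rw [htt]; group
          _ = 1 := by rw [htt', mul_one, htt]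
      rw [h4, h5]
    have h6 : (t * t' * t * t') * t' * (t * t' * t * t')⁻¹ = t' := by
      rw [mul_inv_eq_iff_eq_mul]
      calc t * t' * t * t' * t' = t * t' * t * (t' * t') := by group
        _ = t * t' * t := by rw [htt', mul_one]
        _ = t' * t * t' * t * t' := h3.symm
        _ = t' * (t * t' * t * t') := by group
    rw [ht'] at h6
    rcases smul_eq_of_tE_fix hb0 hc h6 with h7 | h7
    all_goals
      have h8 : B ((t * tE b c * t * tE b c) • b) a = B b a := by
        rw [h7]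
        try rw [sympForm_neg_left, CharTwo.neg_eq]
      rw [ht, mul_smul, mul_smul, mul_smul, tE_smul_vec, tE_smul_vec, tE_smul_vec, tE_smul_vec] at h8
      simp only [sympForm_add_left, sympForm_smul_left, sympForm_self, mul_zero, zero_smul,
        add_zero, zero_add] at h8
      have hba : B b a ≠ 0 := fun h0 => hab (B_eq_zero_symm h0)
      have h9 : c * c * B b a * B b a * B a b = 0 := by linear_combination h8
      simp only [mul_eq_zero] at h9
      tauto

/-- elements of `Q_e` that are not transvections have a conjugate with product of order four -/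
theorem not_noOrd4_uE (hm : 3 ≤ m) {e w : Vec} (he : e ≠ 0) (hw : ∀ l : F, w ≠ l • e)
    (hew : B e w = 0) (c : F) : ¬ NoOrd4 (prj (uE e w c)) := by
  have hw0 : w ≠ 0 := by
    intro h
    apply hw 0
    rw [h, zero_smul]
  have he' : ∀ l : F, e ≠ l • w := by
    intro l h
    have hl : l ≠ 0 := by
      rintro rfl
      rw [zero_smul] at h
      exact he h
    apply hw l⁻¹
    rw [h, smul_smul, inv_mul_cancel₀ hl, one_smul]
  -- `f₁` with `B f₁ e = 1`, `B f₁ w = 0`
  obtain ⟨z₁, hz₁w, hz₁e⟩ := exists_orth_sep hw0 he'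
  obtain ⟨f₁, hf₁⟩ : ∃ f₁ : Vec, f₁ = (B z₁ e)⁻¹ • z₁ := ⟨_, rfl⟩
  have hz₁e' : B z₁ e ≠ 0 := by
    rw [B_swap]
    exact neg_ne_zero.2 hz₁e
  have hf₁e : B f₁ e = 1 := by rw [hf₁, sympForm_smul_left, inv_mul_cancel₀ hz₁e']
  have hf₁w : B f₁ w = 0 := by
    rw [hf₁, sympForm_smul_left, B_eq_zero_symm hz₁w, mul_zero]
  -- `f₂` with `B f₂ w = 1`, `B f₂ e = 0`
  obtain ⟨z₂, hz₂e, hz₂w⟩ := exists_orth_sep he hw
  obtain ⟨f₂, hf₂⟩ : ∃ f₂ : Vec, f₂ = (B z₂ w)⁻¹ • z₂ := ⟨_, rfl⟩
  have hz₂w' : B z₂ w ≠ 0 := by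
    rw [B_swap]
    exact neg_ne_zero.2 hz₂w
  have hf₂w : B f₂ w = 1 := by rw [hf₂, sympForm_smul_left, inv_mul_cancel₀ hz₂w']
  have hf₂e : B f₂ e = 0 := by
    rw [hf₂, sympForm_smul_left, B_eq_zero_symm hz₂e, mul_zero]
  -- `e₃` orthogonal to `e, w, f₁, f₂`
  obtain ⟨e₃, he₃0, he₃⟩ := exists_ne_zero_orth (![e, w, f₁, f₂] : Fin 4 → Vec) (by omega)
  have he₃e : B e₃ e = 0 := he₃ 0
  have he₃w : B e₃ w = 0 := he₃ 1
  have he₃f₁ : B e₃ f₁ = 0 := he₃ 2
  have he₃f₂ : B e₃ f₂ = 0 := he₃ 3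
  have hf₁0 : ∀ l : F, f₁ ≠ l • e₃ := by
    intro l h
    have : B f₁ e = 0 := by rw [h, sympForm_smul_left, he₃e, mul_zero]
    rw [hf₁e] at this
    exact one_ne_zero this
  obtain ⟨g, hge, hgw⟩ := exists_map_orth_pair he hw hew he₃0 hf₁0 he₃f₁
  intro hno
  have h1 := hno (prj g)
  have h2 : prj (uE e w c) * (prj g * prj (uE e w c) * (prj g)⁻¹)
      = prj (uE e w c * uE e₃ f₁ c) := by
    rw [← map_inv, ← map_mul, ← map_mul, ← map_mul, conj_uE, hge, hgw]
  rw [h2, ← map_pow, ← map_pow] at h1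
  -- compute `ζ = (z z')²`
  obtain ⟨z, hz⟩ : ∃ z : Sp, z = uE e w c := ⟨_, rfl⟩
  have hzz : z * z = 1 := by rw [hz, uE_sq hew]
  have hzinv : z⁻¹ = z := inv_eq_of_mul_eq_one_left hzz
  have hze₃ : z • e₃ = e₃ := by
    rw [hz, uE_smul_vec hew, he₃e, he₃w]
    simp
  have hzf₁ : z • f₁ = f₁ + w + c • e := by
    rw [hz, uE_smul_vec hew, hf₁e, hf₁w]
    simp
  have hζ : (z * uE e₃ f₁ c) ^ 2 = uE e₃ (w + c • e) c := by
    have h3 : (z * uE e₃ f₁ c) ^ 2 = (z * uE e₃ f₁ c * z⁻¹) * uE e₃ f₁ c := by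
      rw [hzinv, pow_two]
      group
    have h4 : B e₃ (f₁ + w + c • e) = 0 := by
      rw [sympForm_add_right, sympForm_add_right, sympForm_smul_right, he₃f₁, he₃w, he₃e]
      simp
    rw [h3, conj_uE, hze₃, hzf₁, uE_mul h4 he₃f₁]
    congr 1
    · rw [add_assoc, add_comm, add_assoc, add_comm (c • e), ← add_assoc, vec_add_self, zero_add]
    · rw [CharTwo.add_self_eq_zero, zero_add, sympForm_add_right, sympForm_add_right,
        sympForm_smul_right, sympForm_self, hf₁w, hf₁e]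
      simp
  rw [← hz] at h1
  have h5 : B e₃ (w + c • e) = 0 := by
    rw [sympForm_add_right, sympForm_smul_right, he₃w, he₃e]
    simp
  have h6 : (z * uE e₃ f₁ c) ^ 4 = 1 := by
    rw [show 4 = 2 * 2 from rfl, pow_mul, hζ, pow_two, uE_sq h5]
  have h7 := h1 (by rw [h6, map_one])
  rw [hζ] at h7
  have h8 : uE e₃ (w + c • e) c = 1 := prj_injective_char2 (by omega) (by rw [h7, map_one])
  obtain ⟨l, hl, -⟩ := uE_eq_one he₃0 h5 h8
  have h9 : B f₂ (w + c • e) = 1 := by
    rw [sympForm_add_right, sympForm_smul_right, hf₂w, hf₂e]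
    simp
  rw [hl, sympForm_smul_right, B_swap, he₃f₂] at h9
  simp at h9

end char2

end Cfsg.Agent.Helper5.AutSp
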