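import Mathlib
import Cfsg.Prelude.Def_Classical

set_option autoImplicit false

namespace Cfsg.Agent.Helper5

open Finset

section
variable {F : Type*} [Field F] [Fintype F] [DecidableEq F] {q : ℕ}

/-- The fixed field of `x ↦ x^q`, as a finset. -/
def hermK (F : Type*) [Field F] [Fintype F] [DecidableEq F] (q : ℕ) : Finset F :=
  univ.filter (fun c => c ^ q = c)

omit [Fintype F] [DecidableEq F] in
theorem hermForm_self {n : ℕ} (v : Fin n → F) :
    Cfsg.hermForm n F q v v = ∑ i, v i ^ (q + 1) := by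
  unfold Cfsg.hermForm
  exact Finset.sum_congr rfl (fun i _ => (pow_succ' _ _).symm)

omit [DecidableEq F] in
theorem herm_q_pos (hF : Fintype.card F = q ^ 2) : 1 < q := by
  have h1 : 1 < Fintype.card F := Fintype.one_lt_card
  rw [hF] at h1
  by_contra h
  have : q ≤ 1 := by omega
  interval_cases q <;> simp at h1

omit [DecidableEq F] in
theorem herm_pow_sq (hF : Fintype.card F = q ^ 2) (x : F) : x ^ (q ^ 2) = x := by
  rw [← hF]; exact FiniteField.pow_card x

omit [DecidableEq F] in
theorem herm_sub_pow (hF : Fintype.card F = q ^ 2) (a b : F) : (a - b) ^ q = a ^ q - b ^ q := by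
  obtain ⟨p, hp⟩ := CharP.exists F
  have hpprime : Fact p.Prime := ⟨CharP.char_is_prime F p⟩
  obtain ⟨⟨m, hmpos⟩, -, hm⟩ := FiniteField.card F p
  simp only [PNat.mk_coe] at hm
  have hdvd : q ∣ p ^ m := by
    rw [← hm, hF]; exact dvd_pow_self q (by norm_num)
  obtain ⟨f, -, hf⟩ := (Nat.dvd_prime_pow hpprime.out).1 hdvd
  rw [hf]
  exact sub_pow_char_pow a b f

theorem zero_mem_hermK (hF : Fintype.card F = q ^ 2) : (0 : F) ∈ hermK F q := by
  have := herm_q_pos hF
  simp [hermK, zero_pow (by omega : q ≠ 0)]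

theorem sub_mem_hermK (hF : Fintype.card F = q ^ 2) {a b : F} (ha : a ∈ hermK F q)
    (hb : b ∈ hermK F q) : a - b ∈ hermK F q := by
  simp only [hermK, mem_filter, mem_univ, true_and] at ha hb ⊢
  rw [herm_sub_pow hF, ha, hb]

theorem add_mem_hermK (hF : Fintype.card F = q ^ 2) {a b : F} (ha : a ∈ hermK F q)
    (hb : b ∈ hermK F q) : a + b ∈ hermK F q := by
  have h0 := zero_mem_hermK hF
  have : a + b = a - (0 - b) := by ring
  rw [this]
  exact sub_mem_hermK hF ha (sub_mem_hermK hF h0 hb)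

theorem norm_mem_hermK (hF : Fintype.card F = q ^ 2) (x : F) : x ^ (q + 1) ∈ hermK F q := by
  simp only [hermK, mem_filter, mem_univ, true_and]
  rw [← pow_mul, show (q + 1) * q = q ^ 2 + q by ring, pow_add, herm_pow_sq hF, pow_succ']

theorem sum_norm_mem_hermK (hF : Fintype.card F = q ^ 2) {n : ℕ} (v : Fin n → F) :
    ∑ i, v i ^ (q + 1) ∈ hermK F q := by
  apply Finset.sum_induction _ (fun x => x ∈ hermK F q)
  · intro a b ha hb; exact add_mem_hermK hF ha hb
  · exact zero_mem_hermK hF
  · intro i _; exact norm_mem_hermK hF _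

theorem card_hermK_le (hF : Fintype.card F = q ^ 2) : #(hermK F q) ≤ q := by
  have hq := herm_q_pos hF
  have hsub : hermK F q ⊆ (Polynomial.X ^ q - Polynomial.X : Polynomial F).roots.toFinset := by
    intro c hc
    simp only [hermK, mem_filter, mem_univ, true_and] at hc
    rw [Multiset.mem_toFinset, Polynomial.mem_roots (FiniteField.X_pow_card_sub_X_ne_zero F hq)]
    simp [hc]
  calc #(hermK F q) ≤ #(Polynomial.X ^ q - Polynomial.X : Polynomial F).roots.toFinset :=
        Finset.card_le_card hsub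
    _ ≤ Multiset.card (Polynomial.X ^ q - Polynomial.X : Polynomial F).roots :=
        Multiset.toFinset_card_le _
    _ ≤ (Polynomial.X ^ q - Polynomial.X : Polynomial F).natDegree := Polynomial.card_roots' _
    _ = q := FiniteField.X_pow_card_sub_X_natDegree_eq F hq

omit [Fintype F] in
theorem card_norm_fiber_le [Fintype F] (t : F) : #{x : F | x ^ (q + 1) = t} ≤ q + 1 := by
  have hsub : (univ.filter (fun x : F => x ^ (q + 1) = t)) ⊆
      (Polynomial.nthRoots (q + 1) t).toFinset := by
    intro x hx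
    simp only [mem_filter, mem_univ, true_and] at hx
    rw [Multiset.mem_toFinset, Polynomial.mem_nthRoots (by omega)]
    exact hx
  calc _ ≤ #(Polynomial.nthRoots (q + 1) t).toFinset := Finset.card_le_card hsub
    _ ≤ Multiset.card (Polynomial.nthRoots (q + 1) t) := Multiset.toFinset_card_le _
    _ ≤ q + 1 := Polynomial.card_nthRoots _ _

omit [Fintype F] in
theorem card_norm_fiber_zero [Fintype F] : #{x : F | x ^ (q + 1) = 0} = 1 := by
  have : (univ.filter (fun x : F => x ^ (q + 1) = 0)) = {0} := by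
    ext x
    simp
  rw [this]; simp

theorem card_norm_fiber (hF : Fintype.card F = q ^ 2) {t : F} (ht : t ∈ hermK F q) (ht0 : t ≠ 0) :
    #{x : F | x ^ (q + 1) = t} = q + 1 := by
  have hq := herm_q_pos hF
  have htot : q ^ 2 = ∑ s ∈ hermK F q, #{x : F | x ^ (q + 1) = s} := by
    rw [← hF, ← Finset.card_univ]
    exact Finset.card_eq_sum_card_fiberwise (fun x _ => norm_mem_hermK hF x)
  rw [← Finset.add_sum_erase _ _ (zero_mem_hermK hF), card_norm_fiber_zero] at htot
  by_contra hne
  have hlt : #{x : F | x ^ (q + 1) = t} < q + 1 := lt_of_le_of_ne (card_norm_fiber_le t) hne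
  have hsum : ∑ s ∈ (hermK F q).erase 0, #{x : F | x ^ (q + 1) = s} <
      ∑ s ∈ (hermK F q).erase 0, (q + 1) := by
    apply Finset.sum_lt_sum
    · intro s _; exact card_norm_fiber_le s
    · exact ⟨t, Finset.mem_erase.2 ⟨ht0, ht⟩, hlt⟩
  rw [Finset.sum_const, smul_eq_mul, Finset.card_erase_of_mem (zero_mem_hermK hF)] at hsum
  have hK := card_hermK_le (F := F) hF
  have h1 : (#(hermK F q) - 1) * (q + 1) ≤ (q - 1) * (q + 1) :=
    Nat.mul_le_mul_right _ (by omega)
  have h2 : (q - 1) * (q + 1) + 1 = q ^ 2 := by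
    obtain ⟨k, rfl⟩ : ∃ k, q = k + 1 := ⟨q - 1, by omega⟩
    simp only [Nat.add_sub_cancel]; ring
  omega

/-- Number of vectors of `F^n` with Hermitian norm `c`. -/
def hermCnt (q : ℕ) (n : ℕ) (c : F) : ℕ := #{v : Fin n → F | ∑ i, v i ^ (q + 1) = c}

omit [DecidableEq F] in
theorem card_hermForm_eq [DecidableEq F] (n : ℕ) (c : F) :
    Nat.card {v : Fin n → F // Cfsg.hermForm n F q v v = c} = hermCnt q n c := by
  rw [Nat.card_eq_fintype_card, Fintype.card_subtype]
  unfold hermCnt
  congr 1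
  ext v
  simp only [mem_filter, mem_univ, true_and]
  rw [hermForm_self]

theorem hermCnt_succ (n : ℕ) (c : F) :
    hermCnt q (n + 1) c = ∑ x : F, hermCnt q n (c - x ^ (q + 1)) := by
  unfold hermCnt
  rw [Finset.card_eq_sum_card_fiberwise (f := fun v : Fin (n + 1) → F => v 0) (t := univ)
    (fun v _ => mem_univ _)]
  apply Finset.sum_congr rfl
  intro x _
  apply Finset.card_nbij' (fun v => Fin.tail v) (fun w => Fin.cons x w)
  · intro v hv
    simp only [coe_filter, mem_filter, mem_univ, true_and, Set.mem_ofPred_eq] at hv ⊢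
    obtain ⟨h1, h2⟩ := hv
    rw [Fin.sum_univ_succ, h2] at h1
    rw [← h1]
    simp [Fin.tail]
  · intro w hw
    simp only [coe_filter, mem_filter, mem_univ, true_and, Set.mem_ofPred_eq] at hw ⊢
    refine ⟨?_, by simp⟩
    rw [Fin.sum_univ_succ]
    simp only [Fin.cons_zero, Fin.cons_succ]
    rw [hw]; ring
  · intro v hv
    simp only [coe_filter, mem_filter, mem_univ, true_and, Set.mem_ofPred_eq] at hv
    rw [← hv.2]
    exact Fin.cons_self_tail v
  · intro w _
    simp

theorem sum_hermCnt (hF : Fintype.card F = q ^ 2) (n : ℕ) :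
    ∑ s ∈ hermK F q, hermCnt q n s = q ^ (2 * n) := by
  unfold hermCnt
  rw [← Finset.card_eq_sum_card_fiberwise (f := fun v : Fin n → F => ∑ i, v i ^ (q + 1))
    (fun v _ => sum_norm_mem_hermK hF v), Finset.card_univ, Fintype.card_fun, Fintype.card_fin, hF,
    ← pow_mul]

/-- The basic recurrence. -/
theorem hermCnt_rec (hF : Fintype.card F = q ^ 2) (n : ℕ) {c : F} (hc : c ∈ hermK F q) :
    hermCnt q (n + 1) c + q * hermCnt q n c = (q + 1) * q ^ (2 * n) := by
  rw [hermCnt_succ]
  rw [← Finset.sum_fiberwise_of_maps_to (g := fun x : F => x ^ (q + 1)) (t := hermK F q)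
    (fun x _ => norm_mem_hermK hF x)]
  have h1 : ∀ t ∈ hermK F q, ∑ x ∈ univ with x ^ (q + 1) = t, hermCnt q n (c - x ^ (q + 1)) =
      #{x : F | x ^ (q + 1) = t} * hermCnt q n (c - t) := by
    intro t _
    rw [Finset.sum_congr rfl (g := fun _ => hermCnt q n (c - t))]
    · rw [Finset.sum_const, smul_eq_mul]
    · intro x hx
      simp only [mem_filter, mem_univ, true_and] at hx
      rw [hx]
  rw [Finset.sum_congr rfl h1]
  rw [← Finset.add_sum_erase _ _ (zero_mem_hermK hF), card_norm_fiber_zero, one_mul, sub_zero]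
  have h2 : ∀ t ∈ (hermK F q).erase 0, #{x : F | x ^ (q + 1) = t} * hermCnt q n (c - t) =
      (q + 1) * hermCnt q n (c - t) := by
    intro t ht
    rw [card_norm_fiber hF (Finset.mem_of_mem_erase ht) (Finset.ne_of_mem_erase ht)]
  rw [Finset.sum_congr rfl h2, ← Finset.mul_sum]
  -- reindex
  have h3 : ∑ t ∈ hermK F q, hermCnt q n (c - t) = q ^ (2 * n) := by
    rw [← sum_hermCnt hF n]
    apply Finset.sum_nbij' (fun t => c - t) (fun s => c - s)
    · intro t ht; exact sub_mem_hermK hF hc ht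
    · intro s hs; exact sub_mem_hermK hF hc hs
    · intro t _; ring
    · intro s _; ring
    · intro t _; rfl
  rw [← Finset.add_sum_erase _ _ (zero_mem_hermK hF), sub_zero] at h3
  rw [← h3]
  ring

theorem one_mem_hermK : (1 : F) ∈ hermK F q := by
  simp [hermK]

theorem hermCnt_zero_zero : hermCnt (F := F) q 0 0 = 1 := by
  unfold hermCnt
  simp

theorem hermCnt_zero_one : hermCnt (F := F) q 0 1 = 0 := by
  unfold hermCnt
  simp

/-- closed form (times `q`, over `ℤ`) for norm-one vectors -/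
theorem hermCnt_one_int (hF : Fintype.card F = q ^ 2) (n : ℕ) :
    (hermCnt q n (1 : F) : ℤ) * q = (q : ℤ) ^ n * ((q : ℤ) ^ n - (-1) ^ n) := by
  induction n with
  | zero => simp [hermCnt_zero_one]
  | succ n ih =>
    have h := hermCnt_rec hF n (one_mem_hermK (F := F) (q := q))
    have h' : (hermCnt q (n + 1) (1 : F) : ℤ) + q * hermCnt q n (1 : F) = (q + 1) * (q : ℤ) ^ (2 * n) := by
      exact_mod_cast h
    have : (hermCnt q (n + 1) (1 : F) : ℤ) = (q + 1) * (q : ℤ) ^ (2 * n) - q * hermCnt q n (1 : F) := by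
      linarith
    rw [this, sub_mul, mul_assoc (q : ℤ), ih]
    ring

/-- closed form (times `q`, over `ℤ`) for isotropic vectors -/
theorem hermCnt_zero_int (hF : Fintype.card F = q ^ 2) (n : ℕ) :
    (hermCnt q n (0 : F) : ℤ) * q = (q : ℤ) ^ (2 * n) + (-1) ^ n * ((q : ℤ) ^ (n + 1) - (q : ℤ) ^ n) := by
  induction n with
  | zero => simp [hermCnt_zero_zero]
  | succ n ih =>
    have h := hermCnt_rec hF n (zero_mem_hermK (F := F) hF)
    have h' : (hermCnt q (n + 1) (0 : F) : ℤ) + q * hermCnt q n (0 : F) = (q + 1) * (q : ℤ) ^ (2 * n) := by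
      exact_mod_cast h
    have : (hermCnt q (n + 1) (0 : F) : ℤ) = (q + 1) * (q : ℤ) ^ (2 * n) - q * hermCnt q n (0 : F) := by
      linarith
    rw [this, sub_mul, mul_assoc (q : ℤ), ih]
    ring

end

end Cfsg.Agent.Helper5
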