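import Mathlib
import Cfsg.Prelude.Def_LieClassical
import Cfsg.Agent.Helper13.Herm
import Cfsg.Agent.Helper5.HermCount

set_option autoImplicit false

namespace Cfsg.Agent.Helper5

open Matrix Cfsg.Agent.Helper13

section
variable {F : Type*} [Field F] [Fintype F] {q : ℕ}
variable {ι : Type} [Fintype ι] [DecidableEq ι]

/-- The standard Hermitian form on `ι → F`. -/
def herm (q : ℕ) (u v : ι → F) : F := ∑ i, u i * v i ^ q

omit [Fintype F] [DecidableEq ι] in
theorem herm_add_left (x x' y : ι → F) : herm q (x + x') y = herm q x y + herm q x' y := by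
  simp [herm, add_mul, Finset.sum_add_distrib]

omit [Fintype F] [DecidableEq ι] in
theorem herm_sub_left (x x' y : ι → F) : herm q (x - x') y = herm q x y - herm q x' y := by
  simp [herm, sub_mul, Finset.sum_sub_distrib]

omit [Fintype F] [DecidableEq ι] in
theorem herm_smul_left (a : F) (x y : ι → F) : herm q (a • x) y = a * herm q x y := by
  simp [herm, Finset.mul_sum, mul_assoc]

omit [DecidableEq ι] in
theorem herm_add_right (hF : Fintype.card F = q ^ 2) (x y y' : ι → F) :
    herm q x (y + y') = herm q x y + herm q x y' := by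
  simp [herm, frob_add hF, mul_add, Finset.sum_add_distrib]

omit [Fintype F] [DecidableEq ι] in
theorem herm_smul_right (a : F) (x y : ι → F) : herm q x (a • y) = a ^ q * herm q x y := by
  simp only [herm, Pi.smul_apply, smul_eq_mul, mul_pow, Finset.mul_sum]
  refine Finset.sum_congr rfl fun i _ => ?_
  ring

theorem frob_neg (hF : Fintype.card F = q ^ 2) (a : F) : (-a) ^ q = -(a ^ q) := by
  have h := frob_add hF a (-a)
  rw [add_neg_cancel, zero_pow (by have := two_le_of_card_eq_sq hF; omega)] at h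
  linear_combination -h

theorem frob_sub (hF : Fintype.card F = q ^ 2) (a b : F) : (a - b) ^ q = a ^ q - b ^ q := by
  rw [sub_eq_add_neg, frob_add hF, frob_neg hF, ← sub_eq_add_neg]

omit [DecidableEq ι] in
theorem herm_sub_right (hF : Fintype.card F = q ^ 2) (x y y' : ι → F) :
    herm q x (y - y') = herm q x y - herm q x y' := by
  simp [herm, frob_sub hF, mul_sub, Finset.sum_sub_distrib]

omit [DecidableEq ι] in
theorem herm_conj (hF : Fintype.card F = q ^ 2) (x y : ι → F) : (herm q x y) ^ q = herm q y x := by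
  simp only [herm, frob_sum hF, mul_pow, frob_frob hF]
  refine Finset.sum_congr rfl fun i _ => ?_
  ring

omit [Fintype F] in
theorem herm_single_left (i : ι) (y : ι → F) : herm q (Pi.single i 1) y = y i ^ q := by
  simp [herm, Pi.single_apply]

theorem herm_single_right (hF : Fintype.card F = q ^ 2) (i : ι) (x : ι → F) :
    herm q x (Pi.single i 1) = x i := by
  have hq : q ≠ 0 := by have := two_le_of_card_eq_sq hF; omega
  simp only [herm, Pi.single_apply]
  rw [Finset.sum_eq_single i]
  · simp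
  · intro j _ hj
    simp [hj, hq]
  · simp

theorem herm_nondeg (hF : Fintype.card F = q ^ 2) (x : ι → F) (h : ∀ y, herm q x y = 0) : x = 0 := by
  ext i
  rw [← herm_single_right hF i x, h]; rfl

/-- The unitary group on an arbitrary finite index type. -/
def GUι (ι : Type) [Fintype ι] [DecidableEq ι] (F : Type*) [Field F] (q : ℕ) : Subgroup (GL ι F) :=
  Cfsg.preserving (Units.coeHom (Matrix ι ι F)) (herm q)

omit [Fintype F] in
theorem mem_GUι_iff (g : GL ι F) :
    g ∈ GUι ι F q ↔ ∀ u v, herm q (g.1 *ᵥ u) (g.1 *ᵥ v) = herm q u v := Iff.rfl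

omit [Fintype F] in
theorem GU_eq_GUι (n : ℕ) : Cfsg.GU n F q = GUι (Fin n) F q := rfl

/-- A form-preserving matrix is invertible. -/
theorem exists_GU_of_preserves (hF : Fintype.card F = q ^ 2) (M : Matrix ι ι F)
    (hM : ∀ u v, herm q (M *ᵥ u) (M *ᵥ v) = herm q u v) :
    ∃ g : GL ι F, g ∈ GUι ι F q ∧ g.1 = M := by
  have hinj : Function.Injective M.mulVec := by
    intro x y hxy
    have : x - y = 0 := by
      apply herm_nondeg hF
      intro z
      rw [← hM, Matrix.mulVec_sub, hxy, sub_self]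
      simp [herm]
    exact sub_eq_zero.1 this
  have hu : IsUnit M := Matrix.mulVec_injective_iff_isUnit.1 hinj
  refine ⟨hu.unit, ?_, rfl⟩
  intro u v
  exact hM u v

/-- the quasi-reflection `x ↦ x + c h(x,w) w` -/
def qrefl (q : ℕ) (w : ι → F) (c : F) : Matrix ι ι F :=
  1 + c • Matrix.vecMulVec w (fun j => w j ^ q)

omit [Fintype F] in
theorem qrefl_mulVec (w : ι → F) (c : F) (x : ι → F) :
    qrefl q w c *ᵥ x = x + (c * herm q x w) • w := by
  rw [qrefl, Matrix.add_mulVec, Matrix.one_mulVec, Matrix.smul_mulVec, Matrix.vecMulVec_mulVec]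
  have : (fun j => w j ^ q) ⬝ᵥ x = herm q x w := by
    simp only [dotProduct, herm]
    refine Finset.sum_congr rfl fun i _ => ?_
    ring
  rw [this]
  simp [mul_smul]

theorem herm_qrefl (hF : Fintype.card F = q ^ 2) (w : ι → F) (c : F)
    (hc : c + c ^ q + c ^ (q + 1) * herm q w w = 0) (x y : ι → F) :
    herm q (qrefl q w c *ᵥ x) (qrefl q w c *ᵥ y) = herm q x y := by
  rw [qrefl_mulVec, qrefl_mulVec, herm_add_left, herm_add_right hF, herm_add_right hF,
    herm_smul_left, herm_smul_left, herm_smul_right, herm_smul_right, mul_pow, herm_conj hF]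
  have : herm q x y + (c ^ q * herm q w y) * herm q x w + (c * herm q x w * herm q w y +
      c * herm q x w * ((c ^ q * herm q w y) * herm q w w)) =
      herm q x y + herm q x w * herm q w y * (c + c ^ q + c ^ (q + 1) * herm q w w) := by
    rw [pow_succ]; ring
  rw [this, hc, mul_zero, add_zero]

/-- Transitivity of the unitary group on vectors of norm one. -/
theorem GUι_transitive [DecidableEq F] (hF : Fintype.card F = q ^ 2) (u v : ι → F)
    (hu : herm q u u = 1) (hv : herm q v v = 1) :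
    ∃ g : GL ι F, g ∈ GUι ι F q ∧ g.1 *ᵥ u = v := by
  have hq2 := two_le_of_card_eq_sq hF
  -- the basic step
  have step : ∀ u v : ι → F, herm q u u = 1 → herm q v v = 1 → herm q u v ≠ 1 →
      ∃ g : GL ι F, g ∈ GUι ι F q ∧ g.1 *ᵥ u = v := by
    intro u v hu hv huv
    set a := 1 - herm q u v with ha
    have ha0 : a ≠ 0 := sub_ne_zero.2 (Ne.symm huv)
    have haq0 : a ^ q ≠ 0 := pow_ne_zero _ ha0
    set w := u - v with hw
    have huw : herm q u w = a := by rw [hw, herm_sub_right hF, hu]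
    have hww : herm q w w = a + a ^ q := by
      rw [hw, herm_sub_left, herm_sub_right hF, herm_sub_right hF, hu, hv, ha, frob_sub hF,
        one_pow, herm_conj hF]
      ring
    set c := -a⁻¹ with hc
    have hcq : c ^ q = -(a ^ q)⁻¹ := by rw [hc, frob_neg hF, inv_pow]
    have hcond : c + c ^ q + c ^ (q + 1) * herm q w w = 0 := by
      rw [pow_succ, hcq, hww, hc]
      field_simp
      ring
    obtain ⟨g, hg, hgM⟩ := exists_GU_of_preserves hF (qrefl q w c) (herm_qrefl hF w c hcond)
    refine ⟨g, hg, ?_⟩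
    rw [hgM, qrefl_mulVec, huw, hc, neg_mul, inv_mul_cancel₀ ha0, hw]
    simp
  by_cases huv : herm q u v = 1
  · -- use an intermediate vector
    obtain ⟨l, hl, hl1⟩ : ∃ l : F, l ^ (q + 1) = 1 ∧ l ≠ 1 := by
      have hcard := card_norm_fiber hF (one_mem_hermK (F := F) (q := q)) one_ne_zero
      have : 1 < (Finset.univ.filter (fun x : F => x ^ (q + 1) = 1)).card := by
        rw [hcard]; omega
      obtain ⟨l, hl, hl1⟩ := Finset.exists_mem_ne this 1
      exact ⟨l, by simpa using hl, hl1⟩
    have hlq : l ^ q ≠ 1 := by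
      intro h
      apply hl1
      rw [pow_succ, h, one_mul] at hl
      exact hl
    have hu' : herm q (l • u) (l • u) = 1 := by
      rw [herm_smul_left, herm_smul_right, hu, mul_one, ← pow_succ', hl]
    obtain ⟨g₁, hg₁, h1⟩ := step u (l • u) hu hu' (by rw [herm_smul_right, hu, mul_one]; exact hlq)
    obtain ⟨g₂, hg₂, h2⟩ := step (l • u) v hu' hv (by rw [herm_smul_left, huv, mul_one]; exact hl1)
    refine ⟨g₂ * g₁, mul_mem hg₂ hg₁, ?_⟩
    rw [Units.val_mul, ← Matrix.mulVec_mulVec, h1, h2]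
  · exact step u v hu hv huv

/-! ### The stabilizer of a norm-one vector -/

/-- the base vector `(0, 1)` of `ι ⊕ Unit → F` -/
def uE0 (ι : Type) (F : Type*) [Field F] : ι ⊕ Unit → F := Sum.elim 0 (fun _ => 1)

omit [Fintype F] [DecidableEq ι] in
theorem herm_sum_elim (a a' : ι → F) (b b' : Unit → F) :
    herm q (Sum.elim a b) (Sum.elim a' b') = herm q a a' + b () * b' () ^ q := by
  simp [herm, Fintype.sum_sum_type]

omit [Fintype F] [DecidableEq ι] in
theorem extend_mulVec (A : Matrix ι ι F) (x : ι → F) (y : Unit → F) :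
    fromBlocks A 0 0 (1 : Matrix Unit Unit F) *ᵥ Sum.elim x y = Sum.elim (A *ᵥ x) y := by
  rw [fromBlocks_mulVec]
  simp

omit [Fintype F] [DecidableEq ι] in
theorem extend_preserves (A : Matrix ι ι F) (hA : ∀ u v, herm q (A *ᵥ u) (A *ᵥ v) = herm q u v)
    (u v : ι ⊕ Unit → F) :
    herm q (fromBlocks A 0 0 (1 : Matrix Unit Unit F) *ᵥ u)
      (fromBlocks A 0 0 (1 : Matrix Unit Unit F) *ᵥ v) = herm q u v := by
  rw [← Sum.elim_comp_inl_inr u, ← Sum.elim_comp_inl_inr v, extend_mulVec, extend_mulVec,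
    herm_sum_elim, herm_sum_elim, hA]

/-- the block embedding of matrices as a monoid hom -/
def extendHom (ι : Type) [Fintype ι] [DecidableEq ι] (F : Type*) [Field F] :
    Matrix ι ι F →* Matrix (ι ⊕ Unit) (ι ⊕ Unit) F where
  toFun A := fromBlocks A 0 0 1
  map_one' := fromBlocks_one
  map_mul' A B := by
    rw [fromBlocks_multiply]
    simp

omit [Fintype F] [DecidableEq ι] in
theorem herm_uE0 : herm q (uE0 ι F) (uE0 ι F) = 1 := by
  unfold uE0
  rw [herm_sum_elim]
  simp [herm]

/-- structure of the stabilizer of the base vector -/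
theorem stab_structure (hF : Fintype.card F = q ^ 2) (A : Matrix (ι ⊕ Unit) (ι ⊕ Unit) F)
    (hA : ∀ u v, herm q (A *ᵥ u) (A *ᵥ v) = herm q u v) (hE : A *ᵥ uE0 ι F = uE0 ι F) :
    A = fromBlocks A.toBlocks₁₁ 0 0 1 ∧
      ∀ u v, herm q (A.toBlocks₁₁ *ᵥ u) (A.toBlocks₁₁ *ᵥ v) = herm q u v := by
  have hq : q ≠ 0 := by have := two_le_of_card_eq_sq hF; omega
  have hAb := (Matrix.fromBlocks_toBlocks A).symm
  set A₁₁ := A.toBlocks₁₁
  set A₁₂ := A.toBlocks₁₂
  set A₂₁ := A.toBlocks₂₁
  set A₂₂ := A.toBlocks₂₂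
  -- the last column
  have hcol : A₁₂ = 0 ∧ A₂₂ = 1 := by
    rw [hAb] at hE
    unfold uE0 at hE
    rw [fromBlocks_mulVec] at hE
    have h1 := congrArg (fun f => f ∘ Sum.inl) hE
    have h2 := congrArg (fun f => f ∘ Sum.inr) hE
    simp only [Sum.elim_comp_inl, Sum.elim_comp_inr, Matrix.mulVec_zero, zero_add] at h1 h2
    constructor
    · ext i j
      have := congr_fun h1 i
      simpa [Matrix.mulVec, dotProduct] using this
    · ext i j
      have := congr_fun h2 i
      simpa [Matrix.mulVec, dotProduct] using this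
  obtain ⟨h12, h22⟩ := hcol
  -- the last row
  have hrow : A₂₁ = 0 := by
    ext i j
    have h := hA (Sum.elim (Pi.single j 1) 0) (uE0 ι F)
    rw [hE] at h
    rw [hAb, fromBlocks_mulVec] at h
    unfold uE0 at h
    rw [herm_sum_elim, herm_sum_elim] at h
    simp only [Sum.elim_comp_inl, Sum.elim_comp_inr, Matrix.mulVec_zero, add_zero, Pi.zero_apply,
      one_pow, mul_one] at h
    have h0 : ∀ x : ι → F, herm q x (0 : ι → F) = 0 := by intro x; simp [herm, hq]
    rw [h0, h0, zero_add, Matrix.mulVec_single_one] at h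
    exact h
  rw [h12, h22, hrow] at hAb
  refine ⟨hAb, ?_⟩
  intro u v
  have h := hA (Sum.elim u 0) (Sum.elim v 0)
  rw [hAb, extend_mulVec, extend_mulVec, herm_sum_elim, herm_sum_elim] at h
  simpa using h

omit [Fintype F] in
theorem smul_vec_def (g : GUι ι F q) (v : ι → F) : g • v = g.1.1 *ᵥ v := rfl

/-- block embedding `GU_ι → GU_{ι ⊕ Unit}` -/
def extendGU (ι : Type) [Fintype ι] [DecidableEq ι] (F : Type*) [Field F] (q : ℕ) :
    GUι ι F q →* GUι (ι ⊕ Unit) F q :=
  ((Units.map (extendHom ι F)).comp (GUι ι F q).subtype).codRestrict _ (fun g => by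
    intro u v
    exact extend_preserves g.1.1 g.2 u v)

omit [Fintype F] in
theorem extendGU_coe (g : GUι ι F q) :
    ((extendGU ι F q g).1 : GL (ι ⊕ Unit) F).1 = fromBlocks g.1.1 0 0 1 := rfl

omit [Fintype F] in
theorem extendGU_mem_stabilizer (g : GUι ι F q) :
    extendGU ι F q g ∈ MulAction.stabilizer (GUι (ι ⊕ Unit) F q) (uE0 ι F) := by
  rw [MulAction.mem_stabilizer_iff, smul_vec_def, extendGU_coe]
  unfold uE0
  rw [extend_mulVec]
  simp

theorem extendGU_bijective (hF : Fintype.card F = q ^ 2) :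
    Function.Bijective (fun g : GUι ι F q =>
      (⟨extendGU ι F q g, extendGU_mem_stabilizer g⟩ :
        MulAction.stabilizer (GUι (ι ⊕ Unit) F q) (uE0 ι F))) := by
  constructor
  · intro g g' h
    have h1 := congrArg (fun x => ((x.1.1 : GL (ι ⊕ Unit) F).1)) h
    simp only [extendGU_coe] at h1
    rw [fromBlocks_inj] at h1
    exact Subtype.ext (Units.ext h1.1)
  · rintro ⟨A, hA⟩
    rw [MulAction.mem_stabilizer_iff, smul_vec_def] at hA
    obtain ⟨hstr, hpres⟩ := stab_structure hF A.1.1 A.2 hA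
    obtain ⟨g, hg, hgM⟩ := exists_GU_of_preserves hF _ hpres
    refine ⟨⟨g, hg⟩, ?_⟩
    apply Subtype.ext
    apply Subtype.ext
    apply Units.ext
    rw [extendGU_coe, hgM]
    exact hstr.symm

theorem orbit_uE0 [DecidableEq F] (hF : Fintype.card F = q ^ 2) :
    MulAction.orbit (GUι (ι ⊕ Unit) F q) (uE0 ι F) = {v | herm q v v = 1} := by
  ext v
  constructor
  · rintro ⟨g, rfl⟩
    change herm q (g • uE0 ι F) (g • uE0 ι F) = 1
    rw [smul_vec_def, (mem_GUι_iff g.1).1 g.2, herm_uE0]
  · intro hv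
    obtain ⟨g, hg, hgv⟩ := GUι_transitive hF (uE0 ι F) v herm_uE0 hv
    exact ⟨⟨g, hg⟩, hgv⟩

theorem card_GUι_succ (hF : Fintype.card F = q ^ 2) :
    Nat.card (GUι (ι ⊕ Unit) F q) =
      Nat.card {v : ι ⊕ Unit → F // herm q v v = 1} * Nat.card (GUι ι F q) := by
  classical
  have h1 := Subgroup.index_mul_card (MulAction.stabilizer (GUι (ι ⊕ Unit) F q) (uE0 ι F))
  rw [MulAction.index_stabilizer, orbit_uE0 hF, ← Nat.card_coe_set_eq,
    ← Nat.card_congr (Equiv.ofBijective _ (extendGU_bijective (ι := ι) hF))] at h1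
  rw [← h1]
  rfl

/-! ### Reindexing -/

section reindex
variable {κ : Type} [Fintype κ] [DecidableEq κ]

omit [Fintype F] [DecidableEq ι] [DecidableEq κ] in
theorem herm_comp_equiv (e : ι ≃ κ) (u v : κ → F) : herm q (u ∘ e) (v ∘ e) = herm q u v := by
  unfold herm
  exact Equiv.sum_comp e (fun k => u k * v k ^ q)

omit [Fintype F] in
theorem reindex_mem_iff (e : ι ≃ κ) (g : GL ι F) :
    g ∈ GUι ι F q ↔ Units.mapEquiv (Matrix.reindexAlgEquiv F F e).toMulEquiv g ∈ GUι κ F q := by
  have hcoe : (Units.mapEquiv (Matrix.reindexAlgEquiv F F e).toMulEquiv g).1 =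
      g.1.submatrix e.symm e.symm := rfl
  rw [mem_GUι_iff, mem_GUι_iff, hcoe]
  constructor
  · intro h u v
    rw [Matrix.submatrix_mulVec_equiv, Matrix.submatrix_mulVec_equiv, Equiv.symm_symm,
      herm_comp_equiv, h, herm_comp_equiv]
  · intro h u v
    have := h (u ∘ e.symm) (v ∘ e.symm)
    rw [Matrix.submatrix_mulVec_equiv, Matrix.submatrix_mulVec_equiv, Equiv.symm_symm,
      herm_comp_equiv, herm_comp_equiv] at this
    have hu : (u ∘ e.symm) ∘ e = u := by ext i; simp
    have hv : (v ∘ e.symm) ∘ e = v := by ext i; simp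
    rw [hu, hv] at this
    exact this

omit [Fintype F] in
theorem card_GUι_congr (e : ι ≃ κ) : Nat.card (GUι ι F q) = Nat.card (GUι κ F q) :=
  Nat.card_congr ((Units.mapEquiv (Matrix.reindexAlgEquiv F F e).toMulEquiv).toEquiv.subtypeEquiv
    (fun g => reindex_mem_iff e g))

omit [Fintype F] [DecidableEq ι] [DecidableEq κ] in
theorem card_herm_congr (e : ι ≃ κ) (c : F) :
    Nat.card {v : ι → F // herm q v v = c} = Nat.card {v : κ → F // herm q v v = c} := by
  refine Nat.card_congr ((Equiv.arrowCongr e (Equiv.refl F)).subtypeEquiv ?_)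
  intro v
  have : (Equiv.arrowCongr e (Equiv.refl F)) v = v ∘ e.symm := rfl
  rw [this, herm_comp_equiv]

end reindex

/-- The recursion for the order of the unitary group. -/
theorem card_GU_succ (hF : Fintype.card F = q ^ 2) (n : ℕ) :
    Nat.card (Cfsg.GU (n + 1) F q) =
      Nat.card {v : Fin (n + 1) → F // Cfsg.hermForm (n + 1) F q v v = 1} *
        Nat.card (Cfsg.GU n F q) := by
  have e : Fin n ⊕ Unit ≃ Fin (n + 1) := Fintype.equivOfCardEq (by simp)
  rw [GU_eq_GUι, GU_eq_GUι, ← card_GUι_congr e, card_GUι_succ hF, card_herm_congr e]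
  rfl

end

end Cfsg.Agent.Helper5
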