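import Mathlib
import Cfsg.Prelude.Def_LieClassical
import Cfsg.Agent.Helper5.Unitary

set_option autoImplicit false

namespace Cfsg.Agent.Helper5

open Matrix Cfsg.Agent.Helper13

section
variable {F : Type*} [Field F] [Fintype F] {q : ℕ}
variable {ι : Type} [Fintype ι] [DecidableEq ι]

/-- The Frobenius `x ↦ x^q` as a ring hom. -/
def frobHom (hF : Fintype.card F = q ^ 2) : F →+* F where
  toFun x := x ^ q
  map_one' := one_pow q
  map_mul' x y := mul_pow x y q
  map_zero' := zero_pow (by have := two_le_of_card_eq_sq hF; omega)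
  map_add' x y := frob_add hF x y

/-- matrix form of the unitary condition -/
theorem transpose_mul_map_eq_one (hF : Fintype.card F = q ^ 2) (g : GL ι F) (hg : g ∈ GUι ι F q) :
    g.1ᵀ * g.1.map (fun x => x ^ q) = 1 := by
  have hq : q ≠ 0 := by have := two_le_of_card_eq_sq hF; omega
  ext i j
  rw [Matrix.mul_apply]
  have h := (mem_GUι_iff g).1 hg (Pi.single i 1) (Pi.single j 1)
  rw [herm_single_left, Matrix.mulVec_single_one, Matrix.mulVec_single_one] at h
  have : ∑ k, g.1ᵀ i k * (g.1.map (fun x => x ^ q)) k j = herm q (g.1.col i) (g.1.col j) := by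
    unfold herm
    rfl
  rw [this, h, Matrix.one_apply]
  by_cases hij : i = j
  · subst hij; simp
  · rw [if_neg hij, Pi.single_eq_of_ne hij, zero_pow hq]

theorem det_pow_eq_one (hF : Fintype.card F = q ^ 2) (g : GL ι F) (hg : g ∈ GUι ι F q) :
    g.1.det ^ (q + 1) = 1 := by
  have h := congrArg Matrix.det (transpose_mul_map_eq_one hF g hg)
  rw [Matrix.det_mul, Matrix.det_transpose, Matrix.det_one] at h
  have h2 : (g.1.map (fun x => x ^ q)).det = g.1.det ^ q := by
    have := (RingHom.map_det (frobHom hF) g.1).symm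
    exact this
  rw [h2, ← pow_succ'] at h
  exact h

omit [Fintype F] in
theorem det_qrefl (w : ι → F) (c : F) : (qrefl q w c).det = 1 + c * herm q w w := by
  unfold qrefl
  rw [← Matrix.vecMulVec_smul, Matrix.vecMulVec_eq Unit,
    Matrix.det_one_add_replicateCol_mul_replicateRow]
  congr 1
  simp only [dotProduct, herm, Pi.smul_apply, smul_eq_mul, Finset.mul_sum]
  apply Finset.sum_congr rfl
  intro i _; ring

/-- the determinant on the unitary group -/
def detGU (ι : Type) [Fintype ι] [DecidableEq ι] (F : Type*) [Field F] (q : ℕ) :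
    GUι ι F q →* Fˣ :=
  Matrix.GeneralLinearGroup.det.comp (GUι ι F q).subtype

omit [Fintype F] in
theorem detGU_coe (g : GUι ι F q) : ((detGU ι F q g : Fˣ) : F) = g.1.1.det := rfl

theorem card_norm_one_units (hF : Fintype.card F = q ^ 2) :
    Nat.card (powMonoidHom (q + 1) : Fˣ →* Fˣ).ker = q + 1 := by
  have hq := two_le_of_card_eq_sq hF
  rw [IsCyclic.card_powMonoidHom_ker, Nat.card_units, Nat.card_eq_fintype_card, hF]
  have : q ^ 2 - 1 = (q - 1) * (q + 1) := by
    obtain ⟨k, rfl⟩ : ∃ k, q = k + 1 := ⟨q - 1, by omega⟩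
    have : (k + 1) ^ 2 = (k + 1 - 1) * (k + 1 + 1) + 1 := by
      simp only [Nat.add_sub_cancel]; ring
    omega
  rw [this, Nat.gcd_mul_left_left]

theorem range_detGU [Nonempty ι] (hF : Fintype.card F = q ^ 2) :
    (detGU ι F q).range = (powMonoidHom (q + 1) : Fˣ →* Fˣ).ker := by
  ext l
  rw [MonoidHom.mem_ker, powMonoidHom_apply]
  constructor
  · rintro ⟨g, rfl⟩
    apply Units.ext
    rw [Units.val_pow_eq_pow_val, detGU_coe, Units.val_one]
    exact det_pow_eq_one hF g.1 g.2
  · intro hl
    have hl' : (l : F) ^ (q + 1) = 1 := by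
      have := congrArg Units.val hl
      simpa using this
    obtain ⟨i₀⟩ := ‹Nonempty ι›
    set w : ι → F := Pi.single i₀ 1 with hw
    have hww : herm q w w = 1 := by rw [hw, herm_single_left]; simp
    set c : F := (l : F) - 1 with hc
    have hcond : c + c ^ q + c ^ (q + 1) * herm q w w = 0 := by
      have h1 : (1 + c) ^ (q + 1) = 1 := by rw [hc]; simpa using hl'
      rw [pow_succ, frob_add hF, one_pow] at h1
      rw [hww, pow_succ]
      linear_combination h1
    obtain ⟨g, hg, hgM⟩ := exists_GU_of_preserves hF (qrefl q w c) (herm_qrefl hF w c hcond)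
    refine ⟨⟨g, hg⟩, ?_⟩
    apply Units.ext
    rw [detGU_coe]
    change g.1.det = _
    rw [hgM, det_qrefl, hww, hc]
    ring

theorem card_GUι_eq_ker_mul [Nonempty ι] (hF : Fintype.card F = q ^ 2) :
    Nat.card (GUι ι F q) = Nat.card (detGU ι F q).ker * (q + 1) := by
  have hfin : Finite (GUι ι F q) := inferInstance
  rw [← Subgroup.card_mul_index (detGU ι F q).ker, Subgroup.index_ker, range_detGU hF,
    card_norm_one_units hF]

end

section SU
variable {F : Type*} [Field F] [Fintype F] {q : ℕ} {n : ℕ}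

/-- `SU_n` is the kernel of the determinant on `GU_n`. -/
def suEquivKer : Cfsg.SU n F q ≃ (detGU (Fin n) F q).ker where
  toFun A := ⟨⟨Matrix.SpecialLinearGroup.toGL A.1, A.2⟩, by
    rw [MonoidHom.mem_ker]
    apply Units.ext
    rw [detGU_coe]
    exact A.1.2⟩
  invFun g := ⟨⟨g.1.1.1, by
      have := g.2
      rw [MonoidHom.mem_ker] at this
      have h := congrArg Units.val this
      rw [detGU_coe] at h
      exact h⟩, g.1.2⟩
  left_inv A := by
    apply Subtype.ext
    apply Subtype.ext
    rfl
  right_inv g := by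
    apply Subtype.ext
    apply Subtype.ext
    apply Units.ext
    rfl

theorem card_GU_eq_card_SU_mul (hF : Fintype.card F = q ^ 2) (hn : 1 ≤ n) :
    Nat.card (Cfsg.GU n F q) = Nat.card (Cfsg.SU n F q) * (q + 1) := by
  have : Nonempty (Fin n) := ⟨⟨0, by omega⟩⟩
  rw [GU_eq_GUι, card_GUι_eq_ker_mul hF, Nat.card_congr (suEquivKer (F := F) (q := q) (n := n))]

end SU

end Cfsg.Agent.Helper5
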