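import Mathlib
import Cfsg.Prelude.Def_LieClassical
import Cfsg.Agent.Helper5.UnitaryDet

set_option autoImplicit false

namespace Cfsg.Agent.Helper5

open Matrix Cfsg.Agent.Helper13

section
variable {F : Type*} [Field F] [Fintype F] {q : ℕ} {n : ℕ}

/-- constructor for elements of `SU_n` -/
def mkSU (M : Matrix (Fin n) (Fin n) F) (hdet : M.det = 1)
    (hM : ∀ u v, herm q (M *ᵥ u) (M *ᵥ v) = herm q u v) : Cfsg.SU n F q :=
  ⟨⟨M, hdet⟩, hM⟩

omit [Fintype F] in
theorem mkSU_coe (M : Matrix (Fin n) (Fin n) F) (hdet : M.det = 1)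
    (hM : ∀ u v, herm q (M *ᵥ u) (M *ᵥ v) = herm q u v) :
    ((mkSU M hdet hM : Cfsg.SU n F q).1 : Matrix (Fin n) (Fin n) F) = M := rfl

omit [Fintype F] in
theorem su_preserves (z : Cfsg.SU n F q) (u v : Fin n → F) :
    herm q (z.1.1 *ᵥ u) (z.1.1 *ᵥ v) = herm q u v := z.2 u v

omit [Fintype F] in
theorem su_commute_coe (z : Cfsg.SU n F q) (hz : z ∈ Subgroup.center (Cfsg.SU n F q))
    (g : Cfsg.SU n F q) : z.1.1 * g.1.1 = g.1.1 * z.1.1 := by
  have h := Subgroup.mem_center_iff.1 hz g
  have h2 := congrArg (fun x : Cfsg.SU n F q => (x.1 : Matrix (Fin n) (Fin n) F)) h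
  simp only [Subgroup.coe_mul, Matrix.SpecialLinearGroup.coe_mul] at h2
  exact h2.symm

/-- existence of `λ` with `λ^(q+1) = 1` and `λ² ≠ 1` -/
theorem exists_norm_one_sq_ne_one (hF : Fintype.card F = q ^ 2) :
    ∃ l : F, l ^ (q + 1) = 1 ∧ l ^ 2 ≠ 1 := by
  classical
  have hq := two_le_of_card_eq_sq hF
  have hcard := card_norm_fiber hF (one_mem_hermK (F := F) (q := q)) one_ne_zero
  by_contra hcon
  push Not at hcon
  have hsub : (Finset.univ.filter (fun x : F => x ^ (q + 1) = 1)) ⊆ {1, -1} := by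
    intro x hx
    simp only [Finset.mem_filter, Finset.mem_univ, true_and] at hx
    have h2 := hcon x hx
    have : (x - 1) * (x + 1) = 0 := by linear_combination h2
    rcases mul_eq_zero.1 this with h | h
    · have : x = 1 := by linear_combination h
      simp [this]
    · have : x = -1 := by linear_combination h
      simp [this]
  have := Finset.card_le_card hsub
  rw [hcard] at this
  have h2 : ({1, -1} : Finset F).card ≤ 2 := Finset.card_le_two
  omega

/-- existence of `c ≠ 0` with `c^q = -c` -/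
theorem exists_trace_zero (hF : Fintype.card F = q ^ 2) : ∃ c : F, c ≠ 0 ∧ c ^ q = -c := by
  classical
  have hq := two_le_of_card_eq_sq hF
  obtain ⟨a, ha⟩ : ∃ a : F, a ^ q ≠ a := by
    by_contra hcon
    push Not at hcon
    have : hermK F q = Finset.univ := by
      ext x; simp [hermK, hcon x]
    have h1 := card_hermK_le (F := F) hF
    rw [this, Finset.card_univ, hF] at h1
    nlinarith
  refine ⟨a - a ^ q, sub_ne_zero.2 (Ne.symm ha), ?_⟩
  rw [frob_sub hF, frob_frob hF]
  ring

/-- a central element of `SU_n` is diagonal -/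
theorem center_offdiag_zero (hF : Fintype.card F = q ^ 2) (z : Cfsg.SU n F q)
    (hz : z ∈ Subgroup.center (Cfsg.SU n F q)) {i j : Fin n} (hij : i ≠ j) : z.1.1 i j = 0 := by
  obtain ⟨l, hl, hl2⟩ := exists_norm_one_sq_ne_one hF
  have hl0 : l ≠ 0 := by
    rintro rfl
    rw [zero_pow (by omega)] at hl
    exact zero_ne_one hl
  have hlinv : l⁻¹ ^ (q + 1) = 1 := by rw [inv_pow, hl, inv_one]
  -- the diagonal matrix
  let d : Fin n → F := Function.update (Function.update (fun _ => (1 : F)) i l) j l⁻¹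
  have hdi : d i = l := by simp [d, hij]
  have hdj : d j = l⁻¹ := by simp [d]
  have hd : ∀ k, d k ^ (q + 1) = 1 := by
    intro k
    by_cases hkj : k = j
    · subst hkj; rw [hdj]; exact hlinv
    · by_cases hki : k = i
      · subst hki; rw [hdi]; exact hl
      · simp [d, hkj, hki]
  have hdet : (Matrix.diagonal d).det = 1 := by
    rw [Matrix.det_diagonal]
    rw [← Finset.mul_prod_erase _ _ (Finset.mem_univ i),
      ← Finset.mul_prod_erase _ _ (Finset.mem_erase.2 ⟨hij.symm, Finset.mem_univ j⟩), hdi, hdj]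
    rw [Finset.prod_eq_one]
    · field_simp
    · intro k hk
      have hkj : k ≠ j := Finset.ne_of_mem_erase hk
      have hki : k ≠ i := Finset.ne_of_mem_erase (Finset.mem_of_mem_erase hk)
      simp [d, hkj, hki]
  have hpres : ∀ u v, herm q (Matrix.diagonal d *ᵥ u) (Matrix.diagonal d *ᵥ v) = herm q u v := by
    intro u v
    unfold herm
    apply Finset.sum_congr rfl
    intro k _
    rw [Matrix.mulVec_diagonal, Matrix.mulVec_diagonal, mul_pow]
    have := hd k
    rw [pow_succ] at this
    calc d k * u k * (d k ^ q * v k ^ q) = (d k ^ q * d k) * (u k * v k ^ q) := by ring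
      _ = u k * v k ^ q := by rw [this, one_mul]
  have hcomm := su_commute_coe z hz (mkSU (Matrix.diagonal d) hdet hpres)
  rw [mkSU_coe] at hcomm
  have h := congrFun (congrFun hcomm i) j
  rw [Matrix.mul_diagonal, Matrix.diagonal_mul, hdi, hdj] at h
  have hne : l⁻¹ - l ≠ 0 := by
    intro h0
    apply hl2
    have : l⁻¹ = l := by linear_combination h0
    have h3 : l * l⁻¹ = 1 := mul_inv_cancel₀ hl0
    rw [this] at h3
    rw [pow_two]; exact h3
  have : z.1.1 i j * (l⁻¹ - l) = 0 := by linear_combination h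
  exact (mul_eq_zero.1 this).resolve_right hne

/-- a central element of `SU_n` has equal diagonal entries -/
theorem center_diag_eq (hF : Fintype.card F = q ^ 2) (z : Cfsg.SU n F q)
    (hz : z ∈ Subgroup.center (Cfsg.SU n F q)) (i j : Fin n) : z.1.1 i i = z.1.1 j j := by
  classical
  by_cases hij : i = j
  · rw [hij]
  have hq := two_le_of_card_eq_sq hF
  obtain ⟨c, hc0, hcq⟩ := exists_trace_zero hF
  -- `a` with `a^(q+1) = -1`
  have hm1 : (-1 : F) ∈ hermK F q := by
    have := sub_mem_hermK hF (zero_mem_hermK hF) (one_mem_hermK (F := F) (q := q))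
    simpa using this
  obtain ⟨a, ha⟩ : ∃ a : F, a ^ (q + 1) = -1 := by
    have hcard := card_norm_fiber hF hm1 (neg_ne_zero.2 one_ne_zero)
    have : (Finset.univ.filter (fun x : F => x ^ (q + 1) = -1)).Nonempty := by
      rw [← Finset.card_pos, hcard]; omega
    obtain ⟨a, ha⟩ := this
    exact ⟨a, by simpa using ha⟩
  have ha0 : a ≠ 0 := by
    rintro rfl
    rw [zero_pow (by omega)] at ha
    exact one_ne_zero (neg_eq_zero.1 ha.symm)
  set v : Fin n → F := Pi.single i 1 + a • Pi.single j 1 with hv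
  have hvi : v i = 1 := by simp [hv, hij]
  have hvj : v j = a := by simp [hv, Ne.symm hij]
  have hvv : herm q v v = 0 := by
    rw [hv, herm_add_left, herm_smul_left, herm_single_left, herm_single_left]
    simp only [Pi.add_apply, Pi.smul_apply, Pi.single_eq_same, smul_eq_mul, mul_one,
      Pi.single_eq_of_ne hij, Pi.single_eq_of_ne (Ne.symm hij), mul_zero, add_zero, zero_add, one_pow]
    rw [← pow_succ', ha]; ring
  have hcond : c + c ^ q + c ^ (q + 1) * herm q v v = 0 := by
    rw [hvv, hcq]; ring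
  have hdet : (qrefl q v c).det = 1 := by rw [det_qrefl, hvv]; ring
  have hcomm := su_commute_coe z hz (mkSU (qrefl q v c) hdet (herm_qrefl hF v c hcond))
  rw [mkSU_coe] at hcomm
  have h := congrFun (congrFun hcomm i) j
  rw [Matrix.mul_apply, Matrix.mul_apply] at h
  rw [Finset.sum_eq_single i, Finset.sum_eq_single j] at h
  · have hT : qrefl q v c i j = c * a ^ q := by
      simp [qrefl, Matrix.vecMulVec_apply, hij, hvi, hvj]
    rw [hT] at h
    have hne : c * a ^ q ≠ 0 := mul_ne_zero hc0 (pow_ne_zero _ ha0)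
    have : (z.1.1 i i - z.1.1 j j) * (c * a ^ q) = 0 := by linear_combination h
    exact sub_eq_zero.1 ((mul_eq_zero.1 this).resolve_right hne)
  · intro k _ hk
    rw [center_offdiag_zero hF z hz hk, mul_zero]
  · intro h; exact absurd (Finset.mem_univ _) h
  · intro k _ hk
    rw [center_offdiag_zero hF z hz (Ne.symm hk), zero_mul]
  · intro h; exact absurd (Finset.mem_univ _) h

/-- a central element of `SU_n` is scalar -/
theorem center_eq_scalar (hF : Fintype.card F = q ^ 2) (z : Cfsg.SU n F q)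
    (hz : z ∈ Subgroup.center (Cfsg.SU n F q)) (i₀ : Fin n) :
    z.1.1 = Matrix.scalar (Fin n) (z.1.1 i₀ i₀) := by
  ext i j
  by_cases hij : i = j
  · subst hij
    rw [center_diag_eq hF z hz i i₀]
    simp
  · rw [center_offdiag_zero hF z hz hij]
    simp [Matrix.scalar_apply, hij]

omit [Fintype F] in
theorem herm_scalar (l : F) (hl : l ^ (q + 1) = 1) (u v : Fin n → F) :
    herm q (Matrix.scalar (Fin n) l *ᵥ u) (Matrix.scalar (Fin n) l *ᵥ v) = herm q u v := by
  unfold herm
  apply Finset.sum_congr rfl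
  intro k _
  rw [Matrix.scalar_apply, Matrix.mulVec_diagonal, Matrix.mulVec_diagonal, mul_pow]
  rw [pow_succ] at hl
  calc l * u k * (l ^ q * v k ^ q) = (l ^ q * l) * (u k * v k ^ q) := by ring
    _ = u k * v k ^ q := by rw [hl, one_mul]

omit [Fintype F] in
theorem det_scalar_fin (l : F) : (Matrix.scalar (Fin n) l).det = l ^ n := by
  rw [Matrix.scalar_apply, Matrix.det_diagonal, Finset.prod_const, Finset.card_univ,
    Fintype.card_fin]

/-- the scalar element of `SU_n` attached to `l` with `l^n = 1`, `l^(q+1) = 1`. -/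
def scalarSU (l : F) (hln : l ^ n = 1) (hlq : l ^ (q + 1) = 1) : Cfsg.SU n F q :=
  mkSU (Matrix.scalar (Fin n) l) (by rw [det_scalar_fin, hln]) (herm_scalar l hlq)

omit [Fintype F] in
theorem scalarSU_mem_center (l : F) (hln : l ^ n = 1) (hlq : l ^ (q + 1) = 1) :
    (scalarSU l hln hlq : Cfsg.SU n F q) ∈ Subgroup.center (Cfsg.SU n F q) := by
  rw [Subgroup.mem_center_iff]
  intro g
  apply Subtype.ext
  apply Subtype.ext
  simp only [Subgroup.coe_mul, Matrix.SpecialLinearGroup.coe_mul]
  change g.1.1 * Matrix.scalar (Fin n) l = Matrix.scalar (Fin n) l * g.1.1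
  exact ((Matrix.scalar_commute l (fun r => Commute.all _ _) g.1.1).eq).symm

theorem card_center_SU (hF : Fintype.card F = q ^ 2) (hn : 2 ≤ n) :
    Nat.card (Subgroup.center (Cfsg.SU n F q)) = Nat.gcd n (q + 1) := by
  have hq := two_le_of_card_eq_sq hF
  let i₀ : Fin n := ⟨0, by omega⟩
  set g := Nat.gcd n (q + 1) with hg
  -- the group of g-th roots of unity
  have hK : Nat.card (powMonoidHom g : Fˣ →* Fˣ).ker = g := by
    rw [IsCyclic.card_powMonoidHom_ker, Nat.card_units, Nat.card_eq_fintype_card, hF]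
    apply Nat.gcd_eq_right
    have h1 : g ∣ q + 1 := Nat.gcd_dvd_right _ _
    have h2 : q ^ 2 - 1 = (q - 1) * (q + 1) := by
      obtain ⟨k, rfl⟩ : ∃ k, q = k + 1 := ⟨q - 1, by omega⟩
      have : (k + 1) ^ 2 = (k + 1 - 1) * (k + 1 + 1) + 1 := by
        simp only [Nat.add_sub_cancel]; ring
      omega
    rw [h2]
    exact h1.trans (Dvd.intro_left _ rfl)
  rw [← hK]
  symm
  have hmem : ∀ l : (powMonoidHom g : Fˣ →* Fˣ).ker, ((l : Fˣ) : F) ^ n = 1 ∧
      ((l : Fˣ) : F) ^ (q + 1) = 1 := by
    intro l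
    have h := l.2
    rw [MonoidHom.mem_ker, powMonoidHom_apply] at h
    have h' : ((l : Fˣ) : F) ^ g = 1 := by
      have := congrArg Units.val h
      simpa using this
    exact pow_gcd_eq_one.1 h'
  refine Nat.card_congr (Equiv.ofBijective
    (fun l : (powMonoidHom g : Fˣ →* Fˣ).ker =>
      (⟨scalarSU ((l : Fˣ) : F) (hmem l).1 (hmem l).2, scalarSU_mem_center _ _ _⟩ :
        Subgroup.center (Cfsg.SU n F q))) ⟨?_, ?_⟩)
  · intro l l' h
    have h1 := congrArg (fun x : Subgroup.center (Cfsg.SU n F q) =>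
      ((x.1.1 : Matrix.SpecialLinearGroup (Fin n) F) : Matrix (Fin n) (Fin n) F) i₀ i₀) h
    simp only [scalarSU, mkSU_coe, Matrix.scalar_apply, Matrix.diagonal_apply_eq] at h1
    exact Subtype.ext (Units.ext h1)
  · rintro ⟨z, hz⟩
    have hsc := center_eq_scalar hF z hz i₀
    set l := z.1.1 i₀ i₀ with hl
    have hln : l ^ n = 1 := by
      have := z.1.2
      rw [hsc, det_scalar_fin] at this
      exact this
    have hlq : l ^ (q + 1) = 1 := by
      have h := su_preserves z (Pi.single i₀ 1) (Pi.single i₀ 1)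
      rw [hsc, Matrix.scalar_apply, Matrix.mulVec_single_one] at h
      rw [herm_single_left] at h
      have hcol : (Matrix.diagonal fun _ : Fin n => l).col i₀ = l • Pi.single i₀ 1 := by
        ext k
        simp [Matrix.col_apply, Matrix.diagonal_apply, Pi.single_apply]
      rw [hcol, herm_smul_left, herm_smul_right, herm_single_left] at h
      simp only [Pi.single_eq_same, one_pow, mul_one] at h
      rw [pow_succ']; exact h
    have hl0 : l ≠ 0 := by
      rintro h0
      rw [h0, zero_pow (by omega)] at hln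
      exact zero_ne_one hln
    refine ⟨⟨Units.mk0 l hl0, ?_⟩, ?_⟩
    · rw [MonoidHom.mem_ker, powMonoidHom_apply]
      apply Units.ext
      rw [Units.val_pow_eq_pow_val, Units.val_mk0, Units.val_one]
      exact pow_gcd_eq_one.2 ⟨hln, hlq⟩
    · apply Subtype.ext
      apply Subtype.ext
      apply Subtype.ext
      change Matrix.scalar (Fin n) l = z.1.1
      exact hsc.symm

end

end Cfsg.Agent.Helper5
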