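import Mathlib
import Cfsg.Prelude.Def_ClassicalGeometry
import Cfsg.Agent.Helper45.OmegaTrans3
import Cfsg.Agent.Helper14.CharTwoRefl

/-!
# Eichler (Siegel) transformations as elements of the matrix isometry group

General setting: `Q : QuadraticForm F (ι → F)`.  `eichlerO Q u w` is the isometry
`x ↦ x + B(w,x) u - B(u,x) w - Q(w) B(u,x) u` when `Q u = 0` and `B(u,w) = 0` (and `1` otherwise).
-/

set_option autoImplicit false

namespace Cfsg.Agent.Helper5

open Matrix QuadraticMap Module Cfsg.Agent.Helper44 Cfsg.Agent.Helper45.OmegaParity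

variable {F : Type*} [Field F] {ι : Type} [Fintype ι] [DecidableEq ι]
variable (Q : QuadraticForm F (ι → F))

/-- isometries are determined by their linear maps -/
theorem isom_ext {g h : Cfsg.isometryGroup F ⇑Q} (H : ∀ x, lin Q g x = lin Q h x) : g = h := by
  apply Subtype.ext
  apply Units.ext
  apply Matrix.toLin'.injective
  apply LinearMap.ext
  intro x
  rw [Matrix.toLin'_apply, Matrix.toLin'_apply]
  exact H x

theorem lin_mul_apply (g h : Cfsg.isometryGroup F ⇑Q) (x : ι → F) :
    lin Q (g * h) x = lin Q g (lin Q h x) := by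
  rw [lin_mul]
  rfl

theorem lin_one_apply (x : ι → F) : lin Q (1 : Cfsg.isometryGroup F ⇑Q) x = x := by
  rw [lin_one]
  rfl

theorem lin_inv_apply (g : Cfsg.isometryGroup F ⇑Q) (x : ι → F) :
    lin Q g⁻¹ (lin Q g x) = x := by
  rw [← lin_mul_apply, inv_mul_cancel, lin_one_apply]

theorem lin_apply_inv (g : Cfsg.isometryGroup F ⇑Q) (x : ι → F) :
    lin Q g (lin Q g⁻¹ x) = x := by
  rw [← lin_mul_apply, mul_inv_cancel, lin_one_apply]

theorem polar_lin (g : Cfsg.isometryGroup F ⇑Q) (x y : ι → F) :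
    polar ⇑Q (lin Q g x) (lin Q g y) = polar ⇑Q x y := by
  rw [QuadraticMap.polar, QuadraticMap.polar, ← map_add, lin_isometry, lin_isometry, lin_isometry]

/-- the Eichler transformation as a linear equivalence -/
noncomputable def eichlerEquiv (u w : ι → F) (hu : Q u = 0) (huw : polar ⇑Q u w = 0) :
    (ι → F) ≃ₗ[F] (ι → F) :=
  LinearEquiv.ofLinearMap (Helper14.eichler Q u w) (Helper14.eichler Q u (-w))
    (by
      apply LinearMap.ext
      intro x
      have h1 : QuadraticMap.polarBilin Q u w = 0 := by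
        rw [QuadraticMap.polarBilin_apply_apply]; exact huw
      have h2 : QuadraticMap.polarBilin Q u (-w) = 0 := by
        rw [map_neg, h1, neg_zero]
      rw [LinearMap.comp_apply, Helper14.eichler_eichler Q u w (-w) hu h1 h2, add_neg_cancel,
        Helper14.eichler_zero]
      rfl)
    (by
      apply LinearMap.ext
      intro x
      have h1 : QuadraticMap.polarBilin Q u w = 0 := by
        rw [QuadraticMap.polarBilin_apply_apply]; exact huw
      have h2 : QuadraticMap.polarBilin Q u (-w) = 0 := by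
        rw [map_neg, h1, neg_zero]
      rw [LinearMap.comp_apply, Helper14.eichler_eichler Q u (-w) w hu h2 h1, neg_add_cancel,
        Helper14.eichler_zero]
      rfl)

open Classical in
/-- the Eichler transformation `E(u,w)` as an element of the isometry group (`1` if the side
conditions `Q u = 0`, `B(u,w) = 0` fail) -/
noncomputable def eichlerO (u w : ι → F) : Cfsg.isometryGroup F ⇑Q :=
  if h : Q u = 0 ∧ polar ⇑Q u w = 0 then
    isoOfLin Q (eichlerEquiv Q u w h.1 h.2) (fun v => by
      have h1 : QuadraticMap.polarBilin Q u w = 0 := by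
        rw [QuadraticMap.polarBilin_apply_apply]; exact h.2
      show Q (Helper14.eichler Q u w v) = Q v
      exact Helper14.quad_eichler Q u w h.1 h1 v)
  else 1

theorem lin_eichlerO {u w : ι → F} (hu : Q u = 0) (huw : polar ⇑Q u w = 0) (x : ι → F) :
    lin Q (eichlerO Q u w) x
      = x + polar ⇑Q w x • u - polar ⇑Q u x • w - (Q w * polar ⇑Q u x) • u := by
  unfold eichlerO
  rw [dif_pos ⟨hu, huw⟩, lin_isoOfLin]
  show Helper14.eichler Q u w x = _
  rw [Helper14.eichler_apply]
  simp only [QuadraticMap.polarBilin_apply_apply]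

theorem eichlerO_mul {u w₁ w₂ : ι → F} (hu : Q u = 0) (h₁ : polar ⇑Q u w₁ = 0)
    (h₂ : polar ⇑Q u w₂ = 0) : eichlerO Q u w₁ * eichlerO Q u w₂ = eichlerO Q u (w₁ + w₂) := by
  apply isom_ext
  intro x
  have h12 : polar ⇑Q u (w₁ + w₂) = 0 := by rw [QuadraticMap.polar_add_right, h₁, h₂, add_zero]
  have e1 : ∀ {w : ι → F} (hw : polar ⇑Q u w = 0) (y : ι → F),
      lin Q (eichlerO Q u w) y = Helper14.eichler Q u w y := by
    intro w hw y
    rw [lin_eichlerO Q hu hw, Helper14.eichler_apply]
    simp only [QuadraticMap.polarBilin_apply_apply]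
  rw [lin_mul_apply, e1 h₂, e1 h₁, e1 h12]
  apply Helper14.eichler_eichler Q u w₁ w₂ hu
  · rw [QuadraticMap.polarBilin_apply_apply]; exact h₁
  · rw [QuadraticMap.polarBilin_apply_apply]; exact h₂

theorem eichlerO_zero (u : ι → F) : eichlerO Q u 0 = 1 := by
  by_cases hu : Q u = 0
  · apply isom_ext
    intro x
    rw [lin_eichlerO Q hu (QuadraticMap.polar_zero_right _ _), lin_one_apply]
    simp
  · unfold eichlerO
    rw [dif_neg (fun h => hu h.1)]

theorem eichlerO_inv {u w : ι → F} (hu : Q u = 0) (huw : polar ⇑Q u w = 0) :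
    (eichlerO Q u w)⁻¹ = eichlerO Q u (-w) := by
  rw [inv_eq_iff_mul_eq_one]
  have h2 : polar ⇑Q u (-w) = 0 := by rw [QuadraticMap.polar_neg_right, huw, neg_zero]
  rw [eichlerO_mul Q hu huw h2, add_neg_cancel, eichlerO_zero]

/-- conjugation formula `g E(u,w) g⁻¹ = E(gu, gw)` -/
theorem eichlerO_conj (g : Cfsg.isometryGroup F ⇑Q) {u w : ι → F} (hu : Q u = 0)
    (huw : polar ⇑Q u w = 0) :
    g * eichlerO Q u w * g⁻¹ = eichlerO Q (lin Q g u) (lin Q g w) := by
  apply isom_ext
  intro x
  have hu' : Q (lin Q g u) = 0 := by rw [lin_isometry, hu]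
  have huw' : polar ⇑Q (lin Q g u) (lin Q g w) = 0 := by rw [polar_lin, huw]
  rw [lin_mul_apply, lin_mul_apply, lin_eichlerO Q hu huw, lin_eichlerO Q hu' huw']
  have e1 : ∀ y : ι → F, polar ⇑Q (lin Q g y) x = polar ⇑Q y (lin Q g⁻¹ x) := by
    intro y
    conv_lhs => rw [← lin_apply_inv Q g x]
    rw [polar_lin]
  rw [e1 u, e1 w, lin_isometry]
  simp only [map_add, map_sub, map_smul, lin_apply_inv]

/-- `E(u, w + c u) = E(u, w)` -/
theorem eichlerO_add_smul {u w : ι → F} (hu : Q u = 0) (huw : polar ⇑Q u w = 0) (c : F) :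
    eichlerO Q u (w + c • u) = eichlerO Q u w := by
  have huu : polar ⇑Q u u = 0 := by
    rw [QuadraticMap.polar_self, hu, smul_zero]
  have h2 : polar ⇑Q u (c • u) = 0 := by
    rw [QuadraticMap.polar_smul_right, huu, smul_zero]
  have h3 : eichlerO Q u (c • u) = 1 := by
    apply isom_ext
    intro x
    rw [lin_eichlerO Q hu h2, lin_one_apply, QuadraticMap.polar_smul_left, QuadraticMap.map_smul,
      hu]
    simp only [smul_eq_mul, mul_zero, zero_mul, zero_smul, sub_zero]
    rw [smul_smul, mul_comm, add_sub_cancel_right]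
  rw [← eichlerO_mul Q hu huw h2, h3, mul_one]

/-- `E(c u, w) = E(u, c w)` -/
theorem eichlerO_smul_left {u w : ι → F} (hu : Q u = 0) (huw : polar ⇑Q u w = 0) (c : F) :
    eichlerO Q (c • u) w = eichlerO Q u (c • w) := by
  have h1 : Q (c • u) = 0 := by rw [QuadraticMap.map_smul, hu, smul_zero]
  have h2 : polar ⇑Q (c • u) w = 0 := by rw [QuadraticMap.polar_smul_left, huw, smul_zero]
  have h3 : polar ⇑Q u (c • w) = 0 := by rw [QuadraticMap.polar_smul_right, huw, smul_zero]
  apply isom_ext
  intro x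
  rw [lin_eichlerO Q h1 h2, lin_eichlerO Q hu h3, QuadraticMap.polar_smul_left,
    QuadraticMap.polar_smul_left, QuadraticMap.map_smul]
  simp only [smul_eq_mul]
  module

/-- the set of all Eichler transformations -/
def eichlerSet : Set (Cfsg.isometryGroup F ⇑Q) :=
  {g | ∃ u w : ι → F, Q u = 0 ∧ polar ⇑Q u w = 0 ∧ g = eichlerO Q u w}

/-- the subgroup generated by all Eichler transformations -/
def eichlerGroup : Subgroup (Cfsg.isometryGroup F ⇑Q) := Subgroup.closure (eichlerSet Q)

theorem eichlerO_mem_eichlerGroup (u w : ι → F) : eichlerO Q u w ∈ eichlerGroup Q := by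
  by_cases h : Q u = 0 ∧ polar ⇑Q u w = 0
  · exact Subgroup.subset_closure ⟨u, w, h.1, h.2, rfl⟩
  · unfold eichlerO
    rw [dif_neg h]
    exact one_mem _

instance eichlerGroup_normal : (eichlerGroup Q).Normal := by
  refine ⟨fun n hn g => ?_⟩
  unfold eichlerGroup at hn ⊢
  induction hn using Subgroup.closure_induction with
  | mem x hx =>
    obtain ⟨u, w, hu, huw, rfl⟩ := hx
    rw [eichlerO_conj Q g hu huw]
    apply Subgroup.subset_closure
    refine ⟨lin Q g u, lin Q g w, ?_, ?_, rfl⟩
    · rw [lin_isometry, hu]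
    · rw [polar_lin, huw]
  | one => simp
  | mul x y _ _ hx hy =>
    have : g * (x * y) * g⁻¹ = (g * x * g⁻¹) * (g * y * g⁻¹) := by group
    rw [this]
    exact mul_mem hx hy
  | inv x _ hx =>
    have : g * x⁻¹ * g⁻¹ = (g * x * g⁻¹)⁻¹ := by group
    rw [this]
    exact inv_mem hx

end Cfsg.Agent.Helper5
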