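import Mathlib
import Cfsg.Prelude.Def_Classical
import Cfsg.Agent.Helper45.Isometry
import Cfsg.Agent.Helper45.IsoEquiv

set_option autoImplicit false
set_option linter.unusedSectionVars false

namespace Cfsg.Agent.Helper5

open Matrix

section
variable {F : Type*} [Field F] {ι : Type} [Fintype ι] [DecidableEq ι]

/-- `Q₀` is a non-defective quadratic form with polar matrix `M`. -/
structure IsQF (Q₀ : (ι → F) → F) (M : Matrix ι ι F) : Prop where
  add : ∀ x y, Q₀ (x + y) = Q₀ x + Q₀ y + x ⬝ᵥ M *ᵥ y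
  smul : ∀ (a : F) x, Q₀ (a • x) = a ^ 2 * Q₀ x
  nd : ∀ x, Q₀ x = 0 → (∀ y, x ⬝ᵥ M *ᵥ y = 0) → x = 0

namespace IsQF
variable {Q₀ : (ι → F) → F} {M : Matrix ι ι F} (h : IsQF Q₀ M)
include h

theorem zero : Q₀ 0 = 0 := by
  have := h.smul 0 0
  simpa using this

theorem neg (x : ι → F) : Q₀ (-x) = Q₀ x := by
  have := h.smul (-1) x
  simpa using this

theorem symm (x y : ι → F) : x ⬝ᵥ M *ᵥ y = y ⬝ᵥ M *ᵥ x := by
  have h1 := h.add x y
  have h2 := h.add y x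
  rw [add_comm y x] at h2
  linear_combination h2 - h1

theorem sub_smul (x u : ι → F) (t : F) :
    Q₀ (x - t • u) = Q₀ x - t * (x ⬝ᵥ M *ᵥ u) + t ^ 2 * Q₀ u := by
  have : x - t • u = x + (-t) • u := by rw [neg_smul, sub_eq_add_neg]
  rw [this, h.add, h.smul, Matrix.mulVec_smul, dotProduct_smul, smul_eq_mul]
  ring

end IsQF

/-- `Q₀` plus a hyperbolic plane. -/
def addHyp (Q₀ : (ι → F) → F) (w : ι ⊕ Fin 2 → F) : F :=
  Q₀ (w ∘ Sum.inl) + w (Sum.inr 0) * w (Sum.inr 1)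

theorem addHyp_elim (Q₀ : (ι → F) → F) (v : ι → F) (p : Fin 2 → F) :
    addHyp Q₀ (Sum.elim v p) = Q₀ v + p 0 * p 1 := by
  simp [addHyp]

/-- polar matrix of `addHyp` -/
def addHypM (M : Matrix ι ι F) : Matrix (ι ⊕ Fin 2) (ι ⊕ Fin 2) F :=
  fromBlocks M 0 0 !![0, 1; 1, 0]

theorem addHypM_form (M : Matrix ι ι F) (v v' : ι → F) (p p' : Fin 2 → F) :
    Sum.elim v p ⬝ᵥ addHypM M *ᵥ Sum.elim v' p' = v ⬝ᵥ M *ᵥ v' + p 0 * p' 1 + p 1 * p' 0 := by
  rw [addHypM, fromBlocks_mulVec]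
  simp only [Sum.elim_comp_inl, Sum.elim_comp_inr, Matrix.zero_mulVec, add_zero, zero_add]
  rw [sumElim_dotProduct_sumElim]
  simp [Matrix.mulVec, dotProduct, Fin.sum_univ_two]
  ring

theorem sum_elim_add (v v' : ι → F) (p p' : Fin 2 → F) :
    Sum.elim v p + Sum.elim v' p' = Sum.elim (v + v') (p + p') := by
  ext x; rcases x with i | i <;> simp

theorem sum_elim_smul (a : F) (v : ι → F) (p : Fin 2 → F) :
    a • Sum.elim v p = Sum.elim (a • v) (a • p) := by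
  ext x; rcases x with i | i <;> simp

theorem sum_elim_eta (w : ι ⊕ Fin 2 → F) : w = Sum.elim (w ∘ Sum.inl) (w ∘ Sum.inr) :=
  (Sum.elim_comp_inl_inr w).symm

theorem IsQF.addHyp {Q₀ : (ι → F) → F} {M : Matrix ι ι F} (h : IsQF Q₀ M) :
    IsQF (addHyp Q₀) (addHypM M) where
  add x y := by
    rw [sum_elim_eta x, sum_elim_eta y, sum_elim_add, addHyp_elim, addHyp_elim, addHyp_elim,
      addHypM_form, h.add]
    simp only [Pi.add_apply]
    ring
  smul a x := by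
    rw [sum_elim_eta x, sum_elim_smul, addHyp_elim, addHyp_elim, h.smul]
    simp only [Pi.smul_apply, smul_eq_mul]
    ring
  nd x hx hxy := by
    rw [sum_elim_eta x] at hx hxy ⊢
    set v := x ∘ Sum.inl
    set p := x ∘ Sum.inr
    have h0 : p 0 = 0 := by
      have := hxy (Sum.elim 0 ![0, 1])
      rw [addHypM_form] at this
      simpa using this
    have h1 : p 1 = 0 := by
      have := hxy (Sum.elim 0 ![1, 0])
      rw [addHypM_form] at this
      simpa using this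
    have hv : v = 0 := by
      apply h.nd
      · rw [addHyp_elim, h0] at hx
        simpa using hx
      · intro y
        have := hxy (Sum.elim y 0)
        rw [addHypM_form] at this
        simpa using this
    have hp : p = 0 := by
      ext i; fin_cases i
      · exact h0
      · exact h1
    rw [hv, hp]
    ext i; rcases i with i | i <;> simp

/-! ### Form-preserving matrices -/

section pres
variable {κ : Type} [Fintype κ] [DecidableEq κ]

/-- the matrix `A` preserves `Q` -/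
def Pres (Q : (κ → F) → F) (A : Matrix κ κ F) : Prop := ∀ w, Q (A *ᵥ w) = Q w

theorem Pres.mul {Q : (κ → F) → F} {A B : Matrix κ κ F} (hA : Pres Q A) (hB : Pres Q B) :
    Pres Q (A * B) := by
  intro w
  rw [← Matrix.mulVec_mulVec, hA, hB]

theorem Pres.polar {Q : (κ → F) → F} {M : Matrix κ κ F} (h : IsQF Q M) {A : Matrix κ κ F}
    (hA : Pres Q A) (x y : κ → F) : (A *ᵥ x) ⬝ᵥ M *ᵥ (A *ᵥ y) = x ⬝ᵥ M *ᵥ y := by
  have h1 := h.add x y
  have h2 := h.add (A *ᵥ x) (A *ᵥ y)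
  rw [← Matrix.mulVec_add, hA, hA, hA] at h2
  linear_combination h1 - h2

theorem exists_isometry_of_pres {Q : (κ → F) → F} {M : Matrix κ κ F} (h : IsQF Q M)
    {A : Matrix κ κ F} (hA : Pres Q A) :
    ∃ g : GL κ F, g ∈ Cfsg.isometryGroup F Q ∧ g.1 = A := by
  have hinj : Function.Injective A.mulVec := by
    intro x y hxy
    have : x - y = 0 := by
      apply h.nd
      · rw [← hA, Matrix.mulVec_sub, hxy, sub_self, h.zero]
      · intro z
        rw [← hA.polar h, Matrix.mulVec_sub, hxy, sub_self, zero_dotProduct]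
    exact sub_eq_zero.1 this
  have hu : IsUnit A := Matrix.mulVec_injective_iff_isUnit.1 hinj
  refine ⟨hu.unit, ?_, rfl⟩
  rw [Cfsg.Agent.Helper45.mem_isometryGroup_iff]
  exact hA

theorem pres_of_mem {Q : (κ → F) → F} (g : Cfsg.isometryGroup F Q) : Pres Q g.1.1 :=
  (Cfsg.Agent.Helper45.mem_isometryGroup_iff Q g.1).1 g.2

end pres

/-! ### Generators -/

/-- torus element `(v, s, t) ↦ (v, l s, l⁻¹ t)` -/
def hypTorus (ι : Type) [Fintype ι] [DecidableEq ι] (l : F) : Matrix (ι ⊕ Fin 2) (ι ⊕ Fin 2) F :=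
  fromBlocks 1 0 0 !![l, 0; 0, l⁻¹]

theorem hypTorus_mulVec (l : F) (v : ι → F) (p : Fin 2 → F) :
    hypTorus ι l *ᵥ Sum.elim v p = Sum.elim v ![l * p 0, l⁻¹ * p 1] := by
  rw [hypTorus, fromBlocks_mulVec]
  simp only [Sum.elim_comp_inl, Sum.elim_comp_inr, Matrix.zero_mulVec, add_zero, zero_add,
    Matrix.one_mulVec]
  congr 1
  ext i; fin_cases i <;> simp [Matrix.mulVec, dotProduct, Fin.sum_univ_two]

/-- swap `(v, s, t) ↦ (v, t, s)` -/
def hypSwap (ι : Type) [Fintype ι] [DecidableEq ι] (F : Type*) [Field F] :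
    Matrix (ι ⊕ Fin 2) (ι ⊕ Fin 2) F :=
  fromBlocks 1 0 0 !![0, 1; 1, 0]

theorem hypSwap_mulVec (v : ι → F) (p : Fin 2 → F) :
    hypSwap ι F *ᵥ Sum.elim v p = Sum.elim v ![p 1, p 0] := by
  rw [hypSwap, fromBlocks_mulVec]
  simp only [Sum.elim_comp_inl, Sum.elim_comp_inr, Matrix.zero_mulVec, add_zero, zero_add,
    Matrix.one_mulVec]
  congr 1
  ext i; fin_cases i <;> simp [Matrix.mulVec, dotProduct, Fin.sum_univ_two]

/-- Siegel transformation `(v, s, t) ↦ (v - t u, s + B(v,u) - Q₀(u) t, t)` -/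
def hypSiegel (Q₀ : (ι → F) → F) (M : Matrix ι ι F) (u : ι → F) :
    Matrix (ι ⊕ Fin 2) (ι ⊕ Fin 2) F :=
  fromBlocks 1 (Matrix.of fun i j => if j = 1 then -u i else 0)
    (Matrix.of fun j i => if j = 0 then (M *ᵥ u) i else 0) !![1, -Q₀ u; 0, 1]

theorem hypSiegel_mulVec (Q₀ : (ι → F) → F) (M : Matrix ι ι F) (u : ι → F) (v : ι → F)
    (p : Fin 2 → F) :
    hypSiegel Q₀ M u *ᵥ Sum.elim v p =
      Sum.elim (v - p 1 • u) ![p 0 + v ⬝ᵥ M *ᵥ u - Q₀ u * p 1, p 1] := by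
  have hB : (Matrix.of fun (i : ι) (j : Fin 2) => if j = 1 then -u i else 0) *ᵥ p = -(p 1 • u) := by
    ext i
    simp [Matrix.mulVec, dotProduct, Fin.sum_univ_two]
    ring
  have hC : (Matrix.of fun (j : Fin 2) (i : ι) => if j = 0 then (M *ᵥ u) i else 0) *ᵥ v =
      ![v ⬝ᵥ M *ᵥ u, 0] := by
    ext j; fin_cases j
    · change (fun i => (M *ᵥ u) i) ⬝ᵥ v = v ⬝ᵥ M *ᵥ u
      exact dotProduct_comm _ _
    · simp [Matrix.mulVec, dotProduct]
  have hD : (!![1, -Q₀ u; 0, 1] : Matrix (Fin 2) (Fin 2) F) *ᵥ p = ![p 0 - Q₀ u * p 1, p 1] := by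
    ext j; fin_cases j <;> simp [Matrix.mulVec, dotProduct, Fin.sum_univ_two] <;> ring
  rw [hypSiegel, fromBlocks_mulVec]
  simp only [Sum.elim_comp_inl, Sum.elim_comp_inr, Matrix.one_mulVec, hB, hC, hD]
  congr 1
  · rw [sub_eq_add_neg]
  · ext j; fin_cases j <;> simp <;> ring

theorem pres_hypTorus (Q₀ : (ι → F) → F) {l : F} (hl : l ≠ 0) :
    Pres (addHyp Q₀) (hypTorus ι l) := by
  intro w
  rw [sum_elim_eta w, hypTorus_mulVec, addHyp_elim, addHyp_elim]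
  simp only [Matrix.cons_val_zero, Matrix.cons_val_one]
  field_simp

theorem pres_hypSwap (Q₀ : (ι → F) → F) : Pres (addHyp Q₀) (hypSwap ι F) := by
  intro w
  rw [sum_elim_eta w, hypSwap_mulVec, addHyp_elim, addHyp_elim]
  simp only [Matrix.cons_val_zero, Matrix.cons_val_one]
  ring

theorem pres_hypSiegel {Q₀ : (ι → F) → F} {M : Matrix ι ι F} (h : IsQF Q₀ M) (u : ι → F) :
    Pres (addHyp Q₀) (hypSiegel Q₀ M u) := by
  intro w
  rw [sum_elim_eta w, hypSiegel_mulVec, addHyp_elim, addHyp_elim, h.sub_smul]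
  simp only [Matrix.cons_val_zero, Matrix.cons_val_one]
  ring

/-- standard hyperbolic pair -/
def hypE0 (ι : Type) (F : Type*) [Field F] : ι ⊕ Fin 2 → F := Sum.elim 0 ![1, 0]
def hypF0 (ι : Type) (F : Type*) [Field F] : ι ⊕ Fin 2 → F := Sum.elim 0 ![0, 1]

theorem fin2_eta (p : Fin 2 → F) : p = ![p 0, p 1] := by
  ext i; fin_cases i <;> rfl

/-- singular vectors with last coordinate nonzero are images of `f₀` -/
theorem exists_pres_of_t_ne_zero {Q₀ : (ι → F) → F} {M : Matrix ι ι F} (h : IsQF Q₀ M)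
    (v : ι → F) (s t : F) (hx : Q₀ v + s * t = 0) (ht : t ≠ 0) :
    ∃ A, Pres (addHyp Q₀) A ∧ A *ᵥ hypF0 ι F = Sum.elim v ![s, t] := by
  refine ⟨hypTorus ι t⁻¹ * hypSiegel Q₀ M (-v), (pres_hypTorus Q₀ (inv_ne_zero ht)).mul
    (pres_hypSiegel h _), ?_⟩
  rw [← Matrix.mulVec_mulVec, hypF0, hypSiegel_mulVec, hypTorus_mulVec]
  simp only [Matrix.cons_val_zero, Matrix.cons_val_one, h.neg]
  congr 1
  · simp
  · ext i; fin_cases i
    · simp
      field_simp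
      linear_combination -hx
    · simp

theorem exists_pres_of_s_ne_zero {Q₀ : (ι → F) → F} {M : Matrix ι ι F} (h : IsQF Q₀ M)
    (v : ι → F) (s t : F) (hx : Q₀ v + s * t = 0) (hs : s ≠ 0) :
    ∃ A, Pres (addHyp Q₀) A ∧ A *ᵥ hypF0 ι F = Sum.elim v ![s, t] := by
  obtain ⟨A, hA, hAf⟩ := exists_pres_of_t_ne_zero h v t s (by rw [← hx]; ring) hs
  refine ⟨hypSwap ι F * A, (pres_hypSwap Q₀).mul hA, ?_⟩
  rw [← Matrix.mulVec_mulVec, hAf, hypSwap_mulVec]
  simp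

/-- transitivity on non-zero singular vectors -/
theorem exists_pres_of_singular {Q₀ : (ι → F) → F} {M : Matrix ι ι F} (h : IsQF Q₀ M)
    (x : ι ⊕ Fin 2 → F) (hx : addHyp Q₀ x = 0) (hx0 : x ≠ 0) :
    ∃ A, Pres (addHyp Q₀) A ∧ A *ᵥ hypF0 ι F = x := by
  rw [sum_elim_eta x, fin2_eta (x ∘ Sum.inr)] at hx hx0 ⊢
  set v := x ∘ Sum.inl
  set s := (x ∘ Sum.inr) 0
  set t := (x ∘ Sum.inr) 1
  rw [addHyp_elim] at hx
  simp only [Matrix.cons_val_zero, Matrix.cons_val_one] at hx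
  by_cases ht : t = 0
  · by_cases hs : s = 0
    · -- the case `(v, 0, 0)`
      have hv0 : v ≠ 0 := by
        intro hv
        apply hx0
        rw [hv, hs, ht]
        ext i; rcases i with i | i
        · simp
        · fin_cases i <;> simp
      have hQv : Q₀ v = 0 := by rw [hs, ht] at hx; simpa using hx
      obtain ⟨u, hu⟩ : ∃ u, v ⬝ᵥ M *ᵥ u ≠ 0 := by
        by_contra hcon
        push Not at hcon
        exact hv0 (h.nd v hQv hcon)
      obtain ⟨A, hA, hAf⟩ := exists_pres_of_s_ne_zero h v (v ⬝ᵥ M *ᵥ u) 0 (by rw [hQv]; ring) hu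
      refine ⟨hypSiegel Q₀ M (-u) * A, (pres_hypSiegel h _).mul hA, ?_⟩
      rw [← Matrix.mulVec_mulVec, hAf, hypSiegel_mulVec, hs, ht]
      simp only [Matrix.cons_val_zero, Matrix.cons_val_one, Matrix.mulVec_neg, dotProduct_neg]
      congr 1
      · simp
      · ext i; fin_cases i <;> simp
    · exact exists_pres_of_s_ne_zero h v s t hx hs
  · exact exists_pres_of_t_ne_zero h v s t hx ht

theorem hypSwap_E0 : hypSwap ι F *ᵥ hypE0 ι F = hypF0 ι F := by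
  rw [hypE0, hypSwap_mulVec, hypF0]
  simp

theorem hypSiegel_E0 (Q₀ : (ι → F) → F) (M : Matrix ι ι F) (u : ι → F) :
    hypSiegel Q₀ M u *ᵥ hypE0 ι F = hypE0 ι F := by
  rw [hypE0, hypSiegel_mulVec]
  congr 1
  · simp
  · ext i; fin_cases i <;> simp

theorem polar_E0 (M : Matrix ι ι F) (v : ι → F) (p : Fin 2 → F) :
    hypE0 ι F ⬝ᵥ addHypM M *ᵥ Sum.elim v p = p 1 := by
  rw [hypE0, addHypM_form]
  simp

theorem polar_F0 (M : Matrix ι ι F) (v : ι → F) (p : Fin 2 → F) :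
    hypF0 ι F ⬝ᵥ addHypM M *ᵥ Sum.elim v p = p 0 := by
  rw [hypF0, addHypM_form]
  simp

theorem addHyp_E0 {Q₀ : (ι → F) → F} {M : Matrix ι ι F} (h : IsQF Q₀ M) :
    addHyp Q₀ (hypE0 ι F) = 0 := by
  rw [hypE0, addHyp_elim, h.zero]; simp

theorem addHyp_F0 {Q₀ : (ι → F) → F} {M : Matrix ι ι F} (h : IsQF Q₀ M) :
    addHyp Q₀ (hypF0 ι F) = 0 := by
  rw [hypF0, addHyp_elim, h.zero]; simp

/-- transitivity on hyperbolic pairs -/
theorem exists_pres_of_hyperbolic_pair {Q₀ : (ι → F) → F} {M : Matrix ι ι F} (h : IsQF Q₀ M)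
    (e f : ι ⊕ Fin 2 → F) (he : addHyp Q₀ e = 0) (hf : addHyp Q₀ f = 0)
    (hef : e ⬝ᵥ addHypM M *ᵥ f = 1) :
    ∃ A, Pres (addHyp Q₀) A ∧ A *ᵥ hypE0 ι F = e ∧ A *ᵥ hypF0 ι F = f := by
  have he0 : e ≠ 0 := by
    rintro rfl
    rw [zero_dotProduct] at hef
    exact zero_ne_one hef
  obtain ⟨A₀, hA₀, hA₀f⟩ := exists_pres_of_singular h e he he0
  set A₁ := A₀ * hypSwap ι F with hA₁def
  have hA₁ : Pres (addHyp Q₀) A₁ := hA₀.mul (pres_hypSwap Q₀)
  have hA₁e : A₁ *ᵥ hypE0 ι F = e := by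
    rw [hA₁def, ← Matrix.mulVec_mulVec, hypSwap_E0, hA₀f]
  obtain ⟨g, hg, hgA⟩ := exists_isometry_of_pres h.addHyp hA₁
  -- preimage of f
  set f' := (g⁻¹ : GL (ι ⊕ Fin 2) F).1 *ᵥ f with hf'
  have hgf' : A₁ *ᵥ f' = f := by
    rw [hf', ← hgA, Matrix.mulVec_mulVec, ← Units.val_mul, mul_inv_cancel, Units.val_one,
      Matrix.one_mulVec]
  have hQf' : addHyp Q₀ f' = 0 := by rw [← hA₁, hgf', hf]
  have hpol : hypE0 ι F ⬝ᵥ addHypM M *ᵥ f' = 1 := by
    rw [← hA₁.polar h.addHyp, hA₁e, hgf', hef]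
  rw [sum_elim_eta f', fin2_eta (f' ∘ Sum.inr)] at hQf' hpol hgf'
  set v := f' ∘ Sum.inl
  set s := (f' ∘ Sum.inr) 0
  set t := (f' ∘ Sum.inr) 1
  rw [polar_E0] at hpol
  have hpol : t = 1 := hpol
  rw [addHyp_elim] at hQf'
  simp only [Matrix.cons_val_zero, Matrix.cons_val_one] at hQf'
  rw [hpol, mul_one] at hQf'
  refine ⟨A₁ * hypSiegel Q₀ M (-v), hA₁.mul (pres_hypSiegel h _), ?_, ?_⟩
  · rw [← Matrix.mulVec_mulVec, hypSiegel_E0, hA₁e]
  · rw [← Matrix.mulVec_mulVec, ← hgf']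
    congr 1
    rw [hypF0, hypSiegel_mulVec, hpol]
    simp only [Matrix.cons_val_zero, Matrix.cons_val_one, h.neg]
    congr 1
    · simp
    · ext i; fin_cases i
      · simp; linear_combination -hQf'
      · simp

/-! ### The stabilizer of the standard hyperbolic pair -/

theorem hypExtend_mulVec (A : Matrix ι ι F) (v : ι → F) (p : Fin 2 → F) :
    fromBlocks A 0 0 (1 : Matrix (Fin 2) (Fin 2) F) *ᵥ Sum.elim v p = Sum.elim (A *ᵥ v) p := by
  rw [fromBlocks_mulVec]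
  simp

theorem pres_hypExtend {Q₀ : (ι → F) → F} {A : Matrix ι ι F} (hA : Pres Q₀ A) :
    Pres (addHyp Q₀) (fromBlocks A 0 0 (1 : Matrix (Fin 2) (Fin 2) F)) := by
  intro w
  rw [sum_elim_eta w, hypExtend_mulVec, addHyp_elim, addHyp_elim, hA]

/-- structure of matrices fixing the standard hyperbolic pair -/
theorem hyp_stab_structure {Q₀ : (ι → F) → F} {M : Matrix ι ι F} (h : IsQF Q₀ M)
    (A : Matrix (ι ⊕ Fin 2) (ι ⊕ Fin 2) F) (hA : Pres (addHyp Q₀) A)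
    (hE : A *ᵥ hypE0 ι F = hypE0 ι F) (hF : A *ᵥ hypF0 ι F = hypF0 ι F) :
    A = fromBlocks A.toBlocks₁₁ 0 0 1 ∧ Pres Q₀ A.toBlocks₁₁ := by
  have hAb := (Matrix.fromBlocks_toBlocks A).symm
  set A₁₁ := A.toBlocks₁₁
  set A₁₂ := A.toBlocks₁₂
  set A₂₁ := A.toBlocks₂₁
  set A₂₂ := A.toBlocks₂₂
  -- columns
  have hcolE : A₁₂ *ᵥ ![1, 0] = 0 ∧ A₂₂ *ᵥ ![1, 0] = ![1, 0] := by
    rw [hAb] at hE
    unfold hypE0 at hE
    rw [fromBlocks_mulVec] at hE
    have h1 := congrArg (fun f => f ∘ Sum.inl) hE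
    have h2 := congrArg (fun f => f ∘ Sum.inr) hE
    simp only [Sum.elim_comp_inl, Sum.elim_comp_inr, Matrix.mulVec_zero, zero_add] at h1 h2
    exact ⟨h1, h2⟩
  have hcolF : A₁₂ *ᵥ ![0, 1] = 0 ∧ A₂₂ *ᵥ ![0, 1] = ![0, 1] := by
    rw [hAb] at hF
    unfold hypF0 at hF
    rw [fromBlocks_mulVec] at hF
    have h1 := congrArg (fun f => f ∘ Sum.inl) hF
    have h2 := congrArg (fun f => f ∘ Sum.inr) hF
    simp only [Sum.elim_comp_inl, Sum.elim_comp_inr, Matrix.mulVec_zero, zero_add] at h1 h2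
    exact ⟨h1, h2⟩
  have h12 : A₁₂ = 0 := by
    ext i j
    fin_cases j
    · have := congr_fun hcolE.1 i
      simpa [Matrix.mulVec, dotProduct, Fin.sum_univ_two] using this
    · have := congr_fun hcolF.1 i
      simpa [Matrix.mulVec, dotProduct, Fin.sum_univ_two] using this
  have h22 : A₂₂ = 1 := by
    ext i j
    fin_cases j
    · have := congr_fun hcolE.2 i
      fin_cases i <;> simpa [Matrix.mulVec, dotProduct, Fin.sum_univ_two] using this
    · have := congr_fun hcolF.2 i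
      fin_cases i <;> simpa [Matrix.mulVec, dotProduct, Fin.sum_univ_two] using this
  -- rows
  have hrow : ∀ v : ι → F, A₂₁ *ᵥ v = 0 := by
    intro v
    have hAx : A *ᵥ Sum.elim v 0 = Sum.elim (A₁₁ *ᵥ v) (A₂₁ *ᵥ v) := by
      rw [hAb, fromBlocks_mulVec]
      simp
    have h1 := hA.polar h.addHyp (hypE0 ι F) (Sum.elim v 0)
    rw [hE, hAx, polar_E0, polar_E0] at h1
    have h2 := hA.polar h.addHyp (hypF0 ι F) (Sum.elim v 0)
    rw [hF, hAx, polar_F0, polar_F0] at h2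
    ext i; fin_cases i
    · simpa using h2
    · simpa using h1
  have h21 : A₂₁ = 0 := by
    ext i j
    have := congr_fun (hrow (Pi.single j 1)) i
    rw [Matrix.mulVec_single_one] at this
    exact this
  rw [h12, h21, h22] at hAb
  refine ⟨hAb, ?_⟩
  intro v
  have := hA (Sum.elim v 0)
  rw [hAb, hypExtend_mulVec, addHyp_elim, addHyp_elim] at this
  simpa using this

/-- block embedding of matrices as a monoid hom -/
def hypExtendHom (ι : Type) [Fintype ι] [DecidableEq ι] (F : Type*) [Field F] :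
    Matrix ι ι F →* Matrix (ι ⊕ Fin 2) (ι ⊕ Fin 2) F where
  toFun A := fromBlocks A 0 0 1
  map_one' := fromBlocks_one
  map_mul' A B := by
    rw [fromBlocks_multiply]
    simp

theorem isom_smul_def {κ : Type} [Fintype κ] [DecidableEq κ] {Q : (κ → F) → F}
    (g : Cfsg.isometryGroup F Q) (v : κ → F) : g • v = g.1.1 *ᵥ v := rfl

/-- block embedding `O(Q₀) → O(Q₀ ⊕ H)` -/
def hypExtendIso (Q₀ : (ι → F) → F) :
    Cfsg.isometryGroup F Q₀ →* Cfsg.isometryGroup F (addHyp Q₀) :=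
  ((Units.map (hypExtendHom ι F)).comp (Cfsg.isometryGroup F Q₀).subtype).codRestrict _ (fun g => by
    rw [Cfsg.Agent.Helper45.mem_isometryGroup_iff]
    exact pres_hypExtend (pres_of_mem g))

theorem hypExtendIso_coe (Q₀ : (ι → F) → F) (g : Cfsg.isometryGroup F Q₀) :
    ((hypExtendIso Q₀ g).1 : GL (ι ⊕ Fin 2) F).1 = fromBlocks g.1.1 0 0 1 := rfl

theorem hypExtendIso_mem_stabilizer (Q₀ : (ι → F) → F) (g : Cfsg.isometryGroup F Q₀) :
    hypExtendIso Q₀ g ∈ MulAction.stabilizer (Cfsg.isometryGroup F (addHyp Q₀))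
      (hypE0 ι F, hypF0 ι F) := by
  rw [MulAction.mem_stabilizer_iff, Prod.smul_mk, isom_smul_def, isom_smul_def, hypExtendIso_coe]
  unfold hypE0 hypF0
  rw [hypExtend_mulVec, hypExtend_mulVec]
  simp

theorem hypExtendIso_bijective {Q₀ : (ι → F) → F} {M : Matrix ι ι F} (h : IsQF Q₀ M) :
    Function.Bijective (fun g : Cfsg.isometryGroup F Q₀ =>
      (⟨hypExtendIso Q₀ g, hypExtendIso_mem_stabilizer Q₀ g⟩ :
        MulAction.stabilizer (Cfsg.isometryGroup F (addHyp Q₀)) (hypE0 ι F, hypF0 ι F))) := by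
  constructor
  · intro g g' hgg
    have h1 := congrArg (fun x => ((x.1.1 : GL (ι ⊕ Fin 2) F).1)) hgg
    simp only [hypExtendIso_coe] at h1
    rw [fromBlocks_inj] at h1
    exact Subtype.ext (Units.ext h1.1)
  · rintro ⟨A, hA⟩
    rw [MulAction.mem_stabilizer_iff, Prod.smul_mk, Prod.mk.injEq, isom_smul_def,
      isom_smul_def] at hA
    obtain ⟨hstr, hpres⟩ := hyp_stab_structure h A.1.1 (pres_of_mem A) hA.1 hA.2
    obtain ⟨g, hg, hgM⟩ := exists_isometry_of_pres h hpres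
    refine ⟨⟨g, hg⟩, ?_⟩
    apply Subtype.ext
    apply Subtype.ext
    apply Units.ext
    rw [hypExtendIso_coe, hgM]
    exact hstr.symm

/-- the set of hyperbolic pairs -/
def hypPairs (Q₀ : (ι → F) → F) (M : Matrix ι ι F) :
    Set ((ι ⊕ Fin 2 → F) × (ι ⊕ Fin 2 → F)) :=
  {p | addHyp Q₀ p.1 = 0 ∧ addHyp Q₀ p.2 = 0 ∧ p.1 ⬝ᵥ addHypM M *ᵥ p.2 = 1}

theorem orbit_hypPair {Q₀ : (ι → F) → F} {M : Matrix ι ι F} (h : IsQF Q₀ M) :
    MulAction.orbit (Cfsg.isometryGroup F (addHyp Q₀)) (hypE0 ι F, hypF0 ι F) = hypPairs Q₀ M := by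
  ext ⟨e, f⟩
  constructor
  · rintro ⟨g, hg⟩
    have h1 : g.1.1 *ᵥ hypE0 ι F = e := congrArg Prod.fst hg
    have h2 : g.1.1 *ᵥ hypF0 ι F = f := congrArg Prod.snd hg
    refine ⟨?_, ?_, ?_⟩
    · change addHyp Q₀ e = 0
      rw [← h1, pres_of_mem g, addHyp_E0 h]
    · change addHyp Q₀ f = 0
      rw [← h2, pres_of_mem g, addHyp_F0 h]
    · change e ⬝ᵥ addHypM M *ᵥ f = 1
      rw [← h1, ← h2, (pres_of_mem g).polar h.addHyp, hypF0, polar_E0]
      simp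
  · rintro ⟨he, hf, hef⟩
    obtain ⟨A, hA, hAe, hAf⟩ := exists_pres_of_hyperbolic_pair h e f he hf hef
    obtain ⟨g, hg, hgA⟩ := exists_isometry_of_pres h.addHyp hA
    refine ⟨⟨g, hg⟩, ?_⟩
    change (g.1 *ᵥ hypE0 ι F, g.1 *ᵥ hypF0 ι F) = (e, f)
    rw [hgA, hAe, hAf]

/-! ### Counting -/

theorem card_subtype_prod_eq_sum' {A B : Type*} [Fintype A] [Finite B] (P : A → B → Prop) :
    Nat.card {p : A × B // P p.1 p.2} = ∑ a, Nat.card {b // P a b} := by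
  rw [Nat.card_congr (Equiv.subtypeProdEquivSigmaSubtype P), Nat.card_sigma]

/-- partners of `e₀` are parametrised by `ι → F` -/
def partnerEquiv {Q₀ : (ι → F) → F} {M : Matrix ι ι F} (h : IsQF Q₀ M) :
    {f : ι ⊕ Fin 2 → F // addHyp Q₀ f = 0 ∧ hypE0 ι F ⬝ᵥ addHypM M *ᵥ f = 1} ≃ (ι → F) where
  toFun f := f.1 ∘ Sum.inl
  invFun v := ⟨Sum.elim v ![-Q₀ v, 1], by
    rw [addHyp_elim, polar_E0]
    simp⟩
  left_inv := by
    rintro ⟨f, hf1, hf2⟩
    apply Subtype.ext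
    have hb : f (Sum.inr 1) = 1 := by
      have h2 : hypE0 ι F ⬝ᵥ addHypM M *ᵥ (Sum.elim (f ∘ Sum.inl) (f ∘ Sum.inr)) = 1 := by
        rw [← sum_elim_eta]; exact hf2
      rw [polar_E0] at h2
      exact h2
    have ha : f (Sum.inr 0) = -Q₀ (f ∘ Sum.inl) := by
      have h1 : addHyp Q₀ f = 0 := hf1
      unfold addHyp at h1
      rw [hb, mul_one] at h1
      linear_combination h1
    change Sum.elim (f ∘ Sum.inl) ![-Q₀ (f ∘ Sum.inl), 1] = f
    ext i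
    rcases i with i | i
    · rfl
    · fin_cases i
      · simp [ha]
      · simp [hb]
  right_inv v := by simp

theorem card_partners [Fintype F] {Q₀ : (ι → F) → F} {M : Matrix ι ι F} (h : IsQF Q₀ M)
    (e : ι ⊕ Fin 2 → F) (he : addHyp Q₀ e = 0) (he0 : e ≠ 0) :
    Nat.card {f : ι ⊕ Fin 2 → F // addHyp Q₀ e = 0 ∧ addHyp Q₀ f = 0 ∧ e ⬝ᵥ addHypM M *ᵥ f = 1} =
      Fintype.card F ^ Fintype.card ι := by
  obtain ⟨A₀, hA₀, hA₀f⟩ := exists_pres_of_singular h e he he0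
  have hA₁ : Pres (addHyp Q₀) (A₀ * hypSwap ι F) := hA₀.mul (pres_hypSwap Q₀)
  have hA₁e : (A₀ * hypSwap ι F) *ᵥ hypE0 ι F = e := by
    rw [← Matrix.mulVec_mulVec, hypSwap_E0, hA₀f]
  obtain ⟨g, hg, hgA⟩ := exists_isometry_of_pres h.addHyp hA₁
  rw [← hgA] at hA₁ hA₁e
  have e1 : {f : ι ⊕ Fin 2 → F // addHyp Q₀ f = 0 ∧ hypE0 ι F ⬝ᵥ addHypM M *ᵥ f = 1} ≃
      {f : ι ⊕ Fin 2 → F // addHyp Q₀ e = 0 ∧ addHyp Q₀ f = 0 ∧ e ⬝ᵥ addHypM M *ᵥ f = 1} := by
    refine (MulAction.toPerm g).subtypeEquiv ?_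
    intro f
    change _ ↔ addHyp Q₀ e = 0 ∧ addHyp Q₀ (g.1 *ᵥ f) = 0 ∧ e ⬝ᵥ addHypM M *ᵥ (g.1 *ᵥ f) = 1
    rw [hA₁ f]
    nth_rewrite 2 [← hA₁e]
    rw [hA₁.polar h.addHyp]
    simp [he]
  rw [← Nat.card_congr e1, Nat.card_congr (partnerEquiv h), Nat.card_eq_fintype_card,
    Fintype.card_fun]

theorem card_hypPairs [Fintype F] {Q₀ : (ι → F) → F} {M : Matrix ι ι F} (h : IsQF Q₀ M) :
    Nat.card (hypPairs Q₀ M) =
      (Nat.card {x : ι ⊕ Fin 2 → F // addHyp Q₀ x = 0} - 1) * Fintype.card F ^ Fintype.card ι := by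
  classical
  change Nat.card {p : (ι ⊕ Fin 2 → F) × (ι ⊕ Fin 2 → F) //
    addHyp Q₀ p.1 = 0 ∧ addHyp Q₀ p.2 = 0 ∧ p.1 ⬝ᵥ addHypM M *ᵥ p.2 = 1} = _
  rw [card_subtype_prod_eq_sum' (fun (e f : ι ⊕ Fin 2 → F) =>
    addHyp Q₀ e = 0 ∧ addHyp Q₀ f = 0 ∧ e ⬝ᵥ addHypM M *ᵥ f = 1)]
  have hterm : ∀ e : ι ⊕ Fin 2 → F,
      Nat.card {f : ι ⊕ Fin 2 → F // addHyp Q₀ e = 0 ∧ addHyp Q₀ f = 0 ∧ e ⬝ᵥ addHypM M *ᵥ f = 1} =
      if addHyp Q₀ e = 0 ∧ e ≠ 0 then Fintype.card F ^ Fintype.card ι else 0 := by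
    intro e
    split_ifs with hc
    · exact card_partners h e hc.1 hc.2
    · rw [Nat.card_eq_fintype_card, Fintype.card_eq_zero_iff]
      constructor
      rintro ⟨f, hf1, hf2, hf3⟩
      apply hc
      refine ⟨hf1, ?_⟩
      rintro rfl
      rw [zero_dotProduct] at hf3
      exact zero_ne_one hf3
  rw [Finset.sum_congr rfl (fun e _ => hterm e), ← Finset.sum_filter, Finset.sum_const,
    smul_eq_mul]
  congr 1
  rw [Nat.card_eq_fintype_card, Fintype.card_subtype]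
  have h0 : (0 : ι ⊕ Fin 2 → F) ∈ Finset.univ.filter (fun x : ι ⊕ Fin 2 → F => addHyp Q₀ x = 0) := by
    simp [(h.addHyp).zero]
  rw [← Finset.card_erase_of_mem h0]
  congr 1
  ext x
  simp [and_comm]

/-- The recursion for the order of the orthogonal group. -/
theorem card_isometryGroup_addHyp [Fintype F] {Q₀ : (ι → F) → F} {M : Matrix ι ι F}
    (h : IsQF Q₀ M) :
    Nat.card (Cfsg.isometryGroup F (addHyp Q₀)) =
      (Nat.card {x : ι ⊕ Fin 2 → F // addHyp Q₀ x = 0} - 1) * Fintype.card F ^ Fintype.card ι *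
        Nat.card (Cfsg.isometryGroup F Q₀) := by
  have h1 := Subgroup.index_mul_card
    (MulAction.stabilizer (Cfsg.isometryGroup F (addHyp Q₀)) (hypE0 ι F, hypF0 ι F))
  rw [MulAction.index_stabilizer, orbit_hypPair h, ← Nat.card_coe_set_eq,
    ← Nat.card_congr (Equiv.ofBijective _ (hypExtendIso_bijective h)), card_hypPairs h] at h1
  exact h1.symm

/-! ### Reindexing -/

section reindex
variable {κ : Type} [Fintype κ] [DecidableEq κ]

theorem IsQF.reindex {Q₀ : (ι → F) → F} {M : Matrix ι ι F} (h : IsQF Q₀ M) (e : ι ≃ κ)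
    (Q₁ : (κ → F) → F) (hC : ∀ w, Q₀ (w ∘ e) = Q₁ w) :
    IsQF Q₁ (M.submatrix e.symm e.symm) := by
  have hform : ∀ x y : κ → F, x ⬝ᵥ M.submatrix e.symm e.symm *ᵥ y = (x ∘ e) ⬝ᵥ M *ᵥ (y ∘ e) := by
    intro x y
    rw [Matrix.submatrix_mulVec_equiv, Equiv.symm_symm]
    unfold dotProduct
    rw [← Equiv.sum_comp e]
    apply Finset.sum_congr rfl
    intro i _
    simp
  constructor
  · intro x y
    rw [← hC, ← hC, ← hC, hform]
    exact h.add (x ∘ e) (y ∘ e)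
  · intro a x
    rw [← hC, ← hC]
    exact h.smul a (x ∘ e)
  · intro x hx hxy
    have : x ∘ e = 0 := by
      apply h.nd
      · rw [hC]; exact hx
      · intro y
        have := hxy (y ∘ e.symm)
        rw [hform] at this
        have hy : (y ∘ e.symm) ∘ e = y := by ext i; simp
        rw [hy] at this
        exact this
    ext k
    have := congr_fun this (e.symm k)
    simpa using this

theorem card_zeros_reindex [Fintype F] (Q₀ : (ι → F) → F) (e : ι ≃ κ)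
    (Q₁ : (κ → F) → F) (hC : ∀ w, Q₀ (w ∘ e) = Q₁ w) :
    Nat.card {w : κ → F // Q₁ w = 0} = Nat.card {x : ι → F // Q₀ x = 0} := by
  refine Nat.card_congr ((Equiv.arrowCongr e.symm (Equiv.refl F)).subtypeEquiv ?_)
  intro w
  have : (Equiv.arrowCongr e.symm (Equiv.refl F)) w = w ∘ e := rfl
  rw [this, hC]

/-- one step of the recursion, after reindexing -/
theorem card_isometry_step [Fintype F] {Q₀ : (ι → F) → F} {M : Matrix ι ι F} (h : IsQF Q₀ M)
    (Q₁ : (κ → F) → F) (e : ι ⊕ Fin 2 ≃ κ) (hC : ∀ w, addHyp Q₀ (w ∘ e) = Q₁ w) :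
    Nat.card (Cfsg.isometryGroup F Q₁) =
      (Nat.card {w : κ → F // Q₁ w = 0} - 1) * Fintype.card F ^ Fintype.card ι *
        Nat.card (Cfsg.isometryGroup F Q₀) := by
  obtain ⟨φ⟩ := Cfsg.Agent.Helper45.nonempty_mulEquiv_of_equiv Q₁ (addHyp Q₀) e hC
  rw [Nat.card_congr φ.toEquiv, card_isometryGroup_addHyp h, card_zeros_reindex (addHyp Q₀) e Q₁ hC]

end reindex

end

end Cfsg.Agent.Helper5
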