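import Mathlib
import Cfsg.Prelude.Def_Classical
import Cfsg.Agent.Helper5.OrthHyp

set_option autoImplicit false
set_option linter.unusedSectionVars false

namespace Cfsg.Agent.Helper5

open Matrix

section
variable {F : Type*} [Field F]

/-- index equivalence for the plus-type form -/
def plusIdx (m : ℕ) : (Fin m ⊕ Fin m) ⊕ Fin 2 ≃ Fin (m + 1) ⊕ Fin (m + 1) where
  toFun := Sum.elim (Sum.map Fin.castSucc Fin.castSucc)
    (fun j => if j = 0 then Sum.inl (Fin.last m) else Sum.inr (Fin.last m))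
  invFun := Sum.elim (Fin.lastCases (Sum.inr 0) (fun i => Sum.inl (Sum.inl i)))
    (Fin.lastCases (Sum.inr 1) (fun i => Sum.inl (Sum.inr i)))
  left_inv := by
    rintro ((i | i) | j)
    · simp
    · simp
    · fin_cases j <;> simp
  right_inv := by
    rintro (i | i)
    · refine Fin.lastCases ?_ (fun i => ?_) i <;> simp
    · refine Fin.lastCases ?_ (fun i => ?_) i <;> simp

theorem plus_step (m : ℕ) (w : Fin (m + 1) ⊕ Fin (m + 1) → F) :
    addHyp (Cfsg.quadFormPlus m F) (w ∘ plusIdx m) = Cfsg.quadFormPlus (m + 1) F w := by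
  simp [addHyp, Cfsg.quadFormPlus, Fin.sum_univ_castSucc, plusIdx]

theorem isQF_plus (m : ℕ) : ∃ M, IsQF (Cfsg.quadFormPlus m F) M := by
  induction m with
  | zero =>
    refine ⟨0, ?_, ?_, ?_⟩
    · intro x y; simp [Cfsg.quadFormPlus]
    · intro a x; simp [Cfsg.quadFormPlus]
    · intro x _ _
      ext i
      rcases i with i | i <;> exact i.elim0
  | succ m ih =>
    obtain ⟨M, hM⟩ := ih
    exact ⟨_, hM.addHyp.reindex (plusIdx m) _ (plus_step m)⟩

theorem card_plus_succ [Fintype F] (m : ℕ) :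
    Nat.card (Cfsg.isometryGroup F (Cfsg.quadFormPlus (m + 1) F)) =
      (Nat.card {w : Fin (m + 1) ⊕ Fin (m + 1) → F // Cfsg.quadFormPlus (m + 1) F w = 0} - 1) *
        Fintype.card F ^ (2 * m) * Nat.card (Cfsg.isometryGroup F (Cfsg.quadFormPlus m F)) := by
  obtain ⟨M, hM⟩ := isQF_plus (F := F) m
  rw [card_isometry_step hM _ (plusIdx m) (plus_step m)]
  simp [two_mul]

theorem card_plus_zero : Nat.card (Cfsg.isometryGroup F (Cfsg.quadFormPlus 0 F)) = 1 := by
  have : Subsingleton (Cfsg.isometryGroup F (Cfsg.quadFormPlus 0 F)) :=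
    ⟨fun a b => Subtype.ext (Units.ext (Matrix.ext fun i j => by rcases i with i | i <;> exact i.elim0))⟩
  exact Nat.card_of_subsingleton 1

theorem nat_sq_sub_one (a : ℕ) (ha : 1 ≤ a) : (a + 1) * (a - 1) = a ^ 2 - 1 := by
  obtain ⟨b, rfl⟩ : ∃ b, a = b + 1 := ⟨a - 1, by omega⟩
  simp only [Nat.add_sub_cancel]
  have : (b + 1) ^ 2 = (b + 1 + 1) * b + 1 := by ring
  omega

/-! ### Odd dimension -/

/-- index equivalence for the odd-dimensional form -/
def oddIdx (m : ℕ) :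
    (Unit ⊕ (Fin m ⊕ Fin m)) ⊕ Fin 2 ≃ Unit ⊕ (Fin (m + 1) ⊕ Fin (m + 1)) :=
  (Equiv.sumAssoc Unit (Fin m ⊕ Fin m) (Fin 2)).trans (Equiv.sumCongr (Equiv.refl Unit) (plusIdx m))

theorem odd_step (m : ℕ) (w : Unit ⊕ (Fin (m + 1) ⊕ Fin (m + 1)) → F) :
    addHyp (Cfsg.quadFormOdd m F) (w ∘ oddIdx m) = Cfsg.quadFormOdd (m + 1) F w := by
  simp [addHyp, Cfsg.quadFormOdd, Fin.sum_univ_castSucc, oddIdx, plusIdx]
  ring

theorem isQF_odd (m : ℕ) : ∃ M, IsQF (Cfsg.quadFormOdd m F) M := by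
  induction m with
  | zero =>
    refine ⟨Matrix.scalar _ 2, ?_, ?_, ?_⟩
    · intro x y
      simp [Cfsg.quadFormOdd, dotProduct, Matrix.mulVec_diagonal]
      ring
    · intro a x
      simp [Cfsg.quadFormOdd]
      ring
    · intro x hx _
      simp [Cfsg.quadFormOdd] at hx
      ext i
      rcases i with ⟨⟩ | i | i
      · exact hx
      · exact i.elim0
      · exact i.elim0
  | succ m ih =>
    obtain ⟨M, hM⟩ := ih
    exact ⟨_, hM.addHyp.reindex (oddIdx m) _ (odd_step m)⟩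

theorem card_odd_succ [Fintype F] (m : ℕ) :
    Nat.card (Cfsg.isometryGroup F (Cfsg.quadFormOdd (m + 1) F)) =
      (Nat.card {w : Unit ⊕ (Fin (m + 1) ⊕ Fin (m + 1)) → F // Cfsg.quadFormOdd (m + 1) F w = 0} - 1) *
        Fintype.card F ^ (2 * m + 1) * Nat.card (Cfsg.isometryGroup F (Cfsg.quadFormOdd m F)) := by
  obtain ⟨M, hM⟩ := isQF_odd (F := F) m
  rw [card_isometry_step hM _ (oddIdx m) (odd_step m)]
  have : Fintype.card (Unit ⊕ (Fin m ⊕ Fin m)) = 2 * m + 1 := by simp; ring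
  rw [this]

theorem card_sq_eq_one [Fintype F] (h2 : (2 : F) ≠ 0) : Nat.card {a : F // a ^ 2 = 1} = 2 := by
  classical
  rw [Nat.card_eq_fintype_card, Fintype.card_subtype]
  have : (Finset.univ.filter (fun a : F => a ^ 2 = 1)) = {1, -1} := by
    ext a
    simp only [Finset.mem_filter, Finset.mem_univ, true_and, Finset.mem_insert,
      Finset.mem_singleton]
    constructor
    · intro h
      have : (a - 1) * (a + 1) = 0 := by linear_combination h
      rcases mul_eq_zero.1 this with h | h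
      · left; linear_combination h
      · right; linear_combination h
    · rintro (rfl | rfl) <;> ring
  rw [this, Finset.card_pair]
  intro h
  apply h2
  linear_combination h

theorem card_odd_zero [Fintype F] (h2 : (2 : F) ≠ 0) :
    Nat.card (Cfsg.isometryGroup F (Cfsg.quadFormOdd 0 F)) = 2 := by
  rw [← card_sq_eq_one h2]
  have hidx : ∀ i : Unit ⊕ (Fin 0 ⊕ Fin 0), i = Sum.inl () := by
    rintro (⟨⟩ | i | i)
    · rfl
    · exact i.elim0
    · exact i.elim0
  have hmul : ∀ (A : Matrix (Unit ⊕ (Fin 0 ⊕ Fin 0)) (Unit ⊕ (Fin 0 ⊕ Fin 0)) F)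
      (u : Unit ⊕ (Fin 0 ⊕ Fin 0) → F),
      (A *ᵥ u) (Sum.inl ()) = A (Sum.inl ()) (Sum.inl ()) * u (Sum.inl ()) := by
    intro A u
    simp [Matrix.mulVec, dotProduct]
  have hmem : ∀ g : Cfsg.isometryGroup F (Cfsg.quadFormOdd 0 F),
      (g.1.1 (Sum.inl ()) (Sum.inl ())) ^ 2 = 1 := by
    intro g
    have := pres_of_mem g (fun _ => 1)
    simp only [Cfsg.quadFormOdd, Finset.univ_eq_empty, Finset.sum_empty, add_zero, hmul] at this
    simpa using this
  refine Nat.card_congr (Equiv.ofBijective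
    (fun g : Cfsg.isometryGroup F (Cfsg.quadFormOdd 0 F) =>
      (⟨g.1.1 (Sum.inl ()) (Sum.inl ()), hmem g⟩ : {a : F // a ^ 2 = 1})) ⟨?_, ?_⟩)
  · intro g g' h
    have h1 : g.1.1 (Sum.inl ()) (Sum.inl ()) = g'.1.1 (Sum.inl ()) (Sum.inl ()) :=
      congrArg Subtype.val h
    apply Subtype.ext
    apply Units.ext
    ext i j
    rw [hidx i, hidx j]
    exact h1
  · rintro ⟨a, ha⟩
    obtain ⟨M, hM⟩ := isQF_odd (F := F) 0
    have hpres : Pres (Cfsg.quadFormOdd 0 F) (Matrix.scalar _ a) := by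
      intro u
      simp only [Cfsg.quadFormOdd, Finset.univ_eq_empty, Finset.sum_empty, add_zero, hmul]
      simp only [Matrix.scalar_apply, Matrix.diagonal_apply_eq, mul_pow, ha, one_mul]
    obtain ⟨g, hg, hgA⟩ := exists_isometry_of_pres hM hpres
    refine ⟨⟨g, hg⟩, ?_⟩
    apply Subtype.ext
    change g.1 (Sum.inl ()) (Sum.inl ()) = a
    rw [hgA]
    simp

/-! ### Minus type -/

/-- index equivalence for the minus-type form -/
def minusIdx (m : ℕ) :
    ((Fin m ⊕ Fin m) ⊕ Fin 2) ⊕ Fin 2 ≃ (Fin (m + 1) ⊕ Fin (m + 1)) ⊕ Fin 2 :=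
  ((Equiv.sumAssoc (Fin m ⊕ Fin m) (Fin 2) (Fin 2)).trans
    ((Equiv.sumCongr (Equiv.refl (Fin m ⊕ Fin m)) (Equiv.sumComm (Fin 2) (Fin 2))).trans
      (Equiv.sumAssoc (Fin m ⊕ Fin m) (Fin 2) (Fin 2)).symm)).trans
    (Equiv.sumCongr (plusIdx m) (Equiv.refl (Fin 2)))

theorem minus_step (m : ℕ) (a b : F) (w : (Fin (m + 1) ⊕ Fin (m + 1)) ⊕ Fin 2 → F) :
    addHyp (Cfsg.quadFormMinus m F a b) (w ∘ minusIdx m) = Cfsg.quadFormMinus (m + 1) F a b w := by
  simp [addHyp, Cfsg.quadFormMinus, Fin.sum_univ_castSucc, minusIdx, plusIdx]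
  ring

theorem isQF_minus (a b : F)
    (hab : ∀ z₁ z₂ : F, z₁ ^ 2 + a * z₁ * z₂ + b * z₂ ^ 2 = 0 → z₁ = 0 ∧ z₂ = 0) (m : ℕ) :
    ∃ M, IsQF (Cfsg.quadFormMinus m F a b) M := by
  induction m with
  | zero =>
    refine ⟨fromBlocks 0 0 0 !![2, a; a, 2 * b], ?_, ?_, ?_⟩
    · intro x y
      rw [sum_elim_eta x, sum_elim_eta y, sum_elim_add, fromBlocks_mulVec,
        sumElim_dotProduct_sumElim]
      simp [Cfsg.quadFormMinus, dotProduct, Matrix.mulVec, Fin.sum_univ_two]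
      ring
    · intro c x
      simp [Cfsg.quadFormMinus]
      ring
    · intro x hx _
      simp [Cfsg.quadFormMinus] at hx
      obtain ⟨h0, h1⟩ := hab _ _ hx
      ext i
      rcases i with (i | i) | j
      · exact i.elim0
      · exact i.elim0
      · fin_cases j
        · exact h0
        · exact h1
  | succ m ih =>
    obtain ⟨M, hM⟩ := ih
    exact ⟨_, hM.addHyp.reindex (minusIdx m) _ (minus_step m a b)⟩

theorem card_minus_succ [Fintype F] (a b : F)
    (hab : ∀ z₁ z₂ : F, z₁ ^ 2 + a * z₁ * z₂ + b * z₂ ^ 2 = 0 → z₁ = 0 ∧ z₂ = 0) (m : ℕ) :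
    Nat.card (Cfsg.isometryGroup F (Cfsg.quadFormMinus (m + 1) F a b)) =
      (Nat.card {w : (Fin (m + 1) ⊕ Fin (m + 1)) ⊕ Fin 2 → F //
          Cfsg.quadFormMinus (m + 1) F a b w = 0} - 1) *
        Fintype.card F ^ (2 * m + 2) *
          Nat.card (Cfsg.isometryGroup F (Cfsg.quadFormMinus m F a b)) := by
  obtain ⟨M, hM⟩ := isQF_minus a b hab m
  rw [card_isometry_step hM _ (minusIdx m) (minus_step m a b)]
  have : Fintype.card ((Fin m ⊕ Fin m) ⊕ Fin 2) = 2 * m + 2 := by simp; ring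
  rw [this]

end

end Cfsg.Agent.Helper5
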