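import Mathlib
import Cfsg.Prelude.Def_Classical

set_option autoImplicit false

namespace Cfsg.Agent.Helper5

open Finset Matrix

section
variable {F : Type*} [Field F] [Fintype F]

/-- For `x ≠ 0`, the affine hyperplane `x ⬝ y = c` has `q^(m-1)` points. -/
theorem card_dotProduct_eq {m : ℕ} (x : Fin m → F) (hx : x ≠ 0) (c : F) :
    Nat.card {y : Fin m → F // x ⬝ᵥ y = c} = Fintype.card F ^ (m - 1) := by
  classical
  obtain ⟨i, hi⟩ : ∃ i, x i ≠ 0 := by
    by_contra h
    simp only [not_exists, not_not] at h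
    exact hx (funext h)
  have hm : 1 ≤ m := by
    rcases Nat.eq_zero_or_pos m with rfl | h
    · exact i.elim0
    · exact h
  let f : (Fin m → F) →+ F :=
    { toFun := fun y => x ⬝ᵥ y
      map_zero' := by simp
      map_add' := fun y z => by simp [dotProduct_add] }
  have hsurj : ∀ d : F, d ∈ Set.range f := by
    intro d
    refine ⟨Pi.single i (d / x i), ?_⟩
    change x ⬝ᵥ Pi.single i (d / x i) = d
    rw [dotProduct_single]
    field_simp
  have hfib : ∀ d : F, #{y | f y = d} = #{y | f y = c} := fun d =>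
    AddMonoidHom.card_fiber_eq_of_mem_range f (hsurj d) (hsurj c)
  have htot : Fintype.card (Fin m → F) = ∑ d : F, #{y | f y = d} := by
    rw [← Finset.card_univ]
    exact Finset.card_eq_sum_card_fiberwise (fun y _ => Finset.mem_univ (f y))
  rw [Finset.sum_congr rfl (fun d _ => hfib d), Finset.sum_const, Finset.card_univ, smul_eq_mul,
    Fintype.card_fun, Fintype.card_fin] at htot
  have hq : 0 < Fintype.card F := Fintype.card_pos
  have hk : #{y | f y = c} = Fintype.card F ^ (m - 1) := by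
    have : Fintype.card F ^ m = Fintype.card F * Fintype.card F ^ (m - 1) := by
      rw [← pow_succ']; congr 1; omega
    rw [this] at htot
    exact (Nat.eq_of_mul_eq_mul_left hq htot).symm
  rw [← hk, Nat.card_eq_fintype_card, Fintype.card_subtype]
  rfl

theorem card_hyp_aux (m : ℕ) (c : F) :
    Nat.card {p : (Fin m → F) × (Fin m → F) // p.1 ⬝ᵥ p.2 = c} =
      Nat.card {y : Fin m → F // (0 : Fin m → F) ⬝ᵥ y = c} +
        (Fintype.card F ^ m - 1) * Fintype.card F ^ (m - 1) := by
  classical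
  rw [Nat.card_congr (Equiv.subtypeProdEquivSigmaSubtype (fun (x y : Fin m → F) => x ⬝ᵥ y = c)),
    Nat.card_eq_fintype_card, Fintype.card_sigma]
  rw [← Finset.add_sum_erase _ _ (Finset.mem_univ (0 : Fin m → F))]
  have h1 : ∀ x ∈ (Finset.univ : Finset (Fin m → F)).erase 0,
      Fintype.card {y : Fin m → F // x ⬝ᵥ y = c} = Fintype.card F ^ (m - 1) := by
    intro x hx
    rw [← Nat.card_eq_fintype_card]
    exact card_dotProduct_eq x (Finset.ne_of_mem_erase hx) c
  rw [Finset.sum_congr rfl h1, Finset.sum_const, Finset.card_erase_of_mem (Finset.mem_univ _),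
    Finset.card_univ, smul_eq_mul, Fintype.card_fun, Fintype.card_fin, Nat.card_eq_fintype_card]

/-- Number of solutions of `x ⬝ y = 0` in `F^m × F^m`. -/
theorem card_hyp_zero (m : ℕ) :
    Nat.card {p : (Fin m → F) × (Fin m → F) // p.1 ⬝ᵥ p.2 = 0} =
      Fintype.card F ^ m + (Fintype.card F ^ m - 1) * Fintype.card F ^ (m - 1) := by
  classical
  rw [card_hyp_aux]
  congr 1
  rw [Nat.card_eq_fintype_card, Fintype.card_subtype]
  simp

/-- Number of solutions of `x ⬝ y = c` in `F^m × F^m`, `c ≠ 0`. -/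
theorem card_hyp_ne_zero (m : ℕ) (c : F) (hc : c ≠ 0) :
    Nat.card {p : (Fin m → F) × (Fin m → F) // p.1 ⬝ᵥ p.2 = c} =
      (Fintype.card F ^ m - 1) * Fintype.card F ^ (m - 1) := by
  classical
  rw [card_hyp_aux]
  have : Nat.card {y : Fin m → F // (0 : Fin m → F) ⬝ᵥ y = c} = 0 := by
    rw [Nat.card_eq_fintype_card, Fintype.card_eq_zero_iff]
    constructor
    rintro ⟨y, hy⟩
    rw [zero_dotProduct] at hy
    exact hc hy.symm
  rw [this, zero_add]

omit [Fintype F] in
theorem card_quadFormPlus_congr (m : ℕ) (c : F) :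
    Nat.card {v : Fin m ⊕ Fin m → F // Cfsg.quadFormPlus m F v = c} =
    Nat.card {p : (Fin m → F) × (Fin m → F) // p.1 ⬝ᵥ p.2 = c} := by
  refine Nat.card_congr ((Equiv.sumArrowEquivProdArrow (Fin m) (Fin m) F).subtypeEquiv ?_)
  intro v
  simp [Cfsg.quadFormPlus, dotProduct, Equiv.sumArrowEquivProdArrow]

/-- Number of zeros of `quadFormPlus m F`. -/
theorem card_quadFormPlus_zero (m : ℕ) :
    Nat.card {v : Fin m ⊕ Fin m → F // Cfsg.quadFormPlus m F v = 0} =
      Fintype.card F ^ m + (Fintype.card F ^ m - 1) * Fintype.card F ^ (m - 1) := by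
  rw [card_quadFormPlus_congr, card_hyp_zero]

/-- Number of solutions of `quadFormPlus m F v = c`, `c ≠ 0`. -/
theorem card_quadFormPlus_ne_zero (m : ℕ) (c : F) (hc : c ≠ 0) :
    Nat.card {v : Fin m ⊕ Fin m → F // Cfsg.quadFormPlus m F v = c} =
      (Fintype.card F ^ m - 1) * Fintype.card F ^ (m - 1) := by
  rw [card_quadFormPlus_congr, card_hyp_ne_zero m c hc]

end

end Cfsg.Agent.Helper5
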