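import Mathlib

set_option autoImplicit false

namespace Cfsg.Agent.Helper5

theorem commutator_le_of_index_two {G : Type*} [Group G] (K : Subgroup G) (hK : K.index = 2) :
    commutator G ≤ K := by
  have : K.Normal := Subgroup.normal_of_index_eq_two hK
  have hcard : Nat.card (G ⧸ K) = 2 := hK
  have : Fact (Nat.Prime 2) := ⟨Nat.prime_two⟩
  have : IsCyclic (G ⧸ K) := isCyclic_of_prime_card hcard
  let _ : CommGroup (G ⧸ K) := IsCyclic.commGroup
  have := Abelianization.commutator_subset_ker (QuotientGroup.mk' K)
  rwa [QuotientGroup.ker_mk'] at this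

/-- `N ∪ tN` as a subgroup, for an involution `t` normalizing `N`. -/
def unionCoset {G : Type*} [Group G] (N : Subgroup G) (t : G) (ht : t * t = 1)
    (hnorm : ∀ n ∈ N, t * n * t⁻¹ ∈ N) : Subgroup G where
  carrier := {x | x ∈ N ∨ t * x ∈ N}
  one_mem' := Or.inl N.one_mem
  mul_mem' := by
    have hti : t⁻¹ = t := inv_eq_of_mul_eq_one_left ht
    rintro x y (hx | hx) (hy | hy)
    · exact Or.inl (N.mul_mem hx hy)
    · right
      have := N.mul_mem (hnorm x hx) hy
      have e : t * x * t⁻¹ * (t * y) = t * (x * y) := by group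
      rwa [e] at this
    · right
      rw [← mul_assoc]
      exact N.mul_mem hx hy
    · left
      have h1 := hnorm (t * x) hx
      rw [hti] at h1
      have := N.mul_mem h1 hy
      have e : t * (t * x) * t * (t * y) = x * y := by
        calc t * (t * x) * t * (t * y) = (t * t) * x * (t * t) * y := by group
          _ = x * y := by rw [ht]; group
      rwa [e] at this
  inv_mem' := by
    have hti : t⁻¹ = t := inv_eq_of_mul_eq_one_left ht
    rintro x (hx | hx)
    · exact Or.inl (N.inv_mem hx)
    · right
      have h1 := hnorm _ (N.inv_mem hx)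
      have e : t * (t * x)⁻¹ * t⁻¹ = t * x⁻¹ * (t * t)⁻¹ := by group
      rw [e, ht, inv_one, mul_one] at h1
      exact h1

theorem commutator_le_of_index_four {G : Type*} [Group G] (N : Subgroup G) (hN : N.index = 4)
    (t : G) (ht : t * t = 1) (htN : t ∉ N) (hnorm : ∀ n ∈ N, t * n * t⁻¹ ∈ N) :
    ∀ x ∈ commutator G, x ∈ N ∨ t * x ∈ N := by
  set K := unionCoset N t ht hnorm with hK
  have hNK : N ≤ K := fun x hx => Or.inl hx
  have htK : t ∈ K := Or.inr (by rw [ht]; exact N.one_mem)
  have hrel : N.relIndex K = 2 := by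
    rw [Subgroup.relIndex, Subgroup.index_eq_two_iff']
    refine ⟨⟨t, htK⟩, ?_⟩
    rintro ⟨b, hb⟩
    simp only [Subgroup.mem_subgroupOf, Subgroup.coe_mul]
    rcases hb with hb | hb
    · right
      refine ⟨hb, fun h => htN ?_⟩
      have := N.mul_mem h (N.inv_mem hb)
      rwa [mul_inv_cancel_right] at this
    · left
      refine ⟨hb, fun h => htN ?_⟩
      have := N.mul_mem hb (N.inv_mem h)
      rwa [mul_inv_cancel_right] at this
  have hidx : K.index = 2 := by
    have := Subgroup.relIndex_mul_index hNK
    rw [hrel, hN] at this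
    omega
  intro x hx
  exact commutator_le_of_index_two K hidx hx

theorem quotient_center_equiv_of_surjective {N P : Type*} [Group N] [Group P] (ψ : N →* P)
    (hs : Function.Surjective ψ) (hP : Subgroup.center P = ⊥) (hk : ψ.ker ≤ Subgroup.center N) :
    Nonempty (N ⧸ Subgroup.center N ≃* P) := by
  have hle : Subgroup.center N ≤ ψ.ker := by
    intro z hz
    rw [MonoidHom.mem_ker, ← Subgroup.mem_bot, ← hP, Subgroup.mem_center_iff]
    intro y
    obtain ⟨y', rfl⟩ := hs y
    rw [← map_mul, ← map_mul, Subgroup.mem_center_iff.1 hz y']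
  have heq : Subgroup.center N = ψ.ker := le_antisymm hle hk
  exact ⟨(QuotientGroup.quotientMulEquivOfEq heq).trans
    (QuotientGroup.quotientKerEquivOfSurjective ψ hs)⟩

end Cfsg.Agent.Helper5
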