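import Mathlib
import Cfsg.Prelude.Def_Classical
import Cfsg.Agent.Helper5.OrthOrders
import Cfsg.Agent.Helper5.PSL2
import Cfsg.Agent.Helper5.SLn
import Cfsg.Agent.Helper5.ProjLine
import Cfsg.Agent.S0286

set_option autoImplicit false

namespace Cfsg.Agent.Helper5

open Matrix
open scoped commutatorElement

section
variable {F : Type*} [Field F]

abbrev I3 := Unit ⊕ (Fin 1 ⊕ Fin 1)

/-- The adjoint action of a 2x2 matrix `g` on traceless matrices `[[x,y],[z,-x]]`,
`X ↦ g X adj(g)`, in the basis `(x,y,z)`. -/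
def adM (g : Matrix (Fin 2) (Fin 2) F) : Matrix I3 I3 F := Matrix.of fun i j =>
  match i, j with
  | .inl _, .inl _ => g 0 0 * g 1 1 + g 0 1 * g 1 0
  | .inl _, .inr (.inl _) => -(g 0 0 * g 1 0)
  | .inl _, .inr (.inr _) => g 0 1 * g 1 1
  | .inr (.inl _), .inl _ => -(2 * g 0 0 * g 0 1)
  | .inr (.inl _), .inr (.inl _) => g 0 0 ^ 2
  | .inr (.inl _), .inr (.inr _) => -(g 0 1 ^ 2)
  | .inr (.inr _), .inl _ => 2 * g 1 0 * g 1 1
  | .inr (.inr _), .inr (.inl _) => -(g 1 0 ^ 2)
  | .inr (.inr _), .inr (.inr _) => g 1 1 ^ 2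

theorem sum_I3 {M : Type*} [AddCommMonoid M] (f : I3 → M) :
    ∑ i, f i = f (.inl ()) + (f (.inr (.inl 0)) + f (.inr (.inr 0))) := by
  simp [Fintype.sum_sum_type]

theorem adM_one : adM (1 : Matrix (Fin 2) (Fin 2) F) = 1 := by
  ext i j
  rcases i with _ | i | i <;> rcases j with _ | j | j <;> simp [adM, Matrix.one_apply] <;>
    exact Subsingleton.elim _ _

theorem adM_mul (g h : Matrix (Fin 2) (Fin 2) F) : adM (g * h) = adM g * adM h := by
  ext i j
  rcases i with _ | _ | _ <;> rcases j with _ | _ | _ <;>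
    simp [adM, Matrix.mul_apply, Fin.sum_univ_two] <;> ring

theorem quadFormOdd_adM (g : Matrix (Fin 2) (Fin 2) F) (v : I3 → F) :
    Cfsg.quadFormOdd 1 F (adM g *ᵥ v) = g.det ^ 2 * Cfsg.quadFormOdd 1 F v := by
  simp [Cfsg.quadFormOdd, adM, Matrix.mulVec, dotProduct, Matrix.det_fin_two]
  ring

def e3 : Fin 3 ≃ I3 where
  toFun := ![.inl (), .inr (.inl 0), .inr (.inr 0)]
  invFun i := match i with
    | .inl _ => 0
    | .inr (.inl _) => 1
    | .inr (.inr _) => 2
  left_inv i := by fin_cases i <;> rfl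
  right_inv i := by
    rcases i with _ | i | i
    · rfl
    · simp; exact Subsingleton.elim _ _
    · simp; exact Subsingleton.elim _ _

theorem det_adM (g : Matrix (Fin 2) (Fin 2) F) : (adM g).det = g.det ^ 3 := by
  rw [← Matrix.det_submatrix_equiv_self e3 (adM g), Matrix.det_fin_three]
  simp [adM, e3, Matrix.det_fin_two]
  ring

theorem pres_adM (g : SpecialLinearGroup (Fin 2) F) :
    Pres (Cfsg.quadFormOdd 1 F) (adM (g : Matrix (Fin 2) (Fin 2) F)) := by
  intro v
  rw [quadFormOdd_adM, g.2]
  simp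

def adMonoidHom : SpecialLinearGroup (Fin 2) F →* Matrix I3 I3 F where
  toFun g := adM (g : Matrix (Fin 2) (Fin 2) F)
  map_one' := adM_one
  map_mul' g h := (congrArg adM (Matrix.SpecialLinearGroup.coe_mul g h)).trans (adM_mul _ _)

def adGL : SpecialLinearGroup (Fin 2) F →* GL I3 F := adMonoidHom.toHomUnits

theorem adGL_coe (g : SpecialLinearGroup (Fin 2) F) : ((adGL g : GL I3 F) : Matrix I3 I3 F) = adM (g : Matrix (Fin 2) (Fin 2) F) := rfl

abbrev O3 (F : Type*) [Field F] := Cfsg.isometryGroup F (Cfsg.quadFormOdd 1 F)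

def adHom : SpecialLinearGroup (Fin 2) F →* O3 F :=
  adGL.codRestrict _ (fun g => by
    rw [Cfsg.Agent.Helper45.mem_isometryGroup_iff]; exact pres_adM g)

theorem adHom_coe (g : SpecialLinearGroup (Fin 2) F) :
    (((adHom g : O3 F) : GL I3 F) : Matrix I3 I3 F) = adM (g : Matrix (Fin 2) (Fin 2) F) := rfl

theorem adHom_ker :
    (adHom (F := F)).ker = Subgroup.center (SpecialLinearGroup (Fin 2) F) := by
  ext g
  rw [MonoidHom.mem_ker, Matrix.SpecialLinearGroup.mem_center_iff]
  constructor
  · intro h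
    have h1 : adM (g : Matrix (Fin 2) (Fin 2) F) = 1 := by
      rw [← adHom_coe, h]; rfl
    have hyy : (g : Matrix (Fin 2) (Fin 2) F) 0 0 ^ 2 = 1 :=
      congrFun (congrFun h1 (.inr (.inl 0))) (.inr (.inl 0))
    have hyz := congrFun (congrFun h1 (.inr (.inl 0))) (.inr (.inr 0))
    have hzy := congrFun (congrFun h1 (.inr (.inr 0))) (.inr (.inl 0))
    have hxx := congrFun (congrFun h1 (.inl ())) (.inl ())
    simp [adM] at hyz hzy hxx
    rw [hyz, hzy] at hxx
    refine ⟨(g : Matrix (Fin 2) (Fin 2) F) 0 0, by simpa using hyy, ?_⟩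
    have hd : (g : Matrix (Fin 2) (Fin 2) F) 1 1 = (g : Matrix (Fin 2) (Fin 2) F) 0 0 := by
      have : (g : Matrix (Fin 2) (Fin 2) F) 0 0 * ((g : Matrix (Fin 2) (Fin 2) F) 1 1 - (g : Matrix (Fin 2) (Fin 2) F) 0 0) = 0 := by
        have e : (g : Matrix (Fin 2) (Fin 2) F) 0 0 * (g : Matrix (Fin 2) (Fin 2) F) 0 0 = 1 := by rw [← sq]; exact hyy
        linear_combination hxx - e
      rcases mul_eq_zero.1 this with h0 | h0
      · rw [h0] at hyy; simp at hyy
      · exact sub_eq_zero.1 h0
    ext i j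
    fin_cases i <;> fin_cases j <;> simp [hyz, hzy, hd]
  · rintro ⟨r, hr, hg⟩
    apply Subtype.ext
    apply Units.ext
    rw [adHom_coe, ← hg]
    simp only [Fintype.card_fin] at hr
    ext i j
    rcases i with _ | i | i <;> rcases j with _ | j | j <;>
      simp [adM, Matrix.one_apply, hr, ← sq] <;> exact Subsingleton.elim _ _


/-! ### The isometry `-1`, determinants -/

def negO3 : O3 F := ⟨-1, by
  rw [Cfsg.Agent.Helper45.mem_isometryGroup_iff]
  intro u
  simp [Cfsg.quadFormOdd, Matrix.neg_mulVec]⟩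

theorem negO3_coe : (((negO3 : O3 F) : GL I3 F) : Matrix I3 I3 F) = -1 := by
  simp [negO3]

theorem negO3_mul_self : (negO3 : O3 F) * negO3 = 1 := by
  apply Subtype.ext
  apply Units.ext
  simp [negO3]

theorem negO3_comm (x : O3 F) : Commute x negO3 := by
  apply Subtype.ext
  apply Units.ext
  simp [negO3]

def detO3 : O3 F →* Fˣ := Matrix.GeneralLinearGroup.det.comp (Subgroup.subtype _)

theorem detO3_coe (x : O3 F) : ((detO3 x : Fˣ) : F) = ((x : GL I3 F) : Matrix I3 I3 F).det := rfl

theorem detO3_adHom (g : SpecialLinearGroup (Fin 2) F) : detO3 (adHom g) = 1 := by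
  apply Units.ext
  rw [detO3_coe, adHom_coe, det_adM, g.2]
  simp

theorem detO3_negO3 : detO3 (negO3 : O3 F) = -1 := by
  apply Units.ext
  rw [detO3_coe, negO3_coe, Matrix.det_neg]
  norm_num

theorem mem_zpowers_negO3 {w : O3 F} (hw : w ∈ Subgroup.zpowers (negO3 : O3 F)) :
    w = 1 ∨ w = negO3 := by
  obtain ⟨k, rfl⟩ := Subgroup.mem_zpowers_iff.1 hw
  have h2 : (negO3 : O3 F) ^ (2 : ℤ) = 1 := by
    rw [zpow_two]; exact negO3_mul_self
  rcases Int.even_or_odd' k with ⟨m, rfl | rfl⟩
  · left
    rw [_root_.zpow_mul, h2, _root_.one_zpow]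
  · right
    rw [_root_.zpow_add, _root_.zpow_mul, h2, _root_.one_zpow, one_mul, zpow_one]

/-- the hom `SL₂ × ⟨-1⟩ → O₃` -/
def adNegHom : SpecialLinearGroup (Fin 2) F × Subgroup.zpowers (negO3 : O3 F) →* O3 F :=
  MonoidHom.noncommCoprod adHom (Subgroup.zpowers (negO3 : O3 F)).subtype (fun m n => by
    rcases mem_zpowers_negO3 n.2 with h | h
    · simp only [Subgroup.coe_subtype]; rw [h]; exact Commute.one_right _
    · simp only [Subgroup.coe_subtype]; rw [h]; exact negO3_comm _)

theorem adNegHom_apply (g : SpecialLinearGroup (Fin 2) F) (w : Subgroup.zpowers (negO3 : O3 F)) :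
    adNegHom (g, w) = adHom g * (w : O3 F) := rfl

theorem one_ne_neg_one_units (h2 : (2 : F) ≠ 0) : (1 : Fˣ) ≠ -1 := by
  intro h
  have := congrArg Units.val h
  simp only [Units.val_one, Units.val_neg] at this
  apply h2
  linear_combination this

theorem adNegHom_ker (h2 : (2 : F) ≠ 0) :
    (adNegHom (F := F)).ker = (adHom (F := F)).ker.prod ⊥ := by
  ext ⟨g, w⟩
  rw [MonoidHom.mem_ker, adNegHom_apply, Subgroup.mem_prod, MonoidHom.mem_ker, Subgroup.mem_bot]
  constructor
  · intro h
    rcases mem_zpowers_negO3 w.2 with hw | hw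
    · rw [hw, mul_one] at h
      exact ⟨h, Subtype.ext hw⟩
    · exfalso
      have := congrArg detO3 h
      rw [map_mul, detO3_adHom, hw, detO3_negO3, map_one, one_mul] at this
      exact one_ne_neg_one_units h2 this.symm
  · rintro ⟨h1, h2⟩
    dsimp only at h1 h2
    rw [h1, h2]; simp

end

section fin
variable {F : Type*} [Field F] [Fintype F]

theorem card_zpowers_negO3 (h2 : (2 : F) ≠ 0) : Nat.card (Subgroup.zpowers (negO3 : O3 F)) = 2 := by
  rw [Nat.card_zpowers]
  refine orderOf_eq_prime (by rw [pow_two]; exact negO3_mul_self) ?_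
  intro h
  have := congrArg detO3 h
  rw [detO3_negO3, map_one] at this
  exact one_ne_neg_one_units h2 this.symm

theorem card_O3 (h2 : (2 : F) ≠ 0) : Nat.card (O3 F) = 2 * (Fintype.card F * (Fintype.card F ^ 2 - 1)) := by
  have hodd : Odd (Fintype.card F) := by
    rcases Nat.even_or_odd (Fintype.card F) with h | h
    · exact absurd (two_eq_zero_of_even_card h) h2
    · exact h
  have := Cfsg.Agent.S0286.result (F := F) rfl hodd 1
  rw [this]
  simp
  ring

theorem card_range_adNegHom (h2 : (2 : F) ≠ 0) :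
    Nat.card (adNegHom (F := F)).range = Fintype.card F * (Fintype.card F ^ 2 - 1) := by
  have h1 := Subgroup.card_mul_index (adNegHom (F := F)).ker
  rw [Subgroup.index_ker, adNegHom_ker h2, Nat.card_congr (Subgroup.prodEquiv _ _).toEquiv,
    Nat.card_prod, Nat.card_prod, card_zpowers_negO3 h2, adHom_ker,
    card_center_SL2_of_two_ne_zero h2, card_SL2] at h1
  rw [Subgroup.card_bot] at h1
  omega

theorem index_range_adNegHom (h2 : (2 : F) ≠ 0) : (adNegHom (F := F)).range.index = 2 := by
  have h1 := Subgroup.card_mul_index (adNegHom (F := F)).range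
  rw [card_range_adNegHom h2, card_O3 h2] at h1
  have hpos : 0 < Fintype.card F * (Fintype.card F ^ 2 - 1) := by
    have : 2 ≤ Fintype.card F := Fintype.one_lt_card
    have : 4 ≤ Fintype.card F ^ 2 := by nlinarith
    apply Nat.mul_pos <;> omega
  nlinarith


theorem commutator_le_range_adNegHom (h2 : (2 : F) ≠ 0) :
    commutator (O3 F) ≤ (adNegHom (F := F)).range := by
  have hidx := index_range_adNegHom h2
  have : (adNegHom (F := F)).range.Normal := Subgroup.normal_of_index_eq_two hidx
  have hcard : Nat.card (O3 F ⧸ (adNegHom (F := F)).range) = 2 := hidx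
  have : Fact (Nat.Prime 2) := ⟨Nat.prime_two⟩
  have : IsCyclic (O3 F ⧸ (adNegHom (F := F)).range) := isCyclic_of_prime_card hcard
  let _ : CommGroup (O3 F ⧸ (adNegHom (F := F)).range) := IsCyclic.commGroup
  have := Abelianization.commutator_subset_ker (QuotientGroup.mk' (adNegHom (F := F)).range)
  rwa [QuotientGroup.ker_mk'] at this

theorem commutator_le_range_adHom (h2 : (2 : F) ≠ 0) :
    commutator (O3 F) ≤ (adHom (F := F)).range := by
  intro x hx
  have hdet : detO3 x = 1 := Abelianization.commutator_subset_ker (detO3 (F := F)) hx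
  obtain ⟨⟨g, w⟩, rfl⟩ := commutator_le_range_adNegHom h2 hx
  rw [adNegHom_apply] at hdet ⊢
  rcases mem_zpowers_negO3 w.2 with hw | hw
  · rw [hw, mul_one]; exact ⟨g, rfl⟩
  · exfalso
    rw [map_mul, detO3_adHom, hw, detO3_negO3, one_mul] at hdet
    exact one_ne_neg_one_units h2 hdet.symm

end fin

section gen
variable {F : Type*} [Field F]

def hM : Matrix I3 I3 F := Matrix.of fun i j =>
  match i, j with
  | .inl _, .inl _ => 1
  | .inr (.inl _), .inr (.inl _) => -1
  | .inr (.inr _), .inr (.inr _) => -1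
  | _, _ => 0

def dM : Matrix (Fin 2) (Fin 2) F := Matrix.diagonal (fun i => if i = 0 then 1 else -1)

theorem hM_mul_self : (hM : Matrix I3 I3 F) * hM = 1 := by
  ext i j
  rcases i with _ | i | i <;> rcases j with _ | j | j <;>
    simp [hM, Matrix.mul_apply, Matrix.one_apply] <;> exact Subsingleton.elim _ _

theorem pres_hM : Pres (Cfsg.quadFormOdd 1 F) (hM : Matrix I3 I3 F) := by
  intro v
  simp [Cfsg.quadFormOdd, hM, Matrix.mulVec, dotProduct]

def hO3 : O3 F := ⟨⟨hM, hM, hM_mul_self, hM_mul_self⟩, by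
  rw [Cfsg.Agent.Helper45.mem_isometryGroup_iff]; exact pres_hM⟩

theorem hO3_inv : (hO3 : O3 F)⁻¹ = hO3 := by
  apply Subtype.ext
  apply Units.ext
  rfl

theorem hM_conj (g : Matrix (Fin 2) (Fin 2) F) : hM * adM g * hM = adM (dM * g * dM) := by
  ext i j
  rcases i with _ | i | i <;> rcases j with _ | j | j <;>
    simp [hM, adM, dM, Matrix.mul_apply, Matrix.diagonal_apply, Fin.sum_univ_two] <;> ring

theorem dM_transvection {i j : Fin 2} (hij : i ≠ j) (b : F) :
    dM * (SpecialLinearGroup.transvection hij b : Matrix (Fin 2) (Fin 2) F) * dM =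
      (SpecialLinearGroup.transvection hij (-b) : Matrix (Fin 2) (Fin 2) F) := by
  rw [SpecialLinearGroup.transvection_coe, SpecialLinearGroup.transvection_coe]
  ext k l
  fin_cases i <;> fin_cases j <;> fin_cases k <;> fin_cases l <;>
    simp [dM, Matrix.mul_apply, Matrix.diagonal_apply, Fin.sum_univ_two, Matrix.one_apply, Matrix.single_apply] at hij ⊢

theorem hO3_conj_transvection {i j : Fin 2} (hij : i ≠ j) (b : F) :
    (hO3 : O3 F) * adHom (SpecialLinearGroup.transvection hij b) * hO3⁻¹ =
      adHom (SpecialLinearGroup.transvection hij (-b)) := by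
  rw [hO3_inv]
  apply Subtype.ext
  apply Units.ext
  show hM * adM _ * hM = adM _
  rw [hM_conj, dM_transvection]

theorem adHom_transvection_mem_commutator (h2 : (2 : F) ≠ 0) {i j : Fin 2} (hij : i ≠ j) (b : F) :
    adHom (SpecialLinearGroup.transvection hij b) ∈ commutator (O3 F) := by
  have h : ⁅(hO3 : O3 F), (adHom (SpecialLinearGroup.transvection hij (-(b / 2))) : O3 F)⁆ =
      adHom (SpecialLinearGroup.transvection hij b) := by
    rw [commutatorElement_def, hO3_conj_transvection, ← map_inv, ← map_mul,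
      SpecialLinearGroup.transvection_inv, neg_neg, ← SpecialLinearGroup.transvection_add]
    congr 2
    field_simp
    ring
  rw [← h, commutator_def]
  exact Subgroup.commutator_mem_commutator (Subgroup.mem_top _) (Subgroup.mem_top _)

theorem range_adHom_le_commutator (h2 : (2 : F) ≠ 0) :
    (adHom (F := F)).range ≤ commutator (O3 F) := by
  rintro _ ⟨g, rfl⟩
  refine transvection_induction (fun g => adHom g ∈ commutator (O3 F)) ?_ ?_ g
  · intro i j hij a
    exact adHom_transvection_mem_commutator h2 hij a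
  · intro A B hA hB
    rw [map_mul]
    exact mul_mem hA hB


/-- an element of `SL₂` central modulo scalars commutes with every `g` up to a sign -/
theorem exists_sign_of_mk_mem_center (z : SpecialLinearGroup (Fin 2) F)
    (hz : (QuotientGroup.mk z : Matrix.ProjectiveSpecialLinearGroup (Fin 2) F) ∈
      Subgroup.center (Matrix.ProjectiveSpecialLinearGroup (Fin 2) F))
    (g : SpecialLinearGroup (Fin 2) F) :
    ∃ r : F, r ^ 2 = 1 ∧ (z * g : Matrix (Fin 2) (Fin 2) F) = r • ((g : Matrix (Fin 2) (Fin 2) F) * z) := by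
  have h1 := Subgroup.mem_center_iff.1 hz (QuotientGroup.mk g)
  rw [← QuotientGroup.mk_mul, ← QuotientGroup.mk_mul, QuotientGroup.eq,
    Matrix.SpecialLinearGroup.mem_center_iff] at h1
  obtain ⟨r, hr, hrz⟩ := h1
  refine ⟨r, by simpa using hr, ?_⟩
  have e : z * g = (g * z) * ((g * z)⁻¹ * (z * g)) := by group
  have e' := congrArg (fun x : SpecialLinearGroup (Fin 2) F => (x : Matrix (Fin 2) (Fin 2) F)) e
  simp only [Matrix.SpecialLinearGroup.coe_mul (g * z)] at e'
  rw [← hrz] at e'
  simp only [Matrix.SpecialLinearGroup.coe_mul] at e'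
  rw [e']
  simp [Matrix.smul_eq_mul_diagonal]


theorem center_PSL2_eq_bot :
    Subgroup.center (Matrix.ProjectiveSpecialLinearGroup (Fin 2) F) = ⊥ := by
  rw [Subgroup.eq_bot_iff_forall]
  intro x hx
  obtain ⟨z, rfl⟩ := QuotientGroup.mk_surjective x
  rw [QuotientGroup.eq_one_iff]
  have key : ∀ (i j : Fin 2) (hij : i ≠ j) (b : F),
      z * SpecialLinearGroup.transvection hij b = SpecialLinearGroup.transvection hij b * z := by
    intro i j hij b
    by_cases h2 : (2 : F) = 0
    · obtain ⟨r, hr, h⟩ := exists_sign_of_mk_mem_center z hx (SpecialLinearGroup.transvection hij b)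
      have hr1 : r = 1 := by
        have : (r - 1) ^ 2 = 0 := by linear_combination hr + (1 - r) * h2
        have := pow_eq_zero_iff (two_ne_zero) |>.1 this
        linear_combination this
      rw [hr1, one_smul] at h
      apply Subtype.ext
      rw [Matrix.SpecialLinearGroup.coe_mul, Matrix.SpecialLinearGroup.coe_mul]
      exact h
    · obtain ⟨r, hr, h⟩ := exists_sign_of_mk_mem_center z hx
        (SpecialLinearGroup.transvection hij (b / 2))
      have hb : SpecialLinearGroup.transvection hij b =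
          SpecialLinearGroup.transvection hij (b / 2) * SpecialLinearGroup.transvection hij (b / 2) := by
        rw [← SpecialLinearGroup.transvection_add]
        congr 1
        field_simp
        ring
      rw [hb]
      set S := SpecialLinearGroup.transvection hij (b / 2) with hS
      apply Subtype.ext
      simp only [Matrix.SpecialLinearGroup.coe_mul]
      calc (z : Matrix (Fin 2) (Fin 2) F) * ((S : Matrix (Fin 2) (Fin 2) F) * S)
          = ((z : Matrix (Fin 2) (Fin 2) F) * S) * S := by rw [Matrix.mul_assoc]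
        _ = (r • ((S : Matrix (Fin 2) (Fin 2) F) * z)) * S := by rw [h]
        _ = r • ((S : Matrix (Fin 2) (Fin 2) F) * ((z : Matrix (Fin 2) (Fin 2) F) * S)) := by
            rw [Matrix.smul_mul, Matrix.mul_assoc]
        _ = r • ((S : Matrix (Fin 2) (Fin 2) F) * (r • ((S : Matrix (Fin 2) (Fin 2) F) * z))) := by
            rw [h]
        _ = (r * r) • ((S : Matrix (Fin 2) (Fin 2) F) * S * z) := by
            rw [Matrix.mul_smul, smul_smul, Matrix.mul_assoc]
        _ = (S : Matrix (Fin 2) (Fin 2) F) * S * z := by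
            rw [← sq, hr, one_smul]
  rw [Subgroup.mem_center_iff]
  intro g
  refine transvection_induction (fun g => g * z = z * g) ?_ ?_ g
  · intro i j hij a
    exact (key i j hij a).symm
  · intro A B hA hB
    rw [mul_assoc, hB, ← mul_assoc, hA, mul_assoc]

end gen

end Cfsg.Agent.Helper5
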