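import Mathlib
import Cfsg.Agent.Helper5.SLn
import Cfsg.Agent.S0249

set_option autoImplicit false

namespace Cfsg.Agent.Helper5

open Matrix Matrix.SpecialLinearGroup
open scoped commutatorElement

section
variable {ι F : Type*} [Field F] [DecidableEq ι] [Fintype ι]

theorem diag2n_mul_transvection {i j : ι} (hij : i ≠ j) (a : F) (ha : a ≠ 0) (x : F) :
    diag2n hij a ha * transvection hij x = transvection hij (a ^ 2 * x) * diag2n hij a ha := by
  apply Subtype.ext
  simp only [coe_mul, transvection_coe, diag2n_coe]
  rw [mul_add, add_mul, mul_one, one_mul]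
  congr 1
  ext k l
  rw [Matrix.diagonal_mul, Matrix.mul_diagonal]
  simp only [Matrix.single_apply]
  by_cases hk : i = k
  · by_cases hl : j = l
    · subst hk; subst hl
      simp [hij.symm]
      field_simp
    · simp [hl]
  · simp [hk]

theorem transvection_mem_commutator_of_exists (h : ∃ a : F, a ≠ 0 ∧ a ^ 2 ≠ 1) {i j : ι} (hij : i ≠ j)
    (c : F) : transvection hij c ∈ commutator (SpecialLinearGroup ι F) := by
  obtain ⟨a, ha0, ha1⟩ := h
  have hne : a ^ 2 - 1 ≠ 0 := sub_ne_zero.2 ha1
  have hcomm : ⁅diag2n hij a ha0, transvection hij (c / (a ^ 2 - 1))⁆ = transvection hij c := by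
    rw [commutatorElement_def, diag2n_mul_transvection, mul_inv_cancel_right, transvection_inv,
      ← transvection_add]
    congr 1
    field_simp
    ring
  rw [← hcomm]
  exact Subgroup.commutator_mem_commutator (Subgroup.mem_top _) (Subgroup.mem_top _)

theorem commutator_SL_eq_top_of_exists [Nontrivial ι] (h : ∃ a : F, a ≠ 0 ∧ a ^ 2 ≠ 1) :
    commutator (SpecialLinearGroup ι F) = ⊤ := by
  rw [eq_top_iff]
  intro M _
  exact transvection_induction (fun M => M ∈ commutator (SpecialLinearGroup ι F))
    (fun i j hij a => transvection_mem_commutator_of_exists h hij a)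
    (fun A B hA hB => mul_mem hA hB) M

/-- `PSL_n(F)` is simple as soon as `n ≥ 2` and `F` has an element `a ≠ 0` with `a² ≠ 1`. -/
theorem isSimpleGroup_PSL_of_exists [Nontrivial ι] (h : ∃ a : F, a ≠ 0 ∧ a ^ 2 ≠ 1) :
    IsSimpleGroup (Matrix.ProjectiveSpecialLinearGroup ι F) := by
  have hperf : commutator (Matrix.ProjectiveSpecialLinearGroup ι F) = ⊤ := by
    have h1 : Group.IsPerfect (SpecialLinearGroup ι F) := ⟨commutator_SL_eq_top_of_exists h⟩
    have h2 : Group.IsPerfect (Matrix.ProjectiveSpecialLinearGroup ι F) := inferInstance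
    exact h2.commutator_eq_top
  exact MulAction.IwasawaStructure.isSimpleGroup hperf Cfsg.Agent.S0249.iwasawa inferInstance

theorem exists_sq_ne_one_of_card [Fintype F] (h : 4 ≤ Fintype.card F) :
    ∃ a : F, a ≠ 0 ∧ a ^ 2 ≠ 1 := by
  classical
  by_contra hcon
  push Not at hcon
  have hsub : (Finset.univ : Finset F) ⊆ {0, 1, -1} := by
    intro a _
    by_cases ha : a = 0
    · simp [ha]
    · have h1 := hcon a ha
      have : (a - 1) * (a + 1) = 0 := by linear_combination h1
      rcases mul_eq_zero.1 this with h | h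
      · have : a = 1 := by linear_combination h
        simp [this]
      · have : a = -1 := by linear_combination h
        simp [this]
  have := Finset.card_le_card hsub
  rw [Finset.card_univ] at this
  have h3 : ({0, 1, -1} : Finset F).card ≤ 3 := Finset.card_le_three
  omega

/-- `PSL_2(F)` is simple for `|F| ≥ 4`. -/
theorem isSimpleGroup_PSL2_of_card [Fintype F] (h : 4 ≤ Fintype.card F) :
    IsSimpleGroup (Matrix.ProjectiveSpecialLinearGroup (Fin 2) F) :=
  isSimpleGroup_PSL_of_exists (exists_sq_ne_one_of_card h)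

end

end Cfsg.Agent.Helper5
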