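import Mathlib
import Cfsg.Prelude.Def_Classical
import Cfsg.Agent.Helper5.OrthOrders
import Cfsg.Agent.Helper5.PSL2
import Cfsg.Agent.Helper5.SLn
import Cfsg.Agent.Helper5.ProjLine
import Cfsg.Agent.Helper5.PSL2Simple
import Cfsg.Agent.Helper5.GrpIndex
import Cfsg.Agent.Helper5.Omega3
import Cfsg.Agent.S0287

set_option autoImplicit false

namespace Cfsg.Agent.Helper5

open Matrix
open scoped commutatorElement

section
variable {F : Type*} [Field F]

abbrev J4 := Fin 2 ⊕ Fin 2

/-- The action `X ↦ A X adj(B)` on 2x2 matrices `X = [[x₀, x₁],[-y₁, y₀]]` in coordinates. -/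
def rhoM (A B : Matrix (Fin 2) (Fin 2) F) : Matrix J4 J4 F :=
  Matrix.fromBlocks
    !![A 0 0 * B 1 1, -(A 0 0 * B 1 0); -(A 0 0 * B 0 1), A 0 0 * B 0 0]
    !![-(A 0 1 * B 1 0), -(A 0 1 * B 1 1); A 0 1 * B 0 0, A 0 1 * B 0 1]
    !![-(A 1 0 * B 0 1), A 1 0 * B 0 0; -(A 1 0 * B 1 1), A 1 0 * B 1 0]
    !![A 1 1 * B 0 0, A 1 1 * B 0 1; A 1 1 * B 1 0, A 1 1 * B 1 1]

theorem rhoM_one : rhoM (1 : Matrix (Fin 2) (Fin 2) F) 1 = 1 := by
  ext i j
  rcases i with i | i <;> rcases j with j | j <;> fin_cases i <;> fin_cases j <;>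
    simp [rhoM, Matrix.one_apply]

theorem rhoM_mul (A B A' B' : Matrix (Fin 2) (Fin 2) F) :
    rhoM (A * A') (B * B') = rhoM A B * rhoM A' B' := by
  ext i j
  rcases i with i | i <;> rcases j with j | j <;> fin_cases i <;> fin_cases j <;>
    simp [rhoM, Matrix.mul_apply, Fintype.sum_sum_type, Fin.sum_univ_two] <;> ring

theorem quadFormPlus_rhoM (A B : Matrix (Fin 2) (Fin 2) F) (v : J4 → F) :
    Cfsg.quadFormPlus 2 F (rhoM A B *ᵥ v) = A.det * B.det * Cfsg.quadFormPlus 2 F v := by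
  simp [Cfsg.quadFormPlus, rhoM, Matrix.mulVec, dotProduct, Matrix.det_fin_two,
    Fintype.sum_sum_type, Fin.sum_univ_two]
  ring

def e4 : Fin 4 ≃ J4 where
  toFun := ![.inl 0, .inl 1, .inr 0, .inr 1]
  invFun i := match i with
    | .inl i => if i = 0 then 0 else 1
    | .inr i => if i = 0 then 2 else 3
  left_inv i := by fin_cases i <;> rfl
  right_inv i := by
    rcases i with i | i <;> fin_cases i <;> rfl

theorem det_fin_four_lit {R : Type*} [CommRing R] (a b c d e f g h i j k l m n o p : R) :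
    (!![a, b, c, d; e, f, g, h; i, j, k, l; m, n, o, p] : Matrix (Fin 4) (Fin 4) R).det =
      a * (f * (k * p - l * o) - g * (j * p - l * n) + h * (j * o - k * n))
      - b * (e * (k * p - l * o) - g * (i * p - l * m) + h * (i * o - k * m))
      + c * (e * (j * p - l * n) - f * (i * p - l * m) + h * (i * n - j * m))
      - d * (e * (j * o - k * n) - f * (i * o - k * m) + g * (i * n - j * m)) := by
  rw [Matrix.det_succ_row_zero]
  simp [Fin.sum_univ_succ, Matrix.det_fin_three, Fin.succAbove, Matrix.submatrix]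
  ring

theorem det_rhoM (A B : Matrix (Fin 2) (Fin 2) F) : (rhoM A B).det = A.det ^ 2 * B.det ^ 2 := by
  rw [← Matrix.det_submatrix_equiv_self e4 (rhoM A B)]
  have : (rhoM A B).submatrix e4 e4 =
      !![A 0 0 * B 1 1, -(A 0 0 * B 1 0), -(A 0 1 * B 1 0), -(A 0 1 * B 1 1);
         -(A 0 0 * B 0 1), A 0 0 * B 0 0, A 0 1 * B 0 0, A 0 1 * B 0 1;
         -(A 1 0 * B 0 1), A 1 0 * B 0 0, A 1 1 * B 0 0, A 1 1 * B 0 1;
         -(A 1 0 * B 1 1), A 1 0 * B 1 0, A 1 1 * B 1 0, A 1 1 * B 1 1] := by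
    ext i j
    fin_cases i <;> fin_cases j <;> simp [rhoM, e4]
  rw [this, det_fin_four_lit, Matrix.det_fin_two, Matrix.det_fin_two]
  ring


abbrev O4 (F : Type*) [Field F] := Cfsg.isometryGroup F (Cfsg.quadFormPlus 2 F)

abbrev SL2 (F : Type*) [Field F] := Matrix.SpecialLinearGroup (Fin 2) F

theorem pres_rhoM (g : SL2 F × SL2 F) :
    Pres (Cfsg.quadFormPlus 2 F) (rhoM (g.1 : Matrix (Fin 2) (Fin 2) F) (g.2 : Matrix (Fin 2) (Fin 2) F)) := by
  intro v
  rw [quadFormPlus_rhoM, g.1.2, g.2.2]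
  simp

def rhoMonoidHom : SL2 F × SL2 F →* Matrix J4 J4 F where
  toFun g := rhoM (g.1 : Matrix (Fin 2) (Fin 2) F) (g.2 : Matrix (Fin 2) (Fin 2) F)
  map_one' := rhoM_one
  map_mul' g h := by
    have e1 := Matrix.SpecialLinearGroup.coe_mul g.1 h.1
    have e2 := Matrix.SpecialLinearGroup.coe_mul g.2 h.2
    show rhoM ((g.1 * h.1 : SL2 F) : Matrix (Fin 2) (Fin 2) F) ((g.2 * h.2 : SL2 F) : Matrix (Fin 2) (Fin 2) F) = _
    rw [e1, e2, rhoM_mul]

def rhoGL : SL2 F × SL2 F →* GL J4 F := rhoMonoidHom.toHomUnits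

def rhoHom : SL2 F × SL2 F →* O4 F :=
  rhoGL.codRestrict _ (fun g => by
    rw [Cfsg.Agent.Helper45.mem_isometryGroup_iff]; exact pres_rhoM g)

theorem rhoHom_coe (g : SL2 F × SL2 F) :
    (((rhoHom g : O4 F) : GL J4 F) : Matrix J4 J4 F) =
      rhoM (g.1 : Matrix (Fin 2) (Fin 2) F) (g.2 : Matrix (Fin 2) (Fin 2) F) := rfl

theorem rhoHom_ker :
    (rhoHom (F := F)).ker = (Subgroup.center (SL2 F)).map
      (MonoidHom.prod (MonoidHom.id (SL2 F)) (MonoidHom.id (SL2 F))) := by
  ext ⟨A, B⟩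
  rw [MonoidHom.mem_ker, Subgroup.mem_map]
  constructor
  · intro h
    have h1 : rhoM (A : Matrix (Fin 2) (Fin 2) F) (B : Matrix (Fin 2) (Fin 2) F) = 1 := by
      rw [← rhoHom_coe (A, B), h]; rfl
    have h00 : (A : Matrix (Fin 2) (Fin 2) F) 0 0 * (B : Matrix (Fin 2) (Fin 2) F) 1 1 = 1 :=
      congrFun (congrFun h1 (.inl 0)) (.inl 0)
    have h01 : -((A : Matrix (Fin 2) (Fin 2) F) 0 0 * (B : Matrix (Fin 2) (Fin 2) F) 1 0) = 0 :=
      congrFun (congrFun h1 (.inl 0)) (.inl 1)
    have h10 : -((A : Matrix (Fin 2) (Fin 2) F) 0 0 * (B : Matrix (Fin 2) (Fin 2) F) 0 1) = 0 :=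
      congrFun (congrFun h1 (.inl 1)) (.inl 0)
    have h11 : (A : Matrix (Fin 2) (Fin 2) F) 0 0 * (B : Matrix (Fin 2) (Fin 2) F) 0 0 = 1 :=
      congrFun (congrFun h1 (.inl 1)) (.inl 1)
    have h03 : -((A : Matrix (Fin 2) (Fin 2) F) 0 1 * (B : Matrix (Fin 2) (Fin 2) F) 1 1) = 0 :=
      congrFun (congrFun h1 (.inl 0)) (.inr 1)
    have h30 : -((A : Matrix (Fin 2) (Fin 2) F) 1 0 * (B : Matrix (Fin 2) (Fin 2) F) 1 1) = 0 :=
      congrFun (congrFun h1 (.inr 1)) (.inl 0)
    have h22 : (A : Matrix (Fin 2) (Fin 2) F) 1 1 * (B : Matrix (Fin 2) (Fin 2) F) 0 0 = 1 :=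
      congrFun (congrFun h1 (.inr 0)) (.inr 0)
    set a := (A : Matrix (Fin 2) (Fin 2) F) 0 0
    set b := (A : Matrix (Fin 2) (Fin 2) F) 0 1
    set c := (A : Matrix (Fin 2) (Fin 2) F) 1 0
    set d := (A : Matrix (Fin 2) (Fin 2) F) 1 1
    set p := (B : Matrix (Fin 2) (Fin 2) F) 0 0
    set q := (B : Matrix (Fin 2) (Fin 2) F) 0 1
    set r := (B : Matrix (Fin 2) (Fin 2) F) 1 0
    set s := (B : Matrix (Fin 2) (Fin 2) F) 1 1
    have ha : a ≠ 0 := by intro h0; rw [h0, zero_mul] at h00; exact zero_ne_one h00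
    have hs : s ≠ 0 := by intro h0; rw [h0, mul_zero] at h00; exact zero_ne_one h00
    have hr : r = 0 := by
      rcases mul_eq_zero.1 (neg_eq_zero.1 h01) with h | h
      · exact absurd h ha
      · exact h
    have hq : q = 0 := by
      rcases mul_eq_zero.1 (neg_eq_zero.1 h10) with h | h
      · exact absurd h ha
      · exact h
    have hb : b = 0 := by
      rcases mul_eq_zero.1 (neg_eq_zero.1 h03) with h | h
      · exact h
      · exact absurd h hs
    have hc : c = 0 := by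
      rcases mul_eq_zero.1 (neg_eq_zero.1 h30) with h | h
      · exact h
      · exact absurd h hs
    have hps : p = s := by
      apply mul_left_cancel₀ ha
      rw [h11, h00]
    have hdetA : a * d - b * c = 1 := by
      have := A.2
      rw [Matrix.det_fin_two] at this
      exact this
    rw [hb, zero_mul, sub_zero] at hdetA
    have hda : d = p := by
      apply mul_left_cancel₀ ha
      rw [hdetA, h11]
    have hdetB : p * s - q * r = 1 := by
      have := B.2
      rw [Matrix.det_fin_two] at this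
      exact this
    rw [hq, zero_mul, sub_zero, ← hps] at hdetB
    have hpa : p = a := by
      calc p = (a * p) * p := by rw [h11, one_mul]
        _ = a * (p * p) := by ring
        _ = a := by rw [hdetB, mul_one]
    have haa : a ^ 2 = 1 := by rw [sq]; nth_rewrite 2 [← hpa]; exact h11
    have hAz : A ∈ Subgroup.center (SL2 F) := by
      rw [Matrix.SpecialLinearGroup.mem_center_iff]
      refine ⟨a, by simpa using haa, ?_⟩
      ext i j
      fin_cases i <;> fin_cases j
      · show (Matrix.scalar (Fin 2) a) 0 0 = a; simp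
      · show (Matrix.scalar (Fin 2) a) 0 1 = b; rw [hb]; simp
      · show (Matrix.scalar (Fin 2) a) 1 0 = c; rw [hc]; simp
      · show (Matrix.scalar (Fin 2) a) 1 1 = d; rw [hda, hpa]; simp
    refine ⟨A, hAz, ?_⟩
    refine Prod.ext rfl ?_
    show A = B
    ext i j
    fin_cases i <;> fin_cases j
    · show a = p; exact hpa.symm
    · show b = q; rw [hb, hq]
    · show c = r; rw [hc, hr]
    · show d = s; rw [hda, hps]
  · rintro ⟨z, hz, hzz⟩
    rw [Matrix.SpecialLinearGroup.mem_center_iff] at hz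
    obtain ⟨r, hr, hrz⟩ := hz
    simp only [MonoidHom.prod_apply, MonoidHom.id_apply, Prod.mk.injEq] at hzz
    obtain ⟨rfl, rfl⟩ := hzz
    apply Subtype.ext
    apply Units.ext
    rw [rhoHom_coe]
    show rhoM (z : Matrix (Fin 2) (Fin 2) F) (z : Matrix (Fin 2) (Fin 2) F) = 1
    rw [← hrz]
    simp only [Fintype.card_fin] at hr
    ext i j
    rcases i with i | i <;> rcases j with j | j <;> fin_cases i <;> fin_cases j <;>
      simp [rhoM, ← sq, hr]


/-! ### Extra isometries -/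

/-- `X ↦ adj X` -/
def tauM : Matrix J4 J4 F :=
  Matrix.fromBlocks !![0, 0; 0, -1] !![1, 0; 0, 0] !![1, 0; 0, 0] !![0, 0; 0, -1]

theorem tauM_mul_self : (tauM : Matrix J4 J4 F) * tauM = 1 := by
  ext i j
  rcases i with i | i <;> rcases j with j | j <;> fin_cases i <;> fin_cases j <;>
    simp [tauM, Matrix.mul_apply, Fintype.sum_sum_type, Fin.sum_univ_two]

theorem pres_tauM : Pres (Cfsg.quadFormPlus 2 F) (tauM : Matrix J4 J4 F) := by
  intro v
  simp [Cfsg.quadFormPlus, tauM, Matrix.mulVec, dotProduct, Fintype.sum_sum_type, Fin.sum_univ_two]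
  ring

theorem tauM_conj (A B : Matrix (Fin 2) (Fin 2) F) : tauM * rhoM A B * tauM = rhoM B A := by
  ext i j
  rcases i with i | i <;> rcases j with j | j <;> fin_cases i <;> fin_cases j <;>
    simp [tauM, rhoM, Matrix.mul_apply, Fintype.sum_sum_type, Fin.sum_univ_two] <;> ring

theorem det_tauM : (tauM : Matrix J4 J4 F).det = -1 := by
  rw [← Matrix.det_submatrix_equiv_self e4 tauM]
  have : (tauM : Matrix J4 J4 F).submatrix e4 e4 =
      !![0, 0, 1, 0; 0, -1, 0, 0; 1, 0, 0, 0; 0, 0, 0, -1] := by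
    ext i j
    fin_cases i <;> fin_cases j <;> simp [tauM, e4]
  rw [this, det_fin_four_lit]
  ring

def tauO4 : O4 F := ⟨⟨tauM, tauM, tauM_mul_self, tauM_mul_self⟩, by
  rw [Cfsg.Agent.Helper45.mem_isometryGroup_iff]; exact pres_tauM⟩

theorem tauO4_mul_self : (tauO4 : O4 F) * tauO4 = 1 := by
  apply Subtype.ext
  apply Units.ext
  exact tauM_mul_self

theorem tauO4_inv : (tauO4 : O4 F)⁻¹ = tauO4 := by
  apply Subtype.ext
  apply Units.ext
  rfl

theorem tauO4_conj (g : SL2 F × SL2 F) :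
    (tauO4 : O4 F) * rhoHom g * tauO4⁻¹ = rhoHom (g.2, g.1) := by
  rw [tauO4_inv]
  apply Subtype.ext
  apply Units.ext
  exact tauM_conj _ _

def detO4 : O4 F →* Fˣ := Matrix.GeneralLinearGroup.det.comp (Subgroup.subtype _)

theorem detO4_coe (x : O4 F) : ((detO4 x : Fˣ) : F) = ((x : GL J4 F) : Matrix J4 J4 F).det := rfl

theorem detO4_rhoHom (g : SL2 F × SL2 F) : detO4 (rhoHom g) = 1 := by
  apply Units.ext
  rw [detO4_coe, rhoHom_coe, det_rhoM, g.1.2, g.2.2]
  simp

theorem detO4_tauO4 : detO4 (tauO4 : O4 F) = -1 := by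
  apply Units.ext
  rw [detO4_coe]
  exact det_tauM

/-- `X ↦ d X d⁻¹` for `d = diag(l, 1)` -/
def hlM (l : F) : Matrix J4 J4 F :=
  Matrix.fromBlocks !![1, 0; 0, l] 0 0 !![1, 0; 0, l⁻¹]

def dl (l : F) : Matrix (Fin 2) (Fin 2) F := Matrix.diagonal (fun i => if i = 0 then l else 1)

theorem hlM_mul_inv {l : F} (hl : l ≠ 0) : hlM l * hlM l⁻¹ = 1 := by
  ext i j
  rcases i with i | i <;> rcases j with j | j <;> fin_cases i <;> fin_cases j <;>
    simp [hlM, Matrix.mul_apply, Fintype.sum_sum_type, Fin.sum_univ_two, hl]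

theorem pres_hlM {l : F} (hl : l ≠ 0) : Pres (Cfsg.quadFormPlus 2 F) (hlM l) := by
  intro v
  simp [Cfsg.quadFormPlus, hlM, Matrix.mulVec, dotProduct, Fintype.sum_sum_type, Fin.sum_univ_two]
  field_simp

theorem hlM_conj {l : F} (hl : l ≠ 0) (A B : Matrix (Fin 2) (Fin 2) F) :
    hlM l * rhoM A B * hlM l⁻¹ = rhoM (dl l * A * dl l⁻¹) (dl l * B * dl l⁻¹) := by
  ext i j
  rcases i with i | i <;> rcases j with j | j <;> fin_cases i <;> fin_cases j <;>
    simp [hlM, dl, rhoM, Matrix.mul_apply, Matrix.diagonal_apply, Fintype.sum_sum_type, Fin.sum_univ_two] <;>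
    (try field_simp) <;> (try ring) <;> (try simp)

def hlO4 (l : F) (hl : l ≠ 0) : O4 F :=
  ⟨⟨hlM l, hlM l⁻¹, hlM_mul_inv hl, by
    have := hlM_mul_inv (inv_ne_zero hl); rwa [inv_inv] at this⟩, by
  rw [Cfsg.Agent.Helper45.mem_isometryGroup_iff]; exact pres_hlM hl⟩

theorem hlO4_conj {l : F} (hl : l ≠ 0) (g : SL2 F × SL2 F) :
    ((((hlO4 l hl) * rhoHom g * (hlO4 l hl)⁻¹ : O4 F) : GL J4 F) : Matrix J4 J4 F) =
      rhoM (dl l * (g.1 : Matrix (Fin 2) (Fin 2) F) * dl l⁻¹) (dl l * (g.2 : Matrix (Fin 2) (Fin 2) F) * dl l⁻¹) := by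
  rw [← hlM_conj hl]
  rfl

def fac (i : Fin 2) (l : F) : F := if i = 0 then l else l⁻¹

theorem dl_conj_transvection {l : F} (hl : l ≠ 0) {i j : Fin 2} (hij : i ≠ j) (b : F) :
    dl l * (SpecialLinearGroup.transvection hij b : Matrix (Fin 2) (Fin 2) F) * dl l⁻¹ =
      (SpecialLinearGroup.transvection hij (fac i l * b) : Matrix (Fin 2) (Fin 2) F) := by
  rw [SpecialLinearGroup.transvection_coe, SpecialLinearGroup.transvection_coe]
  ext k m
  fin_cases i <;> fin_cases j <;> fin_cases k <;> fin_cases m <;>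
    simp [dl, fac, Matrix.mul_apply, Matrix.diagonal_apply, Fin.sum_univ_two, Matrix.one_apply, Matrix.single_apply, hl] at hij ⊢ <;> ring

theorem dl_conj_one {l : F} (hl : l ≠ 0) :
    dl l * ((1 : SL2 F) : Matrix (Fin 2) (Fin 2) F) * dl l⁻¹ = ((1 : SL2 F) : Matrix (Fin 2) (Fin 2) F) := by
  ext k m
  fin_cases k <;> fin_cases m <;>
    simp [dl, Matrix.mul_apply, Matrix.diagonal_apply, Fin.sum_univ_two, Matrix.one_apply, hl]


theorem hlO4_conj_left {l : F} (hl : l ≠ 0) {i j : Fin 2} (hij : i ≠ j) (b : F) :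
    hlO4 l hl * rhoHom (SpecialLinearGroup.transvection hij b, 1) * (hlO4 l hl)⁻¹ =
      rhoHom (SpecialLinearGroup.transvection hij (fac i l * b), (1 : SL2 F)) := by
  apply Subtype.ext
  apply Units.ext
  rw [hlO4_conj hl, rhoHom_coe]
  simp only []
  rw [dl_conj_transvection hl, dl_conj_one hl]

theorem hlO4_conj_right {l : F} (hl : l ≠ 0) {i j : Fin 2} (hij : i ≠ j) (b : F) :
    hlO4 l hl * rhoHom (1, SpecialLinearGroup.transvection hij b) * (hlO4 l hl)⁻¹ =
      rhoHom ((1 : SL2 F), SpecialLinearGroup.transvection hij (fac i l * b)) := by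
  apply Subtype.ext
  apply Units.ext
  rw [hlO4_conj hl, rhoHom_coe]
  simp only []
  rw [dl_conj_transvection hl, dl_conj_one hl]

theorem fac_ne {l : F} (hl : l ≠ 0) (hl1 : l ≠ 1) (i : Fin 2) : fac i l - 1 ≠ 0 := by
  unfold fac
  split_ifs
  · exact sub_ne_zero.2 hl1
  · rw [sub_ne_zero]
    intro h
    apply hl1
    rw [← inv_inv l, h, inv_one]

theorem rhoHom_left_transvection_mem (h3 : ∃ l : F, l ≠ 0 ∧ l ≠ 1) {i j : Fin 2} (hij : i ≠ j)
    (c : F) : rhoHom (SpecialLinearGroup.transvection hij c, (1 : SL2 F)) ∈ commutator (O4 F) := by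
  obtain ⟨l, hl, hl1⟩ := h3
  have hf := fac_ne hl hl1 i
  have h : ⁅hlO4 l hl, rhoHom (SpecialLinearGroup.transvection hij (c / (fac i l - 1)), (1 : SL2 F))⁆ =
      rhoHom (SpecialLinearGroup.transvection hij c, (1 : SL2 F)) := by
    rw [commutatorElement_def, hlO4_conj_left, ← map_inv, ← map_mul, Prod.inv_mk, Prod.mk_mul_mk,
      SpecialLinearGroup.transvection_inv, ← SpecialLinearGroup.transvection_add, inv_one, mul_one]
    congr 3
    field_simp
    ring
  rw [← h, commutator_def]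
  exact Subgroup.commutator_mem_commutator (Subgroup.mem_top _) (Subgroup.mem_top _)

theorem rhoHom_right_transvection_mem (h3 : ∃ l : F, l ≠ 0 ∧ l ≠ 1) {i j : Fin 2} (hij : i ≠ j)
    (c : F) : rhoHom ((1 : SL2 F), SpecialLinearGroup.transvection hij c) ∈ commutator (O4 F) := by
  obtain ⟨l, hl, hl1⟩ := h3
  have hf := fac_ne hl hl1 i
  have h : ⁅hlO4 l hl, rhoHom ((1 : SL2 F), SpecialLinearGroup.transvection hij (c / (fac i l - 1)))⁆ =
      rhoHom ((1 : SL2 F), SpecialLinearGroup.transvection hij c) := by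
    rw [commutatorElement_def, hlO4_conj_right, ← map_inv, ← map_mul, Prod.inv_mk, Prod.mk_mul_mk,
      SpecialLinearGroup.transvection_inv, ← SpecialLinearGroup.transvection_add, inv_one, mul_one]
    congr 3
    field_simp
    ring
  rw [← h, commutator_def]
  exact Subgroup.commutator_mem_commutator (Subgroup.mem_top _) (Subgroup.mem_top _)

theorem range_rhoHom_le_commutator (h3 : ∃ l : F, l ≠ 0 ∧ l ≠ 1) :
    (rhoHom (F := F)).range ≤ commutator (O4 F) := by
  rintro _ ⟨⟨g1, g2⟩, rfl⟩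
  have e : ((g1, g2) : SL2 F × SL2 F) = (g1, 1) * (1, g2) := by simp
  rw [e, map_mul]
  refine mul_mem ?_ ?_
  · refine transvection_induction (fun g => rhoHom (g, (1 : SL2 F)) ∈ commutator (O4 F)) ?_ ?_ g1
    · intro i j hij a
      exact rhoHom_left_transvection_mem h3 hij a
    · intro A B hA hB
      have e : ((A * B, 1) : SL2 F × SL2 F) = (A, 1) * (B, 1) := by simp
      rw [e, map_mul]
      exact mul_mem hA hB
  · refine transvection_induction (fun g => rhoHom ((1 : SL2 F), g) ∈ commutator (O4 F)) ?_ ?_ g2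
    · intro i j hij a
      exact rhoHom_right_transvection_mem h3 hij a
    · intro A B hA hB
      have e : ((1, A * B) : SL2 F × SL2 F) = (1, A) * (1, B) := by simp
      rw [e, map_mul]
      exact mul_mem hA hB

theorem exists_ne_zero_ne_one [Fintype F] (h : 3 ≤ Fintype.card F) : ∃ l : F, l ≠ 0 ∧ l ≠ 1 := by
  classical
  by_contra hcon
  push_neg at hcon
  have : Fintype.card F ≤ 2 := by
    have hsub : (Finset.univ : Finset F) ⊆ {0, 1} := by
      intro x _
      by_cases hx : x = 0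
      · simp [hx]
      · simp [hcon x hx]
    calc Fintype.card F = (Finset.univ : Finset F).card := rfl
      _ ≤ ({0, 1} : Finset F).card := Finset.card_le_card hsub
      _ ≤ 2 := Finset.card_le_two
  omega


section fin
variable [Fintype F]

theorem card_O4 : Nat.card (O4 F) = 2 * (Fintype.card F * (Fintype.card F ^ 2 - 1)) ^ 2 := by
  have := Cfsg.Agent.S0287.result (F := F) rfl 2 (by norm_num)
  rw [this]
  simp
  ring

theorem card_ker_rhoHom :
    Nat.card (rhoHom (F := F)).ker = Nat.card (Subgroup.center (SL2 F)) := by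
  rw [rhoHom_ker]
  apply Subgroup.card_map_of_injective
  intro x y h
  simpa using congrArg Prod.fst h

theorem card_range_rhoHom_mul :
    Nat.card (Subgroup.center (SL2 F)) * Nat.card (rhoHom (F := F)).range =
      (Fintype.card F * (Fintype.card F ^ 2 - 1)) ^ 2 := by
  have h1 := Subgroup.card_mul_index (rhoHom (F := F)).ker
  rw [Subgroup.index_ker, card_ker_rhoHom, Nat.card_prod, card_SL2] at h1
  rw [h1]; ring

theorem spos : 0 < Fintype.card F * (Fintype.card F ^ 2 - 1) := by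
  have : 2 ≤ Fintype.card F := Fintype.one_lt_card
  have : 4 ≤ Fintype.card F ^ 2 := by nlinarith
  apply Nat.mul_pos <;> omega

theorem index_range_rhoHom_of_two_eq_zero (h2 : (2 : F) = 0) :
    (rhoHom (F := F)).range.index = 2 := by
  have h1 := Subgroup.card_mul_index (rhoHom (F := F)).range
  have h3 := card_range_rhoHom_mul (F := F)
  rw [card_center_SL2_of_two_eq_zero h2, one_mul] at h3
  rw [h3, card_O4] at h1
  have := spos (F := F)
  have hp : 0 < (Fintype.card F * (Fintype.card F ^ 2 - 1)) ^ 2 := by positivity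
  nlinarith

theorem index_range_rhoHom_of_two_ne_zero (h2 : (2 : F) ≠ 0) :
    (rhoHom (F := F)).range.index = 4 := by
  have h1 := Subgroup.card_mul_index (rhoHom (F := F)).range
  have h3 := card_range_rhoHom_mul (F := F)
  rw [card_center_SL2_of_two_ne_zero h2] at h3
  rw [card_O4, ← h3] at h1
  have := spos (F := F)
  have hp : 0 < (Fintype.card F * (Fintype.card F ^ 2 - 1)) ^ 2 := by positivity
  have hr : 0 < Nat.card (rhoHom (F := F)).range := by rw [← h3] at hp; omega
  nlinarith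

theorem commutator_le_range_rhoHom : commutator (O4 F) ≤ (rhoHom (F := F)).range := by
  by_cases h2 : (2 : F) = 0
  · exact commutator_le_of_index_two _ (index_range_rhoHom_of_two_eq_zero h2)
  · intro x hx
    have hdet : detO4 x = 1 := Abelianization.commutator_subset_ker (detO4 (F := F)) hx
    have hne : (1 : Fˣ) ≠ -1 := one_ne_neg_one_units h2
    have htN : (tauO4 : O4 F) ∉ (rhoHom (F := F)).range := by
      rintro ⟨g, hg⟩
      have := detO4_rhoHom g
      rw [hg, detO4_tauO4] at this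
      exact hne this.symm
    have hnorm : ∀ n ∈ (rhoHom (F := F)).range, (tauO4 : O4 F) * n * tauO4⁻¹ ∈ (rhoHom (F := F)).range := by
      rintro _ ⟨g, rfl⟩
      rw [tauO4_conj]
      exact ⟨_, rfl⟩
    rcases commutator_le_of_index_four _ (index_range_rhoHom_of_two_ne_zero h2) tauO4
      tauO4_mul_self htN hnorm x hx with h | h
    · exact h
    · exfalso
      obtain ⟨g, hg⟩ := h
      have := detO4_rhoHom g
      rw [hg, map_mul, detO4_tauO4, hdet, mul_one] at this
      exact hne this.symm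

theorem commutator_O4_eq (h3 : 3 ≤ Fintype.card F) :
    commutator (O4 F) = (rhoHom (F := F)).range :=
  le_antisymm commutator_le_range_rhoHom (range_rhoHom_le_commutator (exists_ne_zero_ne_one h3))

end fin


theorem quotient_center_equiv_of_equiv_surjective {N M P : Type*} [Group N] [Group M] [Group P]
    (e : N ≃* M) (ψ : M →* P)
    (hs : Function.Surjective ψ) (hP : Subgroup.center P = ⊥) (hk : ψ.ker ≤ Subgroup.center M) :
    Nonempty (N ⧸ Subgroup.center N ≃* P) := by
  refine quotient_center_equiv_of_surjective (ψ.comp e.toMonoidHom) (hs.comp e.surjective) hP ?_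
  intro x hx
  have hx' : e x ∈ Subgroup.center M := hk hx
  rw [Subgroup.mem_center_iff] at hx' ⊢
  intro y
  apply e.injective
  rw [map_mul, map_mul, hx' (e y)]

theorem center_prod_eq_bot {A B : Type*} [Group A] [Group B] (hA : Subgroup.center A = ⊥)
    (hB : Subgroup.center B = ⊥) : Subgroup.center (A × B) = ⊥ := by
  rw [Subgroup.eq_bot_iff_forall]
  rintro ⟨a, b⟩ h
  rw [Subgroup.mem_center_iff] at h
  have ha : a ∈ Subgroup.center A := by
    rw [Subgroup.mem_center_iff]
    intro y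
    exact congrArg Prod.fst (h (y, 1))
  have hb : b ∈ Subgroup.center B := by
    rw [Subgroup.mem_center_iff]
    intro y
    exact congrArg Prod.snd (h (1, y))
  rw [hA, Subgroup.mem_bot] at ha
  rw [hB, Subgroup.mem_bot] at hb
  rw [ha, hb]; rfl

theorem nonempty_POmega4_equiv [Fintype F] (hF : 3 ≤ Fintype.card F) :
    Nonempty (Cfsg.POmega F (Cfsg.quadFormPlus 2 F) ≃*
      Matrix.ProjectiveSpecialLinearGroup (Fin 2) F × Matrix.ProjectiveSpecialLinearGroup (Fin 2) F) := by
  have hcomm := commutator_O4_eq hF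
  let e1 : Cfsg.Omega F (Cfsg.quadFormPlus 2 F) ≃* (rhoHom (F := F)).range :=
    MulEquiv.subgroupCongr hcomm
  let e2 := QuotientGroup.quotientKerEquivRange (rhoHom (F := F))
  let e : Cfsg.Omega F (Cfsg.quadFormPlus 2 F) ≃* (SL2 F × SL2 F) ⧸ (rhoHom (F := F)).ker :=
    e1.trans e2.symm
  let π : SL2 F × SL2 F →* Matrix.ProjectiveSpecialLinearGroup (Fin 2) F ×
      Matrix.ProjectiveSpecialLinearGroup (Fin 2) F :=
    MonoidHom.prodMap (QuotientGroup.mk' _) (QuotientGroup.mk' _)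
  have hπ : ∀ g : SL2 F × SL2 F, π g = 1 ↔
      g.1 ∈ Subgroup.center (SL2 F) ∧ g.2 ∈ Subgroup.center (SL2 F) := by
    intro g
    simp only [π, MonoidHom.prodMap_def, MonoidHom.prod_apply, MonoidHom.coe_comp,
      Function.comp_apply, MonoidHom.coe_fst, MonoidHom.coe_snd, QuotientGroup.mk'_apply,
      Prod.mk_eq_one, QuotientGroup.eq_one_iff]
  have hle : (rhoHom (F := F)).ker ≤ π.ker := by
    rw [rhoHom_ker]
    rintro _ ⟨z, hz, rfl⟩
    rw [MonoidHom.mem_ker, hπ]
    exact ⟨hz, hz⟩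
  let ψ := QuotientGroup.lift (rhoHom (F := F)).ker π hle
  refine quotient_center_equiv_of_equiv_surjective e ψ ?_ ?_ ?_
  · rintro ⟨x, y⟩
    obtain ⟨x', rfl⟩ := QuotientGroup.mk_surjective x
    obtain ⟨y', rfl⟩ := QuotientGroup.mk_surjective y
    exact ⟨QuotientGroup.mk (x', y'), rfl⟩
  · exact center_prod_eq_bot center_PSL2_eq_bot center_PSL2_eq_bot
  · intro x hx
    obtain ⟨g, rfl⟩ := QuotientGroup.mk_surjective x
    rw [MonoidHom.mem_ker] at hx
    have hg : π g = 1 := hx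
    rw [hπ] at hg
    rw [Subgroup.mem_center_iff]
    intro y
    obtain ⟨g', rfl⟩ := QuotientGroup.mk_surjective y
    rw [← QuotientGroup.mk_mul, ← QuotientGroup.mk_mul]
    congr 1
    refine Prod.ext ?_ ?_
    · exact Subgroup.mem_center_iff.1 hg.1 g'.1
    · exact Subgroup.mem_center_iff.1 hg.2 g'.2

end
end Cfsg.Agent.Helper5
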