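import Mathlib
import Cfsg.Agent.Helper45.FiniteFields
import Cfsg.Agent.Helper45.IsoEquiv
import Cfsg.Agent.Helper5.Omega4
import Cfsg.Agent.Helper5.PSL2Simple
import Cfsg.Agent.S0288

set_option autoImplicit false

namespace Cfsg.Agent.Helper5

open Matrix Polynomial
open scoped commutatorElement

section field
variable {F K : Type*} [Field F] [Fintype F] [Field K] [Fintype K] [Algebra F K]

/-- The Frobenius of `K` over `F` as a ring hom. -/
noncomputable def sig (F K : Type*) [Field F] [Fintype F] [Field K] [Algebra F K] : K →+* K :=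
  (FiniteField.frobeniusAlgHom F K).toRingHom

omit [Fintype K] in
theorem sig_apply (x : K) : sig F K x = x ^ Fintype.card F := rfl

theorem sig_sig (hK : Fintype.card K = Fintype.card F ^ 2) (x : K) : sig F K (sig F K x) = x := by
  rw [sig_apply, sig_apply, ← pow_mul, ← sq, ← hK, FiniteField.pow_card]

omit [Fintype K] in
theorem sig_algebraMap (c : F) : sig F K (algebraMap F K c) = algebraMap F K c :=
  (FiniteField.frobeniusAlgHom F K).commutes c

omit [Fintype K] in
theorem exists_of_sig_eq (x : K) (h : sig F K x = x) : ∃ c : F, algebraMap F K c = x :=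
  Cfsg.Agent.Helper45.mem_range_of_pow_card_eq x h

theorem exists_theta (hrank : Module.finrank F K = 2) (a b : F)
    (hab : ∀ z₁ z₂ : F, z₁ ^ 2 + a * z₁ * z₂ + b * z₂ ^ 2 = 0 → z₁ = 0 ∧ z₂ = 0) :
    ∃ θ : K, θ + sig F K θ = algebraMap F K a ∧ θ * sig F K θ = algebraMap F K b ∧
      θ ≠ sig F K θ := by
  set f : F[X] := X ^ 2 - C a * X + C b with hf
  have hmonic : f.Monic := by
    rw [hf]; monicity!
  have hdeg : f.natDegree = 2 := by
    rw [hf]; compute_degree!
  have hirr : Irreducible f := by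
    rw [Polynomial.Monic.irreducible_iff_roots_eq_zero_of_degree_le_three hmonic (by omega) (by omega)]
    rw [Multiset.eq_zero_iff_forall_notMem]
    intro t ht
    rw [mem_roots hmonic.ne_zero, IsRoot, hf] at ht
    simp only [eval_add, eval_sub, eval_pow, eval_X, eval_mul, eval_C] at ht
    have := hab (-t) 1 (by linear_combination ht)
    exact one_ne_zero this.2
  have : Fact (Irreducible f) := ⟨hirr⟩
  have hfr : Module.finrank F (AdjoinRoot f) = 2 := by
    rw [← hdeg]
    exact (AdjoinRoot.powerBasis hirr.ne_zero).finrank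
  obtain ⟨φ⟩ := FiniteField.nonempty_algHom_of_finrank_dvd (F := F) (K := AdjoinRoot f) (L := K)
    (by rw [hfr, hrank])
  set θ : K := φ (AdjoinRoot.root f) with hθ
  have hroot : θ ^ 2 - algebraMap F K a * θ + algebraMap F K b = 0 := by
    have h0 : aeval (AdjoinRoot.root f) f = 0 := AdjoinRoot.eval₂_root f
    have h1 : aeval θ f = 0 := by
      rw [hθ, aeval_algHom_apply, h0, map_zero]
    rw [hf] at h1
    simpa using h1
  have hroot' : (sig F K θ) ^ 2 - algebraMap F K a * sig F K θ + algebraMap F K b = 0 := by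
    have := congrArg (sig F K) hroot
    simpa [sig_algebraMap] using this
  have hne : θ ≠ sig F K θ := by
    intro h
    obtain ⟨c, hc⟩ := exists_of_sig_eq θ h.symm
    rw [← hc, ← map_pow, ← map_mul, ← map_sub, ← map_add] at hroot
    have h0 : c ^ 2 - a * c + b = 0 := by
      apply (algebraMap F K).injective
      rw [hroot, map_zero]
    have := hab (-c) 1 (by linear_combination h0)
    exact one_ne_zero this.2
  have hsum : θ + sig F K θ = algebraMap F K a := by
    have h1 : (θ - sig F K θ) * (θ + sig F K θ - algebraMap F K a) = 0 := by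
      linear_combination hroot - hroot'
    rcases mul_eq_zero.1 h1 with h | h
    · exact absurd (sub_eq_zero.1 h) hne
    · exact sub_eq_zero.1 h
  refine ⟨θ, hsum, ?_, hne⟩
  linear_combination θ * hsum - hroot

end field


section mats
variable {K : Type*} [Field K]

/-- change of coordinates `(x, z₁, y, z₂) ↦ (x, z₁ + θ z₂, y, z₁ + θ' z₂)` -/
def PM (θ θ' : K) : Matrix J4 J4 K :=
  Matrix.fromBlocks !![1, 0; 0, 1] !![0, 0; 0, θ] !![0, 0; 0, 1] !![1, 0; 0, θ']

def PinvM (θ θ' : K) : Matrix J4 J4 K :=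
  Matrix.fromBlocks !![1, 0; 0, -θ' / (θ - θ')] !![0, 0; 0, θ / (θ - θ')]
    !![0, 0; 0, 1 / (θ - θ')] !![1, 0; 0, -1 / (θ - θ')]

/-- swap of the coordinates `x₁ ↔ y₁` -/
def PiM : Matrix J4 J4 K :=
  Matrix.fromBlocks !![1, 0; 0, 0] !![0, 0; 0, 1] !![0, 0; 0, 1] !![1, 0; 0, 0]

theorem PM_mul_PinvM {θ θ' : K} (h : θ ≠ θ') : PM θ θ' * PinvM θ θ' = 1 := by
  have hd : θ - θ' ≠ 0 := sub_ne_zero.2 h
  ext i j
  rcases i with i | i <;> rcases j with j | j <;> fin_cases i <;> fin_cases j <;>
    simp [PM, PinvM, Matrix.mul_apply, Fintype.sum_sum_type, Fin.sum_univ_two] <;>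
    field_simp <;> ring

theorem PinvM_mul_PM {θ θ' : K} (h : θ ≠ θ') : PinvM θ θ' * PM θ θ' = 1 := by
  have hd : θ - θ' ≠ 0 := sub_ne_zero.2 h
  ext i j
  rcases i with i | i <;> rcases j with j | j <;> fin_cases i <;> fin_cases j <;>
    simp [PM, PinvM, Matrix.mul_apply, Fintype.sum_sum_type, Fin.sum_univ_two] <;>
    field_simp <;> ring

theorem PiM_mul_self : (PiM : Matrix J4 J4 K) * PiM = 1 := by
  ext i j
  rcases i with i | i <;> rcases j with j | j <;> fin_cases i <;> fin_cases j <;>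
    simp [PiM, Matrix.mul_apply, Fintype.sum_sum_type, Fin.sum_univ_two]

theorem PM_swap (θ θ' : K) : PM θ' θ = PiM * PM θ θ' := by
  ext i j
  rcases i with i | i <;> rcases j with j | j <;> fin_cases i <;> fin_cases j <;>
    simp [PM, PiM, Matrix.mul_apply, Fintype.sum_sum_type, Fin.sum_univ_two]

theorem PinvM_swap {θ θ' : K} (h : θ ≠ θ') : PinvM θ' θ = PinvM θ θ' * PiM := by
  have hd : θ - θ' ≠ 0 := sub_ne_zero.2 h
  have hd' : θ' - θ ≠ 0 := sub_ne_zero.2 h.symm
  ext i j
  rcases i with i | i <;> rcases j with j | j <;> fin_cases i <;> fin_cases j <;>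
    simp [PinvM, PiM, Matrix.mul_apply, Fintype.sum_sum_type, Fin.sum_univ_two] <;>
    field_simp <;> ring

theorem PM_map (σ : K →+* K) (θ θ' : K) : (PM θ θ').map σ = PM (σ θ) (σ θ') := by
  ext i j
  rcases i with i | i <;> rcases j with j | j <;> fin_cases i <;> fin_cases j <;>
    simp [PM]

theorem PinvM_map (σ : K →+* K) (θ θ' : K) : (PinvM θ θ').map σ = PinvM (σ θ) (σ θ') := by
  ext i j
  rcases i with i | i <;> rcases j with j | j <;> fin_cases i <;> fin_cases j <;>
    simp [PinvM]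

theorem rhoM_map (σ : K →+* K) (A B : Matrix (Fin 2) (Fin 2) K) :
    (rhoM A B).map σ = rhoM (A.map σ) (B.map σ) := by
  ext i j
  rcases i with i | i <;> rcases j with j | j <;> fin_cases i <;> fin_cases j <;>
    simp [rhoM]

/-- `W A W` for the swap `W` -/
def swp (A : Matrix (Fin 2) (Fin 2) K) : Matrix (Fin 2) (Fin 2) K :=
  !![A 1 1, A 1 0; A 0 1, A 0 0]

theorem swp_swp (A : Matrix (Fin 2) (Fin 2) K) : swp (swp A) = A := by
  ext i j
  fin_cases i <;> fin_cases j <;> simp [swp]

theorem swp_one : swp (1 : Matrix (Fin 2) (Fin 2) K) = 1 := by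
  ext i j
  fin_cases i <;> fin_cases j <;> simp [swp]

theorem swp_mul (A B : Matrix (Fin 2) (Fin 2) K) : swp (A * B) = swp A * swp B := by
  ext i j
  fin_cases i <;> fin_cases j <;> simp [swp, Matrix.mul_apply, Fin.sum_univ_two] <;> ring

theorem swp_map (σ : K →+* K) (A : Matrix (Fin 2) (Fin 2) K) : (swp A).map σ = swp (A.map σ) := by
  ext i j
  fin_cases i <;> fin_cases j <;> simp [swp]

theorem det_swp (A : Matrix (Fin 2) (Fin 2) K) : (swp A).det = A.det := by
  simp [swp, Matrix.det_fin_two]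
  ring

theorem PiM_conj (A B : Matrix (Fin 2) (Fin 2) K) :
    PiM * rhoM A B * PiM = rhoM (swp B) (swp A) := by
  ext i j
  rcases i with i | i <;> rcases j with j | j <;> fin_cases i <;> fin_cases j <;>
    simp [PiM, rhoM, swp, Matrix.mul_apply, Fintype.sum_sum_type, Fin.sum_univ_two] <;> ring

end mats


section descent
variable {F K : Type*} [Field F] [Fintype F] [Field K] [Fintype K] [Algebra F K]

omit [Fintype K] in
theorem exists_map_eq_of_map_sig_eq (M : Matrix J4 J4 K) (h : M.map (sig F K) = M) :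
    ∃ g : Matrix J4 J4 F, g.map (algebraMap F K) = M := by
  have h1 : ∀ i j, ∃ c : F, algebraMap F K c = M i j := by
    intro i j
    apply exists_of_sig_eq
    have := congrFun (congrFun h i) j
    simpa using this
  choose g hg using h1
  exact ⟨Matrix.of g, by ext i j; simp [hg]⟩

/-- the form `x y + z₁² + a z₁ z₂ + b z₂²` on `Fin 2 ⊕ Fin 2` with coordinates `(x, z₁ | y, z₂)` -/
def qm4 (a b : F) (u : J4 → F) : F :=
  u (.inl 0) * u (.inr 0) + (u (.inl 1) ^ 2 + a * u (.inl 1) * u (.inr 1) + b * u (.inr 1) ^ 2)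

omit [Fintype F] [Fintype K] in
theorem quadFormPlus_PM (a b : F) (θ θ' : K) (hs : θ + θ' = algebraMap F K a)
    (hp : θ * θ' = algebraMap F K b) (u : J4 → F) :
    Cfsg.quadFormPlus 2 K (PM θ θ' *ᵥ (algebraMap F K ∘ u)) = algebraMap F K (qm4 a b u) := by
  simp only [Cfsg.quadFormPlus, qm4, PM, Matrix.mulVec, dotProduct, Fintype.sum_sum_type,
    Fin.sum_univ_two, map_add, map_mul, map_pow, ← hs, ← hp]
  simp
  ring

/-- the matrix over `K` of the twisted action of `A` -/
noncomputable def RM (F : Type*) [Field F] [Fintype F] {K : Type*} [Field K] [Algebra F K]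
    (A : Matrix (Fin 2) (Fin 2) K) : Matrix J4 J4 K :=
  rhoM A (swp (A.map (sig F K)))

theorem RM_one : RM F (1 : Matrix (Fin 2) (Fin 2) K) = 1 := by
  rw [RM, Matrix.map_one _ (map_zero _) (map_one _), swp_one, rhoM_one]

theorem RM_mul (A B : Matrix (Fin 2) (Fin 2) K) : RM F (A * B) = RM F A * RM F B := by
  rw [RM, Matrix.map_mul, swp_mul, rhoM_mul]
  rfl

theorem RM_map_sig (hK : Fintype.card K = Fintype.card F ^ 2) (A : Matrix (Fin 2) (Fin 2) K) :
    (RM F A).map (sig F K) = PiM * RM F A * PiM := by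
  rw [RM, rhoM_map, PiM_conj, swp_swp, swp_map]
  congr 2
  ext i j
  simp [sig_sig hK]

end descent


section rho
variable {F K : Type*} [Field F] [Fintype F] [Field K] [Fintype K] [Algebra F K]

/-- data: a root `θ` of `t² - a t + b` in the quadratic extension -/
structure TD (F K : Type*) [Field F] [Fintype F] [Field K] [Fintype K] [Algebra F K] (a b : F) where
  θ : K
  hK : Fintype.card K = Fintype.card F ^ 2
  hs : θ + sig F K θ = algebraMap F K a
  hp : θ * sig F K θ = algebraMap F K b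
  hne : θ ≠ sig F K θ

variable {a b : F} (D : TD F K a b)

/-- the descended matrix over `K` -/
noncomputable def MM (A : Matrix (Fin 2) (Fin 2) K) : Matrix J4 J4 K :=
  PinvM D.θ (sig F K D.θ) * RM F A * PM D.θ (sig F K D.θ)

theorem MM_map_sig (A : Matrix (Fin 2) (Fin 2) K) : (MM D A).map (sig F K) = MM D A := by
  rw [MM, Matrix.map_mul, Matrix.map_mul, PinvM_map, PM_map, RM_map_sig D.hK, sig_sig D.hK,
    PM_swap, PinvM_swap D.hne]
  calc PinvM D.θ (sig F K D.θ) * PiM * (PiM * RM F A * PiM) * (PiM * PM D.θ (sig F K D.θ))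
      = PinvM D.θ (sig F K D.θ) * (PiM * PiM) * RM F A * (PiM * PiM) * PM D.θ (sig F K D.θ) := by
        simp only [Matrix.mul_assoc]
    _ = _ := by rw [PiM_mul_self, Matrix.mul_one, Matrix.mul_one]

theorem MM_one : MM D (1 : Matrix (Fin 2) (Fin 2) K) = 1 := by
  rw [MM, RM_one, Matrix.mul_one, PinvM_mul_PM D.hne]

theorem MM_mul (A B : Matrix (Fin 2) (Fin 2) K) : MM D (A * B) = MM D A * MM D B := by
  rw [MM, MM, MM, RM_mul]
  calc PinvM D.θ (sig F K D.θ) * (RM F A * RM F B) * PM D.θ (sig F K D.θ)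
      = PinvM D.θ (sig F K D.θ) * RM F A * 1 * RM F B * PM D.θ (sig F K D.θ) := by
        simp only [Matrix.mul_assoc, Matrix.one_mul]
    _ = _ := by
        rw [← PM_mul_PinvM D.hne]
        simp only [Matrix.mul_assoc]

theorem PM_mul_MM (A : Matrix (Fin 2) (Fin 2) K) :
    PM D.θ (sig F K D.θ) * MM D A = RM F A * PM D.θ (sig F K D.θ) := by
  rw [MM, ← Matrix.mul_assoc, ← Matrix.mul_assoc, PM_mul_PinvM D.hne, Matrix.one_mul]

/-- the matrix over `F` -/
noncomputable def rho0 (A : Matrix (Fin 2) (Fin 2) K) : Matrix J4 J4 F :=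
  Classical.choose (exists_map_eq_of_map_sig_eq (MM D A) (MM_map_sig D A))

theorem rho0_map (A : Matrix (Fin 2) (Fin 2) K) : (rho0 D A).map (algebraMap F K) = MM D A :=
  Classical.choose_spec (exists_map_eq_of_map_sig_eq (MM D A) (MM_map_sig D A))

theorem rho0_one : rho0 D (1 : Matrix (Fin 2) (Fin 2) K) = 1 := by
  apply Matrix.map_injective (algebraMap F K).injective
  show (rho0 D 1).map (algebraMap F K) = (1 : Matrix J4 J4 F).map (algebraMap F K)
  rw [rho0_map, MM_one, Matrix.map_one _ (map_zero _) (map_one _)]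

theorem rho0_mul (A B : Matrix (Fin 2) (Fin 2) K) : rho0 D (A * B) = rho0 D A * rho0 D B := by
  apply Matrix.map_injective (algebraMap F K).injective
  show (rho0 D (A * B)).map (algebraMap F K) = (rho0 D A * rho0 D B).map (algebraMap F K)
  rw [rho0_map, MM_mul, Matrix.map_mul, rho0_map, rho0_map]

theorem pres_rho0 (A : Matrix (Fin 2) (Fin 2) K) (hA : A.det = 1) :
    Pres (qm4 a b) (rho0 D A) := by
  intro u
  apply (algebraMap F K).injective
  rw [← quadFormPlus_PM a b D.θ (sig F K D.θ) D.hs D.hp,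
    ← quadFormPlus_PM a b D.θ (sig F K D.θ) D.hs D.hp]
  have e : (algebraMap F K) ∘ (rho0 D A *ᵥ u) = MM D A *ᵥ ((algebraMap F K) ∘ u) := by
    ext i
    rw [← rho0_map]
    exact RingHom.map_mulVec (algebraMap F K) (rho0 D A) u i
  rw [e, Matrix.mulVec_mulVec, PM_mul_MM, ← Matrix.mulVec_mulVec, RM, quadFormPlus_rhoM, hA,
    det_swp]
  have : (A.map (sig F K)).det = 1 := by
    have := RingHom.map_det (sig F K) A
    rw [hA, map_one] at this
    exact this.symm
  rw [this]
  simp


abbrev Om4 (a b : F) := Cfsg.isometryGroup F (qm4 a b)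

noncomputable def rhoFMonoidHom : SL2 K →* Matrix J4 J4 F where
  toFun A := rho0 D (A : Matrix (Fin 2) (Fin 2) K)
  map_one' := rho0_one D
  map_mul' A B := (congrArg (rho0 D) (Matrix.SpecialLinearGroup.coe_mul A B)).trans (rho0_mul D _ _)

noncomputable def rhoFGL : SL2 K →* GL J4 F := (rhoFMonoidHom D).toHomUnits

noncomputable def rhoF : SL2 K →* Om4 a b :=
  (rhoFGL D).codRestrict _ (fun A => by
    rw [Cfsg.Agent.Helper45.mem_isometryGroup_iff]; exact pres_rho0 D _ A.2)

theorem rhoF_coe (A : SL2 K) :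
    (((rhoF D A : Om4 a b) : GL J4 F) : Matrix J4 J4 F) = rho0 D (A : Matrix (Fin 2) (Fin 2) K) := rfl

theorem rho0_eq_one_iff (A : Matrix (Fin 2) (Fin 2) K) : rho0 D A = 1 ↔ RM F A = 1 := by
  constructor
  · intro h
    have h1 : MM D A = 1 := by
      rw [← rho0_map, h, Matrix.map_one _ (map_zero _) (map_one _)]
    have h2 := PM_mul_MM D A
    rw [h1, Matrix.mul_one] at h2
    have h3 := congrArg (· * PinvM D.θ (sig F K D.θ)) h2
    simp only [Matrix.mul_assoc, PM_mul_PinvM D.hne, Matrix.mul_one] at h3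
    exact h3.symm
  · intro h
    apply Matrix.map_injective (algebraMap F K).injective
    show (rho0 D A).map (algebraMap F K) = (1 : Matrix J4 J4 F).map (algebraMap F K)
    rw [rho0_map, MM, h, Matrix.mul_one, PinvM_mul_PM D.hne, Matrix.map_one _ (map_zero _) (map_one _)]

/-- the twist `A ↦ W σ(A) W` on `SL₂(K)` -/
noncomputable def twSL (A : SL2 K) : SL2 K :=
  ⟨swp ((A : Matrix (Fin 2) (Fin 2) K).map (sig F K)), by
    rw [det_swp]
    have := RingHom.map_det (sig F K) (A : Matrix (Fin 2) (Fin 2) K)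
    rw [A.2, map_one] at this
    exact this.symm⟩

theorem twSL_coe (A : SL2 K) : ((twSL (F := F) A : SL2 K) : Matrix (Fin 2) (Fin 2) K) =
    swp ((A : Matrix (Fin 2) (Fin 2) K).map (sig F K)) := rfl

theorem twSL_of_center (z : SL2 K) (hz : z ∈ Subgroup.center (SL2 K)) : twSL (F := F) z = z := by
  rw [Matrix.SpecialLinearGroup.mem_center_iff] at hz
  obtain ⟨r, hr, hrz⟩ := hz
  simp only [Fintype.card_fin] at hr
  have hr' : sig F K r = r := by
    have hrr : r * r = 1 := by rw [← sq]; exact hr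
    rcases mul_self_eq_one_iff.1 hrr with h | h
    · rw [h, map_one]
    · rw [h, map_neg, map_one]
  apply Subtype.ext
  rw [twSL_coe, ← hrz]
  ext i j
  fin_cases i <;> fin_cases j <;> simp [swp, hr']

theorem rhoF_ker : (rhoF D).ker = Subgroup.center (SL2 K) := by
  ext A
  rw [MonoidHom.mem_ker]
  constructor
  · intro h
    have h1 : rho0 D (A : Matrix (Fin 2) (Fin 2) K) = 1 := by
      rw [← rhoF_coe, h]; rfl
    rw [rho0_eq_one_iff] at h1
    have h2 : (A, twSL (F := F) A) ∈ (rhoHom (F := K)).ker := by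
      rw [MonoidHom.mem_ker]
      apply Subtype.ext
      apply Units.ext
      rw [rhoHom_coe]
      exact h1
    rw [rhoHom_ker] at h2
    obtain ⟨z, hz, hzz⟩ := h2
    simp only [MonoidHom.prod_apply, MonoidHom.id_apply, Prod.mk.injEq] at hzz
    rw [← hzz.1]
    exact hz
  · intro hA
    apply Subtype.ext
    apply Units.ext
    rw [rhoF_coe]
    show rho0 D (A : Matrix (Fin 2) (Fin 2) K) = 1
    rw [rho0_eq_one_iff]
    have h2 : (A, A) ∈ (rhoHom (F := K)).ker := by
      rw [rhoHom_ker]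
      exact ⟨A, hA, rfl⟩
    rw [MonoidHom.mem_ker] at h2
    have h3 := congrArg (fun x : O4 K => ((x : GL J4 K) : Matrix J4 J4 K)) h2
    simp only [rhoHom_coe] at h3
    rw [RM, ← twSL_coe, twSL_of_center A hA]
    exact h3


/-! ### The extra isometry `(x, z₁, y, z₂) ↦ (y, -z₁, x, -z₂)` -/

omit [Fintype F] in
theorem pres_tauM_qm4 : Pres (qm4 a b) (tauM : Matrix J4 J4 F) := by
  intro v
  simp [qm4, tauM, Matrix.mulVec, dotProduct, Fintype.sum_sum_type, Fin.sum_univ_two]
  ring

def tauOm4 (a b : F) : Om4 a b := ⟨⟨tauM, tauM, tauM_mul_self, tauM_mul_self⟩, by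
  rw [Cfsg.Agent.Helper45.mem_isometryGroup_iff]; exact pres_tauM_qm4⟩

omit [Fintype F] in
theorem tauOm4_mul_self : (tauOm4 a b) * tauOm4 a b = 1 := by
  apply Subtype.ext
  apply Units.ext
  exact tauM_mul_self

omit [Fintype F] in
theorem tauOm4_inv : (tauOm4 a b)⁻¹ = tauOm4 a b := by
  apply Subtype.ext
  apply Units.ext
  rfl

omit [Fintype F] [Fintype K] in
theorem tauM_map : (tauM : Matrix J4 J4 F).map (algebraMap F K) = tauM := by
  ext i j
  rcases i with i | i <;> rcases j with j | j <;> fin_cases i <;> fin_cases j <;>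
    simp [tauM]

omit [Fintype K] in
theorem PM_tauM (θ θ' : K) : PM θ θ' * tauM = tauM * PM θ θ' := by
  ext i j
  rcases i with i | i <;> rcases j with j | j <;> fin_cases i <;> fin_cases j <;>
    simp [PM, tauM, Matrix.mul_apply, Fintype.sum_sum_type, Fin.sum_univ_two]

omit [Fintype K] in
theorem tauM_PinvM (θ θ' : K) : tauM * PinvM θ θ' = PinvM θ θ' * tauM := by
  ext i j
  rcases i with i | i <;> rcases j with j | j <;> fin_cases i <;> fin_cases j <;>
    simp [PinvM, tauM, Matrix.mul_apply, Fintype.sum_sum_type, Fin.sum_univ_two]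

theorem tauM_rho0 (A : SL2 K) :
    tauM * rho0 D (A : Matrix (Fin 2) (Fin 2) K) * tauM =
      rho0 D ((twSL (F := F) A : SL2 K) : Matrix (Fin 2) (Fin 2) K) := by
  apply Matrix.map_injective (algebraMap F K).injective
  show (tauM * rho0 D (A : Matrix (Fin 2) (Fin 2) K) * tauM).map (algebraMap F K) =
    (rho0 D ((twSL (F := F) A : SL2 K) : Matrix (Fin 2) (Fin 2) K)).map (algebraMap F K)
  rw [Matrix.map_mul, Matrix.map_mul, tauM_map, rho0_map, rho0_map, MM, MM]
  have hR : RM F ((twSL (F := F) A : SL2 K) : Matrix (Fin 2) (Fin 2) K) =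
      tauM * RM F (A : Matrix (Fin 2) (Fin 2) K) * tauM := by
    rw [RM, RM, tauM_conj, twSL_coe, swp_map, swp_swp]
    congr 1
    ext i j
    simp [sig_sig D.hK]
  rw [hR]
  calc tauM * (PinvM D.θ (sig F K D.θ) * RM F (A : Matrix (Fin 2) (Fin 2) K) * PM D.θ (sig F K D.θ)) * tauM
      = (tauM * PinvM D.θ (sig F K D.θ)) * RM F (A : Matrix (Fin 2) (Fin 2) K) *
          (PM D.θ (sig F K D.θ) * tauM) := by simp only [Matrix.mul_assoc]
    _ = _ := by
        rw [tauM_PinvM, PM_tauM]
        simp only [Matrix.mul_assoc]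

theorem tauOm4_conj (A : SL2 K) :
    tauOm4 a b * rhoF D A * (tauOm4 a b)⁻¹ = rhoF D (twSL (F := F) A) := by
  rw [tauOm4_inv]
  apply Subtype.ext
  apply Units.ext
  exact tauM_rho0 D A

def detOm4 (a b : F) : Om4 a b →* Fˣ := Matrix.GeneralLinearGroup.det.comp (Subgroup.subtype _)

omit [Fintype F] in
theorem detOm4_tauOm4 : detOm4 a b (tauOm4 a b) = -1 := by
  apply Units.ext
  exact det_tauM

theorem card_K_ge (D : TD F K a b) : 4 ≤ Fintype.card K := by
  have : 2 ≤ Fintype.card F := Fintype.one_lt_card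
  rw [D.hK]
  nlinarith

theorem commutator_SL2K (D : TD F K a b) : commutator (SL2 K) = ⊤ :=
  commutator_SL_eq_top_of_exists (exists_sq_ne_one_of_card (card_K_ge D))

theorem detOm4_rhoF (A : SL2 K) : detOm4 a b (rhoF D A) = 1 := by
  have h := Abelianization.commutator_subset_ker ((detOm4 a b).comp (rhoF D))
  rw [commutator_SL2K D] at h
  exact h (Subgroup.mem_top A)

theorem range_rhoF_le_commutator : (rhoF D).range ≤ commutator (Om4 a b) := by
  rintro _ ⟨A, rfl⟩
  have hA : A ∈ commutator (SL2 K) := by rw [commutator_SL2K D]; exact Subgroup.mem_top A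
  rw [commutator_def] at hA ⊢
  have := Subgroup.map_commutator (⊤ : Subgroup (SL2 K)) ⊤ (rhoF D)
  have h2 : rhoF D A ∈ Subgroup.map (rhoF D) ⁅(⊤ : Subgroup (SL2 K)), (⊤ : Subgroup (SL2 K))⁆ :=
    Subgroup.mem_map_of_mem _ hA
  rw [this] at h2
  exact Subgroup.commutator_mono le_top le_top h2


/-! ### Cardinalities -/

def eJ : J4 ≃ (Fin 1 ⊕ Fin 1) ⊕ Fin 2 where
  toFun := Sum.elim ![.inl (.inl 0), .inr 0] ![.inl (.inr 0), .inr 1]
  invFun := Sum.elim (Sum.elim (fun _ => .inl 0) (fun _ => .inr 0)) ![.inl 1, .inr 1]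
  left_inv i := by
    rcases i with i | i <;> fin_cases i <;> rfl
  right_inv i := by
    rcases i with (i | i) | i
    · have : i = 0 := Subsingleton.elim _ _
      subst this; rfl
    · have : i = 0 := Subsingleton.elim _ _
      subst this; rfl
    · fin_cases i <;> rfl

omit [Fintype F] in
theorem qm4_comp (w : (Fin 1 ⊕ Fin 1) ⊕ Fin 2 → F) :
    qm4 a b (w ∘ eJ) = Cfsg.quadFormMinus 1 F a b w := by
  simp [qm4, Cfsg.quadFormMinus, eJ]

theorem nonempty_iso_Om4 :
    Nonempty (Cfsg.isometryGroup F (Cfsg.quadFormMinus 1 F a b) ≃* Om4 a b) :=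
  Cfsg.Agent.Helper45.nonempty_mulEquiv_of_equiv _ _ eJ qm4_comp

theorem card_Om4 (D : TD F K a b)
    (hab : ∀ z₁ z₂ : F, z₁ ^ 2 + a * z₁ * z₂ + b * z₂ ^ 2 = 0 → z₁ = 0 ∧ z₂ = 0) :
    Nat.card (Om4 a b) = 2 * (Fintype.card K * (Fintype.card K ^ 2 - 1)) := by
  obtain ⟨e⟩ := nonempty_iso_Om4 (a := a) (b := b)
  rw [← Nat.card_congr e.toEquiv]
  have := Cfsg.Agent.S0288.result (F := F) rfl 2 (by norm_num) a b hab
  rw [this, D.hK]
  have hq : 2 ≤ Fintype.card F := Fintype.one_lt_card
  have h1 : 1 ≤ Fintype.card F ^ 2 := by nlinarith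
  simp only [Nat.add_one_sub_one, Nat.reduceSubDiff, Finset.prod_range_one, zero_add, mul_one,
    Nat.reduceSub, Nat.reduceMul]
  rw [← nat_sq_sub_one (Fintype.card F ^ 2) h1]
  ring

theorem card_range_rhoF_mul :
    Nat.card (Subgroup.center (SL2 K)) * Nat.card (rhoF D).range =
      Fintype.card K * (Fintype.card K ^ 2 - 1) := by
  have h1 := Subgroup.card_mul_index (rhoF D).ker
  rw [Subgroup.index_ker, rhoF_ker, card_SL2] at h1
  exact h1

omit [Fintype F] in
theorem two_ne_zero_K (h2 : (2 : F) ≠ 0) : (2 : K) ≠ 0 := by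
  intro h
  apply h2
  apply (algebraMap F K).injective
  rw [map_ofNat, h, map_zero]

omit [Fintype F] in
theorem two_eq_zero_K (h2 : (2 : F) = 0) : (2 : K) = 0 := by
  have := congrArg (algebraMap F K) h2
  rwa [map_ofNat, map_zero] at this

theorem sposK : 0 < Fintype.card K * (Fintype.card K ^ 2 - 1) := by
  have : 2 ≤ Fintype.card K := Fintype.one_lt_card
  have : 4 ≤ Fintype.card K ^ 2 := by nlinarith
  apply Nat.mul_pos <;> omega

theorem commutator_le_range_rhoF
    (hab : ∀ z₁ z₂ : F, z₁ ^ 2 + a * z₁ * z₂ + b * z₂ ^ 2 = 0 → z₁ = 0 ∧ z₂ = 0) :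
    commutator (Om4 a b) ≤ (rhoF D).range := by
  have h1 := Subgroup.card_mul_index (rhoF D).range
  have h3 := card_range_rhoF_mul D
  have hpos := sposK (K := K)
  rw [card_Om4 D hab] at h1
  by_cases h2 : (2 : F) = 0
  · rw [card_center_SL2_of_two_eq_zero (two_eq_zero_K h2), one_mul] at h3
    rw [h3] at h1
    have hidx : (rhoF D).range.index = 2 := by nlinarith
    exact commutator_le_of_index_two _ hidx
  · rw [card_center_SL2_of_two_ne_zero (two_ne_zero_K h2)] at h3
    rw [← h3] at h1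
    have hr : 0 < Nat.card (rhoF D).range := by rw [← h3] at hpos; omega
    have hidx : (rhoF D).range.index = 4 := by nlinarith
    intro x hx
    have hdet : detOm4 a b x = 1 := Abelianization.commutator_subset_ker (detOm4 a b) hx
    have hne : (1 : Fˣ) ≠ -1 := one_ne_neg_one_units h2
    have htN : tauOm4 a b ∉ (rhoF D).range := by
      rintro ⟨g, hg⟩
      have := detOm4_rhoF D g
      rw [hg, detOm4_tauOm4] at this
      exact hne this.symm
    have hnorm : ∀ n ∈ (rhoF D).range, tauOm4 a b * n * (tauOm4 a b)⁻¹ ∈ (rhoF D).range := by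
      rintro _ ⟨g, rfl⟩
      rw [tauOm4_conj]
      exact ⟨_, rfl⟩
    rcases commutator_le_of_index_four _ hidx (tauOm4 a b) tauOm4_mul_self htN hnorm x hx with h | h
    · exact h
    · exfalso
      obtain ⟨g, hg⟩ := h
      have := detOm4_rhoF D g
      rw [hg, map_mul, detOm4_tauOm4, hdet, mul_one] at this
      exact hne this.symm

theorem commutator_Om4_eq
    (hab : ∀ z₁ z₂ : F, z₁ ^ 2 + a * z₁ * z₂ + b * z₂ ^ 2 = 0 → z₁ = 0 ∧ z₂ = 0) :
    commutator (Om4 a b) = (rhoF D).range :=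
  le_antisymm (commutator_le_range_rhoF D hab) (range_rhoF_le_commutator D)

end rho


section final

theorem quotient_center_congr {A B : Type*} [Group A] [Group B] (e : A ≃* B) :
    Nonempty (A ⧸ Subgroup.center A ≃* B ⧸ Subgroup.center B) := by
  refine ⟨QuotientGroup.congr (Subgroup.center A) (Subgroup.center B) e ?_⟩
  ext y
  constructor
  · rintro ⟨x, hx, rfl⟩
    rw [Subgroup.mem_center_iff]
    intro z
    obtain ⟨z', rfl⟩ := e.surjective z
    have := Subgroup.mem_center_iff.1 hx z'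
    show e z' * e x = e x * e z'
    rw [← map_mul, ← map_mul, this]
  · intro hy
    refine ⟨e.symm y, ?_, by simp⟩
    rw [SetLike.mem_coe, Subgroup.mem_center_iff]
    intro z
    apply e.injective
    rw [map_mul, map_mul, e.apply_symm_apply]
    exact Subgroup.mem_center_iff.1 hy (e z)

theorem pomega_congr {G H : Type*} [Group G] [Group H] (e : G ≃* H) :
    Nonempty (commutator G ⧸ Subgroup.center (commutator G) ≃*
      commutator H ⧸ Subgroup.center (commutator H)) := by
  have hmap : (commutator G).map e.toMonoidHom = commutator H := by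
    rw [commutator_def, Subgroup.map_commutator, ← MonoidHom.range_eq_map,
      MonoidHom.range_eq_top.2 e.surjective, commutator_def]
  exact quotient_center_congr ((e.subgroupMap (commutator G)).trans (MulEquiv.subgroupCongr hmap))

variable {F K : Type*} [Field F] [Fintype F] [Field K] [Fintype K]

theorem nonempty_POmega4m_equiv {q : ℕ} (hF : Fintype.card F = q) (hK : Fintype.card K = q ^ 2)
    (a b : F) (hab : ∀ z₁ z₂ : F, z₁ ^ 2 + a * z₁ * z₂ + b * z₂ ^ 2 = 0 → z₁ = 0 ∧ z₂ = 0) :
    Nonempty (Cfsg.POmega F (Cfsg.quadFormMinus 1 F a b) ≃*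
      Matrix.ProjectiveSpecialLinearGroup (Fin 2) K) := by
  obtain ⟨_alg, hrank⟩ := Cfsg.Agent.Helper45.exists_algebra_of_card_sq (K := K) (F := F) hK hF
  obtain ⟨θ, hs, hp, hne⟩ := exists_theta (F := F) (K := K) hrank a b hab
  let D : TD F K a b := ⟨θ, by rw [hK, hF], hs, hp, hne⟩
  obtain ⟨e0⟩ := nonempty_iso_Om4 (F := F) (a := a) (b := b)
  obtain ⟨e1⟩ := pomega_congr e0
  have hcomm := commutator_Om4_eq D hab
  let e2 : commutator (Om4 a b) ≃* (rhoF D).range := MulEquiv.subgroupCongr hcomm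
  let e3 := QuotientGroup.quotientKerEquivRange (rhoF D)
  let e4 : SL2 K ⧸ (rhoF D).ker ≃* Matrix.ProjectiveSpecialLinearGroup (Fin 2) K :=
    QuotientGroup.quotientMulEquivOfEq (rhoF_ker D)
  let e : commutator (Om4 a b) ≃* Matrix.ProjectiveSpecialLinearGroup (Fin 2) K :=
    e2.trans (e3.symm.trans e4)
  obtain ⟨e5⟩ := quotient_center_equiv_of_surjective e.toMonoidHom e.surjective
    center_PSL2_eq_bot (by
      intro x hx
      rw [MonoidHom.mem_ker] at hx
      have : x = 1 := e.injective (by rw [map_one]; exact hx)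
      rw [this]; exact Subgroup.one_mem _)
  exact ⟨e1.trans e5⟩

end final

end Cfsg.Agent.Helper5
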