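import Mathlib
import Cfsg.Agent.Helper70.Q8

set_option autoImplicit false

namespace Cfsg.Agent.Helper5

/-- A group of order 8 and exponent dividing 4 with a unique involution is the quaternion group. -/
theorem quaternion_of_unique_involution {P : Type*} [Group P] [Finite P] (hcard : Nat.card P = 8)
    (z : P) (h1 : ∀ x : P, x ^ 2 = 1 → x = 1 ∨ x = z) (h4 : ∀ x : P, x ^ 4 = 1) :
    Nonempty (P ≃* QuaternionGroup 2) := by
  classical
  have := Fintype.ofFinite P
  -- pick s outside {1, z}
  obtain ⟨s, hs⟩ : ∃ s : P, s ∉ ({1, z} : Finset P) := by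
    by_contra hcon
    push Not at hcon
    have : (Finset.univ : Finset P) ⊆ {1, z} := fun x _ => hcon x
    have := Finset.card_le_card this
    rw [Finset.card_univ, ← Nat.card_eq_fintype_card, hcard] at this
    have h2 : ({1, z} : Finset P).card ≤ 2 := Finset.card_le_two
    omega
  simp only [Finset.mem_insert, Finset.mem_singleton, not_or] at hs
  have key : ∀ x : P, x ≠ 1 → x ≠ z → x ^ 2 = z := by
    intro x hx1 hxz
    have hx2 : x ^ 2 ≠ 1 := fun h => by rcases h1 x h with h | h <;> contradiction
    have : (x ^ 2) ^ 2 = 1 := by rw [← pow_mul]; exact h4 x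
    rcases h1 _ this with h | h
    · exact absurd h hx2
    · exact h
  have hs2 : s ^ 2 = z := key s hs.1 hs.2
  have hz1 : z ≠ 1 := by
    intro hz
    rw [hz] at hs2
    rcases h1 s hs2 with h | h
    · exact hs.1 h
    · exact hs.2 h
  have hord : orderOf s = 4 := by
    have h2 : (4 : ℕ) = 2 ^ 2 := by norm_num
    rw [h2]
    apply orderOf_eq_prime_pow
    · rw [pow_one, hs2]; exact hz1
    · rw [← h2]; exact h4 s
  have hcardZ : Nat.card (Subgroup.zpowers s) = 4 := by rw [Nat.card_zpowers, hord]
  -- pick t outside ⟨s⟩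
  obtain ⟨t, ht⟩ : ∃ t : P, t ∉ Subgroup.zpowers s := by
    by_contra hcon
    push Not at hcon
    have : Subgroup.zpowers s = ⊤ := by
      rw [eq_top_iff]; intro x _; exact hcon x
    rw [this, Subgroup.card_top, hcard] at hcardZ
    omega
  have hzmem : z ∈ Subgroup.zpowers s := by
    rw [← hs2]; exact Subgroup.pow_mem _ (Subgroup.mem_zpowers s) 2
  have ht1 : t ≠ 1 := by
    rintro rfl; exact ht (Subgroup.one_mem _)
  have htz : t ≠ z := by
    rintro rfl; exact ht hzmem
  have ht2 : t ^ 2 = z := key t ht1 htz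
  -- s * t is again outside {1, z}
  have hst1 : s * t ≠ 1 := by
    intro h
    apply ht
    have : t = s⁻¹ := eq_inv_of_mul_eq_one_right h
    rw [this]; exact Subgroup.inv_mem _ (Subgroup.mem_zpowers s)
  have hstz : s * t ≠ z := by
    intro h
    apply ht
    have : t = s⁻¹ * z := by rw [← h, inv_mul_cancel_left]
    rw [this]
    exact Subgroup.mul_mem _ (Subgroup.inv_mem _ (Subgroup.mem_zpowers s)) hzmem
  have hst2 : (s * t) ^ 2 = z := key _ hst1 hstz
  have hts : t * s * t⁻¹ = s⁻¹ := by
    have h : s * t * (s * t) = t * t := by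
      rw [← pow_two, ← pow_two, hst2, ht2]
    have h' : s * (t * s * t⁻¹) = 1 := by
      have : s * t * s * t = t * t := by rw [← h]; group
      calc s * (t * s * t⁻¹) = (s * t * s * t) * t⁻¹ * t⁻¹ := by group
        _ = (t * t) * t⁻¹ * t⁻¹ := by rw [this]
        _ = 1 := by group
    exact eq_inv_of_mul_eq_one_right h'
  -- generation
  have hgen : Subgroup.closure ({s, t} : Set P) = ⊤ := by
    set H := Subgroup.closure ({s, t} : Set P) with hH
    have hsH : s ∈ H := Subgroup.subset_closure (by simp)
    have htH : t ∈ H := Subgroup.subset_closure (by simp)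
    have hle : Subgroup.zpowers s ≤ H := by
      rw [Subgroup.zpowers_le]; exact hsH
    have hdvd1 : 4 ∣ Nat.card H := by
      rw [← hcardZ]; exact Subgroup.card_dvd_of_le hle
    have hdvd2 : Nat.card H ∣ 8 := by
      rw [← hcard]; exact Subgroup.card_subgroup_dvd_card H
    have hne4 : Nat.card H ≠ 4 := by
      intro h
      have : Subgroup.zpowers s = H := Subgroup.eq_of_le_of_card_ge hle (by rw [h, hcardZ])
      exact ht (this ▸ htH)
    have h8 : Nat.card H = 8 := by
      have hle8 : Nat.card H ≤ 8 := Nat.le_of_dvd (by norm_num) hdvd2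
      obtain ⟨k, hk⟩ := hdvd1
      have : k = 1 ∨ k = 2 := by
        have hpos : 0 < Nat.card H := Nat.card_pos
        omega
      rcases this with rfl | rfl
      · omega
      · omega
    exact Subgroup.eq_top_of_card_eq H (by rw [h8, hcard])
  exact Cfsg.Agent.Helper70.nonempty_mulEquiv_quaternion hcard s t hgen (h4 s) hts (by rw [ht2, hs2])

end Cfsg.Agent.Helper5
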