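import Mathlib
import Cfsg.Agent.Helper5.OrthHyp
import Cfsg.Agent.Helper5.GrpIndex

set_option autoImplicit false
set_option linter.unusedSectionVars false

namespace Cfsg.Agent.Helper5

open Matrix
open scoped commutatorElement

section
variable {F : Type*} [Field F] {ι : Type} [Fintype ι] [DecidableEq ι]

theorem matrix_ext_elim {A B : Matrix (ι ⊕ Fin 2) (ι ⊕ Fin 2) F}
    (h : ∀ v p, A *ᵥ Sum.elim v p = B *ᵥ Sum.elim v p) : A = B := by
  apply Matrix.toLin'.injective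
  apply LinearMap.ext
  intro w
  rw [Matrix.toLin'_apply, Matrix.toLin'_apply, sum_elim_eta w]
  exact h _ _

variable {Q₀ : (ι → F) → F} {M : Matrix ι ι F}

theorem hypSiegel_mul (h : IsQF Q₀ M) (u w : ι → F) :
    hypSiegel Q₀ M u * hypSiegel Q₀ M w = hypSiegel Q₀ M (u + w) := by
  apply matrix_ext_elim
  intro v p
  rw [← Matrix.mulVec_mulVec, hypSiegel_mulVec, hypSiegel_mulVec, hypSiegel_mulVec]
  simp only [Matrix.cons_val_zero, Matrix.cons_val_one]
  congr 1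
  · rw [smul_add]; abel
  · have hs := h.symm w u
    ext j; fin_cases j
    · simp [h.add u w, Matrix.mulVec_add, dotProduct_add, sub_dotProduct, smul_dotProduct]
      rw [hs]; ring
    · simp

theorem hypSiegel_zero (h : IsQF Q₀ M) : hypSiegel Q₀ M 0 = 1 := by
  apply matrix_ext_elim
  intro v p
  rw [hypSiegel_mulVec, Matrix.one_mulVec]
  congr 1
  · simp
  · ext j; fin_cases j <;> simp [h.zero]

theorem hypSwap_mul_self : hypSwap ι F * hypSwap ι F = 1 := by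
  apply matrix_ext_elim
  intro v p
  rw [← Matrix.mulVec_mulVec, hypSwap_mulVec, hypSwap_mulVec, Matrix.one_mulVec]
  congr 1
  ext j; fin_cases j <;> simp

theorem hypExtend_hypSiegel (h : IsQF Q₀ M) {A : Matrix ι ι F} (hA : Pres Q₀ A) (u : ι → F) :
    fromBlocks A 0 0 (1 : Matrix (Fin 2) (Fin 2) F) * hypSiegel Q₀ M u =
      hypSiegel Q₀ M (A *ᵥ u) * fromBlocks A 0 0 (1 : Matrix (Fin 2) (Fin 2) F) := by
  apply matrix_ext_elim
  intro v p
  rw [← Matrix.mulVec_mulVec, ← Matrix.mulVec_mulVec, hypSiegel_mulVec, hypExtend_mulVec,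
    hypExtend_mulVec, hypSiegel_mulVec, hA.polar h, hA]
  congr 1
  rw [Matrix.mulVec_sub, Matrix.mulVec_smul]

/-- Siegel element as an isometry -/
def siegelO (h : IsQF Q₀ M) (u : ι → F) : Cfsg.isometryGroup F (addHyp Q₀) :=
  ⟨⟨hypSiegel Q₀ M u, hypSiegel Q₀ M (-u),
    by rw [hypSiegel_mul h, add_neg_cancel, hypSiegel_zero h],
    by rw [hypSiegel_mul h, neg_add_cancel, hypSiegel_zero h]⟩, by
    rw [Cfsg.Agent.Helper45.mem_isometryGroup_iff]; exact pres_hypSiegel h u⟩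

theorem siegelO_coe (h : IsQF Q₀ M) (u : ι → F) :
    ((siegelO h u : Cfsg.isometryGroup F (addHyp Q₀)) : GL (ι ⊕ Fin 2) F).1 = hypSiegel Q₀ M u := rfl

theorem siegelO_mul (h : IsQF Q₀ M) (u w : ι → F) :
    siegelO h u * siegelO h w = siegelO h (u + w) := by
  apply Subtype.ext
  apply Units.ext
  exact hypSiegel_mul h u w

theorem siegelO_inv (h : IsQF Q₀ M) (u : ι → F) : (siegelO h u)⁻¹ = siegelO h (-u) := by
  apply Subtype.ext
  apply Units.ext
  rfl

/-- swap as an isometry -/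
def swapO (Q₀ : (ι → F) → F) : Cfsg.isometryGroup F (addHyp Q₀) :=
  ⟨⟨hypSwap ι F, hypSwap ι F, hypSwap_mul_self, hypSwap_mul_self⟩, by
    rw [Cfsg.Agent.Helper45.mem_isometryGroup_iff]; exact pres_hypSwap Q₀⟩

theorem swapO_coe (Q₀ : (ι → F) → F) :
    ((swapO Q₀ : Cfsg.isometryGroup F (addHyp Q₀)) : GL (ι ⊕ Fin 2) F).1 = hypSwap ι F := rfl

theorem swapO_inv (Q₀ : (ι → F) → F) : (swapO Q₀)⁻¹ = swapO Q₀ := by
  apply Subtype.ext
  apply Units.ext
  rfl

theorem extO_conj_siegelO (h : IsQF Q₀ M) (g : Cfsg.isometryGroup F Q₀) (u : ι → F) :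
    hypExtendIso Q₀ g * siegelO h u * (hypExtendIso Q₀ g)⁻¹ = siegelO h (g.1.1 *ᵥ u) := by
  rw [mul_inv_eq_iff_eq_mul]
  apply Subtype.ext
  apply Units.ext
  exact hypExtend_hypSiegel h (pres_of_mem g) u

/-- `S_{g u - u}` is a commutator -/
theorem siegelO_sub_mem_commutator (h : IsQF Q₀ M) (g : Cfsg.isometryGroup F Q₀) (u : ι → F) :
    siegelO h (g.1.1 *ᵥ u - u) ∈ commutator (Cfsg.isometryGroup F (addHyp Q₀)) := by
  have e : ⁅hypExtendIso Q₀ g, siegelO h u⁆ = siegelO h (g.1.1 *ᵥ u - u) := by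
    rw [commutatorElement_def, extO_conj_siegelO, siegelO_inv, siegelO_mul, sub_eq_add_neg]
  rw [← e, commutator_def]
  exact Subgroup.commutator_mem_commutator (Subgroup.mem_top _) (Subgroup.mem_top _)


/-! ### Siegel elements lie in `Ω` when two hyperbolic planes split off -/

section double
variable {Q₀₀ : (ι → F) → F} {M₀₀ : Matrix ι ι F}

theorem elim_decomp (w : ι → F) (p : Fin 2 → F) :
    (Sum.elim w p : ι ⊕ Fin 2 → F) = Sum.elim w 0 + (p 0 • hypE0 ι F + p 1 • hypF0 ι F) := by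
  ext x
  rcases x with i | j
  · simp [hypE0, hypF0]
  · fin_cases j <;> simp [hypE0, hypF0]

theorem siegelO_E0_mem (h : IsQF Q₀₀ M₀₀) (hB : ∃ x y : ι → F, x ⬝ᵥ M₀₀ *ᵥ y ≠ 0) (c : F) :
    siegelO h.addHyp (c • hypE0 ι F) ∈
      commutator (Cfsg.isometryGroup F (addHyp (addHyp Q₀₀))) := by
  obtain ⟨x₀, y₀, hβ⟩ := hB
  have := siegelO_sub_mem_commutator h.addHyp (siegelO h y₀) (Sum.elim ((c / (x₀ ⬝ᵥ M₀₀ *ᵥ y₀)) • x₀) 0)
  have e : (siegelO h y₀).1.1 *ᵥ (Sum.elim ((c / (x₀ ⬝ᵥ M₀₀ *ᵥ y₀)) • x₀) 0) -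
      Sum.elim ((c / (x₀ ⬝ᵥ M₀₀ *ᵥ y₀)) • x₀) 0 = c • hypE0 ι F := by
    rw [siegelO_coe, hypSiegel_mulVec]
    ext x
    rcases x with i | j
    · simp [hypE0]
    · fin_cases j
      · simp [hypE0, smul_dotProduct]
        field_simp
      · simp [hypE0]
  rwa [e] at this

theorem siegelO_inl_mem (h : IsQF Q₀₀ M₀₀) (hB : ∃ x y : ι → F, x ⬝ᵥ M₀₀ *ᵥ y ≠ 0) (w : ι → F) :
    siegelO h.addHyp (Sum.elim w 0) ∈
      commutator (Cfsg.isometryGroup F (addHyp (addHyp Q₀₀))) := by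
  have h1 := siegelO_sub_mem_commutator h.addHyp (siegelO h (-w)) (hypF0 ι F)
  have e : (siegelO h (-w)).1.1 *ᵥ (hypF0 ι F) - hypF0 ι F =
      Sum.elim w 0 + (-Q₀₀ w) • hypE0 ι F := by
    rw [siegelO_coe, hypF0, hypSiegel_mulVec]
    ext x
    rcases x with i | j
    · simp [hypE0]
    · fin_cases j
      · simp [hypE0, h.neg]
      · simp [hypE0]
  rw [e] at h1
  have h2 := siegelO_E0_mem h hB (Q₀₀ w)
  have h3 := mul_mem h1 h2
  rw [siegelO_mul] at h3
  have e2 : Sum.elim w 0 + (-Q₀₀ w) • hypE0 ι F + Q₀₀ w • hypE0 ι F = Sum.elim w 0 := by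
    rw [add_assoc, ← add_smul, neg_add_cancel, zero_smul, add_zero]
  rwa [e2] at h3

theorem siegelO_F0_mem (h : IsQF Q₀₀ M₀₀) (hB : ∃ x y : ι → F, x ⬝ᵥ M₀₀ *ᵥ y ≠ 0) (c : F) :
    siegelO h.addHyp (c • hypF0 ι F) ∈
      commutator (Cfsg.isometryGroup F (addHyp (addHyp Q₀₀))) := by
  have h1 := siegelO_E0_mem h hB c
  have hn : (commutator (Cfsg.isometryGroup F (addHyp (addHyp Q₀₀)))).Normal := inferInstance
  have h2 := hn.conj_mem _ h1 (hypExtendIso (addHyp Q₀₀) (swapO Q₀₀))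
  rw [extO_conj_siegelO, swapO_coe, Matrix.mulVec_smul, hypSwap_E0] at h2
  exact h2

theorem siegelO_mem_commutator (h : IsQF Q₀₀ M₀₀) (hB : ∃ x y : ι → F, x ⬝ᵥ M₀₀ *ᵥ y ≠ 0)
    (u : ι ⊕ Fin 2 → F) :
    siegelO h.addHyp u ∈ commutator (Cfsg.isometryGroup F (addHyp (addHyp Q₀₀))) := by
  rw [sum_elim_eta u, elim_decomp, ← siegelO_mul, ← siegelO_mul]
  exact mul_mem (siegelO_inl_mem h hB _) (mul_mem (siegelO_E0_mem h hB _) (siegelO_F0_mem h hB _))

end double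


/-! ### The centralizer of the Siegel root groups -/

section central
variable {Q₀ : (ι → F) → F} {M : Matrix ι ι F}

theorem hypSwap_F0 : hypSwap ι F *ᵥ hypF0 ι F = hypE0 ι F := by
  rw [hypF0, hypSwap_mulVec, hypE0]
  simp

theorem exists_Q_ne_zero [Nonempty ι] (h : IsQF Q₀ M) : ∃ u : ι → F, Q₀ u ≠ 0 := by
  by_contra hcon
  push Not at hcon
  obtain ⟨i⟩ := ‹Nonempty ι›
  have hx : (Pi.single i 1 : ι → F) = 0 := by
    apply h.nd _ (hcon _)
    intro y
    have := h.add (Pi.single i 1) y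
    rw [hcon, hcon, hcon] at this
    linear_combination -this
  have := congrFun hx i
  simp at this

/-- an isometry commuting with all `S_u` scales `E0` -/
theorem exists_smul_E0_of_commute [Nonempty ι] (h : IsQF Q₀ M) {Z : Matrix (ι ⊕ Fin 2) (ι ⊕ Fin 2) F}
    (hZ : Pres (addHyp Q₀) Z) (h1 : ∀ u, Z * hypSiegel Q₀ M u = hypSiegel Q₀ M u * Z) :
    ∃ c : F, Z *ᵥ hypE0 ι F = c • hypE0 ι F := by
  set w := Z *ᵥ hypE0 ι F with hw
  have hfix : ∀ u, hypSiegel Q₀ M u *ᵥ w = w := by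
    intro u
    rw [hw, Matrix.mulVec_mulVec, ← h1 u, ← Matrix.mulVec_mulVec, hypSiegel_E0]
  have hQ : addHyp Q₀ w = 0 := by rw [hw, hZ, addHyp_E0 h]
  rw [sum_elim_eta w] at hfix hQ ⊢
  set v := w ∘ Sum.inl
  set p := w ∘ Sum.inr
  obtain ⟨i⟩ := ‹Nonempty ι›
  have hp1 : p 1 = 0 := by
    have := hfix (Pi.single i 1)
    rw [hypSiegel_mulVec] at this
    have := congrFun this (Sum.inl i)
    simp at this
    exact this
  have hvM : ∀ u, v ⬝ᵥ M *ᵥ u = 0 := by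
    intro u
    have := hfix u
    rw [hypSiegel_mulVec] at this
    have := congrFun this (Sum.inr 0)
    simp [hp1] at this
    exact this
  have hv : v = 0 := by
    apply h.nd _ _ hvM
    rw [addHyp_elim, hp1, mul_zero, add_zero] at hQ
    exact hQ
  refine ⟨p 0, ?_⟩
  rw [hv]
  ext x
  rcases x with i | j
  · simp [hypE0]
  · fin_cases j
    · simp [hypE0]
    · simp [hypE0, hp1]

theorem scalar_of_commute_siegel [Nonempty ι] (h : IsQF Q₀ M)
    {Z : Matrix (ι ⊕ Fin 2) (ι ⊕ Fin 2) F} (hZ : Pres (addHyp Q₀) Z)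
    (h1 : ∀ u, Z * hypSiegel Q₀ M u = hypSiegel Q₀ M u * Z)
    (h2 : ∀ u, Z * (hypSwap ι F * hypSiegel Q₀ M u * hypSwap ι F) =
      (hypSwap ι F * hypSiegel Q₀ M u * hypSwap ι F) * Z) :
    Z = 1 ∨ Z = -1 := by
  obtain ⟨c, hc⟩ := exists_smul_E0_of_commute h hZ h1
  -- the swapped matrix
  have hZ' : Pres (addHyp Q₀) (hypSwap ι F * Z * hypSwap ι F) :=
    ((pres_hypSwap Q₀).mul hZ).mul (pres_hypSwap Q₀)
  have h1' : ∀ u, (hypSwap ι F * Z * hypSwap ι F) * hypSiegel Q₀ M u =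
      hypSiegel Q₀ M u * (hypSwap ι F * Z * hypSwap ι F) := by
    intro u
    have e1 : hypSiegel Q₀ M u =
        hypSwap ι F * (hypSwap ι F * hypSiegel Q₀ M u * hypSwap ι F) * hypSwap ι F := by
      calc hypSiegel Q₀ M u = 1 * hypSiegel Q₀ M u * 1 := by rw [Matrix.one_mul, Matrix.mul_one]
        _ = (hypSwap ι F * hypSwap ι F) * hypSiegel Q₀ M u * (hypSwap ι F * hypSwap ι F) := by
            rw [hypSwap_mul_self]
        _ = _ := by simp only [Matrix.mul_assoc]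
    set S' := hypSwap ι F * hypSiegel Q₀ M u * hypSwap ι F with hS'
    rw [e1]
    calc hypSwap ι F * Z * hypSwap ι F * (hypSwap ι F * S' * hypSwap ι F)
        = hypSwap ι F * Z * (hypSwap ι F * hypSwap ι F) * S' * hypSwap ι F := by
          simp only [Matrix.mul_assoc]
      _ = hypSwap ι F * (Z * S') * hypSwap ι F := by
          rw [hypSwap_mul_self, Matrix.mul_one, Matrix.mul_assoc (hypSwap ι F)]
      _ = hypSwap ι F * (S' * Z) * hypSwap ι F := by rw [h2 u]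
      _ = hypSwap ι F * S' * (hypSwap ι F * hypSwap ι F) * Z * hypSwap ι F := by
          rw [hypSwap_mul_self, Matrix.mul_one]; simp only [Matrix.mul_assoc]
      _ = _ := by simp only [Matrix.mul_assoc]
  obtain ⟨d, hd'⟩ := exists_smul_E0_of_commute h hZ' h1'
  have hd : Z *ᵥ hypF0 ι F = d • hypF0 ι F := by
    have e : (hypSwap ι F * Z * hypSwap ι F) *ᵥ hypE0 ι F = hypSwap ι F *ᵥ (Z *ᵥ hypF0 ι F) := by
      rw [← Matrix.mulVec_mulVec, ← Matrix.mulVec_mulVec, hypSwap_E0]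
    rw [e] at hd'
    have e2 : Z *ᵥ hypF0 ι F = hypSwap ι F *ᵥ (hypSwap ι F *ᵥ (Z *ᵥ hypF0 ι F)) := by
      rw [Matrix.mulVec_mulVec, hypSwap_mul_self, Matrix.one_mulVec]
    rw [e2, hd', Matrix.mulVec_smul, hypSwap_E0]
  -- c * d = 1
  have hcd : c * d = 1 := by
    have := hZ.polar h.addHyp (hypE0 ι F) (hypF0 ι F)
    rw [hc, hd, Matrix.mulVec_smul, smul_dotProduct, dotProduct_smul] at this
    have e : hypE0 ι F ⬝ᵥ addHypM M *ᵥ hypF0 ι F = 1 := by
      rw [hypF0, polar_E0]; simp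
    rw [e] at this
    simpa [mul_comm] using this
  have hc0 : c ≠ 0 := left_ne_zero_of_mul_eq_one hcd
  have hd0 : d ≠ 0 := right_ne_zero_of_mul_eq_one hcd
  -- Z maps `V₀` into `V₀`
  have hV0 : ∀ u : ι → F, ∃ v' : ι → F, Z *ᵥ Sum.elim u 0 = Sum.elim v' 0 := by
    intro u
    set x := Z *ᵥ (Sum.elim u 0 : ι ⊕ Fin 2 → F) with hx
    refine ⟨x ∘ Sum.inl, ?_⟩
    have hE := hZ.polar h.addHyp (hypE0 ι F) (Sum.elim u 0)
    have hF := hZ.polar h.addHyp (hypF0 ι F) (Sum.elim u 0)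
    rw [hc, smul_dotProduct, ← hx, sum_elim_eta x, polar_E0, polar_E0] at hE
    rw [hd, smul_dotProduct, ← hx, sum_elim_eta x, polar_F0, polar_F0] at hF
    simp only [Pi.zero_apply, smul_eq_mul, mul_eq_zero] at hE hF
    have hE' : (x ∘ Sum.inr) 1 = 0 := hE.resolve_left hc0
    have hF' : (x ∘ Sum.inr) 0 = 0 := hF.resolve_left hd0
    rw [sum_elim_eta x]
    congr 1
    ext j; fin_cases j
    · exact hF'
    · exact hE'
  -- commutation on `F0`
  have hcomm : ∀ u : ι → F, Z *ᵥ Sum.elim u 0 = Sum.elim (d • u) 0 ∧ (c - d) * Q₀ u = 0 := by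
    intro u
    obtain ⟨v', hv'⟩ := hV0 u
    have hSF : hypSiegel Q₀ M u *ᵥ hypF0 ι F =
        -(Sum.elim u 0 : ι ⊕ Fin 2 → F) + ((-Q₀ u) • hypE0 ι F + hypF0 ι F) := by
      rw [hypF0, hypSiegel_mulVec]
      ext x
      rcases x with i | j
      · simp [hypE0]
      · fin_cases j <;> simp [hypE0]
    have e1 : Z *ᵥ (hypSiegel Q₀ M u *ᵥ hypF0 ι F) = hypSiegel Q₀ M u *ᵥ (Z *ᵥ hypF0 ι F) := by
      rw [Matrix.mulVec_mulVec, Matrix.mulVec_mulVec, h1 u]
    rw [hd, Matrix.mulVec_smul, hSF, Matrix.mulVec_add, Matrix.mulVec_neg, Matrix.mulVec_add,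
      Matrix.mulVec_smul, hc, hd, hv'] at e1
    have ei : ∀ i, v' i = d * u i := by
      intro i
      have := congrFun e1 (Sum.inl i)
      simp [hypE0, hypF0] at this
      exact this
    have e0 := congrFun e1 (Sum.inr 0)
    simp [hypE0, hypF0] at e0
    refine ⟨?_, by linear_combination e0⟩
    rw [hv']
    congr 1
    ext i
    simp [ei i]
  obtain ⟨u₀, hu₀⟩ := exists_Q_ne_zero h
  have hcd' : c = d := by
    have := (hcomm u₀).2
    rcases mul_eq_zero.1 this with h' | h'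
    · exact sub_eq_zero.1 h'
    · exact absurd h' hu₀
  have hdd : d * d = 1 := by rw [← hcd']  at hcd ⊢; exact hcd
  have hZd : Z = d • (1 : Matrix (ι ⊕ Fin 2) (ι ⊕ Fin 2) F) := by
    apply matrix_ext_elim
    intro v p
    rw [elim_decomp, Matrix.mulVec_add, Matrix.mulVec_add, Matrix.mulVec_smul, Matrix.mulVec_smul,
      (hcomm v).1, hc, hd, hcd', Matrix.smul_mulVec, Matrix.one_mulVec]
    ext x
    rcases x with i | j
    · simp [hypE0, hypF0]
    · fin_cases j <;> simp [hypE0, hypF0] <;> ring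
  rcases mul_self_eq_one_iff.1 hdd with h' | h'
  · left; rw [hZd, h', one_smul]
  · right; rw [hZd, h', neg_smul, one_smul]

end central


/-! ### The centre of `Ω` for `Q₀₀ ⊕ H ⊕ H` -/

section centre
variable {Q₀₀ : (ι → F) → F} {M₀₀ : Matrix ι ι F}

theorem center_Omega_addHyp2 (h : IsQF Q₀₀ M₀₀) (hB : ∃ x y : ι → F, x ⬝ᵥ M₀₀ *ᵥ y ≠ 0)
    (z : Cfsg.isometryGroup F (addHyp (addHyp Q₀₀)))
    (hz : ∀ y ∈ commutator (Cfsg.isometryGroup F (addHyp (addHyp Q₀₀))), y * z = z * y) :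
    z.1.1 = 1 ∨ z.1.1 = -1 := by
  apply scalar_of_commute_siegel h.addHyp (pres_of_mem z)
  · intro u
    have h1 := hz _ (siegelO_mem_commutator h hB u)
    have h2 := congrArg (fun g : Cfsg.isometryGroup F (addHyp (addHyp Q₀₀)) =>
      (g.1 : GL ((ι ⊕ Fin 2) ⊕ Fin 2) F).1) h1
    exact h2.symm
  · intro u
    have hn : (commutator (Cfsg.isometryGroup F (addHyp (addHyp Q₀₀)))).Normal := inferInstance
    have h0 := hn.conj_mem _ (siegelO_mem_commutator h hB u) (swapO (addHyp Q₀₀))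
    have h1 := hz _ h0
    rw [swapO_inv] at h1
    have h2 := congrArg (fun g : Cfsg.isometryGroup F (addHyp (addHyp Q₀₀)) =>
      (g.1 : GL ((ι ⊕ Fin 2) ⊕ Fin 2) F).1) h1
    exact h2.symm

end centre

end

/-! ### Explicit reindexing isomorphism of isometry groups -/

section reindexIso
variable {F : Type*} [Field F] {ι κ : Type} [Fintype ι] [DecidableEq ι] [Fintype κ] [DecidableEq κ]

/-- reindexing hom of isometry groups -/
def reindexHom (e : ι ≃ κ) (Q : (ι → F) → F) (Q₁ : (κ → F) → F) (hC : ∀ w, Q (w ∘ e) = Q₁ w) :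
    Cfsg.isometryGroup F Q →* Cfsg.isometryGroup F Q₁ :=
  ((Units.map ((Matrix.reindexRingEquiv F e).toRingHom : Matrix ι ι F →* Matrix κ κ F)).comp
    (Cfsg.isometryGroup F Q).subtype).codRestrict _ (fun g => by
    rw [Cfsg.Agent.Helper45.mem_isometryGroup_iff]
    intro w
    have hg := (Cfsg.Agent.Helper45.mem_isometryGroup_iff Q g.1).1 g.2
    show Q₁ (((g.1 : Matrix ι ι F).submatrix e.symm e.symm) *ᵥ w) = Q₁ w
    rw [← hC, ← hC, Matrix.submatrix_mulVec_equiv]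
    have : ((g.1 : Matrix ι ι F) *ᵥ (w ∘ e.symm.symm)) ∘ e.symm ∘ e =
        (g.1 : Matrix ι ι F) *ᵥ (w ∘ e) := by
      ext i
      simp
    rw [Function.comp_assoc, this]
    exact hg _)

theorem reindexHom_coe (e : ι ≃ κ) (Q : (ι → F) → F) (Q₁ : (κ → F) → F)
    (hC : ∀ w, Q (w ∘ e) = Q₁ w) (g : Cfsg.isometryGroup F Q) :
    ((reindexHom e Q Q₁ hC g).1 : GL κ F).1 = (g.1 : GL ι F).1.submatrix e.symm e.symm := rfl

/-- reindexing isomorphism of isometry groups -/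
def reindexIso (e : ι ≃ κ) (Q : (ι → F) → F) (Q₁ : (κ → F) → F) (hC : ∀ w, Q (w ∘ e) = Q₁ w) :
    Cfsg.isometryGroup F Q ≃* Cfsg.isometryGroup F Q₁ :=
  MonoidHom.toMulEquiv (reindexHom e Q Q₁ hC)
    (reindexHom e.symm Q₁ Q (by
      intro w
      rw [← hC]
      congr 1
      ext i
      simp))
    (by
      ext g i j
      show (((g.1 : GL ι F).1.submatrix e.symm e.symm).submatrix e.symm.symm e.symm.symm) i j =
        (g.1 : GL ι F).1 i j
      simp)
    (by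
      ext g i j
      show (((g.1 : GL κ F).1.submatrix e.symm.symm e.symm.symm).submatrix e.symm e.symm) i j =
        (g.1 : GL κ F).1 i j
      simp)

theorem reindexIso_coe (e : ι ≃ κ) (Q : (ι → F) → F) (Q₁ : (κ → F) → F)
    (hC : ∀ w, Q (w ∘ e) = Q₁ w) (g : Cfsg.isometryGroup F Q) :
    ((reindexIso e Q Q₁ hC g).1 : GL κ F).1 = (g.1 : GL ι F).1.submatrix e.symm e.symm := rfl

/-- transport of "centralizer of Ω is ±1" along the reindexing -/
theorem center_pm_one_reindex (e : ι ≃ κ) (Q : (ι → F) → F) (Q₁ : (κ → F) → F)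
    (hC : ∀ w, Q (w ∘ e) = Q₁ w)
    (H : ∀ z : Cfsg.isometryGroup F Q,
      (∀ y ∈ commutator (Cfsg.isometryGroup F Q), y * z = z * y) → z.1.1 = 1 ∨ z.1.1 = -1)
    (z : Cfsg.isometryGroup F Q₁)
    (hz : ∀ y ∈ commutator (Cfsg.isometryGroup F Q₁), y * z = z * y) :
    z.1.1 = 1 ∨ z.1.1 = -1 := by
  set φ := reindexIso e Q Q₁ hC with hφ
  have h1 := H (φ.symm z) (by
    intro y hy
    apply φ.injective
    rw [map_mul, map_mul, φ.apply_symm_apply]
    apply hz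
    rw [commutator_def] at hy ⊢
    have := Subgroup.map_commutator (⊤ : Subgroup (Cfsg.isometryGroup F Q)) ⊤ φ.toMonoidHom
    have h2 : φ y ∈ Subgroup.map φ.toMonoidHom
        ⁅(⊤ : Subgroup (Cfsg.isometryGroup F Q)), (⊤ : Subgroup (Cfsg.isometryGroup F Q))⁆ :=
      Subgroup.mem_map_of_mem _ hy
    rw [this] at h2
    exact Subgroup.commutator_mono le_top le_top h2)
  have h2 : z.1.1 = ((φ.symm z).1 : GL ι F).1.submatrix e.symm e.symm := by
    rw [← reindexIso_coe e Q Q₁ hC, ← hφ, φ.apply_symm_apply]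
  rcases h1 with h1 | h1
  · left
    rw [h2, h1]
    ext i j
    simp [Matrix.one_apply]
  · right
    rw [h2, h1]
    ext i j
    simp [Matrix.one_apply]

end reindexIso

end Cfsg.Agent.Helper5
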