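import Mathlib
import Cfsg.Agent.Helper5.OrthCenter
import Cfsg.Agent.Helper5.OrthOrders
import Cfsg.Agent.Helper5.Omega4Minus
import Cfsg.Agent.Helper44.OmegaIndex
import Cfsg.Agent.Helper44.StdNondeg
import Cfsg.Agent.Helper14.OmegaTwo

set_option autoImplicit false
set_option linter.unusedSectionVars false

namespace Cfsg.Agent.Helper5

open Matrix
open scoped commutatorElement

section general
variable {F : Type*} [Field F] {κ : Type} [Fintype κ] [DecidableEq κ]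

theorem index_commutator_congr {G H : Type*} [Group G] [Group H] (φ : G ≃* H) :
    (commutator G).index = (commutator H).index := by
  have := Nat.card_congr (MulEquiv.abelianizationCongr φ).toEquiv
  exact this

/-- the isometry with matrix `-1` -/
def negOneO (Q : (κ → F) → F) (hneg : ∀ v, Q (-v) = Q v) : Cfsg.isometryGroup F Q :=
  ⟨-1, by
    rw [Cfsg.Agent.Helper45.mem_isometryGroup_iff]
    intro u
    simp [Matrix.neg_mulVec, hneg]⟩

theorem negOneO_coe (Q : (κ → F) → F) (hneg : ∀ v, Q (-v) = Q v) :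
    ((negOneO Q hneg).1 : GL κ F).1 = -1 := by
  simp [negOneO]

variable (Q : (κ → F) → F)

/-- if the centralizer of `Ω` is `±1` and `-1 ∉ Ω` (or `-1 = 1`), the centre of `Ω` is trivial -/
theorem center_Omega_eq_bot
    (Hc : ∀ z : Cfsg.isometryGroup F Q,
      (∀ y ∈ commutator (Cfsg.isometryGroup F Q), y * z = z * y) → z.1.1 = 1 ∨ z.1.1 = -1)
    (hno : ∀ g ∈ Cfsg.Omega F Q, (g.1 : GL κ F).1 = -1 → (g.1 : GL κ F).1 = 1) :
    Subgroup.center (Cfsg.Omega F Q) = ⊥ := by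
  rw [Subgroup.eq_bot_iff_forall]
  intro z hz
  have h1 : ∀ y ∈ commutator (Cfsg.isometryGroup F Q), y * z.1 = z.1 * y := by
    intro y hy
    have := Subgroup.mem_center_iff.1 hz ⟨y, hy⟩
    exact congrArg Subtype.val this
  have h2 : ((z.1 : Cfsg.isometryGroup F Q).1 : GL κ F).1 = 1 := by
    rcases Hc z.1 h1 with h | h
    · exact h
    · exact hno z.1 z.2 h
  apply Subtype.ext
  apply Subtype.ext
  apply Units.ext
  exact h2

/-- if the centralizer of `Ω` is `±1`, `-1 ∈ Ω` and `-1 ≠ 1`, the centre of `Ω` has order two -/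
theorem card_center_Omega_eq_two [Nonempty κ] (h2 : (2 : F) ≠ 0)
    (Hc : ∀ z : Cfsg.isometryGroup F Q,
      (∀ y ∈ commutator (Cfsg.isometryGroup F Q), y * z = z * y) → z.1.1 = 1 ∨ z.1.1 = -1)
    (hyes : ∃ g ∈ Cfsg.Omega F Q, (g.1 : GL κ F).1 = -1) :
    Nat.card (Subgroup.center (Cfsg.Omega F Q)) = 2 := by
  obtain ⟨g₀, hg₀, hg₀m⟩ := hyes
  have hne : (1 : Matrix κ κ F) ≠ -1 := by
    intro h
    obtain ⟨i⟩ := ‹Nonempty κ›
    have := congrFun (congrFun h i) i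
    simp at this
    apply h2
    linear_combination this
  have hcen : (⟨g₀, hg₀⟩ : Cfsg.Omega F Q) ∈ Subgroup.center (Cfsg.Omega F Q) := by
    rw [Subgroup.mem_center_iff]
    intro y
    apply Subtype.ext
    apply Subtype.ext
    apply Units.ext
    show (y.1.1 : GL κ F).1 * (g₀.1 : GL κ F).1 = (g₀.1 : GL κ F).1 * (y.1.1 : GL κ F).1
    rw [hg₀m]
    simp
  rw [Nat.card_eq_two_iff]
  refine ⟨1, ⟨⟨g₀, hg₀⟩, hcen⟩, ?_, ?_⟩
  · intro h
    have := congrArg (fun x : Subgroup.center (Cfsg.Omega F Q) => ((x.1.1 : Cfsg.isometryGroup F Q).1 : GL κ F).1) h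
    simp only at this
    rw [hg₀m] at this
    exact hne this
  · rw [Set.eq_univ_iff_forall]
    intro z
    have h1 : ∀ y ∈ commutator (Cfsg.isometryGroup F Q), y * z.1.1 = z.1.1 * y := by
      intro y hy
      have := Subgroup.mem_center_iff.1 z.2 ⟨y, hy⟩
      exact congrArg Subtype.val this
    rcases Hc z.1.1 h1 with h | h
    · left
      apply Subtype.ext
      apply Subtype.ext
      apply Subtype.ext
      apply Units.ext
      exact h
    · right
      rw [Set.mem_singleton_iff]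
      apply Subtype.ext
      apply Subtype.ext
      apply Subtype.ext
      apply Units.ext
      rw [h, hg₀m]

theorem card_POmega_mul [Finite (Cfsg.isometryGroup F Q)] :
    Nat.card (Cfsg.POmega F Q) * Nat.card (Subgroup.center (Cfsg.Omega F Q)) *
      (Cfsg.Omega F Q).index = Nat.card (Cfsg.isometryGroup F Q) := by
  rw [← Subgroup.card_eq_card_quotient_mul_card_subgroup, Subgroup.card_mul_index]

end general


section index
variable {F : Type*} [Field F] {κ : Type} [Fintype κ] [DecidableEq κ]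

/-- polar form of a quadratic form with polar matrix `M` -/
theorem polar_eq_of_isQF (Q : QuadraticForm F (κ → F)) {M : Matrix κ κ F} (h : IsQF (⇑Q) M)
    (x y : κ → F) : QuadraticMap.polarBilin Q x y = x ⬝ᵥ M *ᵥ y := by
  rw [QuadraticMap.polarBilin_apply_apply, QuadraticMap.polar, h.add]
  ring

theorem nondegenerate_of_isQF (Q : QuadraticForm F (κ → F)) {M : Matrix κ κ F} (h : IsQF (⇑Q) M)
    (h2 : (2 : F) ≠ 0) : (QuadraticMap.polarBilin Q).Nondegenerate := by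
  have key : ∀ x : κ → F, (∀ y, x ⬝ᵥ M *ᵥ y = 0) → x = 0 := by
    intro x hx
    apply h.nd x _ hx
    have h1 := h.add x x
    have h3 := h.smul 2 x
    have e : (2 : F) • x = x + x := two_smul F x
    rw [e, h1, hx x] at h3
    have : (2 : F) * Q x = 0 := by linear_combination -h3
    rcases mul_eq_zero.1 this with h' | h'
    · exact absurd h' h2
    · exact h'
  constructor
  · intro x hx
    apply key
    intro y
    rw [← polar_eq_of_isQF Q h]
    exact hx y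
  · intro y hy
    apply key
    intro x
    rw [h.symm, ← polar_eq_of_isQF Q h]
    exact hy x

/-- transport of nondegeneracy along a linear equivalence -/
theorem nondegenerate_comp {V W : Type*} [AddCommGroup V] [Module F V] [AddCommGroup W]
    [Module F W] (Q : QuadraticForm F W) (f : V ≃ₗ[F] W)
    (hQ : (QuadraticMap.polarBilin Q).Nondegenerate) :
    (QuadraticMap.polarBilin (Q.comp (f : V →ₗ[F] W))).Nondegenerate := by
  have e : ∀ x y, QuadraticMap.polarBilin (Q.comp (f : V →ₗ[F] W)) x y =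
      QuadraticMap.polarBilin Q (f x) (f y) := by
    intro x y
    simp [QuadraticMap.polarBilin_apply_apply, QuadraticMap.polar]
  constructor
  · intro x hx
    have : f x = 0 := by
      apply hQ.1
      intro y
      obtain ⟨y', rfl⟩ := f.surjective y
      rw [← e]; exact hx y'
    exact f.injective (by rw [this, map_zero])
  · intro y hy
    have : f y = 0 := by
      apply hQ.2
      intro x
      obtain ⟨x', rfl⟩ := f.surjective x
      rw [← e]; exact hy x'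
    exact f.injective (by rw [this, map_zero])

/-- `|O : Ω| = 2` in characteristic two, any index type -/
theorem index_Omega_eq_two [Fintype F] [CharP F 2] (Q : QuadraticForm F (κ → F))
    (hQ : (QuadraticMap.polarBilin Q).Nondegenerate)
    (h : Fintype.card F ≠ 2 ∨ Fintype.card κ ≠ 4) (hn : 1 ≤ Fintype.card κ) :
    (Cfsg.Omega F ⇑Q).index = 2 := by
  set n := Fintype.card κ with hn'
  let eκ : κ ≃ Fin n := Fintype.equivFin κ
  let f : (Fin n → F) ≃ₗ[F] (κ → F) := LinearEquiv.funCongrLeft F F eκ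
  let Q' : QuadraticForm F (Fin n → F) := Q.comp (f : (Fin n → F) →ₗ[F] (κ → F))
  have hQ' := nondegenerate_comp Q f hQ
  have h1 := Cfsg.Agent.Helper14.index_commutator_eq_two Q' hQ' h hn
  have φ := reindexIso eκ (⇑Q) (⇑Q') (fun w => rfl)
  rw [← h1]
  exact index_commutator_congr φ

end index

section double
variable {F : Type*} [Field F] {ι κ₁ κ₂ : Type} [Fintype ι] [DecidableEq ι] [Fintype κ₁]
  [DecidableEq κ₁] [Fintype κ₂] [DecidableEq κ₂]

theorem addHyp_addHyp_reindex (Q₀₀ : (ι → F) → F) (Q₁ : (κ₁ → F) → F) (Q₂ : (κ₂ → F) → F)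
    (e₁ : ι ⊕ Fin 2 ≃ κ₁) (hC₁ : ∀ w, addHyp Q₀₀ (w ∘ e₁) = Q₁ w)
    (e₂ : κ₁ ⊕ Fin 2 ≃ κ₂) (hC₂ : ∀ w, addHyp Q₁ (w ∘ e₂) = Q₂ w) (w : κ₂ → F) :
    addHyp (addHyp Q₀₀) (w ∘ ((Equiv.sumCongr e₁ (Equiv.refl (Fin 2))).trans e₂)) = Q₂ w := by
  rw [← hC₂]
  unfold addHyp
  have := hC₁ ((w ∘ e₂) ∘ Sum.inl)
  unfold addHyp at this
  rw [← this]
  rfl

/-- the centralizer of `Ω` is `±1` for a form equivalent to `Q₀₀ ⊕ H ⊕ H` -/
theorem center_pm_one_of_double {Q₀₀ : (ι → F) → F} {M₀₀ : Matrix ι ι F} (h : IsQF Q₀₀ M₀₀)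
    (hB : ∃ x y : ι → F, Q₀₀ (x + y) ≠ Q₀₀ x + Q₀₀ y)
    (Q₁ : (κ₁ → F) → F) (Q₂ : (κ₂ → F) → F)
    (e₁ : ι ⊕ Fin 2 ≃ κ₁) (hC₁ : ∀ w, addHyp Q₀₀ (w ∘ e₁) = Q₁ w)
    (e₂ : κ₁ ⊕ Fin 2 ≃ κ₂) (hC₂ : ∀ w, addHyp Q₁ (w ∘ e₂) = Q₂ w)
    (z : Cfsg.isometryGroup F Q₂)
    (hz : ∀ y ∈ commutator (Cfsg.isometryGroup F Q₂), y * z = z * y) :
    z.1.1 = 1 ∨ z.1.1 = -1 := by
  have hB' : ∃ x y : ι → F, x ⬝ᵥ M₀₀ *ᵥ y ≠ 0 := by
    obtain ⟨x, y, hxy⟩ := hB
    refine ⟨x, y, ?_⟩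
    intro h0
    apply hxy
    rw [h.add, h0, add_zero]
  exact center_pm_one_reindex _ (addHyp (addHyp Q₀₀)) Q₂
    (addHyp_addHyp_reindex Q₀₀ Q₁ Q₂ e₁ hC₁ e₂ hC₂) (center_Omega_addHyp2 h hB') z hz

end double


section families
variable {F : Type*} [Field F]

theorem hB_plus (k : ℕ) : ∃ x y : Fin (k + 1) ⊕ Fin (k + 1) → F,
    Cfsg.quadFormPlus (k + 1) F (x + y) ≠ Cfsg.quadFormPlus (k + 1) F x + Cfsg.quadFormPlus (k + 1) F y := by
  refine ⟨Pi.single (.inl 0) 1, Pi.single (.inr 0) 1, ?_⟩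
  simp [Cfsg.quadFormPlus, Pi.single_apply]

theorem hB_odd (k : ℕ) : ∃ x y : Unit ⊕ (Fin (k + 1) ⊕ Fin (k + 1)) → F,
    Cfsg.quadFormOdd (k + 1) F (x + y) ≠ Cfsg.quadFormOdd (k + 1) F x + Cfsg.quadFormOdd (k + 1) F y := by
  refine ⟨Pi.single (.inr (.inl 0)) 1, Pi.single (.inr (.inr 0)) 1, ?_⟩
  simp [Cfsg.quadFormOdd, Pi.single_apply]

theorem hB_minus (k : ℕ) (a b : F) : ∃ x y : (Fin (k + 1) ⊕ Fin (k + 1)) ⊕ Fin 2 → F,
    Cfsg.quadFormMinus (k + 1) F a b (x + y) ≠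
      Cfsg.quadFormMinus (k + 1) F a b x + Cfsg.quadFormMinus (k + 1) F a b y := by
  refine ⟨Pi.single (.inl (.inl 0)) 1, Pi.single (.inl (.inr 0)) 1, ?_⟩
  simp [Cfsg.quadFormMinus, Pi.single_apply]

theorem Hc_odd (k : ℕ) (z : Cfsg.isometryGroup F (Cfsg.quadFormOdd (k + 3) F))
    (hz : ∀ y ∈ commutator (Cfsg.isometryGroup F (Cfsg.quadFormOdd (k + 3) F)), y * z = z * y) :
    z.1.1 = 1 ∨ z.1.1 = -1 := by
  obtain ⟨M, hM⟩ := isQF_odd (F := F) (k + 1)
  exact center_pm_one_of_double hM (hB_odd k) (Cfsg.quadFormOdd (k + 2) F)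
    (Cfsg.quadFormOdd (k + 3) F) (oddIdx (k + 1)) (odd_step (k + 1)) (oddIdx (k + 2))
    (odd_step (k + 2)) z hz

theorem Hc_plus (k : ℕ) (z : Cfsg.isometryGroup F (Cfsg.quadFormPlus (k + 3) F))
    (hz : ∀ y ∈ commutator (Cfsg.isometryGroup F (Cfsg.quadFormPlus (k + 3) F)), y * z = z * y) :
    z.1.1 = 1 ∨ z.1.1 = -1 := by
  obtain ⟨M, hM⟩ := isQF_plus (F := F) (k + 1)
  exact center_pm_one_of_double hM (hB_plus k) (Cfsg.quadFormPlus (k + 2) F)
    (Cfsg.quadFormPlus (k + 3) F) (plusIdx (k + 1)) (plus_step (k + 1)) (plusIdx (k + 2))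
    (plus_step (k + 2)) z hz

theorem Hc_minus (k : ℕ) (a b : F)
    (hab : ∀ z₁ z₂ : F, z₁ ^ 2 + a * z₁ * z₂ + b * z₂ ^ 2 = 0 → z₁ = 0 ∧ z₂ = 0)
    (z : Cfsg.isometryGroup F (Cfsg.quadFormMinus (k + 3) F a b))
    (hz : ∀ y ∈ commutator (Cfsg.isometryGroup F (Cfsg.quadFormMinus (k + 3) F a b)),
      y * z = z * y) :
    z.1.1 = 1 ∨ z.1.1 = -1 := by
  obtain ⟨M, hM⟩ := isQF_minus a b hab (k + 1)
  exact center_pm_one_of_double hM (hB_minus k a b) (Cfsg.quadFormMinus (k + 2) F a b)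
    (Cfsg.quadFormMinus (k + 3) F a b) (minusIdx (k + 1)) (minus_step (k + 1) a b)
    (minusIdx (k + 2)) (minus_step (k + 2) a b) z hz

end families

end Cfsg.Agent.Helper5
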