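import Mathlib
import Cfsg.Agent.Helper5.EichlerO

/-!
# Vector lemmas for orthogonal geometry (general `Q` on `ι → F` with non-degenerate polar form)
-/

set_option autoImplicit false
set_option linter.unusedSectionVars false

namespace Cfsg.Agent.Helper5

open Matrix QuadraticMap Module Cfsg.Agent.Helper44 Cfsg.Agent.Helper45.OmegaParity

variable {F : Type*} [Field F] {ι : Type} [Fintype ι] [DecidableEq ι]
variable (Q : QuadraticForm F (ι → F))

theorem exists_polar_ne_zero (hQ : (QuadraticMap.polarBilin Q).Nondegenerate) {u : ι → F}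
    (hu : u ≠ 0) : ∃ y, polar ⇑Q u y ≠ 0 := by
  by_contra hcon
  push Not at hcon
  exact hu (hQ.1 u (fun y => by rw [QuadraticMap.polarBilin_apply_apply]; exact hcon y))

/-- a vector non-orthogonal to two given non-zero vectors -/
theorem exists_polar_ne_zero_both (hQ : (QuadraticMap.polarBilin Q).Nondegenerate) {u y : ι → F}
    (hu : u ≠ 0) (hy : y ≠ 0) : ∃ z, polar ⇑Q z u ≠ 0 ∧ polar ⇑Q z y ≠ 0 := by
  obtain ⟨a, ha⟩ := exists_polar_ne_zero Q hQ hu
  obtain ⟨b, hb⟩ := exists_polar_ne_zero Q hQ hy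
  rw [QuadraticMap.polar_comm] at ha hb
  by_cases h1 : polar ⇑Q a y = 0
  · by_cases h2 : polar ⇑Q b u = 0
    · refine ⟨a + b, ?_, ?_⟩
      · rw [QuadraticMap.polar_add_left, h2, add_zero]; exact ha
      · rw [QuadraticMap.polar_add_left, h1, zero_add]; exact hb
    · exact ⟨b, h2, hb⟩
  · exact ⟨a, ha, h1⟩

/-- make a vector singular by adding a multiple of a singular vector not orthogonal to it -/
theorem exists_singular_add_smul {z u : ι → F} (hu : Q u = 0) (hz : polar ⇑Q z u ≠ 0) :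
    ∃ c : F, Q (z + c • u) = 0 := by
  refine ⟨-(Q z) / polar ⇑Q z u, ?_⟩
  rw [QuadraticMap.map_add ⇑Q, QuadraticMap.map_smul, hu, QuadraticMap.polar_smul_right]
  simp only [smul_eq_mul, mul_zero, add_zero]
  field_simp
  ring

/-- if `v` is not a multiple of `u ≠ 0`, some `z` is orthogonal to `u` but not to `v` -/
theorem exists_orth_sep' (hQ : (QuadraticMap.polarBilin Q).Nondegenerate) {u v : ι → F}
    (hu : u ≠ 0) (hv : ∀ a : F, v ≠ a • u) :
    ∃ z, polar ⇑Q u z = 0 ∧ polar ⇑Q v z ≠ 0 := by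
  by_contra hcon
  simp only [not_exists, not_and, not_not] at hcon
  obtain ⟨x0, hx0⟩ := exists_polar_ne_zero Q hQ hu
  set x1 := (polar ⇑Q u x0)⁻¹ • x0 with hx1
  have h1 : polar ⇑Q u x1 = 1 := by
    rw [hx1, QuadraticMap.polar_smul_right, smul_eq_mul, inv_mul_cancel₀ hx0]
  apply hv (polar ⇑Q v x1)
  have : v - polar ⇑Q v x1 • u = 0 := by
    apply hQ.1
    intro y
    rw [QuadraticMap.polarBilin_apply_apply]
    have h2 := hcon (y - polar ⇑Q u y • x1) (by
      rw [QuadraticMap.polar_sub_right, QuadraticMap.polar_smul_right, h1, smul_eq_mul, mul_one,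
        sub_self])
    rw [QuadraticMap.polar_sub_right, QuadraticMap.polar_smul_right] at h2
    rw [QuadraticMap.polar_sub_left, QuadraticMap.polar_smul_left]
    simp only [smul_eq_mul] at h2 ⊢
    linear_combination h2
  exact sub_eq_zero.1 this

theorem polar_self_of_singular {u : ι → F} (hu : Q u = 0) : polar ⇑Q u u = 0 := by
  rw [QuadraticMap.polar_self, hu, smul_zero]

/-- **Root groups are transitive on the singular points not orthogonal to their centre.** -/
theorem eichlerO_map {u v v' : ι → F} {β : F} (hu : Q u = 0) (hv : Q v = 0) (hv' : Q v' = 0)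
    (h : polar ⇑Q u v = β) (h' : polar ⇑Q u v' = β) (hβ : β ≠ 0) :
    polar ⇑Q u (β⁻¹ • (v - v')) = 0 ∧ lin Q (eichlerO Q u (β⁻¹ • (v - v'))) v = v' := by
  have h0 : polar ⇑Q u (β⁻¹ • (v - v')) = 0 := by
    rw [QuadraticMap.polar_smul_right, QuadraticMap.polar_sub_right, h, h', sub_self, smul_zero]
  refine ⟨h0, ?_⟩
  rw [lin_eichlerO Q hu h0, h]
  have hvv : polar ⇑Q v v = 0 := polar_self_of_singular Q hv
  have e1 : polar ⇑Q (β⁻¹ • (v - v')) v = - β⁻¹ * polar ⇑Q v v' := by
    rw [QuadraticMap.polar_smul_left, QuadraticMap.polar_sub_left, hvv,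
      QuadraticMap.polar_comm ⇑Q v' v]
    simp only [smul_eq_mul]
    ring
  have e2 : Q (β⁻¹ • (v - v')) = - β⁻¹ * β⁻¹ * polar ⇑Q v v' := by
    rw [QuadraticMap.map_smul, sub_eq_add_neg, QuadraticMap.map_add ⇑Q, QuadraticMap.map_neg, hv,
      hv', QuadraticMap.polar_neg_right]
    simp only [smul_eq_mul]
    ring
  rw [e1, e2]
  have hb : β⁻¹ * β = 1 := inv_mul_cancel₀ hβ
  have e3 : (-β⁻¹ * β⁻¹ * polar ⇑Q v v' * β) = -β⁻¹ * polar ⇑Q v v' := by
    linear_combination (-β⁻¹ * polar ⇑Q v v') * hb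
  rw [e3, smul_smul, mul_inv_cancel₀ hβ, one_smul]
  abel

/-- a singular vector non-orthogonal to two given singular vectors -/
theorem exists_singular_nonperp_both (hQ : (QuadraticMap.polarBilin Q).Nondegenerate)
    (h5 : 4 < Fintype.card ι) {u v : ι → F} (hu0 : u ≠ 0) (hv0 : v ≠ 0) (hu : Q u = 0)
    (hv : Q v = 0) : ∃ z, Q z = 0 ∧ polar ⇑Q z u ≠ 0 ∧ polar ⇑Q z v ≠ 0 := by
  by_cases huv : polar ⇑Q u v = 0
  · obtain ⟨z₀, hz1, hz2⟩ := exists_polar_ne_zero_both Q hQ hu0 hv0
    obtain ⟨c, hc⟩ := exists_singular_add_smul Q hu hz1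
    refine ⟨z₀ + c • u, hc, ?_, ?_⟩
    · rw [QuadraticMap.polar_add_left, QuadraticMap.polar_smul_left, polar_self_of_singular Q hu,
        smul_zero, add_zero]
      exact hz1
    · rw [QuadraticMap.polar_add_left, QuadraticMap.polar_smul_left, huv, smul_zero, add_zero]
      exact hz2
  · obtain ⟨x, hx, hxU⟩ := exists_nonsingular_orth Q hQ (Submodule.span F {u, v}) (by
      classical
      have := finrank_span_finset_le_card (R := F) ({u, v} : Finset (ι → F))
      rw [Finset.coe_pair] at this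
      change finrank F ↥(Submodule.span F {u, v}) ≤ _ at this
      have h2 : ({u, v} : Finset (ι → F)).card ≤ 2 := Finset.card_le_two
      omega)
    have hxu : polar ⇑Q x u = 0 := hxU u (Submodule.subset_span (by simp))
    have hxv : polar ⇑Q x v = 0 := hxU v (Submodule.subset_span (by simp))
    set b : F := -(Q x) / polar ⇑Q u v with hb
    have hb0 : b ≠ 0 := div_ne_zero (neg_ne_zero.2 hx) huv
    refine ⟨x + (u + b • v), ?_, ?_, ?_⟩
    · have e1 : Q (u + b • v) = b * polar ⇑Q u v := by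
        rw [QuadraticMap.map_add ⇑Q, QuadraticMap.map_smul, hu, hv, QuadraticMap.polar_smul_right]
        simp
      have e2 : polar ⇑Q x (u + b • v) = 0 := by
        rw [QuadraticMap.polar_add_right, QuadraticMap.polar_smul_right, hxu, hxv]
        simp
      rw [QuadraticMap.map_add ⇑Q, e1, e2, hb]
      field_simp
      ring
    · rw [QuadraticMap.polar_add_left, QuadraticMap.polar_add_left, QuadraticMap.polar_smul_left,
        hxu, polar_self_of_singular Q hu, QuadraticMap.polar_comm ⇑Q v u]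
      simp only [smul_eq_mul, zero_add]
      exact mul_ne_zero hb0 huv
    · rw [QuadraticMap.polar_add_left, QuadraticMap.polar_add_left, QuadraticMap.polar_smul_left,
        hxv, polar_self_of_singular Q hv]
      simp only [smul_eq_mul, mul_zero, add_zero, zero_add]
      exact huv

/-- a single Eichler transformation maps a singular point to any other singular point -/
theorem exists_eichlerO_map_point (hQ : (QuadraticMap.polarBilin Q).Nondegenerate)
    (h5 : 4 < Fintype.card ι) {u v : ι → F} (hu0 : u ≠ 0) (hv0 : v ≠ 0) (hu : Q u = 0)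
    (hv : Q v = 0) :
    ∃ (z w : ι → F) (c : F), Q z = 0 ∧ polar ⇑Q z w = 0 ∧ c ≠ 0 ∧
      lin Q (eichlerO Q z w) u = c • v := by
  obtain ⟨z, hz, hzu, hzv⟩ := exists_singular_nonperp_both Q hQ h5 hu0 hv0 hu hv
  set c : F := polar ⇑Q z u / polar ⇑Q z v with hc
  have hc0 : c ≠ 0 := div_ne_zero hzu hzv
  have hcv : Q (c • v) = 0 := by rw [QuadraticMap.map_smul, hv, smul_zero]
  have h' : polar ⇑Q z (c • v) = polar ⇑Q z u := by
    rw [QuadraticMap.polar_smul_right, hc, smul_eq_mul, div_mul_cancel₀ _ hzv]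
  obtain ⟨h1, h2⟩ := eichlerO_map Q hz hu hcv rfl h' hzu
  exact ⟨z, _, c, hz, h1, hc0, h2⟩

end Cfsg.Agent.Helper5
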