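import Mathlib
import Cfsg.Agent.Helper5.OrthVec

/-!
# The Eichler group is perfect (Witt index at least three)
-/

set_option autoImplicit false
set_option linter.unusedSectionVars false
set_option linter.unusedSimpArgs false

namespace Cfsg.Agent.Helper5

open Matrix QuadraticMap Module Cfsg.Agent.Helper44 Cfsg.Agent.Helper45.OmegaParity
open scoped commutatorElement

variable {F : Type*} [Field F] {ι : Type} [Fintype ι] [DecidableEq ι]
variable (Q : QuadraticForm F (ι → F))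

/-- three mutually orthogonal hyperbolic pairs -/
structure HypTriple where
  /-- the first vectors -/
  e : Fin 3 → (ι → F)
  /-- the partners -/
  f : Fin 3 → (ι → F)
  Qe : ∀ i, Q (e i) = 0
  Qf : ∀ i, Q (f i) = 0
  ee : ∀ i j, polar ⇑Q (e i) (e j) = 0
  ff : ∀ i j, polar ⇑Q (f i) (f j) = 0
  ef : ∀ i j, polar ⇑Q (e i) (f j) = if i = j then 1 else 0

/-- the basic commutator identity -/
theorem eichlerO_eq_commutator {u u₂ w w' : ι → F} (hu : Q u = 0) (hu₂ : Q u₂ = 0)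
    (huu₂ : polar ⇑Q u u₂ = 0) (huw : polar ⇑Q u w = 0) (hu₂w : polar ⇑Q u₂ w = 0)
    (h1 : polar ⇑Q u w' = 0) (h2 : polar ⇑Q u₂ w' = -1) (h3 : polar ⇑Q w w' = -(Q w)) :
    eichlerO Q u w = ⁅eichlerO Q u₂ w, eichlerO Q u w'⁆ := by
  rw [commutatorElement_def, eichlerO_conj Q _ hu h1]
  have e1 : lin Q (eichlerO Q u₂ w) u = u := by
    rw [lin_eichlerO Q hu₂ hu₂w, QuadraticMap.polar_comm ⇑Q w u, huw,
      QuadraticMap.polar_comm ⇑Q u₂ u, huu₂]
    simp
  have e2 : lin Q (eichlerO Q u₂ w) w' = w' + w := by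
    rw [lin_eichlerO Q hu₂ hu₂w, h2, h3]
    simp only [neg_smul, one_smul, mul_neg, mul_one, neg_neg, sub_neg_eq_add]
    abel
  rw [e1, e2, eichlerO_inv Q hu h1, eichlerO_mul Q hu (by
    rw [QuadraticMap.polar_add_right, h1, huw, add_zero]) (by
    rw [QuadraticMap.polar_neg_right, h1, neg_zero])]
  congr 1
  abel

variable (hQ : (QuadraticMap.polarBilin Q).Nondegenerate)

include hQ in
/-- the commutator criterion -/
theorem eichlerO_mem_commutator_of {u u₂ f f₂ w : ι → F} (hu : Q u = 0) (hu₂ : Q u₂ = 0)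
    (huu₂ : polar ⇑Q u u₂ = 0) (huw : polar ⇑Q u w = 0) (hu₂w : polar ⇑Q u₂ w = 0)
    (huf : polar ⇑Q u f = 1) (hu₂f₂ : polar ⇑Q u₂ f₂ = 1) (huf₂ : polar ⇑Q u f₂ = 0)
    (hu₂f : polar ⇑Q u₂ f = 0) (hwf : polar ⇑Q w f = 0) (hwf₂ : polar ⇑Q w f₂ = 0) :
    eichlerO Q u w ∈ ⁅eichlerGroup Q, eichlerGroup Q⁆ := by
  obtain ⟨x₀, hx₀⟩ : ∃ x₀, polar ⇑Q w x₀ = -(Q w) := by
    by_cases hw : w = 0
    · refine ⟨0, ?_⟩
      rw [hw, QuadraticMap.polar_zero_left, QuadraticMap.map_zero, neg_zero]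
    · obtain ⟨y, hy⟩ := exists_polar_ne_zero Q hQ hw
      refine ⟨(-(Q w) / polar ⇑Q w y) • y, ?_⟩
      rw [QuadraticMap.polar_smul_right, smul_eq_mul, div_mul_cancel₀ _ hy]
  set w' := x₀ - polar ⇑Q u x₀ • f - (1 + polar ⇑Q u₂ x₀) • f₂ with hw'
  have h1 : polar ⇑Q u w' = 0 := by
    rw [hw', QuadraticMap.polar_sub_right, QuadraticMap.polar_sub_right,
      QuadraticMap.polar_smul_right, QuadraticMap.polar_smul_right, huf, huf₂]
    simp
  have h2 : polar ⇑Q u₂ w' = -1 := by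
    rw [hw', QuadraticMap.polar_sub_right, QuadraticMap.polar_sub_right,
      QuadraticMap.polar_smul_right, QuadraticMap.polar_smul_right, hu₂f, hu₂f₂]
    simp
  have h3 : polar ⇑Q w w' = -(Q w) := by
    rw [hw', QuadraticMap.polar_sub_right, QuadraticMap.polar_sub_right,
      QuadraticMap.polar_smul_right, QuadraticMap.polar_smul_right, hwf, hwf₂, hx₀]
    simp
  rw [eichlerO_eq_commutator Q hu hu₂ huu₂ huw hu₂w h1 h2 h3]
  exact Subgroup.commutator_mem_commutator (eichlerO_mem_eichlerGroup Q _ _)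
    (eichlerO_mem_eichlerGroup Q _ _)

include hQ in
/-- Eichler transformations centred at the first vector of a hyperbolic triple are commutators -/
theorem eichlerO_e0_mem_commutator (T : HypTriple Q) {w : ι → F}
    (hw : polar ⇑Q (T.e 0) w = 0) :
    eichlerO Q (T.e 0) w ∈ ⁅eichlerGroup Q, eichlerGroup Q⁆ := by
  have hfe : ∀ i j, polar ⇑Q (T.f i) (T.e j) = if j = i then 1 else 0 := by
    intro i j
    rw [QuadraticMap.polar_comm, T.ef]
  set γ := polar ⇑Q w (T.f 0) with hγ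
  set α := polar ⇑Q w (T.f 1) with hα
  set β := polar ⇑Q w (T.e 1) with hβ
  set w₁ := w - γ • T.e 0 - α • T.e 1 - β • T.f 1 with hw₁
  have hdecomp : w₁ + α • T.e 1 + β • T.f 1 + γ • T.e 0 = w := by
    rw [hw₁]; abel
  have hwe0 : polar ⇑Q w (T.e 0) = 0 := by rw [QuadraticMap.polar_comm]; exact hw
  -- orthogonality relations for w₁
  have a1 : polar ⇑Q (T.e 0) w₁ = 0 := by
    rw [hw₁, QuadraticMap.polar_sub_right, QuadraticMap.polar_sub_right,
      QuadraticMap.polar_sub_right, QuadraticMap.polar_smul_right, QuadraticMap.polar_smul_right,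
      QuadraticMap.polar_smul_right, T.ee, T.ee, T.ef, hw]
    simp
  have a2 : polar ⇑Q (T.e 1) w₁ = 0 := by
    rw [hw₁, QuadraticMap.polar_sub_right, QuadraticMap.polar_sub_right,
      QuadraticMap.polar_sub_right, QuadraticMap.polar_smul_right, QuadraticMap.polar_smul_right,
      QuadraticMap.polar_smul_right, T.ee, T.ee, T.ef, QuadraticMap.polar_comm ⇑Q (T.e 1) w, ← hβ]
    simp
  have a3 : polar ⇑Q w₁ (T.f 0) = 0 := by
    rw [hw₁, QuadraticMap.polar_sub_left, QuadraticMap.polar_sub_left,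
      QuadraticMap.polar_sub_left, QuadraticMap.polar_smul_left, QuadraticMap.polar_smul_left,
      QuadraticMap.polar_smul_left, T.ef, T.ef, T.ff, ← hγ]
    simp
  have a4 : polar ⇑Q w₁ (T.f 1) = 0 := by
    rw [hw₁, QuadraticMap.polar_sub_left, QuadraticMap.polar_sub_left,
      QuadraticMap.polar_sub_left, QuadraticMap.polar_smul_left, QuadraticMap.polar_smul_left,
      QuadraticMap.polar_smul_left, T.ef, T.ef, T.ff, ← hα]
    simp
  have m1 : eichlerO Q (T.e 0) w₁ ∈ ⁅eichlerGroup Q, eichlerGroup Q⁆ :=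
    eichlerO_mem_commutator_of Q hQ (T.Qe 0) (T.Qe 1) (T.ee 0 1) a1 a2
      (by rw [T.ef]; simp) (by rw [T.ef]; simp) (by rw [T.ef]; simp) (by rw [T.ef]; simp) a3 a4
  have m2 : eichlerO Q (T.e 0) (α • T.e 1) ∈ ⁅eichlerGroup Q, eichlerGroup Q⁆ :=
    eichlerO_mem_commutator_of Q hQ (u₂ := T.e 2) (f := T.f 0) (f₂ := T.f 2) (T.Qe 0) (T.Qe 2)
      (T.ee 0 2)
      (by rw [QuadraticMap.polar_smul_right, T.ee, smul_zero])
      (by rw [QuadraticMap.polar_smul_right, T.ee, smul_zero])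
      (by rw [T.ef]; simp) (by rw [T.ef]; simp) (by rw [T.ef]; simp) (by rw [T.ef]; simp)
      (by rw [QuadraticMap.polar_smul_left, T.ef]; simp)
      (by rw [QuadraticMap.polar_smul_left, T.ef]; simp)
  have m3 : eichlerO Q (T.e 0) (β • T.f 1) ∈ ⁅eichlerGroup Q, eichlerGroup Q⁆ :=
    eichlerO_mem_commutator_of Q hQ (u₂ := T.e 2) (f := T.f 0) (f₂ := T.f 2) (T.Qe 0) (T.Qe 2)
      (T.ee 0 2)
      (by rw [QuadraticMap.polar_smul_right, T.ef]; simp)
      (by rw [QuadraticMap.polar_smul_right, T.ef]; simp)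
      (by rw [T.ef]; simp) (by rw [T.ef]; simp) (by rw [T.ef]; simp) (by rw [T.ef]; simp)
      (by rw [QuadraticMap.polar_smul_left, T.ff, smul_zero])
      (by rw [QuadraticMap.polar_smul_left, T.ff, smul_zero])
  have b2 : polar ⇑Q (T.e 0) (α • T.e 1) = 0 := by
    rw [QuadraticMap.polar_smul_right, T.ee, smul_zero]
  have b3 : polar ⇑Q (T.e 0) (β • T.f 1) = 0 := by
    rw [QuadraticMap.polar_smul_right, T.ef]; simp
  have b12 : polar ⇑Q (T.e 0) (w₁ + α • T.e 1) = 0 := by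
    rw [QuadraticMap.polar_add_right, a1, b2, add_zero]
  have b123 : polar ⇑Q (T.e 0) (w₁ + α • T.e 1 + β • T.f 1) = 0 := by
    rw [QuadraticMap.polar_add_right, b12, b3, add_zero]
  have key : eichlerO Q (T.e 0) w
      = eichlerO Q (T.e 0) w₁ * eichlerO Q (T.e 0) (α • T.e 1) * eichlerO Q (T.e 0) (β • T.f 1) := by
    rw [eichlerO_mul Q (T.Qe 0) a1 b2, eichlerO_mul Q (T.Qe 0) b12 b3,
      ← eichlerO_add_smul Q (T.Qe 0) b123 γ, hdecomp]
  rw [key]
  exact mul_mem (mul_mem m1 m2) m3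

include hQ in
/-- **The Eichler group is perfect** as soon as there is a hyperbolic triple. -/
theorem eichlerGroup_le_commutator (h5 : 4 < Fintype.card ι) (T : HypTriple Q) :
    eichlerGroup Q ≤ ⁅eichlerGroup Q, eichlerGroup Q⁆ := by
  unfold eichlerGroup
  rw [Subgroup.closure_le]
  rintro _ ⟨u, w, hu, huw, rfl⟩
  show eichlerO Q u w ∈ ⁅eichlerGroup Q, eichlerGroup Q⁆
  by_cases hu0 : u = 0
  · have : eichlerO Q u w = 1 := by
      apply isom_ext
      intro x
      rw [lin_eichlerO Q hu huw, lin_one_apply, hu0, QuadraticMap.polar_zero_left]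
      simp
    rw [this]
    exact one_mem _
  have he0 : T.e 0 ≠ 0 := by
    intro h
    have := T.ef 0 0
    rw [h, QuadraticMap.polar_zero_left] at this
    simp at this
  obtain ⟨z, y, c, hz, hzy, hc, hmap⟩ :=
    exists_eichlerO_map_point Q hQ h5 hu0 he0 hu (T.Qe 0)
  set g := eichlerO Q z y with hg
  have hgK : g ∈ eichlerGroup Q := eichlerO_mem_eichlerGroup Q z y
  have hconj := eichlerO_conj Q g hu huw
  rw [hmap] at hconj
  have hcw : polar ⇑Q (T.e 0) (lin Q g w) = 0 := by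
    have h1 : polar ⇑Q (lin Q g u) (lin Q g w) = 0 := by rw [polar_lin, huw]
    rw [hmap, QuadraticMap.polar_smul_left, smul_eq_mul] at h1
    rcases mul_eq_zero.1 h1 with h | h
    · exact absurd h hc
    · exact h
  rw [eichlerO_smul_left Q (T.Qe 0) hcw] at hconj
  have hmem : g * eichlerO Q u w * g⁻¹ ∈ ⁅eichlerGroup Q, eichlerGroup Q⁆ := by
    rw [hconj]
    apply eichlerO_e0_mem_commutator Q hQ T
    rw [QuadraticMap.polar_smul_right, hcw, smul_zero]
  have hn : (⁅eichlerGroup Q, eichlerGroup Q⁆ : Subgroup _).Normal := inferInstance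
  have := hn.conj_mem _ hmem g⁻¹
  convert this using 1
  group

end Cfsg.Agent.Helper5
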