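import Mathlib
import Cfsg.Agent.Helper5.OrthVec

/-!
# Primitivity of the action on singular points

`Q : QuadraticForm F (ι → F)` with non-degenerate polar form, `card ι > 4`.  Any subgroup `H` of
the isometry group containing all Eichler transformations acts primitively on singular points.
-/

set_option autoImplicit false
set_option linter.unusedSectionVars false
set_option linter.unusedSimpArgs false

namespace Cfsg.Agent.Helper5

open Matrix QuadraticMap Module MulAction Cfsg.Agent.Helper44 Cfsg.Agent.Helper45.OmegaParity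
open scoped LinearAlgebra.Projectivization Pointwise

variable {F : Type*} [Field F] {ι : Type} [Fintype ι] [DecidableEq ι]
variable (Q : QuadraticForm F (ι → F))

theorem Q_rep_mk {v : ι → F} (hv : v ≠ 0) :
    Q (Projectivization.mk F v hv).rep = 0 ↔ Q v = 0 := by
  obtain ⟨a, ha⟩ := Projectivization.exists_smul_eq_mk_rep F v hv
  rw [← ha]
  have : Q (a • v) = ((a : F) * (a : F)) * Q v := by
    show Q ((a : F) • v) = _
    rw [QuadraticMap.map_smul, smul_eq_mul]
  rw [this, mul_eq_zero]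
  constructor
  · rintro (h | h)
    · exact absurd (mul_self_eq_zero.1 h) a.ne_zero
    · exact h
  · intro h; exact Or.inr h

/-- the singular points of projective space -/
structure SingPt where
  /-- the underlying projective point -/
  pt : ℙ F (ι → F)
  /-- it is singular -/
  sing : Q pt.rep = 0

variable {Q} in
theorem SingPt.ext' {p q : SingPt Q} (h : p.pt = q.pt) : p = q := by
  cases p; cases q; cases h; rfl

theorem Q_rep_smul (g : Cfsg.isometryGroup F ⇑Q) (p : ℙ F (ι → F)) (hp : Q p.rep = 0) :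
    Q ((g.1 : GL ι F) • p).rep = 0 := by
  have h1 : (g.1 : GL ι F) • p
      = Projectivization.mk F ((g.1 : GL ι F) • p.rep)
        ((smul_ne_zero_iff_ne (g.1 : GL ι F)).mpr p.rep_nonzero) := by
    conv_lhs => rw [← Projectivization.mk_rep p]
    rw [Projectivization.smul_mk]
  rw [h1, Q_rep_mk]
  show Q (lin Q g p.rep) = 0
  rw [lin_isometry]
  exact hp

noncomputable instance singPtAction : MulAction (Cfsg.isometryGroup F ⇑Q) (SingPt Q) where
  smul g p := ⟨(g.1 : GL ι F) • p.pt, Q_rep_smul Q g p.pt p.sing⟩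
  one_smul p := SingPt.ext' (one_smul (GL ι F) p.pt)
  mul_smul g h p := SingPt.ext' (mul_smul (g.1 : GL ι F) (h.1 : GL ι F) p.pt)

theorem smul_pt (g : Cfsg.isometryGroup F ⇑Q) (p : SingPt Q) :
    (g • p).pt = (g.1 : GL ι F) • p.pt := rfl

/-- the singular point spanned by a non-zero singular vector -/
def sp (v : ι → F) (hv0 : v ≠ 0) (hv : Q v = 0) : SingPt Q :=
  ⟨Projectivization.mk F v hv0, (Q_rep_mk Q hv0).2 hv⟩

theorem exists_sp (p : SingPt Q) :
    ∃ (v : ι → F) (hv0 : v ≠ 0) (hv : Q v = 0), p = sp Q v hv0 hv := by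
  refine ⟨p.pt.rep, p.pt.rep_nonzero, p.sing, ?_⟩
  apply SingPt.ext'
  exact (Projectivization.mk_rep p.pt).symm

theorem sp_eq_sp_of_smul {u v : ι → F} (hu0 : u ≠ 0) (hu : Q u = 0) (hv0 : v ≠ 0) (hv : Q v = 0)
    {c : F} (h : v = c • u) : sp Q v hv0 hv = sp Q u hu0 hu := by
  have hc : c ≠ 0 := by
    rintro rfl
    rw [zero_smul] at h
    exact hv0 h
  apply SingPt.ext'
  show Projectivization.mk F v hv0 = Projectivization.mk F u hu0
  rw [Projectivization.mk_eq_mk_iff]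
  exact ⟨Units.mk0 c hc, h.symm⟩

theorem exists_smul_of_sp_eq_sp {u v : ι → F} (hu0 : u ≠ 0) (hu : Q u = 0) (hv0 : v ≠ 0)
    (hv : Q v = 0) (h : sp Q v hv0 hv = sp Q u hu0 hu) : ∃ c : F, v = c • u := by
  have h1 : Projectivization.mk F v hv0 = Projectivization.mk F u hu0 := congrArg SingPt.pt h
  rw [Projectivization.mk_eq_mk_iff] at h1
  obtain ⟨a, ha⟩ := h1
  exact ⟨(a : F), ha.symm⟩

variable (H : Subgroup (Cfsg.isometryGroup F ⇑Q))

theorem smul_sp (g : H) (v : ι → F) (hv0 : v ≠ 0) (hv : Q v = 0) :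
    ∃ (h0 : lin Q g.1 v ≠ 0) (h1 : Q (lin Q g.1 v) = 0),
      g • sp Q v hv0 hv = sp Q (lin Q g.1 v) h0 h1 := by
  have h0 : lin Q g.1 v ≠ 0 := (smul_ne_zero_iff_ne (g.1.1 : GL ι F)).mpr hv0
  have h1 : Q (lin Q g.1 v) = 0 := by rw [lin_isometry, hv]
  refine ⟨h0, h1, ?_⟩
  apply SingPt.ext'
  show (g.1.1 : GL ι F) • Projectivization.mk F v hv0 = Projectivization.mk F (lin Q g.1 v) h0
  rw [Projectivization.smul_mk]
  rfl

theorem lin_eichlerO_self {u w : ι → F} (hu : Q u = 0) (huw : polar ⇑Q u w = 0) :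
    lin Q (eichlerO Q u w) u = u := by
  rw [lin_eichlerO Q hu huw, polar_self_of_singular Q hu, QuadraticMap.polar_comm ⇑Q w u, huw]
  simp

variable (hQ : (QuadraticMap.polarBilin Q).Nondegenerate) (h5 : 4 < Fintype.card ι)
variable (hE : ∀ u w : ι → F, eichlerO Q u w ∈ H)

include hQ h5 hE in
theorem isPretransitive_singPt : IsPretransitive H (SingPt Q) := by
  constructor
  intro p q
  obtain ⟨u, hu0, hu, rfl⟩ := exists_sp Q p
  obtain ⟨v, hv0, hv, rfl⟩ := exists_sp Q q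
  obtain ⟨z, w, c, hz, hzw, hc, hmap⟩ := exists_eichlerO_map_point Q hQ h5 hu0 hv0 hu hv
  refine ⟨⟨eichlerO Q z w, hE z w⟩, ?_⟩
  obtain ⟨h0, h1, e⟩ := smul_sp Q H ⟨eichlerO Q z w, hE z w⟩ u hu0 hu
  rw [e]
  exact sp_eq_sp_of_smul Q hv0 hv h0 h1 hmap

include hE in
/-- Claim 1 -/
theorem block_claim1' {Δ : Set (SingPt Q)} (hΔ : IsBlock H Δ) {u v y : ι → F} (hu0 : u ≠ 0)
    (hv0 : v ≠ 0) (hy0 : y ≠ 0) (hu : Q u = 0) (hv : Q v = 0) (hy : Q y = 0)
    (huΔ : sp Q u hu0 hu ∈ Δ) (hvΔ : sp Q v hv0 hv ∈ Δ)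
    (huv : polar ⇑Q u v ≠ 0) (huy : polar ⇑Q u y ≠ 0) : sp Q y hy0 hy ∈ Δ := by
  set c : F := polar ⇑Q u v / polar ⇑Q u y with hc
  have hcy : Q (c • y) = 0 := by rw [QuadraticMap.map_smul, hy, smul_zero]
  have h' : polar ⇑Q u (c • y) = polar ⇑Q u v := by
    rw [QuadraticMap.polar_smul_right, hc, smul_eq_mul, div_mul_cancel₀ _ huy]
  obtain ⟨h1, h2⟩ := eichlerO_map Q hu hv hcy rfl h' huv
  set w := (polar ⇑Q u v)⁻¹ • (v - c • y) with hw
  set g : H := ⟨eichlerO Q u w, hE u w⟩ with hg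
  have hgΔ : g • Δ = Δ := by
    apply hΔ.smul_eq_of_mem huΔ
    obtain ⟨h0, h1', e⟩ := smul_sp Q H g u hu0 hu
    rw [e]
    convert huΔ using 2
    exact lin_eichlerO_self Q hu h1
  have : g • sp Q v hv0 hv ∈ Δ := by
    rw [← hgΔ]
    exact Set.smul_mem_smul_set hvΔ
  obtain ⟨h0, h1', e⟩ := smul_sp Q H g v hv0 hv
  rw [e] at this
  convert this using 1
  exact (sp_eq_sp_of_smul Q hy0 hy h0 h1' h2).symm

include hQ h5 hE in
/-- a block containing two non-orthogonal points is everything -/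
theorem block_eq_univ_of_nonperp {Δ : Set (SingPt Q)} (hΔ : IsBlock H Δ) {u v : ι → F}
    (hu0 : u ≠ 0) (hv0 : v ≠ 0) (hu : Q u = 0) (hv : Q v = 0)
    (huΔ : sp Q u hu0 hu ∈ Δ) (hvΔ : sp Q v hv0 hv ∈ Δ) (huv : polar ⇑Q u v ≠ 0) :
    Δ = Set.univ := by
  rw [Set.eq_univ_iff_forall]
  intro q
  obtain ⟨y, hy0, hy, rfl⟩ := exists_sp Q q
  by_cases huy : polar ⇑Q u y = 0
  · obtain ⟨z, hz, hzu, hzy⟩ := exists_singular_nonperp_both Q hQ h5 hu0 hy0 hu hy
    have hz0 : z ≠ 0 := by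
      rintro rfl
      exact hzu (QuadraticMap.polar_zero_left _ _)
    have huz : polar ⇑Q u z ≠ 0 := by rw [QuadraticMap.polar_comm]; exact hzu
    have hzΔ := block_claim1' Q H hE hΔ hu0 hv0 hz0 hu hv hz huΔ hvΔ huv huz
    exact block_claim1' Q H hE hΔ hz0 hu0 hy0 hz hu hy hzΔ huΔ hzu hzy
  · exact block_claim1' Q H hE hΔ hu0 hv0 hy0 hu hv hy huΔ hvΔ huv huy

include hQ h5 hE in
theorem isPreprimitive_singPt : IsPreprimitive H (SingPt Q) := by
  have := isPretransitive_singPt Q H hQ h5 hE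
  refine ⟨fun {Δ} hΔ => ?_⟩
  by_cases hsub : Δ.Subsingleton
  · exact Or.inl hsub
  right
  rw [Set.not_subsingleton_iff] at hsub
  obtain ⟨p, hp, p', hp', hne⟩ := hsub
  obtain ⟨u, hu0, hu, rfl⟩ := exists_sp Q p
  obtain ⟨v, hv0, hv, rfl⟩ := exists_sp Q p'
  by_cases huv : polar ⇑Q u v = 0
  · have hnm : ∀ a : F, u ≠ a • v := by
      intro a hua
      exact hne (sp_eq_sp_of_smul Q hv0 hv hu0 hu hua)
    obtain ⟨z₀, hz1, hz2⟩ := exists_orth_sep' Q hQ hv0 hnm
    have hz2' : polar ⇑Q z₀ u ≠ 0 := by rw [QuadraticMap.polar_comm]; exact hz2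
    obtain ⟨c, hc⟩ := exists_singular_add_smul Q hu hz2'
    set z := z₀ + c • u with hz
    have hzv : polar ⇑Q z v = 0 := by
      rw [hz, QuadraticMap.polar_add_left, QuadraticMap.polar_smul_left, huv,
        QuadraticMap.polar_comm, hz1]
      simp
    have hzu : polar ⇑Q z u ≠ 0 := by
      rw [hz, QuadraticMap.polar_add_left, QuadraticMap.polar_smul_left,
        polar_self_of_singular Q hu, smul_zero, add_zero]
      exact hz2'
    obtain ⟨w, hw, hwU⟩ := exists_nonsingular_orth Q hQ (Submodule.span F {z, v}) (by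
      classical
      have := finrank_span_finset_le_card (R := F) ({z, v} : Finset (ι → F))
      rw [Finset.coe_pair] at this
      change finrank F ↥(Submodule.span F {z, v}) ≤ _ at this
      have h2 : ({z, v} : Finset (ι → F)).card ≤ 2 := Finset.card_le_two
      omega)
    have hwz : polar ⇑Q w z = 0 := hwU z (Submodule.subset_span (by simp))
    have hwv : polar ⇑Q w v = 0 := hwU v (Submodule.subset_span (by simp))
    have hzw : polar ⇑Q z w = 0 := by rw [QuadraticMap.polar_comm]; exact hwz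
    set g : H := ⟨eichlerO Q z w, hE z w⟩ with hg
    have hgv : lin Q g.1 v = v := by
      show lin Q (eichlerO Q z w) v = v
      rw [lin_eichlerO Q hc hzw, hwv, hzv]
      simp
    have hgu : lin Q g.1 u = u + polar ⇑Q w u • z - polar ⇑Q z u • w
        - (Q w * polar ⇑Q z u) • z := lin_eichlerO Q hc hzw u
    have hgΔ : g • Δ = Δ := by
      apply hΔ.smul_eq_of_mem hp'
      obtain ⟨h0, h1', e⟩ := smul_sp Q H g v hv0 hv
      rw [e]
      convert hp' using 2
    have hguΔ : g • sp Q u hu0 hu ∈ Δ := by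
      rw [← hgΔ]
      exact Set.smul_mem_smul_set hp
    obtain ⟨h0, h1', e⟩ := smul_sp Q H g u hu0 hu
    rw [e] at hguΔ
    apply block_eq_univ_of_nonperp Q H hQ h5 hE hΔ hu0 h0 hu h1' hp hguΔ
    rw [hgu, QuadraticMap.polar_sub_right, QuadraticMap.polar_sub_right,
      QuadraticMap.polar_add_right, QuadraticMap.polar_smul_right, QuadraticMap.polar_smul_right,
      QuadraticMap.polar_smul_right, polar_self_of_singular Q hu,
      QuadraticMap.polar_comm ⇑Q u z, QuadraticMap.polar_comm ⇑Q u w]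
    simp only [smul_eq_mul]
    have : 0 + polar ⇑Q w u * polar ⇑Q z u - polar ⇑Q z u * polar ⇑Q w u
        - Q w * polar ⇑Q z u * polar ⇑Q z u = -(Q w * (polar ⇑Q z u * polar ⇑Q z u)) := by ring
    rw [this]
    exact neg_ne_zero.2 (mul_ne_zero hw (mul_ne_zero hzu hzu))
  · exact block_eq_univ_of_nonperp Q H hQ h5 hE hΔ hu0 hv0 hu hv hp hp' huv

end Cfsg.Agent.Helper5
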