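import Mathlib
import Cfsg.Agent.Helper5.OrthPrim
import Cfsg.Agent.Helper5.OrthPerfect

/-!
# Iwasawa's criterion for orthogonal groups

If `H` is a subgroup of the isometry group of `Q` (non-degenerate polar form, `card ι > 4`,
a hyperbolic triple) which is generated by the Eichler transformations, then `H ⧸ Z(H)` is simple.
-/

set_option autoImplicit false
set_option linter.unusedSectionVars false
set_option linter.unusedSimpArgs false

namespace Cfsg.Agent.Helper5

open Matrix QuadraticMap Module MulAction Cfsg.Agent.Helper44 Cfsg.Agent.Helper45.OmegaParity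
open scoped LinearAlgebra.Projectivization Pointwise commutatorElement

variable {F : Type*} [Field F] {ι : Type} [Fintype ι] [DecidableEq ι]
variable (Q : QuadraticForm F (ι → F))
variable (hQ : (QuadraticMap.polarBilin Q).Nondegenerate) (h5 : 4 < Fintype.card ι)

/-- an isometry fixing a singular point scales a spanning vector -/
theorem exists_smul_of_fixes (g : Cfsg.isometryGroup F ⇑Q) (hg : ∀ p : SingPt Q, g • p = p)
    {v : ι → F} (hv0 : v ≠ 0) (hv : Q v = 0) : ∃ a : F, lin Q g v = a • v := by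
  obtain ⟨h0, h1, e⟩ := smul_sp Q ⊤ ⟨g, Subgroup.mem_top g⟩ v hv0 hv
  have e' : g • sp Q v hv0 hv = sp Q (lin Q g v) h0 h1 := e
  rw [hg] at e'
  exact exists_smul_of_sp_eq_sp Q hv0 hv h0 h1 e'.symm

include hQ h5 in
/-- an isometry fixing all singular points is a scalar -/
theorem exists_scalar_of_fixes {u₀ : ι → F} (hu₀0 : u₀ ≠ 0) (hu₀ : Q u₀ = 0)
    (g : Cfsg.isometryGroup F ⇑Q) (hg : ∀ p : SingPt Q, g • p = p) :
    ∃ a : F, ∀ x, lin Q g x = a • x := by
  -- eigenvalues on non-orthogonal singular pairs are inverse to each other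
  have hA : ∀ {u v : ι → F} {a b : F}, Q u = 0 → Q v = 0 → polar ⇑Q u v ≠ 0 →
      lin Q g u = a • u → lin Q g v = b • v → a * b = 1 := by
    intro u v a b hu hv huv ha hb
    have h1 := polar_lin Q g u v
    rw [ha, hb, QuadraticMap.polar_smul_left, QuadraticMap.polar_smul_right] at h1
    simp only [smul_eq_mul] at h1
    have h2 : (a * b - 1) * polar ⇑Q u v = 0 := by linear_combination h1
    rcases mul_eq_zero.1 h2 with h | h
    · linear_combination h
    · exact absurd h huv
  -- hence equal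
  have hB : ∀ {u v : ι → F} {a b : F}, u ≠ 0 → v ≠ 0 → Q u = 0 → Q v = 0 →
      lin Q g u = a • u → lin Q g v = b • v → a = b := by
    intro u v a b hu0 hv0 hu hv ha hb
    obtain ⟨z, hz, hzu, hzv⟩ := exists_singular_nonperp_both Q hQ h5 hu0 hv0 hu hv
    have hz0 : z ≠ 0 := by
      rintro rfl
      exact hzu (QuadraticMap.polar_zero_left _ _)
    obtain ⟨c, hc⟩ := exists_smul_of_fixes Q g hg hz0 hz
    have h1 := hA hz hu hzu hc ha
    have h2 := hA hz hv hzv hc hb
    have hc0 : c ≠ 0 := by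
      rintro rfl
      rw [zero_mul] at h1
      exact zero_ne_one h1
    apply mul_left_cancel₀ hc0
    rw [h1, h2]
  -- every vector is an eigenvector
  have heig : ∀ x : ι → F, ∃ a : F, lin Q g x = a • x := by
    intro x
    by_cases hx0 : x = 0
    · exact ⟨0, by rw [hx0, map_zero, smul_zero]⟩
    obtain ⟨u, hu, hux⟩ : ∃ u, Q u = 0 ∧ polar ⇑Q u x ≠ 0 := by
      by_cases h : polar ⇑Q u₀ x = 0
      · obtain ⟨t, ht1, ht2⟩ := exists_polar_ne_zero_both Q hQ hx0 hu₀0
        obtain ⟨c, hc⟩ := exists_singular_add_smul Q hu₀ ht2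
        refine ⟨t + c • u₀, hc, ?_⟩
        rw [QuadraticMap.polar_add_left, QuadraticMap.polar_smul_left, h, smul_zero, add_zero]
        exact ht1
      · exact ⟨u₀, hu₀, h⟩
    have hu0 : u ≠ 0 := by
      rintro rfl
      exact hux (QuadraticMap.polar_zero_left _ _)
    have hxu : polar ⇑Q x u ≠ 0 := by rw [QuadraticMap.polar_comm]; exact hux
    obtain ⟨c, hc⟩ := exists_singular_add_smul Q hu hxu
    have hu'0 : x + c • u ≠ 0 := by
      intro h
      have h1 : polar ⇑Q u (x + c • u) = polar ⇑Q u x := by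
        rw [QuadraticMap.polar_add_right, QuadraticMap.polar_smul_right,
          polar_self_of_singular Q hu, smul_zero, add_zero]
      rw [h, QuadraticMap.polar_zero_right] at h1
      exact hux h1.symm
    obtain ⟨a, ha⟩ := exists_smul_of_fixes Q g hg hu0 hu
    obtain ⟨b, hb⟩ := exists_smul_of_fixes Q g hg hu'0 hc
    have hab : a = b := hB hu0 hu'0 hu hc ha hb
    refine ⟨a, ?_⟩
    have hx : x = (x + c • u) - c • u := by abel
    conv_lhs => rw [hx]
    rw [map_sub, map_smul, hb, ha, ← hab]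
    module
  obtain ⟨a, ha⟩ := LinearMap.exists_eq_smul_id_of_forall_notLinearIndependent
    (f := lin Q g) (by
      intro v
      obtain ⟨a, ha⟩ := heig v
      rw [LinearIndependent.pair_iff]
      intro h
      have := h a (-1) (by rw [ha]; simp)
      exact one_ne_zero (neg_eq_zero.1 this.2))
  refine ⟨a, fun x => ?_⟩
  rw [ha]
  rfl

include hQ h5 in
/-- an isometry fixing all singular points is central -/
theorem commute_of_fixes {u₀ : ι → F} (hu₀0 : u₀ ≠ 0) (hu₀ : Q u₀ = 0)
    (g : Cfsg.isometryGroup F ⇑Q) (hg : ∀ p : SingPt Q, g • p = p)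
    (h : Cfsg.isometryGroup F ⇑Q) : h * g = g * h := by
  obtain ⟨a, ha⟩ := exists_scalar_of_fixes Q hQ h5 hu₀0 hu₀ g hg
  apply isom_ext
  intro x
  rw [lin_mul_apply, lin_mul_apply, ha, ha, map_smul]

/-- the root subgroup centred at a singular vector -/
def rootSub (u : ι → F) (hu : Q u = 0) : Subgroup (Cfsg.isometryGroup F ⇑Q) where
  carrier := {g | ∃ w, polar ⇑Q u w = 0 ∧ g = eichlerO Q u w}
  mul_mem' := by
    rintro _ _ ⟨w₁, h₁, rfl⟩ ⟨w₂, h₂, rfl⟩
    refine ⟨w₁ + w₂, ?_, eichlerO_mul Q hu h₁ h₂⟩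
    rw [QuadraticMap.polar_add_right, h₁, h₂, add_zero]
  one_mem' := ⟨0, QuadraticMap.polar_zero_right _ _, (eichlerO_zero Q u).symm⟩
  inv_mem' := by
    rintro _ ⟨w, h, rfl⟩
    refine ⟨-w, ?_, eichlerO_inv Q hu h⟩
    rw [QuadraticMap.polar_neg_right, h, neg_zero]

theorem mem_rootSub {u : ι → F} {hu : Q u = 0} {g : Cfsg.isometryGroup F ⇑Q} :
    g ∈ rootSub Q u hu ↔ ∃ w, polar ⇑Q u w = 0 ∧ g = eichlerO Q u w := Iff.rfl

theorem rootSub_smul {u : ι → F} (hu : Q u = 0) {c : F} (hc : c ≠ 0) (hcu : Q (c • u) = 0) :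
    rootSub Q (c • u) hcu = rootSub Q u hu := by
  ext g
  simp only [mem_rootSub]
  constructor
  · rintro ⟨w, hw, rfl⟩
    have hw' : polar ⇑Q u w = 0 := by
      rw [QuadraticMap.polar_smul_left, smul_eq_mul] at hw
      rcases mul_eq_zero.1 hw with h | h
      · exact absurd h hc
      · exact h
    refine ⟨c • w, ?_, eichlerO_smul_left Q hu hw' c⟩
    rw [QuadraticMap.polar_smul_right, hw', smul_zero]
  · rintro ⟨w, hw, rfl⟩
    have hw' : polar ⇑Q u (c⁻¹ • w) = 0 := by
      rw [QuadraticMap.polar_smul_right, hw, smul_zero]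
    refine ⟨c⁻¹ • w, ?_, ?_⟩
    · rw [QuadraticMap.polar_smul_left, hw', smul_zero]
    · rw [eichlerO_smul_left Q hu hw' c, smul_smul, mul_inv_cancel₀ hc, one_smul]

theorem rootSub_conj (g : Cfsg.isometryGroup F ⇑Q) {u : ι → F} (hu : Q u = 0)
    (hgu : Q (lin Q g u) = 0) :
    rootSub Q (lin Q g u) hgu = MulAut.conj g • rootSub Q u hu := by
  ext k
  rw [Subgroup.mem_pointwise_smul_iff_inv_smul_mem]
  simp only [mem_rootSub, MulAut.smul_def, MulAut.inv_apply, MulAut.conj_symm_apply]
  constructor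
  · rintro ⟨w, hw, rfl⟩
    refine ⟨lin Q g⁻¹ w, ?_, ?_⟩
    · rw [← polar_lin Q g, lin_apply_inv]
      exact hw
    · have hw' : polar ⇑Q u (lin Q g⁻¹ w) = 0 := by
        rw [← polar_lin Q g, lin_apply_inv]
        exact hw
      have := eichlerO_conj Q g hu hw'
      rw [lin_apply_inv] at this
      rw [← this]
      group
  · rintro ⟨w, hw, hk⟩
    refine ⟨lin Q g w, ?_, ?_⟩
    · rw [polar_lin]; exact hw
    · rw [← eichlerO_conj Q g hu hw, ← hk]
      group

theorem rootSub_congr {u u' : ι → F} (h : u = u') (hu : Q u = 0) (hu' : Q u' = 0) :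
    rootSub Q u hu = rootSub Q u' hu' := by
  subst h
  rfl

theorem rootSub_rep {v : ι → F} (hv0 : v ≠ 0) (hv : Q v = 0) :
    rootSub Q (sp Q v hv0 hv).pt.rep (sp Q v hv0 hv).sing = rootSub Q v hv := by
  obtain ⟨a, ha⟩ := Projectivization.exists_smul_eq_mk_rep F v hv0
  have ha' : (sp Q v hv0 hv).pt.rep = (a : F) • v := ha.symm
  have h1 : Q ((a : F) • v) = 0 := by rw [QuadraticMap.map_smul, hv, smul_zero]
  rw [rootSub_congr Q ha' _ h1, rootSub_smul Q hv a.ne_zero h1]

theorem subgroupOf_conj_smul {G : Type*} [Group G] (H K : Subgroup G) (g : H) :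
    (MulAut.conj (g : G) • K).subgroupOf H = MulAut.conj g • K.subgroupOf H := by
  ext x
  rw [Subgroup.mem_subgroupOf, Subgroup.mem_pointwise_smul_iff_inv_smul_mem,
    Subgroup.mem_pointwise_smul_iff_inv_smul_mem, Subgroup.mem_subgroupOf]
  simp only [MulAut.smul_def, MulAut.inv_apply, MulAut.conj_symm_apply]
  rfl

variable (H : Subgroup (Cfsg.isometryGroup F ⇑Q))
variable (hE : ∀ u w : ι → F, eichlerO Q u w ∈ H) (hD : H ≤ eichlerGroup Q)

include hE hD in
/-- the Iwasawa structure on a group generated by the Eichler transformations -/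
noncomputable def orthIwasawa : IwasawaStructure H (SingPt Q) where
  T p := (rootSub Q p.pt.rep p.sing).subgroupOf H
  is_comm p := by
    refine ⟨⟨?_⟩⟩
    rintro ⟨⟨g₁, h₁⟩, hm₁⟩ ⟨⟨g₂, h₂⟩, hm₂⟩
    obtain ⟨w₁, hw₁, e₁⟩ := Subgroup.mem_subgroupOf.1 hm₁
    obtain ⟨w₂, hw₂, e₂⟩ := Subgroup.mem_subgroupOf.1 hm₂
    change g₁ = _ at e₁
    change g₂ = _ at e₂
    subst e₁ e₂
    apply Subtype.ext
    apply Subtype.ext
    show eichlerO Q p.pt.rep w₁ * eichlerO Q p.pt.rep w₂
      = eichlerO Q p.pt.rep w₂ * eichlerO Q p.pt.rep w₁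
    rw [eichlerO_mul Q p.sing hw₁ hw₂, eichlerO_mul Q p.sing hw₂ hw₁, add_comm]
  is_conj g p := by
    obtain ⟨v, hv0, hv, rfl⟩ := exists_sp Q p
    obtain ⟨h0, h1, e⟩ := smul_sp Q H g v hv0 hv
    rw [e, rootSub_rep, rootSub_rep, rootSub_conj Q g.1 hv h1]
    exact subgroupOf_conj_smul H _ g
  is_generator := by
    rw [eq_top_iff]
    intro x _
    have hx : x.1 ∈ eichlerGroup Q := hD x.2
    have key : eichlerGroup Q ≤ (⨆ p : SingPt Q,
        (rootSub Q p.pt.rep p.sing).subgroupOf H).map H.subtype := by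
      unfold eichlerGroup
      rw [Subgroup.closure_le]
      rintro _ ⟨u, w, hu, huw, rfl⟩
      by_cases hu0 : u = 0
      · have : eichlerO Q u w = 1 := by
          apply isom_ext
          intro y
          rw [lin_eichlerO Q hu huw, lin_one_apply, hu0, QuadraticMap.polar_zero_left]
          simp
        rw [this]
        exact one_mem _
      · refine ⟨⟨eichlerO Q u w, hE u w⟩, ?_, rfl⟩
        apply Subgroup.mem_iSup_of_mem (sp Q u hu0 hu)
        rw [Subgroup.mem_subgroupOf, rootSub_rep]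
        exact ⟨w, huw, rfl⟩
    obtain ⟨y, hy, hyx⟩ := key hx
    have : y = x := Subtype.ext hyx
    rw [← this]
    exact hy

include hQ h5 hE hD in
/-- **Iwasawa for orthogonal groups**: a group generated by the Eichler transformations is simple
modulo its centre. -/
theorem isSimpleGroup_quotient_center (T : HypTriple Q) :
    IsSimpleGroup (↥H ⧸ Subgroup.center ↥H) := by
  have hHK : H = eichlerGroup Q := le_antisymm hD (by
    unfold eichlerGroup
    rw [Subgroup.closure_le]
    rintro _ ⟨u, w, _, _, rfl⟩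
    exact hE u w)
  have hperf : commutator ↥H = ⊤ := by
    rw [eq_top_iff]
    intro x _
    have hx : x.1 ∈ ⁅H, H⁆ := by
      have h1 : x.1 ∈ eichlerGroup Q := hD x.2
      have h2 := eichlerGroup_le_commutator Q hQ h5 T h1
      rw [← hHK] at h2
      exact h2
    have hmap : (commutator ↥H).map H.subtype = ⁅H, H⁆ := by
      rw [commutator_def, Subgroup.map_commutator, ← MonoidHom.range_eq_map, Subgroup.range_subtype]
    rw [← hmap] at hx
    obtain ⟨y, hy, hyx⟩ := hx
    have : y = x := Subtype.ext hyx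
    rw [← this]
    exact hy
  have he0 : T.e 0 ≠ 0 := by
    intro h
    have := T.ef 0 0
    rw [h, QuadraticMap.polar_zero_left] at this
    simp at this
  have := isPreprimitive_singPt Q H hQ h5 hE
  have hnt : Nontrivial (↥H ⧸ Subgroup.center ↥H) := by
    by_contra hcon
    rw [not_nontrivial_iff_subsingleton] at hcon
    have hc : Subgroup.center ↥H = ⊤ := by
      rw [eq_top_iff]
      intro g _
      have : (QuotientGroup.mk g : ↥H ⧸ Subgroup.center ↥H) = 1 := Subsingleton.elim _ _
      exact (QuotientGroup.eq_one_iff g).1 this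
    have hcomm : commutator ↥H = ⊥ := by
      rw [commutator_def, Subgroup.commutator_eq_bot_iff_le_centralizer]
      intro g _
      rw [Subgroup.mem_centralizer_iff]
      intro h _
      have : g ∈ Subgroup.center ↥H := by rw [hc]; trivial
      exact ((Subgroup.mem_center_iff.1 this) h)
    rw [hperf] at hcomm
    have h01 : polar ⇑Q (T.e 0) (T.e 1) = 0 := T.ee 0 1
    have h1 : (⟨eichlerO Q (T.e 0) (T.e 1), hE _ _⟩ : ↥H) = 1 := by
      have : (⟨eichlerO Q (T.e 0) (T.e 1), hE _ _⟩ : ↥H) ∈ (⊥ : Subgroup ↥H) := by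
        rw [← hcomm]; trivial
      exact Subgroup.mem_bot.1 this
    have h2 : eichlerO Q (T.e 0) (T.e 1) = 1 := congrArg Subtype.val h1
    have h3 : lin Q (eichlerO Q (T.e 0) (T.e 1)) (T.f 1) = lin Q 1 (T.f 1) := by rw [h2]
    rw [lin_eichlerO Q (T.Qe 0) h01, lin_one_apply, T.ef, T.ef] at h3
    simp at h3
    exact he0 h3
  refine ⟨fun N hN => ?_⟩
  set N' : Subgroup ↥H := N.comap (QuotientGroup.mk' (Subgroup.center ↥H)) with hN'
  have hN'normal : N'.Normal := hN.comap _
  have hmap : N'.map (QuotientGroup.mk' (Subgroup.center ↥H)) = N :=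
    Subgroup.map_comap_eq_self_of_surjective (QuotientGroup.mk'_surjective _) N
  by_cases hfix : fixedPoints N' (SingPt Q) = Set.univ
  · left
    have hle : N' ≤ Subgroup.center ↥H := by
      intro g hg
      have hg' : ∀ p : SingPt Q, g.1 • p = p := by
        intro p
        have hp : p ∈ fixedPoints N' (SingPt Q) := by rw [hfix]; trivial
        exact hp ⟨g, hg⟩
      rw [Subgroup.mem_center_iff]
      intro h
      apply Subtype.ext
      exact commute_of_fixes Q hQ h5 he0 (T.Qe 0) g.1 hg' h.1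
    rw [← hmap, eq_bot_iff]
    calc N'.map (QuotientGroup.mk' (Subgroup.center ↥H))
        ≤ (Subgroup.center ↥H).map (QuotientGroup.mk' (Subgroup.center ↥H)) :=
          Subgroup.map_mono hle
      _ = ⊥ := by rw [QuotientGroup.map_mk'_self]
  · right
    have := (orthIwasawa Q H hE hD).commutator_le N' hfix
    rw [hperf, top_le_iff] at this
    rw [← hmap, this]
    exact Subgroup.map_top_of_surjective _ (QuotientGroup.mk'_surjective _)

end Cfsg.Agent.Helper5
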