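import Mathlib
import Cfsg.Agent.Helper5.OrthSimple
import Cfsg.Agent.Helper5.OmegaCard
import Cfsg.Agent.Helper44.EichlerOmega
import Cfsg.Agent.Helper44.StdHyp
import Cfsg.Agent.Helper44.StdNondeg

/-!
# Simplicity of `PΩ(Q)`: the general statement and the three standard families
-/

set_option autoImplicit false
set_option linter.unusedSectionVars false
set_option linter.unusedSimpArgs false

namespace Cfsg.Agent.Helper5

open Matrix QuadraticMap Module Cfsg.Agent.Helper44 Cfsg.Agent.Helper45.OmegaParity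

variable {F : Type*} [Field F] {ι : Type} [Fintype ι] [DecidableEq ι]
variable (Q : QuadraticForm F (ι → F))

/-- a hyperbolic triple from three coordinate hyperbolic pairs -/
noncomputable def HypTriple.ofPairs (a b : Fin 3 → ι) (hb : Function.Injective b)
    (hab : ∀ i j, a i ≠ b j) (h : ∀ i, IsHypPair Q (a i) (b i)) : HypTriple Q where
  e i := Pi.single (a i) 1
  f i := Pi.single (b i) 1
  Qe i := (h i).Qa
  Qf i := (h i).Qb
  ee i j := by
    rw [(h i).polar_a, Pi.single_apply, if_neg (hab j i).symm]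
  ff i j := by
    rw [(h i).polar_b, Pi.single_apply, if_neg (hab i j)]
  ef i j := by
    rw [(h i).polar_a, Pi.single_apply]
    by_cases hij : i = j
    · rw [if_pos (by rw [hij]), if_pos hij]
    · rw [if_neg (fun hh => hij (hb hh)), if_neg hij]

/-- **`PΩ(Q)` is simple** for a non-degenerate form in dimension at least six with three mutually
orthogonal hyperbolic pairs (finite field, any characteristic). -/
theorem isSimpleGroup_POmega_of_hypTriple [Fintype F]
    (hQ : (QuadraticMap.polarBilin Q).Nondegenerate) (hn : 6 ≤ Fintype.card ι)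
    (T : HypTriple Q) : IsSimpleGroup (Cfsg.POmega F ⇑Q) := by
  have hEq := Omega_eq_eichlerGroup Q hQ hn
  exact isSimpleGroup_quotient_center Q hQ (by omega) (Cfsg.Omega F ⇑Q)
    (fun u w => eichlerO_mem_Omega Q hQ (by omega) u w) (le_of_eq hEq) T

/-- in characteristic two an anisotropic binary form has `a ≠ 0` -/
theorem a_ne_zero_of_aniso' [Fintype F] (h2 : (2 : F) = 0) (a b : F)
    (hab : ∀ z₁ z₂ : F, z₁ ^ 2 + a * z₁ * z₂ + b * z₂ ^ 2 = 0 → z₁ = 0 ∧ z₂ = 0) : a ≠ 0 := by
  intro ha
  haveI : CharP F 2 := CharTwo.of_one_ne_zero_of_two_eq_zero one_ne_zero h2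
  have hchar : ringChar F = 2 := ringChar.eq F 2
  obtain ⟨s, hs⟩ := FiniteField.isSquare_of_char_two hchar b
  have := hab s 1 (by rw [ha, hs]; linear_combination (s * s) * h2)
  exact one_ne_zero this.2

theorem nondegenerate_minusForm_of_aniso [Fintype F] (k : ℕ) (a b : F)
    (hab : ∀ z₁ z₂ : F, z₁ ^ 2 + a * z₁ * z₂ + b * z₂ ^ 2 = 0 → z₁ = 0 ∧ z₂ = 0) :
    (QuadraticMap.polarBilin (minusForm k F a b)).Nondegenerate := by
  by_cases h2 : (2 : F) = 0
  · have ha : a ≠ 0 := a_ne_zero_of_aniso' h2 a b hab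
    have hD : a ^ 2 - 4 * b ≠ 0 := by
      have h4 : (4 : F) = 0 := by linear_combination 2 * h2
      rw [h4, zero_mul, sub_zero]
      exact pow_ne_zero 2 ha
    exact nondegenerate_minusForm k a b hD
  · obtain ⟨M, hM⟩ := isQF_minus a b hab k
    exact nondegenerate_of_isQF (minusForm k F a b) hM h2

theorem nondegenerate_oddForm (h2 : (2 : F) ≠ 0) (m : ℕ) :
    (QuadraticMap.polarBilin (oddForm m F)).Nondegenerate := by
  obtain ⟨M, hM⟩ := isQF_odd (F := F) m
  exact nondegenerate_of_isQF (oddForm m F) hM h2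

end Cfsg.Agent.Helper5
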