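import Mathlib

/-!
# Automorphisms of `PΩ(Q)`, part F: group-theoretic relations defined from the centres of the
Sylow `p`-subgroups, and their invariance under automorphisms
-/

set_option autoImplicit false
set_option linter.unusedSectionVars false
set_option linter.unusedVariables false

namespace Cfsg.Agent.Helper5.AutO

variable {G : Type*} [Group G] (p : ℕ)

/-- `x` lies in the centre of the Sylow subgroup `P` -/
def InZ (P : Sylow p G) (x : G) : Prop :=
  x ∈ (P : Subgroup G) ∧ ∀ u ∈ (P : Subgroup G), u * x = x * u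

/-- `x, y` lie in the centre of a common Sylow `p`-subgroup -/
def Same (x y : G) : Prop := ∃ P : Sylow p G, InZ p P x ∧ InZ p P y

/-- `x` is a non-trivial element of the centre of a Sylow `p`-subgroup -/
def RtE (x : G) : Prop := x ≠ 1 ∧ Same p x x

/-- collinearity of root elements -/
def Col (x y : G) : Prop :=
  RtE p x ∧ RtE p y ∧ ¬ Same p x y ∧ x * y = y * x ∧ RtE p (x * y)

/-- common collinear neighbours -/
def CN (x y z : G) : Prop := Col p z x ∧ Col p z y

/-- no two common neighbours are collinear -/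
def NoColPair (x y : G) : Prop := ∀ z z' : G, CN p x y z → CN p x y z' → ¬ Col p z z'

/-- the common neighbours contain a claw -/
def Claw (x y : G) : Prop :=
  ∃ z₀ z₁ z₂ z₃ : G, CN p x y z₀ ∧ CN p x y z₁ ∧ CN p x y z₂ ∧ CN p x y z₃ ∧
    Col p z₀ z₁ ∧ Col p z₀ z₂ ∧ Col p z₀ z₃ ∧
    (¬ Col p z₁ z₂ ∧ ¬ Same p z₁ z₂) ∧ (¬ Col p z₁ z₃ ∧ ¬ Same p z₁ z₃) ∧
    (¬ Col p z₂ z₃ ∧ ¬ Same p z₂ z₃)

/-- the (lines of the) root elements meet in a point -/
def Meet (x y : G) : Prop :=
  RtE p x ∧ RtE p y ∧ ¬ Same p x y ∧ x * y = y * x ∧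
    (Col p x y ∨ NoColPair p x y ∨ Claw p x y)

variable {p}

theorem Same.map {x y : G} (h : Same p x y) (α : G ≃* G) : Same p (α x) (α y) := by
  obtain ⟨P, ⟨hxP, hxc⟩, ⟨hyP, hyc⟩⟩ := h
  have hϕ : Function.Injective (α.symm.toMonoidHom : G →* G) := α.symm.injective
  have hr : (P : Subgroup G) ≤ (α.symm.toMonoidHom : G →* G).range := by
    intro x _
    exact ⟨α x, α.symm_apply_apply x⟩
  have key : ∀ t : G, InZ p P t → InZ p (P.comapOfInjective α.symm.toMonoidHom hϕ hr) (α t) := by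
    rintro t ⟨htP, hc⟩
    constructor
    · rw [Sylow.coe_comapOfInjective, Subgroup.mem_comap]
      show α.symm (α t) ∈ (P : Subgroup G)
      rw [α.symm_apply_apply]; exact htP
    · intro u hu
      rw [Sylow.coe_comapOfInjective, Subgroup.mem_comap] at hu
      have h1 := hc (α.symm u) hu
      have h2 := congrArg α h1
      rwa [map_mul, map_mul, α.apply_symm_apply] at h2
  exact ⟨_, key x ⟨hxP, hxc⟩, key y ⟨hyP, hyc⟩⟩

theorem same_iff (α : G ≃* G) (x y : G) : Same p (α x) (α y) ↔ Same p x y := by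
  constructor
  · intro h
    have := h.map α.symm
    rwa [α.symm_apply_apply, α.symm_apply_apply] at this
  · intro h
    exact h.map α

theorem Same.symm {x y : G} (h : Same p x y) : Same p y x := by
  obtain ⟨P, h1, h2⟩ := h
  exact ⟨P, h2, h1⟩

theorem rtE_iff (α : G ≃* G) (x : G) : RtE p (α x) ↔ RtE p x := by
  unfold RtE
  rw [same_iff, Ne, Ne, EmbeddingLike.map_eq_one_iff]

theorem col_iff (α : G ≃* G) (x y : G) : Col p (α x) (α y) ↔ Col p x y := by
  unfold Col
  rw [rtE_iff, rtE_iff, same_iff, ← map_mul, ← map_mul, rtE_iff, α.injective.eq_iff]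

theorem cN_iff (α : G ≃* G) (x y z : G) : CN p (α x) (α y) (α z) ↔ CN p x y z := by
  unfold CN
  rw [col_iff, col_iff]

theorem cN_iff' (α : G ≃* G) (x y z : G) : CN p (α x) (α y) z ↔ CN p x y (α.symm z) := by
  conv_lhs => rw [← α.apply_symm_apply z]
  exact cN_iff α x y _

theorem noColPair_iff (α : G ≃* G) (x y : G) : NoColPair p (α x) (α y) ↔ NoColPair p x y := by
  constructor
  · intro h z z' hz hz' hc
    exact h (α z) (α z') ((cN_iff α x y z).2 hz) ((cN_iff α x y z').2 hz') ((col_iff α z z').2 hc)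
  · intro h z z' hz hz' hc
    refine h (α.symm z) (α.symm z') ((cN_iff' α x y z).1 hz) ((cN_iff' α x y z').1 hz') ?_
    rw [← col_iff α, α.apply_symm_apply, α.apply_symm_apply]
    exact hc

theorem Claw.map {x y : G} (h : Claw p x y) (α : G ≃* G) : Claw p (α x) (α y) := by
  obtain ⟨z₀, z₁, z₂, z₃, h0, h1, h2, h3, c1, c2, c3, ⟨n1, m1⟩, ⟨n2, m2⟩, ⟨n3, m3⟩⟩ := h
  refine ⟨α z₀, α z₁, α z₂, α z₃, (cN_iff α x y z₀).2 h0, (cN_iff α x y z₁).2 h1,
    (cN_iff α x y z₂).2 h2, (cN_iff α x y z₃).2 h3, (col_iff α _ _).2 c1, (col_iff α _ _).2 c2,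
    (col_iff α _ _).2 c3, ⟨?_, ?_⟩, ⟨?_, ?_⟩, ⟨?_, ?_⟩⟩
  · rw [col_iff]; exact n1
  · rw [same_iff]; exact m1
  · rw [col_iff]; exact n2
  · rw [same_iff]; exact m2
  · rw [col_iff]; exact n3
  · rw [same_iff]; exact m3

theorem claw_iff (α : G ≃* G) (x y : G) : Claw p (α x) (α y) ↔ Claw p x y := by
  constructor
  · intro h
    have := h.map α.symm
    rwa [α.symm_apply_apply, α.symm_apply_apply] at this
  · intro h
    exact h.map α

theorem meet_iff (α : G ≃* G) (x y : G) : Meet p (α x) (α y) ↔ Meet p x y := by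
  unfold Meet
  rw [rtE_iff, rtE_iff, same_iff, ← map_mul, ← map_mul, α.injective.eq_iff, col_iff,
    noColPair_iff, claw_iff]


variable (p)

/-- the lines meet and are not orthogonal -/
def NP (x y : G) : Prop := Meet p x y ∧ ¬ Col p x y

/-- the root elements whose line passes through the common point of `x` and `y` -/
def Star (x y z : G) : Prop :=
  RtE p z ∧ (Same p z x ∨ Same p z y ∨ (Meet p z x ∧ Meet p z y))

variable {p}

theorem nP_iff (α : G ≃* G) (x y : G) : NP p (α x) (α y) ↔ NP p x y := by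
  unfold NP
  rw [meet_iff, col_iff]

theorem star_iff (α : G ≃* G) (x y z : G) : Star p (α x) (α y) (α z) ↔ Star p x y z := by
  unfold Star
  rw [rtE_iff, same_iff, same_iff, meet_iff, meet_iff]

end Cfsg.Agent.Helper5.AutO
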