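import Mathlib
import Cfsg.Agent.Helper5.OrthVec
import Cfsg.Prelude.Def_RootSubgroups

/-!
# Siegel transvection groups of singular lines

General `Q : QuadraticForm F (ι → F)` with non-degenerate polar form, any field.  For a singular
line `⟨p, r⟩` the isometries fixing `⟨p, r⟩^⊥` pointwise are exactly `E(p, c r)`, `c ∈ F`.
-/

set_option autoImplicit false
set_option linter.unusedSectionVars false

namespace Cfsg.Agent.Helper5

open Matrix QuadraticMap Module Cfsg.Agent.Helper44 Cfsg.Agent.Helper45.OmegaParity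

variable {F : Type*} [Field F] {ι : Type} [Fintype ι] [DecidableEq ι]
variable (Q : QuadraticForm F (ι → F))

/-- data of a singular line -/
def IsSingLine (p r : ι → F) : Prop :=
  LinearIndependent F ![p, r] ∧ Q p = 0 ∧ Q r = 0 ∧ Q (p + r) = 0

/-- the Siegel transvection group of the line `⟨p, r⟩` -/
def siegelSub (p r : ι → F) : Subgroup (Cfsg.isometryGroup F ⇑Q) :=
  Subgroup.closure {σ | ∀ v : ι → F, polar ⇑Q v p = 0 → polar ⇑Q v r = 0 → lin Q σ v = v}

variable {Q}

theorem IsSingLine.indep {p r : ι → F} (h : IsSingLine Q p r) :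
    ∀ s t : F, s • p + t • r = 0 → s = 0 ∧ t = 0 :=
  LinearIndependent.pair_iff.1 h.1

theorem IsSingLine.Qp {p r : ι → F} (h : IsSingLine Q p r) : Q p = 0 := h.2.1

theorem IsSingLine.Qr {p r : ι → F} (h : IsSingLine Q p r) : Q r = 0 := h.2.2.1

theorem IsSingLine.polar_eq {p r : ι → F} (h : IsSingLine Q p r) : polar ⇑Q p r = 0 := by
  rw [QuadraticMap.polar, h.2.2.2, h.2.1, h.2.2.1]
  ring

theorem IsSingLine.polar_eq' {p r : ι → F} (h : IsSingLine Q p r) : polar ⇑Q r p = 0 := by
  rw [QuadraticMap.polar_comm]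
  exact h.polar_eq

theorem isSingLine_of {p r : ι → F} (hi : ∀ s t : F, s • p + t • r = 0 → s = 0 ∧ t = 0)
    (hp : Q p = 0) (hr : Q r = 0) (hpr : polar ⇑Q p r = 0) : IsSingLine Q p r := by
  refine ⟨LinearIndependent.pair_iff.2 hi, hp, hr, ?_⟩
  rw [QuadraticMap.map_add ⇑Q, hp, hr, hpr]
  ring

theorem IsSingLine.p_ne {p r : ι → F} (h : IsSingLine Q p r) : p ≠ 0 := by
  intro h0
  have := (h.indep 1 0 (by rw [h0]; simp)).1
  exact one_ne_zero this

theorem IsSingLine.r_ne {p r : ι → F} (h : IsSingLine Q p r) : r ≠ 0 := by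
  intro h0
  have := (h.indep 0 1 (by rw [h0]; simp)).2
  exact one_ne_zero this

theorem IsSingLine.r_ne_smul {p r : ι → F} (h : IsSingLine Q p r) (a : F) : r ≠ a • p := by
  intro h0
  have := (h.indep (-a) 1 (by rw [h0]; module)).2
  exact one_ne_zero this

theorem IsSingLine.p_ne_smul {p r : ι → F} (h : IsSingLine Q p r) (a : F) : p ≠ a • r := by
  intro h0
  have := (h.indep 1 (-a) (by rw [h0]; module)).1
  exact one_ne_zero this

theorem IsSingLine.symm {p r : ι → F} (h : IsSingLine Q p r) : IsSingLine Q r p := by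
  refine isSingLine_of ?_ h.Qr h.Qp h.polar_eq'
  intro s t hst
  have := h.indep t s (by rw [add_comm]; exact hst)
  exact ⟨this.2, this.1⟩

/-- singularity of all vectors of a singular line -/
theorem IsSingLine.Q_comb {p r : ι → F} (h : IsSingLine Q p r) (a b : F) :
    Q (a • p + b • r) = 0 := by
  rw [QuadraticMap.map_add ⇑Q, QuadraticMap.map_smul, QuadraticMap.map_smul, h.Qp, h.Qr,
    QuadraticMap.polar_smul_left, QuadraticMap.polar_smul_right, h.polar_eq]
  simp

/-- dual vectors of a singular line -/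
theorem IsSingLine.exists_dual (hQ : (QuadraticMap.polarBilin Q).Nondegenerate) {p r : ι → F}
    (h : IsSingLine Q p r) :
    ∃ p' r' : ι → F, polar ⇑Q p p' = 1 ∧ polar ⇑Q r p' = 0 ∧ polar ⇑Q p r' = 0 ∧
      polar ⇑Q r r' = 1 := by
  obtain ⟨z, hz1, hz2⟩ := exists_orth_sep' Q hQ h.r_ne h.p_ne_smul
  obtain ⟨w, hw1, hw2⟩ := exists_orth_sep' Q hQ h.p_ne h.r_ne_smul
  refine ⟨(polar ⇑Q p z)⁻¹ • z, (polar ⇑Q r w)⁻¹ • w, ?_, ?_, ?_, ?_⟩
  · rw [QuadraticMap.polar_smul_right, smul_eq_mul, inv_mul_cancel₀ hz2]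
  · rw [QuadraticMap.polar_smul_right, hz1, smul_zero]
  · rw [QuadraticMap.polar_smul_right, hw1, smul_zero]
  · rw [QuadraticMap.polar_smul_right, smul_eq_mul, inv_mul_cancel₀ hw2]

/-- the action of `E(p, c r)` for a singular line -/
theorem IsSingLine.lin_siegel {p r : ι → F} (h : IsSingLine Q p r) (c : F) (x : ι → F) :
    lin Q (eichlerO Q p (c • r)) x = x + (c * polar ⇑Q r x) • p - (c * polar ⇑Q p x) • r := by
  have h1 : polar ⇑Q p (c • r) = 0 := by
    rw [QuadraticMap.polar_smul_right, h.polar_eq, smul_zero]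
  rw [lin_eichlerO Q h.Qp h1, QuadraticMap.map_smul, h.Qr, QuadraticMap.polar_smul_left]
  simp only [smul_eq_mul, mul_zero, zero_mul, zero_smul, sub_zero]
  rw [smul_smul, mul_comm (polar ⇑Q p x) c]

/-- a vector orthogonal to `⟨p, r⟩^⊥` lies in `⟨p, r⟩` -/
theorem eq_comb_of_orth (hQ : (QuadraticMap.polarBilin Q).Nondegenerate)
    {p r p' r' : ι → F} (hpp' : polar ⇑Q p p' = 1) (hrp' : polar ⇑Q r p' = 0)
    (hpr' : polar ⇑Q p r' = 0) (hrr' : polar ⇑Q r r' = 1) {d : ι → F}
    (hd : ∀ y, polar ⇑Q y p = 0 → polar ⇑Q y r = 0 → polar ⇑Q d y = 0) :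
    d = polar ⇑Q d p' • p + polar ⇑Q d r' • r := by
  have key : ∀ x, polar ⇑Q d x = polar ⇑Q p x * polar ⇑Q d p' + polar ⇑Q r x * polar ⇑Q d r' := by
    intro x
    have h1 := hd (x - polar ⇑Q p x • p' - polar ⇑Q r x • r') (by
      rw [QuadraticMap.polar_sub_left, QuadraticMap.polar_sub_left, QuadraticMap.polar_smul_left,
        QuadraticMap.polar_smul_left, QuadraticMap.polar_comm ⇑Q p' p, hpp',
        QuadraticMap.polar_comm ⇑Q r' p, hpr', QuadraticMap.polar_comm ⇑Q x p]
      simp) (by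
      rw [QuadraticMap.polar_sub_left, QuadraticMap.polar_sub_left, QuadraticMap.polar_smul_left,
        QuadraticMap.polar_smul_left, QuadraticMap.polar_comm ⇑Q p' r, hrp',
        QuadraticMap.polar_comm ⇑Q r' r, hrr', QuadraticMap.polar_comm ⇑Q x r]
      simp)
    rw [QuadraticMap.polar_sub_right, QuadraticMap.polar_sub_right, QuadraticMap.polar_smul_right,
      QuadraticMap.polar_smul_right] at h1
    simp only [smul_eq_mul] at h1
    linear_combination h1
  have : d - (polar ⇑Q d p' • p + polar ⇑Q d r' • r) = 0 := by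
    apply hQ.1
    intro x
    rw [QuadraticMap.polarBilin_apply_apply, QuadraticMap.polar_sub_left,
      QuadraticMap.polar_add_left, QuadraticMap.polar_smul_left, QuadraticMap.polar_smul_left,
      key x]
    simp only [smul_eq_mul]
    ring
  exact sub_eq_zero.1 this

/-- **Isometries fixing `⟨p, r⟩^⊥` pointwise are the Siegel transformations `E(p, c r)`.** -/
theorem IsSingLine.fix_iff (hQ : (QuadraticMap.polarBilin Q).Nondegenerate) {p r : ι → F}
    (h : IsSingLine Q p r) (σ : Cfsg.isometryGroup F ⇑Q) :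
    (∀ v : ι → F, polar ⇑Q v p = 0 → polar ⇑Q v r = 0 → lin Q σ v = v) ↔
      ∃ c : F, σ = eichlerO Q p (c • r) := by
  constructor
  · intro hσ
    obtain ⟨p', r', hpp', hrp', hpr', hrr'⟩ := h.exists_dual hQ
    -- the displacement vectors
    have hdisp : ∀ z : ι → F, ∀ y, polar ⇑Q y p = 0 → polar ⇑Q y r = 0 →
        polar ⇑Q (lin Q σ z - z) y = 0 := by
      intro z y hy1 hy2
      rw [QuadraticMap.polar_sub_left]
      conv_lhs => rw [← hσ y hy1 hy2]
      rw [polar_lin, hσ y hy1 hy2, sub_self]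
    have e1 := eq_comb_of_orth hQ hpp' hrp' hpr' hrr' (hdisp p')
    have e2 := eq_comb_of_orth hQ hpp' hrp' hpr' hrr' (hdisp r')
    set a := polar ⇑Q (lin Q σ p' - p') p' with ha
    set b := polar ⇑Q (lin Q σ p' - p') r' with hb
    set c := polar ⇑Q (lin Q σ r' - r') p' with hc
    set d := polar ⇑Q (lin Q σ r' - r') r' with hd
    have e1' : lin Q σ p' = p' + (a • p + b • r) := by rw [← e1]; abel
    have e2' : lin Q σ r' = r' + (c • p + d • r) := by rw [← e2]; abel
    -- isometry conditions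
    have q1 : a = 0 := by
      have h1 := lin_isometry Q σ p'
      rw [e1', QuadraticMap.map_add ⇑Q, h.Q_comb, QuadraticMap.polar_add_right,
        QuadraticMap.polar_smul_right, QuadraticMap.polar_smul_right,
        QuadraticMap.polar_comm ⇑Q p' p, hpp', QuadraticMap.polar_comm ⇑Q p' r, hrp'] at h1
      simp only [smul_eq_mul, mul_one, mul_zero, add_zero] at h1
      linear_combination h1
    have q2 : d = 0 := by
      have h1 := lin_isometry Q σ r'
      rw [e2', QuadraticMap.map_add ⇑Q, h.Q_comb, QuadraticMap.polar_add_right,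
        QuadraticMap.polar_smul_right, QuadraticMap.polar_smul_right,
        QuadraticMap.polar_comm ⇑Q r' p, hpr', QuadraticMap.polar_comm ⇑Q r' r, hrr'] at h1
      simp only [smul_eq_mul, mul_one, mul_zero, add_zero, zero_add] at h1
      linear_combination h1
    have q3 : c = -b := by
      have h1 := lin_isometry Q σ (p' + r')
      have e3 : lin Q σ (p' + r') = (p' + r') + ((a + c) • p + (b + d) • r) := by
        rw [map_add, e1', e2']
        module
      rw [e3, QuadraticMap.map_add ⇑Q (p' + r'), h.Q_comb, QuadraticMap.polar_add_right,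
        QuadraticMap.polar_smul_right, QuadraticMap.polar_smul_right,
        QuadraticMap.polar_add_left, QuadraticMap.polar_add_left,
        QuadraticMap.polar_comm ⇑Q p' p, hpp', QuadraticMap.polar_comm ⇑Q p' r, hrp',
        QuadraticMap.polar_comm ⇑Q r' p, hpr', QuadraticMap.polar_comm ⇑Q r' r, hrr', q1, q2] at h1
      simp only [smul_eq_mul, mul_one, mul_zero, add_zero, zero_add] at h1
      linear_combination h1
    refine ⟨-b, ?_⟩
    apply isom_ext
    intro x
    rw [h.lin_siegel]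
    -- decompose x
    have hy := hσ (x - polar ⇑Q p x • p' - polar ⇑Q r x • r') (by
      rw [QuadraticMap.polar_sub_left, QuadraticMap.polar_sub_left, QuadraticMap.polar_smul_left,
        QuadraticMap.polar_smul_left, QuadraticMap.polar_comm ⇑Q p' p, hpp',
        QuadraticMap.polar_comm ⇑Q r' p, hpr', QuadraticMap.polar_comm ⇑Q x p]
      simp) (by
      rw [QuadraticMap.polar_sub_left, QuadraticMap.polar_sub_left, QuadraticMap.polar_smul_left,
        QuadraticMap.polar_smul_left, QuadraticMap.polar_comm ⇑Q p' r, hrp',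
        QuadraticMap.polar_comm ⇑Q r' r, hrr', QuadraticMap.polar_comm ⇑Q x r]
      simp)
    rw [map_sub, map_sub, map_smul, map_smul, e1', e2', q1, q2, q3] at hy
    have : lin Q σ x = x + polar ⇑Q p x • (b • r) + polar ⇑Q r x • ((-b) • p) := by
      have h5 : lin Q σ x = (x - polar ⇑Q p x • p' - polar ⇑Q r x • r') +
          polar ⇑Q p x • (p' + ((0 : F) • p + b • r)) +
          polar ⇑Q r x • (r' + ((-b) • p + (0 : F) • r)) := by
        rw [← hy]; abel
      rw [h5]
      module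
    rw [this]
    module
  · rintro ⟨c, rfl⟩ v hv1 hv2
    rw [h.lin_siegel, QuadraticMap.polar_comm ⇑Q r v, hv2, QuadraticMap.polar_comm ⇑Q p v, hv1]
    simp

/-- membership in the Siegel transvection group -/
theorem IsSingLine.mem_siegelSub_iff (hQ : (QuadraticMap.polarBilin Q).Nondegenerate)
    {p r : ι → F} (h : IsSingLine Q p r) (σ : Cfsg.isometryGroup F ⇑Q) :
    σ ∈ siegelSub Q p r ↔ ∃ c : F, σ = eichlerO Q p (c • r) := by
  have hpol : ∀ c : F, polar ⇑Q p (c • r) = 0 := by
    intro c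
    rw [QuadraticMap.polar_smul_right, h.polar_eq, smul_zero]
  constructor
  · intro hσ
    unfold siegelSub at hσ
    induction hσ using Subgroup.closure_induction with
    | mem x hx => exact (h.fix_iff hQ x).1 hx
    | one => exact ⟨0, by rw [zero_smul, eichlerO_zero]⟩
    | mul x y _ _ hx hy =>
      obtain ⟨c, rfl⟩ := hx
      obtain ⟨c', rfl⟩ := hy
      exact ⟨c + c', by rw [eichlerO_mul Q h.Qp (hpol c) (hpol c'), add_smul]⟩
    | inv x _ hx =>
      obtain ⟨c, rfl⟩ := hx
      exact ⟨-c, by rw [eichlerO_inv Q h.Qp (hpol c), neg_smul]⟩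
  · intro hσ
    exact Subgroup.subset_closure ((h.fix_iff hQ σ).2 hσ)

theorem IsSingLine.siegel_mem (hQ : (QuadraticMap.polarBilin Q).Nondegenerate)
    {p r : ι → F} (h : IsSingLine Q p r) (c : F) : eichlerO Q p (c • r) ∈ siegelSub Q p r :=
  (h.mem_siegelSub_iff hQ _).2 ⟨c, rfl⟩

/-- the Siegel group only depends on the orthogonal of the line -/
theorem siegelSub_congr {p r p' r' : ι → F}
    (H : ∀ v : ι → F, (polar ⇑Q v p = 0 ∧ polar ⇑Q v r = 0) ↔
      (polar ⇑Q v p' = 0 ∧ polar ⇑Q v r' = 0)) : siegelSub Q p r = siegelSub Q p' r' := by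
  unfold siegelSub
  congr 1
  ext σ
  constructor
  · intro h v h1 h2
    exact h v ((H v).2 ⟨h1, h2⟩).1 ((H v).2 ⟨h1, h2⟩).2
  · intro h v h1 h2
    exact h v ((H v).1 ⟨h1, h2⟩).1 ((H v).1 ⟨h1, h2⟩).2

/-- injectivity of the parametrisation -/
theorem IsSingLine.siegel_injective (hQ : (QuadraticMap.polarBilin Q).Nondegenerate)
    {p r : ι → F} (h : IsSingLine Q p r) {c c' : F}
    (hc : eichlerO Q p (c • r) = eichlerO Q p (c' • r)) : c = c' := by
  obtain ⟨p', r', hpp', hrp', hpr', hrr'⟩ := h.exists_dual hQ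
  have h1 : lin Q (eichlerO Q p (c • r)) p' = lin Q (eichlerO Q p (c' • r)) p' := by rw [hc]
  rw [h.lin_siegel, h.lin_siegel, hrp', hpp'] at h1
  simp only [mul_zero, zero_smul, add_zero, mul_one] at h1
  have h2 : (c' - c) • r = 0 := by
    rw [sub_smul]
    have := sub_eq_zero.2 h1
    rw [← this]
    abel
  rcases smul_eq_zero.1 h2 with h3 | h3
  · exact (sub_eq_zero.1 h3).symm
  · exact absurd h3 h.r_ne

theorem IsSingLine.siegelSub_ne_bot (hQ : (QuadraticMap.polarBilin Q).Nondegenerate)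
    {p r : ι → F} (h : IsSingLine Q p r) : siegelSub Q p r ≠ ⊥ := by
  intro hb
  have h1 := h.siegel_mem hQ 1
  rw [hb, Subgroup.mem_bot] at h1
  have h2 : eichlerO Q p ((1 : F) • r) = eichlerO Q p ((0 : F) • r) := by
    rw [h1, zero_smul, eichlerO_zero]
  exact one_ne_zero (h.siegel_injective hQ h2)

theorem IsSingLine.siegelSub_comm (hQ : (QuadraticMap.polarBilin Q).Nondegenerate)
    {p r : ι → F} (h : IsSingLine Q p r) : IsMulCommutative (siegelSub Q p r) := by
  have hpol : ∀ c : F, polar ⇑Q p (c • r) = 0 := by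
    intro c
    rw [QuadraticMap.polar_smul_right, h.polar_eq, smul_zero]
  refine ⟨⟨?_⟩⟩
  rintro ⟨a, ha⟩ ⟨b, hb⟩
  obtain ⟨c, rfl⟩ := (h.mem_siegelSub_iff hQ a).1 ha
  obtain ⟨c', rfl⟩ := (h.mem_siegelSub_iff hQ b).1 hb
  apply Subtype.ext
  show eichlerO Q p (c • r) * eichlerO Q p (c' • r) = eichlerO Q p (c' • r) * eichlerO Q p (c • r)
  rw [eichlerO_mul Q h.Qp (hpol c) (hpol c'), eichlerO_mul Q h.Qp (hpol c') (hpol c), add_comm]

/-- images of singular lines under isometries -/
theorem IsSingLine.map {p r : ι → F} (h : IsSingLine Q p r) (g : Cfsg.isometryGroup F ⇑Q) :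
    IsSingLine Q (lin Q g p) (lin Q g r) := by
  refine isSingLine_of ?_ ?_ ?_ ?_
  · intro s t hst
    apply h.indep s t
    have h1 : lin Q g⁻¹ (s • lin Q g p + t • lin Q g r) = 0 := by rw [hst, map_zero]
    rw [map_add, map_smul, map_smul, lin_inv_apply, lin_inv_apply] at h1
    exact h1
  · rw [lin_isometry, h.Qp]
  · rw [lin_isometry, h.Qr]
  · rw [polar_lin, h.polar_eq]

/-- conjugation of Siegel groups -/
theorem IsSingLine.conjBy_siegelSub (hQ : (QuadraticMap.polarBilin Q).Nondegenerate)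
    {p r : ι → F} (h : IsSingLine Q p r) (g : Cfsg.isometryGroup F ⇑Q) :
    Cfsg.conjBy (siegelSub Q p r) g = siegelSub Q (lin Q g p) (lin Q g r) := by
  have hpol : ∀ c : F, polar ⇑Q p (c • r) = 0 := by
    intro c
    rw [QuadraticMap.polar_smul_right, h.polar_eq, smul_zero]
  ext x
  rw [(h.map g).mem_siegelSub_iff hQ]
  constructor
  · rintro ⟨y, hy, rfl⟩
    obtain ⟨c, rfl⟩ := (h.mem_siegelSub_iff hQ y).1 hy
    refine ⟨c, ?_⟩
    show g * eichlerO Q p (c • r) * g⁻¹ = _
    rw [eichlerO_conj Q g h.Qp (hpol c), map_smul]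
  · rintro ⟨c, rfl⟩
    refine ⟨eichlerO Q p (c • r), h.siegel_mem hQ c, ?_⟩
    show g * eichlerO Q p (c • r) * g⁻¹ = _
    rw [eichlerO_conj Q g h.Qp (hpol c), map_smul]

end Cfsg.Agent.Helper5
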