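import Mathlib
import Cfsg.Agent.Helper5.Siegel1

/-!
# Pairs of Siegel transvection groups: base change, commuting pairs, the commutator case
-/

set_option autoImplicit false
set_option linter.unusedSectionVars false

namespace Cfsg.Agent.Helper5

open Matrix QuadraticMap Module Cfsg.Agent.Helper44 Cfsg.Agent.Helper45.OmegaParity
open scoped commutatorElement

variable {F : Type*} [Field F] {ι : Type} [Fintype ι] [DecidableEq ι]
variable {Q : QuadraticForm F (ι → F)}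

/-- the family of all Siegel transvection groups -/
def siegelFam (Q : QuadraticForm F (ι → F)) : Set (Subgroup (Cfsg.isometryGroup F ⇑Q)) :=
  {A | ∃ p r : ι → F, IsSingLine Q p r ∧ A = siegelSub Q p r}

/-- base change in a singular line -/
theorem IsSingLine.comb {p r : ι → F} (h : IsSingLine Q p r) {a b c d : F}
    (hdet : a * d - b * c ≠ 0) : IsSingLine Q (a • p + b • r) (c • p + d • r) := by
  refine isSingLine_of ?_ (h.Q_comb a b) (h.Q_comb c d) ?_
  · intro s t hst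
    have h1 := h.indep (s * a + t * c) (s * b + t * d) (by
      rw [← hst]; module)
    constructor
    · have : s * (a * d - b * c) = 0 := by linear_combination d * h1.1 - c * h1.2
      rcases mul_eq_zero.1 this with h2 | h2
      · exact h2
      · exact absurd h2 hdet
    · have : t * (a * d - b * c) = 0 := by linear_combination a * h1.2 - b * h1.1
      rcases mul_eq_zero.1 this with h2 | h2
      · exact h2
      · exact absurd h2 hdet
  · rw [QuadraticMap.polar_add_left, QuadraticMap.polar_add_right, QuadraticMap.polar_add_right,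
      QuadraticMap.polar_smul_left, QuadraticMap.polar_smul_left, QuadraticMap.polar_smul_left,
      QuadraticMap.polar_smul_left, QuadraticMap.polar_smul_right, QuadraticMap.polar_smul_right,
      QuadraticMap.polar_smul_right, QuadraticMap.polar_smul_right, h.polar_eq, h.polar_eq',
      polar_self_of_singular Q h.Qp, polar_self_of_singular Q h.Qr]
    simp

theorem siegelSub_comb {p r : ι → F} {a b c d : F} (hdet : a * d - b * c ≠ 0) :
    siegelSub Q (a • p + b • r) (c • p + d • r) = siegelSub Q p r := by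
  apply siegelSub_congr
  intro v
  rw [QuadraticMap.polar_add_right, QuadraticMap.polar_add_right, QuadraticMap.polar_smul_right,
    QuadraticMap.polar_smul_right, QuadraticMap.polar_smul_right, QuadraticMap.polar_smul_right]
  simp only [smul_eq_mul]
  constructor
  · rintro ⟨h1, h2⟩
    have e1 : (a * d - b * c) * polar ⇑Q v p = 0 := by linear_combination d * h1 - b * h2
    have e2 : (a * d - b * c) * polar ⇑Q v r = 0 := by linear_combination a * h2 - c * h1
    exact ⟨(mul_eq_zero.1 e1).resolve_left hdet, (mul_eq_zero.1 e2).resolve_left hdet⟩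
  · rintro ⟨h1, h2⟩
    rw [h1, h2]
    simp

theorem siegelSub_swap (p r : ι → F) : siegelSub Q p r = siegelSub Q r p := by
  apply siegelSub_congr
  intro v
  exact and_comm

/-- replace `p` by `p + t r` -/
theorem IsSingLine.add_smul {p r : ι → F} (h : IsSingLine Q p r) (t : F) :
    IsSingLine Q (p + t • r) r := by
  have := h.comb (a := 1) (b := t) (c := 0) (d := 1) (by simp)
  simpa using this

theorem siegelSub_add_smul (p r : ι → F) (t : F) :
    siegelSub Q (p + t • r) r = siegelSub Q p r := by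
  have := siegelSub_comb (Q := Q) (p := p) (r := r) (a := 1) (b := t) (c := 0) (d := 1) (by simp)
  simpa using this

variable (hQ : (QuadraticMap.polarBilin Q).Nondegenerate)

include hQ in
/-- Siegel groups of perpendicular lines commute -/
theorem siegel_commute_of_perp {p₁ r₁ p₂ r₂ : ι → F} (h₁ : IsSingLine Q p₁ r₁)
    (h₂ : IsSingLine Q p₂ r₂) (e11 : polar ⇑Q p₁ p₂ = 0) (e12 : polar ⇑Q p₁ r₂ = 0)
    (e21 : polar ⇑Q r₁ p₂ = 0) (e22 : polar ⇑Q r₁ r₂ = 0) :
    ∀ x ∈ siegelSub Q p₁ r₁, ∀ y ∈ siegelSub Q p₂ r₂, x * y = y * x := by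
  intro x hx y hy
  obtain ⟨c, rfl⟩ := (h₁.mem_siegelSub_iff hQ x).1 hx
  have hfix := (h₂.fix_iff hQ y).2 ((h₂.mem_siegelSub_iff hQ y).1 hy)
  have hpol : polar ⇑Q p₁ (c • r₁) = 0 := by
    rw [QuadraticMap.polar_smul_right, h₁.polar_eq, smul_zero]
  have h3 : y * eichlerO Q p₁ (c • r₁) * y⁻¹ = eichlerO Q p₁ (c • r₁) := by
    rw [eichlerO_conj Q y h₁.Qp hpol, map_smul, hfix p₁ e11 e12, hfix r₁ e21 e22]
  calc eichlerO Q p₁ (c • r₁) * y = (y * eichlerO Q p₁ (c • r₁) * y⁻¹) * y := by rw [h3]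
    _ = y * eichlerO Q p₁ (c • r₁) := by group

include hQ in
theorem siegel_commutator_eq_bot_of_perp {p₁ r₁ p₂ r₂ : ι → F} (h₁ : IsSingLine Q p₁ r₁)
    (h₂ : IsSingLine Q p₂ r₂) (e11 : polar ⇑Q p₁ p₂ = 0) (e12 : polar ⇑Q p₁ r₂ = 0)
    (e21 : polar ⇑Q r₁ p₂ = 0) (e22 : polar ⇑Q r₁ r₂ = 0) :
    ⁅siegelSub Q p₁ r₁, siegelSub Q p₂ r₂⁆ = ⊥ := by
  rw [Subgroup.commutator_eq_bot_iff_le_centralizer]
  intro x hx
  rw [Subgroup.mem_centralizer_iff]
  intro y hy
  exact (siegel_commute_of_perp hQ h₁ h₂ e11 e12 e21 e22 x hx y hy).symm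

include hQ in
/-- Siegel groups of lines through a common point commute -/
theorem siegel_commutator_eq_bot_of_common {p r₁ p₂ r₂ : ι → F} (h₁ : IsSingLine Q p r₁)
    (h₂ : IsSingLine Q p₂ r₂) (e12 : polar ⇑Q p r₂ = 0) {lam : F} (hp₂ : p₂ = lam • p) :
    ⁅siegelSub Q p r₁, siegelSub Q p₂ r₂⁆ = ⊥ := by
  rw [Subgroup.commutator_eq_bot_iff_le_centralizer]
  intro x hx
  rw [Subgroup.mem_centralizer_iff]
  intro y hy
  obtain ⟨c, rfl⟩ := (h₁.mem_siegelSub_iff hQ x).1 hx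
  obtain ⟨c', rfl⟩ := (h₂.mem_siegelSub_iff hQ y).1 hy
  have hpol : polar ⇑Q p (c • r₁) = 0 := by
    rw [QuadraticMap.polar_smul_right, h₁.polar_eq, smul_zero]
  have hpol2 : polar ⇑Q p (c' • r₂) = 0 := by
    rw [QuadraticMap.polar_smul_right, e12, smul_zero]
  have hpol3 : polar ⇑Q p (lam • c' • r₂) = 0 := by
    rw [QuadraticMap.polar_smul_right, hpol2, smul_zero]
  rw [hp₂, eichlerO_smul_left Q h₁.Qp hpol2, eichlerO_mul Q h₁.Qp hpol3 hpol,
    eichlerO_mul Q h₁.Qp hpol hpol3, add_comm]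

/-- the commutator formula -/
theorem siegel_commutator_formula {p₁ r₁ p₂ r₂ : ι → F} (h₁ : IsSingLine Q p₁ r₁)
    (h₂ : IsSingLine Q p₂ r₂) (e11 : polar ⇑Q p₁ p₂ = 0) (e12 : polar ⇑Q p₁ r₂ = 0)
    (e21 : polar ⇑Q r₁ p₂ = 0) (a b : F) :
    eichlerO Q p₁ (a • r₁) * eichlerO Q p₂ (b • r₂) * (eichlerO Q p₁ (a • r₁))⁻¹ *
      (eichlerO Q p₂ (b • r₂))⁻¹ = eichlerO Q p₂ ((a * b * polar ⇑Q r₁ r₂) • p₁) := by
  have hpol2 : polar ⇑Q p₂ (b • r₂) = 0 := by
    rw [QuadraticMap.polar_smul_right, h₂.polar_eq, smul_zero]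
  have hp21 : polar ⇑Q p₂ p₁ = 0 := by rw [QuadraticMap.polar_comm]; exact e11
  have hpol3 : polar ⇑Q p₂ (b • r₂ + (a * b * polar ⇑Q r₁ r₂) • p₁) = 0 := by
    rw [QuadraticMap.polar_add_right, hpol2, QuadraticMap.polar_smul_right, hp21]
    simp
  have hpol4 : polar ⇑Q p₂ (-(b • r₂)) = 0 := by
    rw [QuadraticMap.polar_neg_right, hpol2, neg_zero]
  rw [eichlerO_conj Q _ h₂.Qp hpol2, h₁.lin_siegel, h₁.lin_siegel, e21, e11,
    QuadraticMap.polar_smul_right, QuadraticMap.polar_smul_right, e12, eichlerO_inv Q h₂.Qp hpol2]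
  simp only [mul_zero, zero_smul, add_zero, sub_zero, smul_eq_mul]
  have e5 : b • r₂ + (a * (b * polar ⇑Q r₁ r₂)) • p₁ =
      b • r₂ + (a * b * polar ⇑Q r₁ r₂) • p₁ := by
    rw [mul_assoc]
  rw [e5, eichlerO_mul Q h₂.Qp hpol3 hpol4]
  congr 1
  abel

include hQ in
/-- **The commutator case.** -/
theorem siegel_commutatorCase {p₁ r₁ p₂ r₂ : ι → F} (h₁ : IsSingLine Q p₁ r₁)
    (h₂ : IsSingLine Q p₂ r₂) (e11 : polar ⇑Q p₁ p₂ = 0) (e12 : polar ⇑Q p₁ r₂ = 0)
    (e21 : polar ⇑Q r₁ p₂ = 0) (e22 : polar ⇑Q r₁ r₂ ≠ 0) (hind : ∀ lam : F, p₂ ≠ lam • p₁) :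
    Cfsg.RootCommutatorCase (siegelFam Q) (siegelSub Q p₁ r₁) (siegelSub Q p₂ r₂) := by
  have hp21 : polar ⇑Q p₂ p₁ = 0 := by rw [QuadraticMap.polar_comm]; exact e11
  -- the third line
  have h₃ : IsSingLine Q p₂ p₁ := by
    refine isSingLine_of ?_ h₂.Qp h₁.Qp hp21
    intro s t hst
    by_cases hs : s = 0
    · subst hs
      rw [zero_smul, zero_add] at hst
      rcases smul_eq_zero.1 hst with h5 | h5
      · exact ⟨rfl, h5⟩
      · exact absurd h5 h₁.p_ne
    · exfalso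
      apply hind (-(s⁻¹ * t))
      have : s • p₂ = -(t • p₁) := eq_neg_of_add_eq_zero_left hst
      calc p₂ = s⁻¹ • (s • p₂) := by rw [smul_smul, inv_mul_cancel₀ hs, one_smul]
        _ = -(s⁻¹ * t) • p₁ := by rw [this]; module
  set β := polar ⇑Q r₁ r₂ with hβ
  -- commutators of elements
  have hcomm : ∀ a b : F, eichlerO Q p₁ (a • r₁) * eichlerO Q p₂ (b • r₂) *
      (eichlerO Q p₁ (a • r₁))⁻¹ * (eichlerO Q p₂ (b • r₂))⁻¹ =
      eichlerO Q p₂ ((a * b * β) • p₁) :=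
    fun a b => siegel_commutator_formula h₁ h₂ e11 e12 e21 a b
  -- the commutator subgroup
  have hsub : ⁅siegelSub Q p₁ r₁, siegelSub Q p₂ r₂⁆ = siegelSub Q p₂ p₁ := by
    apply le_antisymm
    · rw [Subgroup.commutator_le]
      intro x hx y hy
      obtain ⟨a, rfl⟩ := (h₁.mem_siegelSub_iff hQ x).1 hx
      obtain ⟨b, rfl⟩ := (h₂.mem_siegelSub_iff hQ y).1 hy
      rw [commutatorElement_def, hcomm]
      exact h₃.siegel_mem hQ _
    · intro z hz
      obtain ⟨c, rfl⟩ := (h₃.mem_siegelSub_iff hQ z).1 hz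
      have h5 := hcomm 1 (c * β⁻¹)
      have h6 : (1 : F) * (c * β⁻¹) * β = c := by
        rw [one_mul, mul_assoc, inv_mul_cancel₀ e22, mul_one]
      rw [h6] at h5
      rw [← h5, ← commutatorElement_def]
      exact Subgroup.commutator_mem_commutator (h₁.siegel_mem hQ 1) (h₂.siegel_mem hQ _)
  have hp2r1 : polar ⇑Q p₂ r₁ = 0 := by rw [QuadraticMap.polar_comm]; exact e21
  have hcA := siegel_commute_of_perp hQ h₃ h₁ hp21 hp2r1 (polar_self_of_singular Q h₁.Qp)
    h₁.polar_eq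
  have hcB := siegel_commute_of_perp hQ h₃ h₂ (polar_self_of_singular Q h₂.Qp) h₂.polar_eq
    e11 e12
  refine ⟨?_, ?_, ?_, ?_⟩
  · rw [hsub]
    exact ⟨p₂, p₁, h₃, rfl⟩
  · intro c hc x hx
    rw [hsub] at hc
    have hle : siegelSub Q p₁ r₁ ⊔ siegelSub Q p₂ r₂ ≤
        Subgroup.centralizer (siegelSub Q p₂ p₁ : Set (Cfsg.isometryGroup F ⇑Q)) := by
      refine sup_le ?_ ?_
      · intro y hy
        rw [Subgroup.mem_centralizer_iff]
        intro z hz
        exact hcA z hz y hy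
      · intro y hy
        rw [Subgroup.mem_centralizer_iff]
        intro z hz
        exact hcB z hz y hy
    have := hle hx
    rw [Subgroup.mem_centralizer_iff] at this
    exact this c hc
  · intro x hx hx1
    obtain ⟨a, rfl⟩ := (h₁.mem_siegelSub_iff hQ x).1 hx
    have ha : a ≠ 0 := by
      rintro rfl
      apply hx1
      rw [zero_smul, eichlerO_zero]
    rw [hsub]
    have hset : (fun b : Cfsg.isometryGroup F ⇑Q =>
        eichlerO Q p₁ (a • r₁) * b * (eichlerO Q p₁ (a • r₁))⁻¹ * b⁻¹) ''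
        (siegelSub Q p₂ r₂ : Set (Cfsg.isometryGroup F ⇑Q)) =
        (siegelSub Q p₂ p₁ : Set (Cfsg.isometryGroup F ⇑Q)) := by
      ext z
      constructor
      · rintro ⟨y, hy, rfl⟩
        obtain ⟨b, rfl⟩ := (h₂.mem_siegelSub_iff hQ y).1 hy
        show eichlerO Q p₁ (a • r₁) * eichlerO Q p₂ (b • r₂) * (eichlerO Q p₁ (a • r₁))⁻¹ *
          (eichlerO Q p₂ (b • r₂))⁻¹ ∈ siegelSub Q p₂ p₁
        rw [hcomm]
        exact h₃.siegel_mem hQ _
      · intro hz
        obtain ⟨c, rfl⟩ := (h₃.mem_siegelSub_iff hQ z).1 hz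
        refine ⟨eichlerO Q p₂ ((a⁻¹ * c * β⁻¹) • r₂), h₂.siegel_mem hQ _, ?_⟩
        show eichlerO Q p₁ (a • r₁) * eichlerO Q p₂ ((a⁻¹ * c * β⁻¹) • r₂) *
          (eichlerO Q p₁ (a • r₁))⁻¹ * (eichlerO Q p₂ ((a⁻¹ * c * β⁻¹) • r₂))⁻¹ = _
        rw [hcomm]
        congr 2
        field_simp
    rw [hset]
    exact Subgroup.closure_eq _
  · intro y hy hy1
    obtain ⟨b, rfl⟩ := (h₂.mem_siegelSub_iff hQ y).1 hy
    have hb : b ≠ 0 := by
      rintro rfl
      apply hy1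
      rw [zero_smul, eichlerO_zero]
    rw [hsub]
    have hset : (fun x : Cfsg.isometryGroup F ⇑Q =>
        x * eichlerO Q p₂ (b • r₂) * x⁻¹ * (eichlerO Q p₂ (b • r₂))⁻¹) ''
        (siegelSub Q p₁ r₁ : Set (Cfsg.isometryGroup F ⇑Q)) =
        (siegelSub Q p₂ p₁ : Set (Cfsg.isometryGroup F ⇑Q)) := by
      ext z
      constructor
      · rintro ⟨x, hx, rfl⟩
        obtain ⟨a, rfl⟩ := (h₁.mem_siegelSub_iff hQ x).1 hx
        show eichlerO Q p₁ (a • r₁) * eichlerO Q p₂ (b • r₂) * (eichlerO Q p₁ (a • r₁))⁻¹ *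
          (eichlerO Q p₂ (b • r₂))⁻¹ ∈ siegelSub Q p₂ p₁
        rw [hcomm]
        exact h₃.siegel_mem hQ _
      · intro hz
        obtain ⟨c, rfl⟩ := (h₃.mem_siegelSub_iff hQ z).1 hz
        refine ⟨eichlerO Q p₁ ((c * b⁻¹ * β⁻¹) • r₁), h₁.siegel_mem hQ _, ?_⟩
        show eichlerO Q p₁ ((c * b⁻¹ * β⁻¹) • r₁) * eichlerO Q p₂ (b • r₂) *
          (eichlerO Q p₁ ((c * b⁻¹ * β⁻¹) • r₁))⁻¹ * (eichlerO Q p₂ (b • r₂))⁻¹ = _
        rw [hcomm]
        congr 2
        field_simp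
    rw [hset]
    exact Subgroup.closure_eq _

end Cfsg.Agent.Helper5
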