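import Mathlib
import Cfsg.Agent.Helper5.Siegel2
import Cfsg.Agent.Helper94.RootGlue

/-!
# Opposite singular lines generate an image of `SL₂(F)`
-/

set_option autoImplicit false
set_option linter.unusedSectionVars false

namespace Cfsg.Agent.Helper5

open Matrix QuadraticMap Module Cfsg.Agent.Helper44 Cfsg.Agent.Helper45.OmegaParity
open scoped commutatorElement

variable {F : Type*} [Field F] {ι : Type} [Fintype ι] [DecidableEq ι]

/-- two singular lines `⟨p₁, r₁⟩`, `⟨p₂, r₂⟩` in duality -/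
structure Frame4 (Q : QuadraticForm F (ι → F)) where
  /-- first vector of the first line -/
  p₁ : ι → F
  /-- second vector of the first line -/
  r₁ : ι → F
  /-- first vector of the second line -/
  p₂ : ι → F
  /-- second vector of the second line -/
  r₂ : ι → F
  Qp₁ : Q p₁ = 0
  Qr₁ : Q r₁ = 0
  Qp₂ : Q p₂ = 0
  Qr₂ : Q r₂ = 0
  p₁r₁ : polar ⇑Q p₁ r₁ = 0
  p₂r₂ : polar ⇑Q p₂ r₂ = 0
  p₁p₂ : polar ⇑Q p₁ p₂ = 1
  p₁r₂ : polar ⇑Q p₁ r₂ = 0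
  r₁p₂ : polar ⇑Q r₁ p₂ = 0
  r₁r₂ : polar ⇑Q r₁ r₂ = 1

variable {Q : QuadraticForm F (ι → F)}

namespace Frame4

variable (T : Frame4 Q)

theorem r₁p₁ : polar ⇑Q T.r₁ T.p₁ = 0 := by rw [QuadraticMap.polar_comm]; exact T.p₁r₁
theorem r₂p₂ : polar ⇑Q T.r₂ T.p₂ = 0 := by rw [QuadraticMap.polar_comm]; exact T.p₂r₂
theorem p₂p₁ : polar ⇑Q T.p₂ T.p₁ = 1 := by rw [QuadraticMap.polar_comm]; exact T.p₁p₂
theorem r₂p₁ : polar ⇑Q T.r₂ T.p₁ = 0 := by rw [QuadraticMap.polar_comm]; exact T.p₁r₂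
theorem p₂r₁ : polar ⇑Q T.p₂ T.r₁ = 0 := by rw [QuadraticMap.polar_comm]; exact T.r₁p₂
theorem r₂r₁ : polar ⇑Q T.r₂ T.r₁ = 1 := by rw [QuadraticMap.polar_comm]; exact T.r₁r₂
theorem p₁p₁ : polar ⇑Q T.p₁ T.p₁ = 0 := polar_self_of_singular Q T.Qp₁
theorem r₁r₁ : polar ⇑Q T.r₁ T.r₁ = 0 := polar_self_of_singular Q T.Qr₁
theorem p₂p₂ : polar ⇑Q T.p₂ T.p₂ = 0 := polar_self_of_singular Q T.Qp₂
theorem r₂r₂ : polar ⇑Q T.r₂ T.r₂ = 0 := polar_self_of_singular Q T.Qr₂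

/-- the linear map of a `2 × 2` matrix: `g` on `⟨p₁, r₂⟩`, adjugate-transpose on `⟨p₂, r₁⟩` -/
noncomputable def L (g : Matrix (Fin 2) (Fin 2) F) : (ι → F) →ₗ[F] (ι → F) where
  toFun x := x + ((g 0 0 - 1) * polar ⇑Q x T.p₂ + g 0 1 * polar ⇑Q x T.r₁) • T.p₁
    + (g 1 0 * polar ⇑Q x T.p₂ + (g 1 1 - 1) * polar ⇑Q x T.r₁) • T.r₂
    + ((g 1 1 - 1) * polar ⇑Q x T.p₁ - g 1 0 * polar ⇑Q x T.r₂) • T.p₂
    + (-(g 0 1) * polar ⇑Q x T.p₁ + (g 0 0 - 1) * polar ⇑Q x T.r₂) • T.r₁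
  map_add' x y := by
    simp only [QuadraticMap.polar_add_left]
    module
  map_smul' c x := by
    simp only [QuadraticMap.polar_smul_left, RingHom.id_apply, smul_eq_mul]
    module

theorem L_apply (g : Matrix (Fin 2) (Fin 2) F) (x : ι → F) :
    T.L g x = x + ((g 0 0 - 1) * polar ⇑Q x T.p₂ + g 0 1 * polar ⇑Q x T.r₁) • T.p₁
    + (g 1 0 * polar ⇑Q x T.p₂ + (g 1 1 - 1) * polar ⇑Q x T.r₁) • T.r₂
    + ((g 1 1 - 1) * polar ⇑Q x T.p₁ - g 1 0 * polar ⇑Q x T.r₂) • T.p₂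
    + (-(g 0 1) * polar ⇑Q x T.p₁ + (g 0 0 - 1) * polar ⇑Q x T.r₂) • T.r₁ := rfl

theorem polar_L_p₂ (g : Matrix (Fin 2) (Fin 2) F) (x : ι → F) :
    polar ⇑Q (T.L g x) T.p₂ = g 0 0 * polar ⇑Q x T.p₂ + g 0 1 * polar ⇑Q x T.r₁ := by
  rw [L_apply]
  simp only [QuadraticMap.polar_add_left, QuadraticMap.polar_smul_left, T.p₁p₂, T.r₂p₂, T.p₂p₂,
    T.r₁p₂, smul_eq_mul]
  ring

theorem polar_L_r₁ (g : Matrix (Fin 2) (Fin 2) F) (x : ι → F) :
    polar ⇑Q (T.L g x) T.r₁ = g 1 0 * polar ⇑Q x T.p₂ + g 1 1 * polar ⇑Q x T.r₁ := by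
  rw [L_apply]
  simp only [QuadraticMap.polar_add_left, QuadraticMap.polar_smul_left, T.p₁r₁, T.r₂r₁, T.p₂r₁,
    T.r₁r₁, smul_eq_mul]
  ring

theorem polar_L_p₁ (g : Matrix (Fin 2) (Fin 2) F) (x : ι → F) :
    polar ⇑Q (T.L g x) T.p₁ = g 1 1 * polar ⇑Q x T.p₁ - g 1 0 * polar ⇑Q x T.r₂ := by
  rw [L_apply]
  simp only [QuadraticMap.polar_add_left, QuadraticMap.polar_smul_left, T.p₁p₁, T.r₂p₁, T.p₂p₁,
    T.r₁p₁, smul_eq_mul]
  ring

theorem polar_L_r₂ (g : Matrix (Fin 2) (Fin 2) F) (x : ι → F) :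
    polar ⇑Q (T.L g x) T.r₂ = -(g 0 1) * polar ⇑Q x T.p₁ + g 0 0 * polar ⇑Q x T.r₂ := by
  rw [L_apply]
  simp only [QuadraticMap.polar_add_left, QuadraticMap.polar_smul_left, T.p₁r₂, T.r₂r₂, T.p₂r₂,
    T.r₁r₂, smul_eq_mul]
  ring

theorem L_mul (g h : Matrix (Fin 2) (Fin 2) F) (x : ι → F) :
    T.L (g * h) x = T.L g (T.L h x) := by
  rw [L_apply T g (T.L h x), polar_L_p₂, polar_L_r₁, polar_L_p₁, polar_L_r₂, L_apply T h x,
    L_apply T (g * h) x]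
  simp only [Matrix.mul_apply, Fin.sum_univ_two]
  module

theorem L_one (x : ι → F) : T.L 1 x = x := by
  rw [L_apply]
  simp

theorem Q_comb4 (c₁ c₂ c₃ c₄ : F) :
    Q (c₁ • T.p₁ + c₂ • T.r₂ + c₃ • T.p₂ + c₄ • T.r₁) = c₁ * c₃ + c₂ * c₄ := by
  simp only [QuadraticMap.map_add ⇑Q, QuadraticMap.map_smul, QuadraticMap.polar_add_left,
    QuadraticMap.polar_smul_left, QuadraticMap.polar_smul_right, T.Qp₁, T.Qr₁, T.Qp₂, T.Qr₂,
    T.p₁r₂, T.p₁p₂, T.r₂p₂, T.p₁r₁, T.r₂r₁, T.p₂r₁, smul_eq_mul]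
  ring

theorem Q_L (g : Matrix (Fin 2) (Fin 2) F) (hg : g.det = 1) (x : ι → F) : Q (T.L g x) = Q x := by
  rw [Matrix.det_fin_two] at hg
  rw [L_apply]
  have e : ∀ c₁ c₂ c₃ c₄ : F, x + c₁ • T.p₁ + c₂ • T.r₂ + c₃ • T.p₂ + c₄ • T.r₁ =
      x + (c₁ • T.p₁ + c₂ • T.r₂ + c₃ • T.p₂ + c₄ • T.r₁) := by
    intro c₁ c₂ c₃ c₄
    abel
  rw [e, QuadraticMap.map_add ⇑Q, Q_comb4]
  simp only [QuadraticMap.polar_add_right, QuadraticMap.polar_smul_right, smul_eq_mul]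
  linear_combination (polar ⇑Q x T.p₂ * polar ⇑Q x T.p₁ + polar ⇑Q x T.r₁ * polar ⇑Q x T.r₂) * hg

/-- the linear equivalence of an element of `SL₂(F)` -/
noncomputable def equiv (g : Matrix.SpecialLinearGroup (Fin 2) F) : (ι → F) ≃ₗ[F] (ι → F) :=
  LinearEquiv.ofLinearMap (T.L (g : Matrix (Fin 2) (Fin 2) F))
    (T.L ((g⁻¹ : Matrix.SpecialLinearGroup (Fin 2) F) : Matrix (Fin 2) (Fin 2) F))
    (by
      apply LinearMap.ext
      intro x
      rw [LinearMap.comp_apply, ← L_mul, ← Matrix.SpecialLinearGroup.coe_mul, mul_inv_cancel,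
        Matrix.SpecialLinearGroup.coe_one, L_one]
      rfl)
    (by
      apply LinearMap.ext
      intro x
      rw [LinearMap.comp_apply, ← L_mul, ← Matrix.SpecialLinearGroup.coe_mul, inv_mul_cancel,
        Matrix.SpecialLinearGroup.coe_one, L_one]
      rfl)

theorem equiv_apply (g : Matrix.SpecialLinearGroup (Fin 2) F) (x : ι → F) :
    T.equiv g x = T.L (g : Matrix (Fin 2) (Fin 2) F) x := rfl

/-- the isometry of an element of `SL₂(F)` -/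
noncomputable def iso (g : Matrix.SpecialLinearGroup (Fin 2) F) : Cfsg.isometryGroup F ⇑Q :=
  isoOfLin Q (T.equiv g) (fun v => by
    rw [equiv_apply]
    exact T.Q_L _ g.det_coe v)

theorem lin_iso (g : Matrix.SpecialLinearGroup (Fin 2) F) (x : ι → F) :
    lin Q (T.iso g) x = T.L (g : Matrix (Fin 2) (Fin 2) F) x := by
  unfold iso
  rw [lin_isoOfLin, equiv_apply]

/-- the homomorphism `SL₂(F) → O(Q)` -/
noncomputable def hom : Matrix.SpecialLinearGroup (Fin 2) F →* Cfsg.isometryGroup F ⇑Q :=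
  MonoidHom.mk' T.iso (by
    intro g h
    apply isom_ext
    intro x
    rw [lin_mul_apply, lin_iso, lin_iso, lin_iso, Matrix.SpecialLinearGroup.coe_mul, L_mul])

theorem lin_hom (g : Matrix.SpecialLinearGroup (Fin 2) F) (x : ι → F) :
    lin Q (T.hom g) x = T.L (g : Matrix (Fin 2) (Fin 2) F) x :=
  T.lin_iso g x

theorem hom_injective : Function.Injective T.hom := by
  rw [injective_iff_map_eq_one]
  intro g hg
  have h1 : ∀ x, T.L g.1 x = x := by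
    intro x
    rw [← lin_hom, hg, lin_one_apply]
  have a1 := h1 T.p₁
  have a2 := h1 T.r₂
  rw [L_apply] at a1 a2
  simp only [T.p₁p₂, T.p₁r₁, T.p₁p₁, T.p₁r₂, T.r₂p₂, T.r₂r₁, T.r₂p₁, T.r₂r₂, mul_one, mul_zero,
    add_zero, zero_add, sub_zero, zero_smul] at a1 a2
  have b1 : (g.1 0 0 - 1) • T.p₁ + g.1 1 0 • T.r₂ = 0 := by
    have := sub_eq_zero.2 a1
    rw [← this]; abel
  have b2 : g.1 0 1 • T.p₁ + (g.1 1 1 - 1) • T.r₂ = 0 := by
    have := sub_eq_zero.2 a2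
    rw [← this]; abel
  have c1 := congrArg (fun v => polar ⇑Q v T.p₂) b1
  have c2 := congrArg (fun v => polar ⇑Q v T.r₁) b1
  have c3 := congrArg (fun v => polar ⇑Q v T.p₂) b2
  have c4 := congrArg (fun v => polar ⇑Q v T.r₁) b2
  simp only [QuadraticMap.polar_add_left, QuadraticMap.polar_smul_left, T.p₁p₂, T.r₂p₂, T.p₁r₁,
    T.r₂r₁, QuadraticMap.polar_zero_left, smul_eq_mul, mul_one, mul_zero, add_zero, zero_add]
    at c1 c2 c3 c4
  ext i j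
  fin_cases i <;> fin_cases j
  · simpa using sub_eq_zero.1 c1
  · simpa using c3
  · simpa using c2
  · simpa using sub_eq_zero.1 c4

theorem isSingLine₁ : IsSingLine Q T.p₁ T.r₁ := by
  refine isSingLine_of ?_ T.Qp₁ T.Qr₁ T.p₁r₁
  intro s t hst
  have c1 := congrArg (fun v => polar ⇑Q v T.p₂) hst
  have c2 := congrArg (fun v => polar ⇑Q v T.r₂) hst
  simp only [QuadraticMap.polar_add_left, QuadraticMap.polar_smul_left, T.p₁p₂, T.r₁p₂, T.p₁r₂,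
    T.r₁r₂, QuadraticMap.polar_zero_left, smul_eq_mul, mul_one, mul_zero, add_zero, zero_add]
    at c1 c2
  exact ⟨c1, c2⟩

theorem isSingLine₂ : IsSingLine Q T.p₂ T.r₂ := by
  refine isSingLine_of ?_ T.Qp₂ T.Qr₂ T.p₂r₂
  intro s t hst
  have c1 := congrArg (fun v => polar ⇑Q v T.p₁) hst
  have c2 := congrArg (fun v => polar ⇑Q v T.r₁) hst
  simp only [QuadraticMap.polar_add_left, QuadraticMap.polar_smul_left, T.p₂p₁, T.r₂p₁, T.p₂r₁,
    T.r₂r₁, QuadraticMap.polar_zero_left, smul_eq_mul, mul_one, mul_zero, add_zero, zero_add]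
    at c1 c2
  exact ⟨c1, c2⟩

/-- upper unitriangular matrices go to `E(p₁, t r₁)` -/
theorem hom_upper (g : Matrix.SpecialLinearGroup (Fin 2) F) (h10 : g.1 1 0 = 0)
    (h00 : g.1 0 0 = 1) (h11 : g.1 1 1 = 1) : T.hom g = eichlerO Q T.p₁ (g.1 0 1 • T.r₁) := by
  apply isom_ext
  intro x
  rw [lin_hom, T.isSingLine₁.lin_siegel, L_apply, h10, h00, h11,
    QuadraticMap.polar_comm ⇑Q T.r₁ x, QuadraticMap.polar_comm ⇑Q T.p₁ x]
  module

/-- lower unitriangular matrices go to `E(p₂, -s r₂)` -/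
theorem hom_lower (g : Matrix.SpecialLinearGroup (Fin 2) F) (h01 : g.1 0 1 = 0)
    (h00 : g.1 0 0 = 1) (h11 : g.1 1 1 = 1) :
    T.hom g = eichlerO Q T.p₂ ((-(g.1 1 0)) • T.r₂) := by
  apply isom_ext
  intro x
  rw [lin_hom, T.isSingLine₂.lin_siegel, L_apply, h01, h00, h11,
    QuadraticMap.polar_comm ⇑Q T.r₂ x, QuadraticMap.polar_comm ⇑Q T.p₂ x]
  module

variable (hQ : (QuadraticMap.polarBilin Q).Nondegenerate)

include hQ in
theorem map_upper : (Cfsg.upperUnipotentSL2 F).map T.hom = siegelSub Q T.p₁ T.r₁ := by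
  apply le_antisymm
  · rw [Subgroup.map_le_iff_le_comap]
    unfold Cfsg.upperUnipotentSL2
    rw [Subgroup.closure_le]
    rintro g ⟨h10, h00, h11⟩
    show T.hom g ∈ siegelSub Q T.p₁ T.r₁
    rw [T.hom_upper g h10 h00 h11]
    exact T.isSingLine₁.siegel_mem hQ _
  · intro z hz
    obtain ⟨c, rfl⟩ := (T.isSingLine₁.mem_siegelSub_iff hQ z).1 hz
    let g : Matrix.SpecialLinearGroup (Fin 2) F := ⟨!![1, c; 0, 1], by simp [Matrix.det_fin_two]⟩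
    refine ⟨g, Subgroup.subset_closure ⟨rfl, rfl, rfl⟩, ?_⟩
    rw [T.hom_upper g rfl rfl rfl]
    rfl

include hQ in
theorem map_lower : (Cfsg.lowerUnipotentSL2 F).map T.hom = siegelSub Q T.p₂ T.r₂ := by
  apply le_antisymm
  · rw [Subgroup.map_le_iff_le_comap]
    unfold Cfsg.lowerUnipotentSL2
    rw [Subgroup.closure_le]
    rintro g ⟨h01, h00, h11⟩
    show T.hom g ∈ siegelSub Q T.p₂ T.r₂
    rw [T.hom_lower g h01 h00 h11]
    exact T.isSingLine₂.siegel_mem hQ _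
  · intro z hz
    obtain ⟨c, rfl⟩ := (T.isSingLine₂.mem_siegelSub_iff hQ z).1 hz
    let g : Matrix.SpecialLinearGroup (Fin 2) F := ⟨!![1, 0; -c, 1], by simp [Matrix.det_fin_two]⟩
    refine ⟨g, Subgroup.subset_closure ⟨rfl, rfl, rfl⟩, ?_⟩
    rw [T.hom_lower g rfl rfl rfl]
    show eichlerO Q T.p₂ ((-(-c)) • T.r₂) = _
    rw [neg_neg]

include hQ in
/-- the two Siegel groups of a frame are an `SL₂` image -/
theorem isSL2Image :
    Cfsg.Agent.Helper94.IsSL2Image F (siegelSub Q T.p₁ T.r₁) (siegelSub Q T.p₂ T.r₂) := by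
  refine ⟨T.hom, ?_, T.map_upper hQ, T.map_lower hQ⟩
  rw [(MonoidHom.ker_eq_bot_iff T.hom).2 T.hom_injective]
  exact bot_le

include hQ in
theorem siegelSub_ne : siegelSub Q T.p₁ T.r₁ ≠ siegelSub Q T.p₂ T.r₂ := by
  intro h
  have h1 := T.isSingLine₁.siegel_mem hQ 1
  rw [h] at h1
  have h2 := (T.isSingLine₂.fix_iff hQ _).2 ((T.isSingLine₂.mem_siegelSub_iff hQ _).1 h1) T.p₂
    T.p₂p₂ T.p₂r₂
  rw [T.isSingLine₁.lin_siegel, T.r₁p₂, T.p₁p₂] at h2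
  simp only [mul_zero, zero_smul, add_zero, mul_one, one_smul] at h2
  have h3 : T.r₁ = 0 := by
    have := sub_eq_self.1 h2
    exact this
  exact T.isSingLine₁.r_ne h3

end Frame4

end Cfsg.Agent.Helper5
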