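import Mathlib
import Cfsg.Agent.Helper5.Siegel3
import Cfsg.Agent.Helper94.RootGlue2

/-!
# The trichotomy for Siegel transvection groups and connectivity
-/

set_option autoImplicit false
set_option linter.unusedSectionVars false

namespace Cfsg.Agent.Helper5

open Matrix QuadraticMap Module Cfsg.Agent.Helper44 Cfsg.Agent.Helper45.OmegaParity
open scoped commutatorElement

variable {F : Type*} [Field F] {ι : Type} [Fintype ι] [DecidableEq ι]
variable {Q : QuadraticForm F (ι → F)}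
variable (hQ : (QuadraticMap.polarBilin Q).Nondegenerate)

include hQ in
/-- opposite lines give an `SL₂` image -/
theorem isSL2Image_of_det_ne {p₁ r₁ p₂ r₂ : ι → F} (h₁ : IsSingLine Q p₁ r₁)
    (h₂ : IsSingLine Q p₂ r₂)
    (hdet : polar ⇑Q p₁ p₂ * polar ⇑Q r₁ r₂ - polar ⇑Q p₁ r₂ * polar ⇑Q r₁ p₂ ≠ 0) :
    siegelSub Q p₁ r₁ ≠ siegelSub Q p₂ r₂ ∧
      Cfsg.Agent.Helper94.IsSL2Image F (siegelSub Q p₁ r₁) (siegelSub Q p₂ r₂) := by
  set m11 := polar ⇑Q p₁ p₂ with hm11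
  set m12 := polar ⇑Q p₁ r₂ with hm12
  set m21 := polar ⇑Q r₁ p₂ with hm21
  set m22 := polar ⇑Q r₁ r₂ with hm22
  set D := m11 * m22 - m12 * m21 with hD
  have hcoef : (m22 / D) * (m11 / D) - (-m21 / D) * (-m12 / D) ≠ 0 := by
    have : (m22 / D) * (m11 / D) - (-m21 / D) * (-m12 / D) = D⁻¹ := by
      field_simp
      rw [hD]; ring
    rw [this]
    exact inv_ne_zero hdet
  have h₂' := h₂.comb hcoef
  have hsub : siegelSub Q ((m22 / D) • p₂ + (-m21 / D) • r₂) ((-m12 / D) • p₂ + (m11 / D) • r₂) =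
      siegelSub Q p₂ r₂ := siegelSub_comb hcoef
  let T : Frame4 Q :=
    { p₁ := p₁
      r₁ := r₁
      p₂ := (m22 / D) • p₂ + (-m21 / D) • r₂
      r₂ := (-m12 / D) • p₂ + (m11 / D) • r₂
      Qp₁ := h₁.Qp
      Qr₁ := h₁.Qr
      Qp₂ := h₂'.Qp
      Qr₂ := h₂'.Qr
      p₁r₁ := h₁.polar_eq
      p₂r₂ := h₂'.polar_eq
      p₁p₂ := by
        rw [QuadraticMap.polar_add_right, QuadraticMap.polar_smul_right,
          QuadraticMap.polar_smul_right, ← hm11, ← hm12]
        simp only [smul_eq_mul]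
        field_simp
        rw [hD]; ring
      p₁r₂ := by
        rw [QuadraticMap.polar_add_right, QuadraticMap.polar_smul_right,
          QuadraticMap.polar_smul_right, ← hm11, ← hm12]
        simp only [smul_eq_mul]
        field_simp
        ring
      r₁p₂ := by
        rw [QuadraticMap.polar_add_right, QuadraticMap.polar_smul_right,
          QuadraticMap.polar_smul_right, ← hm21, ← hm22]
        simp only [smul_eq_mul]
        field_simp
        ring
      r₁r₂ := by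
        rw [QuadraticMap.polar_add_right, QuadraticMap.polar_smul_right,
          QuadraticMap.polar_smul_right, ← hm21, ← hm22]
        simp only [smul_eq_mul]
        field_simp
        rw [hD]; ring }
  have h1 := T.siegelSub_ne hQ
  have h2 := T.isSL2Image hQ
  rw [← hsub]
  exact ⟨h1, h2⟩

include hQ in
/-- the rank one case of the Gram matrix, normalised -/
theorem siegel_pair_aux {p₁ r₁ p₂ r₂ : ι → F} (h₁ : IsSingLine Q p₁ r₁)
    (h₂ : IsSingLine Q p₂ r₂)
    (hdet : polar ⇑Q p₁ p₂ * polar ⇑Q r₁ r₂ - polar ⇑Q p₁ r₂ * polar ⇑Q r₁ p₂ = 0)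
    (h22 : polar ⇑Q r₁ r₂ ≠ 0) :
    ⁅siegelSub Q p₁ r₁, siegelSub Q p₂ r₂⁆ = ⊥ ∨
      Cfsg.RootCommutatorCase (siegelFam Q) (siegelSub Q p₁ r₁) (siegelSub Q p₂ r₂) := by
  set m11 := polar ⇑Q p₁ p₂ with hm11
  set m12 := polar ⇑Q p₁ r₂ with hm12
  set m21 := polar ⇑Q r₁ p₂ with hm21
  set m22 := polar ⇑Q r₁ r₂ with hm22
  have h₁' := h₁.add_smul (-m12 / m22)
  have h₂' := h₂.add_smul (-m21 / m22)
  rw [← siegelSub_add_smul p₁ r₁ (-m12 / m22), ← siegelSub_add_smul p₂ r₂ (-m21 / m22)]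
  have hr1r1 : polar ⇑Q r₁ r₁ = 0 := polar_self_of_singular Q h₁.Qr
  have hr2r2 : polar ⇑Q r₂ r₂ = 0 := polar_self_of_singular Q h₂.Qr
  have e12 : polar ⇑Q (p₁ + (-m12 / m22) • r₁) r₂ = 0 := by
    rw [QuadraticMap.polar_add_left, QuadraticMap.polar_smul_left, ← hm12, ← hm22]
    simp only [smul_eq_mul]
    field_simp
    ring
  have e21 : polar ⇑Q r₁ (p₂ + (-m21 / m22) • r₂) = 0 := by
    rw [QuadraticMap.polar_add_right, QuadraticMap.polar_smul_right, ← hm21, ← hm22]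
    simp only [smul_eq_mul]
    field_simp
    ring
  have e11 : polar ⇑Q (p₁ + (-m12 / m22) • r₁) (p₂ + (-m21 / m22) • r₂) = 0 := by
    rw [QuadraticMap.polar_add_right, QuadraticMap.polar_smul_right, e12, smul_zero, add_zero,
      QuadraticMap.polar_add_left, QuadraticMap.polar_smul_left, ← hm11, ← hm21]
    simp only [smul_eq_mul]
    field_simp
    linear_combination hdet
  by_cases hcol : ∃ lam : F, p₂ + (-m21 / m22) • r₂ = lam • (p₁ + (-m12 / m22) • r₁)
  · obtain ⟨lam, hlam⟩ := hcol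
    left
    exact siegel_commutator_eq_bot_of_common hQ h₁' h₂' e12 hlam
  · right
    push Not at hcol
    exact siegel_commutatorCase hQ h₁' h₂' e11 e12 e21 h22 hcol

include hQ in
/-- **The trichotomy for pairs of Siegel transvection groups.** -/
theorem siegel_pair :
    ∀ A ∈ siegelFam Q, ∀ B ∈ siegelFam Q, ⁅A, B⁆ = ⊥ ∨
      (A ≠ B ∧ Cfsg.Agent.Helper94.IsSL2Image F A B) ∨
      Cfsg.RootCommutatorCase (siegelFam Q) A B := by
  rintro A ⟨p₁, r₁, h₁, rfl⟩ B ⟨p₂, r₂, h₂, rfl⟩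
  by_cases hdet : polar ⇑Q p₁ p₂ * polar ⇑Q r₁ r₂ - polar ⇑Q p₁ r₂ * polar ⇑Q r₁ p₂ = 0
  · by_cases h22 : polar ⇑Q r₁ r₂ = 0
    · by_cases h21 : polar ⇑Q r₁ p₂ = 0
      · by_cases h12 : polar ⇑Q p₁ r₂ = 0
        · by_cases h11 : polar ⇑Q p₁ p₂ = 0
          · left
            exact siegel_commutator_eq_bot_of_perp hQ h₁ h₂ h11 h12 h21 h22
          · -- swap both
            have := siegel_pair_aux hQ h₁.symm h₂.symm (by linear_combination hdet) h11
            rw [siegelSub_swap r₁ p₁, siegelSub_swap r₂ p₂] at this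
            rcases this with h | h
            · exact Or.inl h
            · exact Or.inr (Or.inr h)
        · -- swap the first line
          have := siegel_pair_aux hQ h₁.symm h₂ (by linear_combination -hdet) h12
          rw [siegelSub_swap r₁ p₁] at this
          rcases this with h | h
          · exact Or.inl h
          · exact Or.inr (Or.inr h)
      · -- swap the second line
        have := siegel_pair_aux hQ h₁ h₂.symm (by linear_combination -hdet) h21
        rw [siegelSub_swap r₂ p₂] at this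
        rcases this with h | h
        · exact Or.inl h
        · exact Or.inr (Or.inr h)
    · rcases siegel_pair_aux hQ h₁ h₂ hdet h22 with h | h
      · exact Or.inl h
      · exact Or.inr (Or.inr h)
  · right; left
    exact isSL2Image_of_det_ne hQ h₁ h₂ hdet

/-- a non-singular vector orthogonal to a subspace which is not totally isotropic -/
theorem exists_nonsingular_orth_of_not_ts (hQ : (QuadraticMap.polarBilin Q).Nondegenerate)
    (U : Submodule F (ι → F)) (hU : 2 * finrank F U ≤ Fintype.card ι)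
    (hnts : ∃ u ∈ U, ∃ v ∈ U, polar ⇑Q u v ≠ 0) :
    ∃ a : ι → F, Q a ≠ 0 ∧ ∀ x ∈ U, polar ⇑Q a x = 0 := by
  by_contra hcon
  push Not at hcon
  set X := LinearMap.BilinForm.orthogonal (QuadraticMap.polarBilin Q) U with hX
  have hXts : ∀ a ∈ X, Q a = 0 := by
    intro a ha
    by_contra ha0
    obtain ⟨x, hx, hne⟩ := hcon a ha0
    apply hne
    rw [hX, LinearMap.BilinForm.mem_orthogonal_iff] at ha
    have := ha x hx
    rw [QuadraticMap.polar_comm]
    exact this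
  have h1 := ts_le_orthogonal Q X hXts
  have h2 := LinearMap.BilinForm.finrank_orthogonal hQ X
  have h3 := LinearMap.BilinForm.finrank_orthogonal hQ U
  rw [Module.finrank_fintype_fun_eq_card] at h2 h3
  rw [← hX] at h3
  have h4 := Submodule.finrank_le U
  rw [Module.finrank_fintype_fun_eq_card] at h4
  have h5 : X = LinearMap.BilinForm.orthogonal (QuadraticMap.polarBilin Q) X :=
    Submodule.eq_of_le_of_finrank_le h1 (by omega)
  have h6 : LinearMap.BilinForm.orthogonal (QuadraticMap.polarBilin Q) X = U := by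
    rw [hX]
    exact LinearMap.BilinForm.orthogonal_orthogonal hQ
      (Cfsg.Agent.Helper45.OmegaParity.polarBilin_isRefl Q) U
  obtain ⟨u, hu, v, hv, huv⟩ := hnts
  apply huv
  have hv' : v ∈ X := by rw [h5, h6]; exact hv
  rw [hX, LinearMap.BilinForm.mem_orthogonal_iff] at hv'
  exact hv' u hu

/-- a singular vector in `x^⊥` not orthogonal to two singular vectors of `x^⊥ ∖ ⟨x⟩` -/
theorem exists_singular_perp_nonperp_both (hQ : (QuadraticMap.polarBilin Q).Nondegenerate)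
    (h6 : 6 ≤ Fintype.card ι) {x w₁ w₂ : ι → F} (hx0 : x ≠ 0) (hw₁ : Q w₁ = 0)
    (hw₂ : Q w₂ = 0) (hxw₁ : polar ⇑Q x w₁ = 0) (hxw₂ : polar ⇑Q x w₂ = 0)
    (hn₁ : ∀ a : F, w₁ ≠ a • x) (hn₂ : ∀ a : F, w₂ ≠ a • x) :
    ∃ y, Q y = 0 ∧ polar ⇑Q x y = 0 ∧ polar ⇑Q y w₁ ≠ 0 ∧ polar ⇑Q y w₂ ≠ 0 := by
  by_cases hγ : polar ⇑Q w₁ w₂ = 0
  · obtain ⟨z₁, hz1a, hz1b⟩ := exists_orth_sep' Q hQ hx0 hn₁
    obtain ⟨z₂, hz2a, hz2b⟩ := exists_orth_sep' Q hQ hx0 hn₂
    -- a vector of `x^⊥` not orthogonal to `w₁`, `w₂`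
    obtain ⟨z₀, hz0, hz01, hz02⟩ : ∃ z₀, polar ⇑Q x z₀ = 0 ∧ polar ⇑Q z₀ w₁ ≠ 0 ∧
        polar ⇑Q z₀ w₂ ≠ 0 := by
      rw [QuadraticMap.polar_comm] at hz1b hz2b
      by_cases h1 : polar ⇑Q z₁ w₂ = 0
      · by_cases h2 : polar ⇑Q z₂ w₁ = 0
        · refine ⟨z₁ + z₂, ?_, ?_, ?_⟩
          · rw [QuadraticMap.polar_add_right, hz1a, hz2a, add_zero]
          · rw [QuadraticMap.polar_add_left, h2, add_zero]; exact hz1b
          · rw [QuadraticMap.polar_add_left, h1, zero_add]; exact hz2b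
        · exact ⟨z₂, hz2a, h2, hz2b⟩
      · exact ⟨z₁, hz1a, hz1b, h1⟩
    obtain ⟨c, hc⟩ := exists_singular_add_smul Q hw₁ hz01
    refine ⟨z₀ + c • w₁, hc, ?_, ?_, ?_⟩
    · rw [QuadraticMap.polar_add_right, QuadraticMap.polar_smul_right, hz0, hxw₁]
      simp
    · rw [QuadraticMap.polar_add_left, QuadraticMap.polar_smul_left, polar_self_of_singular Q hw₁,
        smul_zero, add_zero]
      exact hz01
    · rw [QuadraticMap.polar_add_left, QuadraticMap.polar_smul_left, hγ, smul_zero, add_zero]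
      exact hz02
  · obtain ⟨a, ha, haU⟩ := exists_nonsingular_orth_of_not_ts hQ (Submodule.span F {x, w₁, w₂}) (by
      classical
      have := finrank_span_finset_le_card (R := F) ({x, w₁, w₂} : Finset (ι → F))
      have h2 : ({x, w₁, w₂} : Finset (ι → F)).card ≤ 3 := Finset.card_le_three
      have h3 : ((({x, w₁, w₂} : Finset (ι → F)) : Set (ι → F))) = {x, w₁, w₂} := by
        simp
      rw [h3] at this
      change finrank F ↥(Submodule.span F {x, w₁, w₂}) ≤ _ at this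
      omega)
      ⟨w₁, Submodule.subset_span (by simp), w₂, Submodule.subset_span (by simp), hγ⟩
    have hax : polar ⇑Q a x = 0 := haU x (Submodule.subset_span (by simp))
    have haw₁ : polar ⇑Q a w₁ = 0 := haU w₁ (Submodule.subset_span (by simp))
    have haw₂ : polar ⇑Q a w₂ = 0 := haU w₂ (Submodule.subset_span (by simp))
    set b : F := -(Q a) / polar ⇑Q w₁ w₂ with hb
    have hb0 : b ≠ 0 := div_ne_zero (neg_ne_zero.2 ha) hγ
    refine ⟨a + (w₁ + b • w₂), ?_, ?_, ?_, ?_⟩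
    · have e1 : Q (w₁ + b • w₂) = b * polar ⇑Q w₁ w₂ := by
        rw [QuadraticMap.map_add ⇑Q, QuadraticMap.map_smul, hw₁, hw₂,
          QuadraticMap.polar_smul_right]
        simp
      have e2 : polar ⇑Q a (w₁ + b • w₂) = 0 := by
        rw [QuadraticMap.polar_add_right, QuadraticMap.polar_smul_right, haw₁, haw₂]
        simp
      rw [QuadraticMap.map_add ⇑Q, e1, e2, hb]
      field_simp
      ring
    · rw [QuadraticMap.polar_add_right, QuadraticMap.polar_add_right,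
        QuadraticMap.polar_smul_right, QuadraticMap.polar_comm ⇑Q x a, hax, hxw₁, hxw₂]
      simp
    · rw [QuadraticMap.polar_add_left, QuadraticMap.polar_add_left, QuadraticMap.polar_smul_left,
        haw₁, polar_self_of_singular Q hw₁, QuadraticMap.polar_comm ⇑Q w₂ w₁]
      simp only [smul_eq_mul, zero_add]
      exact mul_ne_zero hb0 hγ
    · rw [QuadraticMap.polar_add_left, QuadraticMap.polar_add_left, QuadraticMap.polar_smul_left,
        haw₂, polar_self_of_singular Q hw₂]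
      simp only [smul_eq_mul, mul_zero, add_zero, zero_add]
      exact hγ

/-- **Two singular lines have a common opposite singular line.** -/
theorem exists_common_opposite (hQ : (QuadraticMap.polarBilin Q).Nondegenerate)
    (h6 : 6 ≤ Fintype.card ι) {p₁ r₁ p₂ r₂ : ι → F} (h₁ : IsSingLine Q p₁ r₁)
    (h₂ : IsSingLine Q p₂ r₂) :
    ∃ x y : ι → F, IsSingLine Q x y ∧
      polar ⇑Q p₁ x * polar ⇑Q r₁ y - polar ⇑Q p₁ y * polar ⇑Q r₁ x ≠ 0 ∧
      polar ⇑Q p₂ x * polar ⇑Q r₂ y - polar ⇑Q p₂ y * polar ⇑Q r₂ x ≠ 0 := by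
  obtain ⟨x, hx, hx1, hx2⟩ := exists_singular_nonperp_both Q hQ (by omega) h₁.p_ne h₂.p_ne h₁.Qp
    h₂.Qp
  have hx0 : x ≠ 0 := by
    rintro rfl
    apply hx1
    exact QuadraticMap.polar_zero_left _ _
  set t₁ : F := polar ⇑Q x r₁ / polar ⇑Q x p₁ with ht₁
  set t₂ : F := polar ⇑Q x r₂ / polar ⇑Q x p₂ with ht₂
  set w₁ := r₁ - t₁ • p₁ with hw₁
  set w₂ := r₂ - t₂ • p₂ with hw₂
  have Qw₁ : Q w₁ = 0 := by
    have : w₁ = (-t₁) • p₁ + (1 : F) • r₁ := by rw [hw₁]; module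
    rw [this]; exact h₁.Q_comb _ _
  have Qw₂ : Q w₂ = 0 := by
    have : w₂ = (-t₂) • p₂ + (1 : F) • r₂ := by rw [hw₂]; module
    rw [this]; exact h₂.Q_comb _ _
  have xw₁ : polar ⇑Q x w₁ = 0 := by
    rw [hw₁, QuadraticMap.polar_sub_right, QuadraticMap.polar_smul_right, ht₁]
    simp only [smul_eq_mul]
    field_simp
    ring
  have xw₂ : polar ⇑Q x w₂ = 0 := by
    rw [hw₂, QuadraticMap.polar_sub_right, QuadraticMap.polar_smul_right, ht₂]
    simp only [smul_eq_mul]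
    field_simp
    ring
  have hn₁ : ∀ a : F, w₁ ≠ a • x := by
    intro a ha
    have e1 : polar ⇑Q w₁ p₁ = 0 := by
      rw [hw₁, QuadraticMap.polar_sub_left, QuadraticMap.polar_smul_left, h₁.polar_eq',
        polar_self_of_singular Q h₁.Qp]
      simp
    rw [ha, QuadraticMap.polar_smul_left, smul_eq_mul] at e1
    rcases mul_eq_zero.1 e1 with h | h
    · rw [h, zero_smul, hw₁] at ha
      exact h₁.r_ne_smul t₁ (sub_eq_zero.1 ha)
    · exact hx1 h
  have hn₂ : ∀ a : F, w₂ ≠ a • x := by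
    intro a ha
    have e1 : polar ⇑Q w₂ p₂ = 0 := by
      rw [hw₂, QuadraticMap.polar_sub_left, QuadraticMap.polar_smul_left, h₂.polar_eq',
        polar_self_of_singular Q h₂.Qp]
      simp
    rw [ha, QuadraticMap.polar_smul_left, smul_eq_mul] at e1
    rcases mul_eq_zero.1 e1 with h | h
    · rw [h, zero_smul, hw₂] at ha
      exact h₂.r_ne_smul t₂ (sub_eq_zero.1 ha)
    · exact hx2 h
  obtain ⟨y, hy, hxy, hy1, hy2⟩ := exists_singular_perp_nonperp_both hQ h6 hx0 Qw₁ Qw₂ xw₁ xw₂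
    hn₁ hn₂
  refine ⟨x, y, ?_, ?_, ?_⟩
  · refine isSingLine_of ?_ hx hy hxy
    intro s t hst
    have e1 := congrArg (fun v => polar ⇑Q v w₁) hst
    have e2 := congrArg (fun v => polar ⇑Q v p₁) hst
    simp only [QuadraticMap.polar_add_left, QuadraticMap.polar_smul_left, xw₁,
      QuadraticMap.polar_zero_left, smul_eq_mul, mul_zero, zero_add] at e1 e2
    have ht : t = 0 := (mul_eq_zero.1 e1).resolve_right hy1
    rw [ht, zero_mul, add_zero] at e2
    exact ⟨(mul_eq_zero.1 e2).resolve_right hx1, ht⟩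
  · have e1 : polar ⇑Q r₁ y = polar ⇑Q y w₁ + t₁ * polar ⇑Q p₁ y := by
      rw [hw₁, QuadraticMap.polar_sub_right, QuadraticMap.polar_smul_right,
        QuadraticMap.polar_comm ⇑Q y r₁, QuadraticMap.polar_comm ⇑Q y p₁]
      simp
    have e2 : polar ⇑Q r₁ x = t₁ * polar ⇑Q p₁ x := by
      rw [ht₁, QuadraticMap.polar_comm ⇑Q r₁ x, QuadraticMap.polar_comm ⇑Q p₁ x]
      field_simp
    rw [e1, e2]
    have : polar ⇑Q p₁ x * (polar ⇑Q y w₁ + t₁ * polar ⇑Q p₁ y) -
        polar ⇑Q p₁ y * (t₁ * polar ⇑Q p₁ x) = polar ⇑Q p₁ x * polar ⇑Q y w₁ := by ring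
    rw [this, QuadraticMap.polar_comm ⇑Q p₁ x]
    exact mul_ne_zero hx1 hy1
  · have e1 : polar ⇑Q r₂ y = polar ⇑Q y w₂ + t₂ * polar ⇑Q p₂ y := by
      rw [hw₂, QuadraticMap.polar_sub_right, QuadraticMap.polar_smul_right,
        QuadraticMap.polar_comm ⇑Q y r₂, QuadraticMap.polar_comm ⇑Q y p₂]
      simp
    have e2 : polar ⇑Q r₂ x = t₂ * polar ⇑Q p₂ x := by
      rw [ht₂, QuadraticMap.polar_comm ⇑Q r₂ x, QuadraticMap.polar_comm ⇑Q p₂ x]
      field_simp
    rw [e1, e2]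
    have : polar ⇑Q p₂ x * (polar ⇑Q y w₂ + t₂ * polar ⇑Q p₂ y) -
        polar ⇑Q p₂ y * (t₂ * polar ⇑Q p₂ x) = polar ⇑Q p₂ x * polar ⇑Q y w₂ := by ring
    rw [this, QuadraticMap.polar_comm ⇑Q p₂ x]
    exact mul_ne_zero hx2 hy2

/-- connectivity of the family of Siegel groups through `SL₂` images -/
theorem siegel_connected (hQ : (QuadraticMap.polarBilin Q).Nondegenerate)
    (h6 : 6 ≤ Fintype.card ι) :
    ∀ A ∈ siegelFam Q, ∀ B ∈ siegelFam Q, Relation.ReflTransGen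
      (fun X Y => X ∈ siegelFam Q ∧ Y ∈ siegelFam Q ∧ X ≠ Y ∧
        Cfsg.Agent.Helper94.IsSL2Image F X Y) A B := by
  rintro A ⟨p₁, r₁, h₁, rfl⟩ B ⟨p₂, r₂, h₂, rfl⟩
  obtain ⟨x, y, hxy, d1, d2⟩ := exists_common_opposite hQ h6 h₁ h₂
  have s1 := isSL2Image_of_det_ne hQ h₁ hxy d1
  have s2 := isSL2Image_of_det_ne hQ hxy h₂ (by
    intro h
    apply d2
    rw [QuadraticMap.polar_comm ⇑Q p₂ x, QuadraticMap.polar_comm ⇑Q r₂ y,
      QuadraticMap.polar_comm ⇑Q p₂ y, QuadraticMap.polar_comm ⇑Q r₂ x]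
    linear_combination h)
  have t1 : Relation.ReflTransGen
      (fun X Y => X ∈ siegelFam Q ∧ Y ∈ siegelFam Q ∧ X ≠ Y ∧
        Cfsg.Agent.Helper94.IsSL2Image F X Y) (siegelSub Q p₁ r₁) (siegelSub Q x y) :=
    Relation.ReflTransGen.single ⟨⟨p₁, r₁, h₁, rfl⟩, ⟨x, y, hxy, rfl⟩, s1.1, s1.2⟩
  have t2 : Relation.ReflTransGen
      (fun X Y => X ∈ siegelFam Q ∧ Y ∈ siegelFam Q ∧ X ≠ Y ∧
        Cfsg.Agent.Helper94.IsSL2Image F X Y) (siegelSub Q x y) (siegelSub Q p₂ r₂) :=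
    Relation.ReflTransGen.single ⟨⟨x, y, hxy, rfl⟩, ⟨p₂, r₂, h₂, rfl⟩, s2.1, s2.2⟩
  exact t1.trans t2

end Cfsg.Agent.Helper5
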