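import Mathlib
import Cfsg.Agent.Helper5.Siegel4
import Cfsg.Agent.Helper5.OrthSimpleStd
import Cfsg.Agent.Helper44.Singular

/-!
# Automorphisms of `PΩ(Q)`, part A: linear algebra of the polar form and Eichler transformations

General `Q : QuadraticForm F (ι → F)` with non-degenerate polar form.
-/

set_option autoImplicit false
set_option linter.unusedSectionVars false
set_option linter.unusedVariables false
set_option linter.unusedSimpArgs false

namespace Cfsg.Agent.Helper5.AutO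

open Matrix QuadraticMap Module Cfsg.Agent.Helper44 Cfsg.Agent.Helper45.OmegaParity

variable {F : Type*} [Field F] {ι : Type} [Fintype ι] [DecidableEq ι]
variable (Q : QuadraticForm F (ι → F))

/-- the evaluation map `v ↦ (B(v, s i))_i` -/
noncomputable def evalMap {k : ℕ} (s : Fin k → (ι → F)) : (ι → F) →ₗ[F] (Fin k → F) where
  toFun v i := polar ⇑Q v (s i)
  map_add' v v' := by
    funext i
    exact QuadraticMap.polar_add_left _ _ _ _
  map_smul' c v := by
    funext i
    simp [QuadraticMap.polar_smul_left]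

theorem evalMap_apply {k : ℕ} (s : Fin k → (ι → F)) (v : ι → F) (i : Fin k) :
    evalMap Q s v i = polar ⇑Q v (s i) := rfl

theorem mem_ker_evalMap {k : ℕ} (s : Fin k → (ι → F)) (v : ι → F) :
    v ∈ LinearMap.ker (evalMap Q s) ↔ ∀ i, polar ⇑Q v (s i) = 0 := by
  rw [LinearMap.mem_ker]
  constructor
  · intro h i
    exact congrFun h i
  · intro h
    funext i
    exact h i

theorem finrank_ker_evalMap {k : ℕ} (s : Fin k → (ι → F)) :
    Fintype.card ι ≤ finrank F (LinearMap.ker (evalMap Q s)) + k := by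
  have h1 := LinearMap.finrank_range_add_finrank_ker (evalMap Q s)
  rw [Module.finrank_fintype_fun_eq_card] at h1
  have h2 : finrank F (LinearMap.range (evalMap Q s)) ≤ k := by
    have := Submodule.finrank_le (LinearMap.range (evalMap Q s))
    rwa [Module.finrank_fintype_fun_eq_card, Fintype.card_fin] at this
  omega

/-- a non-zero vector orthogonal to fewer than `n` given vectors -/
theorem exists_ne_zero_orth {k : ℕ} (s : Fin k → (ι → F)) (hk : k < Fintype.card ι) :
    ∃ v : ι → F, v ≠ 0 ∧ ∀ i, polar ⇑Q v (s i) = 0 := by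
  have h1 : LinearMap.ker (evalMap Q s) ≠ ⊥ := by
    intro h
    have h2 := finrank_ker_evalMap Q s
    rw [h, finrank_bot] at h2
    omega
  obtain ⟨v, hv, hv0⟩ := Submodule.exists_mem_ne_zero_of_ne_bot h1
  exact ⟨v, hv0, (mem_ker_evalMap Q s v).1 hv⟩

/-- a non-zero singular vector orthogonal to at most `n - 3` given vectors -/
theorem exists_singular_orth [Fintype F] {k : ℕ} (s : Fin k → (ι → F))
    (hk : k + 3 ≤ Fintype.card ι) :
    ∃ v : ι → F, v ≠ 0 ∧ Q v = 0 ∧ ∀ i, polar ⇑Q v (s i) = 0 := by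
  have h2 := finrank_ker_evalMap Q s
  obtain ⟨v, hv0, hv⟩ := Cfsg.Agent.Helper44.exists_singular
    (Q.comp (LinearMap.ker (evalMap Q s)).subtype) (by omega)
  refine ⟨v.1, fun h => hv0 (Subtype.ext h), hv, (mem_ker_evalMap Q s v.1).1 v.2⟩

variable {Q}

/-- double orthogonal complement of a finite family -/
theorem mem_span_of_perp (hQ : (QuadraticMap.polarBilin Q).Nondegenerate) {k : ℕ}
    (s : Fin k → (ι → F)) {d : ι → F}
    (h : ∀ v : ι → F, (∀ i, polar ⇑Q v (s i) = 0) → polar ⇑Q v d = 0) :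
    ∃ c : Fin k → F, d = ∑ i, c i • s i := by
  have h1 : ⨅ i, LinearMap.ker ((QuadraticMap.polarBilin Q) (s i)) ≤
      LinearMap.ker ((QuadraticMap.polarBilin Q) d) := by
    intro v hv
    rw [Submodule.mem_iInf] at hv
    rw [LinearMap.mem_ker, QuadraticMap.polarBilin_apply_apply, QuadraticMap.polar_comm]
    apply h
    intro i
    have := hv i
    rwa [LinearMap.mem_ker, QuadraticMap.polarBilin_apply_apply, QuadraticMap.polar_comm] at this
  obtain ⟨c, hc⟩ := (Submodule.mem_span_range_iff_exists_fun F).1 (mem_span_of_iInf_ker_le_ker h1)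
  refine ⟨c, ?_⟩
  have h2 : d - ∑ i, c i • s i = 0 := by
    apply hQ.1
    intro y
    have h3 := LinearMap.congr_fun hc y
    rw [LinearMap.sum_apply] at h3
    simp only [LinearMap.smul_apply, QuadraticMap.polarBilin_apply_apply, smul_eq_mul] at h3
    rw [map_sub, LinearMap.sub_apply, QuadraticMap.polarBilin_apply_apply, ← h3, map_sum,
      LinearMap.sum_apply, sub_eq_zero]
    apply Finset.sum_congr rfl
    intro i _
    rw [map_smul, LinearMap.smul_apply, QuadraticMap.polarBilin_apply_apply, smul_eq_mul]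
  exact sub_eq_zero.1 h2

theorem mem_span_pair_of_perp (hQ : (QuadraticMap.polarBilin Q).Nondegenerate) {e b d : ι → F}
    (h : ∀ v : ι → F, polar ⇑Q v e = 0 → polar ⇑Q v b = 0 → polar ⇑Q v d = 0) :
    ∃ l μ : F, d = l • e + μ • b := by
  obtain ⟨c, hc⟩ := mem_span_of_perp hQ (![e, b] : Fin 2 → (ι → F)) (d := d) (by
    intro v hv
    exact h v (hv 0) (hv 1))
  refine ⟨c 0, c 1, ?_⟩
  rw [hc, Fin.sum_univ_two]
  rfl

/-- a vector orthogonal to the family and not orthogonal to a vector outside the span -/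
theorem exists_orth_nonperp (hQ : (QuadraticMap.polarBilin Q).Nondegenerate) {k : ℕ}
    (s : Fin k → (ι → F)) {d : ι → F} (hd : ∀ c : Fin k → F, d ≠ ∑ i, c i • s i) :
    ∃ v : ι → F, (∀ i, polar ⇑Q v (s i) = 0) ∧ polar ⇑Q v d ≠ 0 := by
  by_contra hcon
  push Not at hcon
  obtain ⟨c, hc⟩ := mem_span_of_perp hQ s (d := d) hcon
  exact hd c hc


/-! ### Eichler transformations -/

variable (Q)

/-- displacement of an Eichler transformation -/
theorem eichlerO_sub {u w : ι → F} (hu : Q u = 0) (huw : polar ⇑Q u w = 0) (x : ι → F) :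
    lin Q (eichlerO Q u w) x - x
      = (polar ⇑Q w x - Q w * polar ⇑Q u x) • u - polar ⇑Q u x • w := by
  rw [lin_eichlerO Q hu huw]
  module

theorem eichlerO_apply_of_perp {u w x : ι → F} (hu : Q u = 0) (huw : polar ⇑Q u w = 0)
    (hux : polar ⇑Q u x = 0) : lin Q (eichlerO Q u w) x = x + polar ⇑Q w x • u := by
  rw [lin_eichlerO Q hu huw, hux]
  simp

theorem eichlerO_fix {u w x : ι → F} (hu : Q u = 0) (huw : polar ⇑Q u w = 0)
    (hux : polar ⇑Q u x = 0) (hwx : polar ⇑Q w x = 0) : lin Q (eichlerO Q u w) x = x := by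
  rw [eichlerO_apply_of_perp Q hu huw hux, hwx]
  simp

variable {Q}

/-- `E(u, d) = 1` forces `d ∈ ⟨u⟩` -/
theorem eichlerO_eq_one (hQ : (QuadraticMap.polarBilin Q).Nondegenerate) {u d : ι → F}
    (hu0 : u ≠ 0) (hu : Q u = 0) (hud : polar ⇑Q u d = 0) (h : eichlerO Q u d = 1) :
    ∃ c : F, d = c • u := by
  obtain ⟨x, hx⟩ := exists_polar_ne_zero Q hQ hu0
  have h1 := eichlerO_sub Q hu hud x
  rw [h, lin_one_apply, sub_self] at h1
  refine ⟨(polar ⇑Q u x)⁻¹ * (polar ⇑Q d x - Q d * polar ⇑Q u x), ?_⟩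
  have h2 : polar ⇑Q u x • d = (polar ⇑Q d x - Q d * polar ⇑Q u x) • u := by
    have := sub_eq_zero.1 h1.symm
    exact this.symm
  calc d = (polar ⇑Q u x)⁻¹ • (polar ⇑Q u x • d) := by
        rw [smul_smul, inv_mul_cancel₀ hx, one_smul]
    _ = _ := by rw [h2, smul_smul]

/-- injectivity of `w ↦ E(u, w)` modulo `u` -/
theorem eichlerO_inj (hQ : (QuadraticMap.polarBilin Q).Nondegenerate) {u w w' : ι → F}
    (hu0 : u ≠ 0) (hu : Q u = 0) (huw : polar ⇑Q u w = 0) (huw' : polar ⇑Q u w' = 0)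
    (h : eichlerO Q u w = eichlerO Q u w') : ∃ c : F, w' = w + c • u := by
  have h1 : polar ⇑Q u (-w) = 0 := by rw [QuadraticMap.polar_neg_right, huw, neg_zero]
  have h2 : polar ⇑Q u (-w + w') = 0 := by rw [QuadraticMap.polar_add_right, h1, huw', add_zero]
  have h3 : eichlerO Q u (-w + w') = 1 := by
    rw [← eichlerO_mul Q hu h1 huw', ← eichlerO_inv Q hu huw, h, inv_mul_cancel]
  obtain ⟨c, hc⟩ := eichlerO_eq_one hQ hu0 hu h2 h3
  refine ⟨c, ?_⟩
  rw [← hc]
  abel

/-- `u` lies in the range of `E(u,w) - 1` -/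
theorem eichlerO_range_u (hQ : (QuadraticMap.polarBilin Q).Nondegenerate) {u w : ι → F}
    (hu : Q u = 0) (huw : polar ⇑Q u w = 0) (hu0 : u ≠ 0) (hw : ∀ a : F, w ≠ a • u) :
    ∃ x : ι → F, lin Q (eichlerO Q u w) x - x = u := by
  obtain ⟨z, hz1, hz2⟩ := exists_orth_sep' Q hQ hu0 hw
  refine ⟨(polar ⇑Q w z)⁻¹ • z, ?_⟩
  rw [eichlerO_sub Q hu huw, QuadraticMap.polar_smul_right, QuadraticMap.polar_smul_right, hz1]
  simp only [smul_eq_mul, mul_zero, sub_zero, zero_smul]
  rw [inv_mul_cancel₀ hz2, one_smul]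

/-- `w` lies in the range of `E(u,w) - 1` modulo `u` -/
theorem eichlerO_range_w (hQ : (QuadraticMap.polarBilin Q).Nondegenerate) {u w : ι → F}
    (hu : Q u = 0) (huw : polar ⇑Q u w = 0) (hu0 : u ≠ 0) :
    ∃ (x : ι → F) (c : F), lin Q (eichlerO Q u w) x - x = w + c • u := by
  obtain ⟨z, hz⟩ := exists_polar_ne_zero Q hQ hu0
  refine ⟨(-(polar ⇑Q u z)⁻¹) • z, polar ⇑Q w ((-(polar ⇑Q u z)⁻¹) • z) + Q w, ?_⟩
  rw [eichlerO_sub Q hu huw]
  have h1 : polar ⇑Q u ((-(polar ⇑Q u z)⁻¹) • z) = -1 := by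
    rw [QuadraticMap.polar_smul_right, smul_eq_mul, neg_mul, inv_mul_cancel₀ hz]
  rw [h1]
  module

/-- equal Eichler transformations have the same span -/
theorem eichlerO_eq_span (hQ : (QuadraticMap.polarBilin Q).Nondegenerate) {u w u' w' : ι → F}
    (hu : Q u = 0) (huw : polar ⇑Q u w = 0) (hu' : Q u' = 0) (huw' : polar ⇑Q u' w' = 0)
    (hu0 : u ≠ 0) (hw : ∀ a : F, w ≠ a • u) (h : eichlerO Q u w = eichlerO Q u' w') :
    (∃ α β : F, u = α • u' + β • w') ∧ ∃ γ δ : F, w = γ • u' + δ • w' := by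
  obtain ⟨x₁, hx₁⟩ := eichlerO_range_u hQ hu huw hu0 hw
  obtain ⟨x₂, c, hx₂⟩ := eichlerO_range_w hQ hu huw hu0
  rw [h, eichlerO_sub Q hu' huw'] at hx₁ hx₂
  have e1 : u = (polar ⇑Q w' x₁ - Q w' * polar ⇑Q u' x₁) • u' + (-polar ⇑Q u' x₁) • w' := by
    rw [← hx₁]; module
  refine ⟨⟨_, _, e1⟩, ?_⟩
  refine ⟨(polar ⇑Q w' x₂ - Q w' * polar ⇑Q u' x₂) -
    c * (polar ⇑Q w' x₁ - Q w' * polar ⇑Q u' x₁), (-polar ⇑Q u' x₂) - c * (-polar ⇑Q u' x₁), ?_⟩
  have e2 : w = ((polar ⇑Q w' x₂ - Q w' * polar ⇑Q u' x₂) • u' - polar ⇑Q u' x₂ • w') - c • u := by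
    rw [hx₂]; abel
  rw [e2]
  conv_lhs => rw [e1]
  module

/-- base change inside a Siegel group -/
theorem eichlerO_comb {p r : ι → F} (h : IsSingLine Q p r) (a b c d : F) :
    eichlerO Q (a • p + b • r) (c • p + d • r) = eichlerO Q p ((a * d - b * c) • r) := by
  have h1 : Q (a • p + b • r) = 0 := h.Q_comb a b
  have h2 : Q (c • p + d • r) = 0 := h.Q_comb c d
  have h3 : polar ⇑Q (a • p + b • r) (c • p + d • r) = 0 := by
    rw [QuadraticMap.polar_add_left, QuadraticMap.polar_add_right, QuadraticMap.polar_add_right,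
      QuadraticMap.polar_smul_left, QuadraticMap.polar_smul_left, QuadraticMap.polar_smul_left,
      QuadraticMap.polar_smul_left, QuadraticMap.polar_smul_right, QuadraticMap.polar_smul_right,
      QuadraticMap.polar_smul_right, QuadraticMap.polar_smul_right, h.polar_eq, h.polar_eq',
      polar_self_of_singular Q h.Qp, polar_self_of_singular Q h.Qr]
    simp
  apply isom_ext
  intro x
  rw [lin_eichlerO Q h1 h3, h.lin_siegel, h2, QuadraticMap.polar_add_left,
    QuadraticMap.polar_add_left, QuadraticMap.polar_smul_left, QuadraticMap.polar_smul_left,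
    QuadraticMap.polar_smul_left, QuadraticMap.polar_smul_left]
  simp only [smul_eq_mul]
  module

end Cfsg.Agent.Helper5.AutO
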