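import Mathlib
import Cfsg.Agent.Helper5.AutOA

/-!
# Automorphisms of `PΩ(Q)`, part B: the centre of `Ω(Q)`, the projection to `PΩ(Q)`
-/

set_option autoImplicit false
set_option linter.unusedSectionVars false
set_option linter.unusedVariables false
set_option linter.unusedSimpArgs false

namespace Cfsg.Agent.Helper5.AutO

open Matrix QuadraticMap Module MulAction Cfsg.Agent.Helper44 Cfsg.Agent.Helper45.OmegaParity

variable {F : Type*} [Field F] {ι : Type} [Fintype ι] [DecidableEq ι]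
variable {Q : QuadraticForm F (ι → F)}

/-- the standing hypotheses: non-degenerate polar form, dimension at least seven -/
structure Ctx (Q : QuadraticForm F (ι → F)) : Prop where
  hQ : (QuadraticMap.polarBilin Q).Nondegenerate
  hn : 7 ≤ Fintype.card ι

/-- three independent vectors `u, w₁, w₂` with `w₁, w₂ ⟂ u` -/
theorem exists_two_perp (hQ : (QuadraticMap.polarBilin Q).Nondegenerate)
    (h4 : 4 ≤ Fintype.card ι) {u : ι → F} (hu0 : u ≠ 0) :
    ∃ w₁ w₂ : ι → F, polar ⇑Q u w₁ = 0 ∧ polar ⇑Q u w₂ = 0 ∧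
      ∀ a b c : F, a • u + b • w₁ + c • w₂ = 0 → a = 0 ∧ b = 0 ∧ c = 0 := by
  obtain ⟨u', hu'⟩ := exists_polar_ne_zero Q hQ hu0
  obtain ⟨w₁, hw₁0, hw₁⟩ := exists_ne_zero_orth Q (![u, u'] : Fin 2 → (ι → F)) (by omega)
  obtain ⟨y₁, hy₁⟩ := exists_polar_ne_zero Q hQ hw₁0
  obtain ⟨w₂, hw₂0, hw₂⟩ := exists_ne_zero_orth Q (![u, u', y₁] : Fin 3 → (ι → F)) (by omega)
  have a1 : polar ⇑Q w₁ u = 0 := hw₁ 0
  have a2 : polar ⇑Q w₁ u' = 0 := hw₁ 1
  have b1 : polar ⇑Q w₂ u = 0 := hw₂ 0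
  have b2 : polar ⇑Q w₂ u' = 0 := hw₂ 1
  have b3 : polar ⇑Q w₂ y₁ = 0 := hw₂ 2
  refine ⟨w₁, w₂, by rw [QuadraticMap.polar_comm]; exact a1,
    by rw [QuadraticMap.polar_comm]; exact b1, ?_⟩
  intro a b c habc
  have e1 : polar ⇑Q (a • u + b • w₁ + c • w₂) u' = 0 := by
    rw [habc, QuadraticMap.polar_zero_left]
  rw [QuadraticMap.polar_add_left, QuadraticMap.polar_add_left, QuadraticMap.polar_smul_left,
    QuadraticMap.polar_smul_left, QuadraticMap.polar_smul_left, a2, b2] at e1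
  simp only [smul_eq_mul, mul_zero, add_zero] at e1
  have ha : a = 0 := (mul_eq_zero.1 e1).resolve_right hu'
  subst ha
  have e2 : polar ⇑Q ((0 : F) • u + b • w₁ + c • w₂) y₁ = 0 := by
    rw [habc, QuadraticMap.polar_zero_left]
  rw [QuadraticMap.polar_add_left, QuadraticMap.polar_add_left, QuadraticMap.polar_smul_left,
    QuadraticMap.polar_smul_left, QuadraticMap.polar_smul_left, b3] at e2
  simp only [smul_eq_mul, mul_zero, add_zero, zero_mul, zero_add] at e2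
  have hb : b = 0 := (mul_eq_zero.1 e2).resolve_right hy₁
  subst hb
  rw [zero_smul, zero_smul, zero_add, zero_add] at habc
  exact ⟨rfl, rfl, (smul_eq_zero.1 habc).resolve_right hw₂0⟩

/-- an isometry commuting with `E(u, w)` for all `w ⟂ u` stabilises `⟨u⟩` -/
theorem smul_of_commute_eichler (hQ : (QuadraticMap.polarBilin Q).Nondegenerate)
    (h4 : 4 ≤ Fintype.card ι) {u : ι → F} (hu0 : u ≠ 0) (hu : Q u = 0)
    (z : Cfsg.isometryGroup F ⇑Q)
    (hz : ∀ w : ι → F, polar ⇑Q u w = 0 → z * eichlerO Q u w = eichlerO Q u w * z) :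
    ∃ a : F, lin Q z u = a • u := by
  obtain ⟨w₁, w₂, hw₁, hw₂, hind⟩ := exists_two_perp hQ h4 hu0
  have hzu : Q (lin Q z u) = 0 := by rw [lin_isometry, hu]
  have key : ∀ w : ι → F, polar ⇑Q u w = 0 → (∀ a : F, w ≠ a • u) →
      ∃ α β : F, lin Q z u = α • u + β • w := by
    intro w hw hwu
    have h1 : eichlerO Q (lin Q z u) (lin Q z w) = eichlerO Q u w := by
      rw [← eichlerO_conj Q z hu hw, hz w hw]
      group
    have hzw : polar ⇑Q (lin Q z u) (lin Q z w) = 0 := by rw [polar_lin, hw]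
    have hzu0 : lin Q z u ≠ 0 := by
      intro h0
      apply hu0
      have := lin_inv_apply Q z u
      rw [h0, map_zero] at this
      exact this.symm
    have hzwu : ∀ a : F, lin Q z w ≠ a • lin Q z u := by
      intro a h0
      apply hwu a
      have := lin_inv_apply Q z w
      rw [h0, map_smul, lin_inv_apply] at this
      exact this.symm
    exact (eichlerO_eq_span hQ hzu hzw hu hw hzu0 hzwu h1).1
  have hw₁u : ∀ a : F, w₁ ≠ a • u := by
    intro a h0
    have := (hind (-a) 1 0 (by rw [h0]; module)).2.1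
    exact one_ne_zero this
  have hw₂u : ∀ a : F, w₂ ≠ a • u := by
    intro a h0
    have := (hind (-a) 0 1 (by rw [h0]; module)).2.2
    exact one_ne_zero this
  obtain ⟨α₁, β₁, e₁⟩ := key w₁ hw₁ hw₁u
  obtain ⟨α₂, β₂, e₂⟩ := key w₂ hw₂ hw₂u
  have h3 := hind (α₁ - α₂) β₁ (-β₂) (by
    have : α₁ • u + β₁ • w₁ = α₂ • u + β₂ • w₂ := by rw [← e₁, ← e₂]
    have h4 : (α₁ - α₂) • u + β₁ • w₁ + (-β₂) • w₂
        = (α₁ • u + β₁ • w₁) - (α₂ • u + β₂ • w₂) := by module
    rw [h4, this, sub_self])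
  refine ⟨α₁, ?_⟩
  rw [e₁, h3.2.1, zero_smul, add_zero]

/-- an isometry commuting with all Eichler transformations is a scalar `a` with `a² = 1` -/
theorem scalar_of_commute_eichler (hQ : (QuadraticMap.polarBilin Q).Nondegenerate)
    (h5 : 4 < Fintype.card ι) {u₀ : ι → F} (hu₀0 : u₀ ≠ 0) (hu₀ : Q u₀ = 0)
    (z : Cfsg.isometryGroup F ⇑Q)
    (hz : ∀ u w : ι → F, Q u = 0 → polar ⇑Q u w = 0 →
      z * eichlerO Q u w = eichlerO Q u w * z) :
    ∃ a : F, a * a = 1 ∧ ∀ x, lin Q z x = a • x := by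
  have hfix : ∀ p : SingPt Q, z • p = p := by
    intro p
    obtain ⟨v, hv0, hv, rfl⟩ := exists_sp Q p
    obtain ⟨h0, h1, e⟩ := smul_sp Q ⊤ ⟨z, Subgroup.mem_top z⟩ v hv0 hv
    have e' : z • sp Q v hv0 hv = sp Q (lin Q z v) h0 h1 := e
    rw [e']
    obtain ⟨a, ha⟩ := smul_of_commute_eichler hQ (by omega) hv0 hv z (fun w hw => hz v w hv hw)
    exact sp_eq_sp_of_smul Q hv0 hv h0 h1 ha
  obtain ⟨a, ha⟩ := exists_scalar_of_fixes Q hQ h5 hu₀0 hu₀ z hfix
  refine ⟨a, ?_, ha⟩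
  obtain ⟨y, hy⟩ := exists_polar_ne_zero Q hQ hu₀0
  have h1 := polar_lin Q z u₀ y
  rw [ha, ha, QuadraticMap.polar_smul_left, QuadraticMap.polar_smul_right] at h1
  simp only [smul_eq_mul] at h1
  have h2 : (a * a - 1) * polar ⇑Q u₀ y = 0 := by linear_combination h1
  have := (mul_eq_zero.1 h2).resolve_right hy
  linear_combination this


theorem HypTriple.e_ne_zero (T : HypTriple Q) (i : Fin 3) : T.e i ≠ 0 := by
  intro h
  have := T.ef i i
  rw [h, QuadraticMap.polar_zero_left] at this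
  simp at this

theorem HypTriple.f_ne_zero (T : HypTriple Q) (i : Fin 3) : T.f i ≠ 0 := by
  intro h
  have := T.ef i i
  rw [h, QuadraticMap.polar_zero_right] at this
  simp at this

theorem HypTriple.fe (T : HypTriple Q) (i j : Fin 3) :
    polar ⇑Q (T.f i) (T.e j) = if i = j then 1 else 0 := by
  rw [QuadraticMap.polar_comm, T.ef]
  by_cases h : i = j
  · rw [if_pos h, if_pos h.symm]
  · rw [if_neg h, if_neg (fun h' => h h'.symm)]

section fin

variable [Fintype F]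

/-- Eichler transformation as an element of `Ω(Q)` -/
noncomputable def eO (C : Ctx Q) (u w : ι → F) : ↥(Cfsg.Omega F ⇑Q) :=
  ⟨eichlerO Q u w, eichlerO_mem_Omega Q C.hQ (by have := C.hn; omega) u w⟩

theorem eO_val (C : Ctx Q) (u w : ι → F) : (eO C u w).1 = eichlerO Q u w := rfl

end fin

/-- the projection `Ω(Q) → PΩ(Q)` -/
def prj : ↥(Cfsg.Omega F ⇑Q) →* Cfsg.POmega F ⇑Q := QuotientGroup.mk' _

theorem prj_apply (g : ↥(Cfsg.Omega F ⇑Q)) :
    prj g = (QuotientGroup.mk g : Cfsg.POmega F ⇑Q) := rfl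

theorem prj_surjective : Function.Surjective (prj : ↥(Cfsg.Omega F ⇑Q) →* Cfsg.POmega F ⇑Q) :=
  QuotientGroup.mk'_surjective _

theorem prj_eq_iff {g h : ↥(Cfsg.Omega F ⇑Q)} :
    prj g = prj h ↔ g⁻¹ * h ∈ Subgroup.center ↥(Cfsg.Omega F ⇑Q) := by
  rw [prj_apply, prj_apply]
  exact QuotientGroup.eq

theorem prj_eq_one_iff {g : ↥(Cfsg.Omega F ⇑Q)} :
    prj g = 1 ↔ g ∈ Subgroup.center ↥(Cfsg.Omega F ⇑Q) := by
  rw [prj_apply]
  exact QuotientGroup.eq_one_iff g

theorem lin_val_mul (g h : ↥(Cfsg.Omega F ⇑Q)) (x : ι → F) :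
    lin Q (g * h).1 x = lin Q g.1 (lin Q h.1 x) := by
  rw [Subgroup.coe_mul, lin_mul_apply]

theorem lin_val_inv_of_fix {g : ↥(Cfsg.Omega F ⇑Q)} {v : ι → F} (h : lin Q g.1 v = v) :
    lin Q (g⁻¹).1 v = v := by
  rw [Subgroup.coe_inv]
  conv_lhs => rw [← h]
  exact lin_inv_apply Q g.1 v

theorem omega_ext {g h : ↥(Cfsg.Omega F ⇑Q)} (H : ∀ x, lin Q g.1 x = lin Q h.1 x) : g = h :=
  Subtype.ext (isom_ext Q H)

section fin

variable [Fintype F]

/-- central elements of `Ω(Q)` are scalars `a` with `a² = 1` -/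
theorem center_scalar (C : Ctx Q) (T : HypTriple Q) {z : ↥(Cfsg.Omega F ⇑Q)}
    (hz : z ∈ Subgroup.center ↥(Cfsg.Omega F ⇑Q)) :
    ∃ a : F, a * a = 1 ∧ ∀ x, lin Q z.1 x = a • x := by
  apply scalar_of_commute_eichler C.hQ (by have := C.hn; omega) (HypTriple.e_ne_zero T 0) (T.Qe 0)
  intro u w hu huw
  have h1 := (Subgroup.mem_center_iff.1 hz) (eO C u w)
  have h2 := congrArg Subtype.val h1
  rw [Subgroup.coe_mul, Subgroup.coe_mul, eO_val] at h2
  exact h2.symm

/-- two elements of `Ω(Q)` with the same image in `PΩ(Q)` and a common non-zero fixed vector are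
equal -/
theorem eq_of_prj_eq_of_fix (C : Ctx Q) (T : HypTriple Q) {g h : ↥(Cfsg.Omega F ⇑Q)}
    (hgh : prj g = prj h) {v : ι → F} (hv : v ≠ 0) (hg : lin Q g.1 v = v)
    (hh : lin Q h.1 v = v) : g = h := by
  obtain ⟨a, -, ha⟩ := center_scalar C T (prj_eq_iff.1 hgh)
  have h1 : lin Q (g⁻¹ * h).1 v = v := by
    rw [lin_val_mul, hh, lin_val_inv_of_fix hg]
  rw [ha] at h1
  have h2 : (a - 1) • v = 0 := by rw [sub_smul, h1, one_smul, sub_self]
  have ha1 : a = 1 := by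
    rcases smul_eq_zero.1 h2 with h3 | h3
    · exact sub_eq_zero.1 h3
    · exact absurd h3 hv
  have h3 : g⁻¹ * h = 1 := by
    apply omega_ext
    intro x
    rw [ha, ha1, one_smul]
    exact (lin_one_apply Q x).symm
  exact (inv_mul_eq_one.1 h3)

end fin

end Cfsg.Agent.Helper5.AutO
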