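import Mathlib
import Cfsg.Agent.Helper5.AutOB
import Cfsg.Agent.Helper14.AutSylow3

/-!
# Automorphisms of `PΩ(Q)`, part C: the centres of the Sylow `p`-subgroups are the long root groups
-/

set_option autoImplicit false
set_option linter.unusedSectionVars false
set_option linter.unusedVariables false
set_option linter.unusedSimpArgs false
set_option linter.style.haveILetI false

namespace Cfsg.Agent.Helper5.AutO

open Matrix QuadraticMap Module MulAction Cfsg.Agent.Helper44 Cfsg.Agent.Helper45.OmegaParity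
open Cfsg.Agent.Helper14.AutPSL

variable {F : Type*} [Field F] {ι : Type} [Fintype ι] [DecidableEq ι]
variable {Q : QuadraticForm F (ι → F)}

/-- the unipotent group attached to the singular line `⟨a, b⟩` -/
def UL (Q : QuadraticForm F (ι → F)) (a b : ι → F) : Subgroup ↥(Cfsg.Omega F ⇑Q) where
  carrier := {g | lin Q g.1 a = a ∧ lin Q g.1 b = b ∧
    ∀ x, polar ⇑Q a x = 0 → polar ⇑Q b x = 0 → ∃ α β : F, lin Q g.1 x - x = α • a + β • b}
  one_mem' := by
    refine ⟨lin_one_apply Q a, lin_one_apply Q b, fun x _ _ => ⟨0, 0, ?_⟩⟩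
    rw [Subgroup.coe_one, lin_one_apply]
    simp
  mul_mem' := by
    rintro g h ⟨ga, gb, gx⟩ ⟨ha, hb, hx⟩
    refine ⟨by rw [lin_val_mul, ha, ga], by rw [lin_val_mul, hb, gb], fun x h1 h2 => ?_⟩
    obtain ⟨α, β, e⟩ := hx x h1 h2
    obtain ⟨α', β', e'⟩ := gx x h1 h2
    refine ⟨α + α', β + β', ?_⟩
    have e1 : lin Q h.1 x = x + (α • a + β • b) := by rw [← e]; abel
    rw [lin_val_mul, e1, map_add, map_add, map_smul, map_smul, ga, gb]
    have e2 : lin Q g.1 x = x + (α' • a + β' • b) := by rw [← e']; abel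
    rw [e2]
    module
  inv_mem' := by
    rintro g ⟨ga, gb, gx⟩
    refine ⟨lin_val_inv_of_fix ga, lin_val_inv_of_fix gb, fun x h1 h2 => ?_⟩
    obtain ⟨α, β, e⟩ := gx x h1 h2
    refine ⟨-α, -β, ?_⟩
    have e1 : lin Q g.1 x = x + (α • a + β • b) := by rw [← e]; abel
    have e2 : lin Q (g⁻¹).1 (lin Q g.1 x) = x := by
      rw [Subgroup.coe_inv]
      exact lin_inv_apply Q g.1 x
    rw [e1, map_add, map_add, map_smul, map_smul, lin_val_inv_of_fix ga,
      lin_val_inv_of_fix gb] at e2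
    have e3 : lin Q (g⁻¹).1 x = x - (α • a + β • b) := eq_sub_of_add_eq e2
    rw [e3]
    module

theorem mem_UL {a b : ι → F} {g : ↥(Cfsg.Omega F ⇑Q)} :
    g ∈ UL Q a b ↔ lin Q g.1 a = a ∧ lin Q g.1 b = b ∧
      ∀ x, polar ⇑Q a x = 0 → polar ⇑Q b x = 0 →
        ∃ α β : F, lin Q g.1 x - x = α • a + β • b := Iff.rfl

theorem lin_pow (g : Cfsg.isometryGroup F ⇑Q) (n : ℕ) : lin Q (g ^ n) = (lin Q g) ^ n := by
  induction n with
  | zero => rw [pow_zero, pow_zero, lin_one]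
  | succ k ih => rw [pow_succ, pow_succ, lin_mul, ih]

theorem pow_eq_one_of_cube [Nonempty ι]
    (p : ℕ) [hp : Fact p.Prime] [CharP F p] (f : Module.End F (ι → F)) (h : (f - 1) ^ 3 = 0) :
    f ^ (p ^ 2) = 1 := by
  haveI : CharP (Module.End F (ι → F)) p :=
    charP_of_injective_algebraMap (algebraMap F (Module.End F (ι → F))).injective p
  have h1 : f = 1 + (f - 1) := by abel
  have h2 : (f - 1) ^ (p ^ 2) = 0 := by
    have h3 : 3 ≤ p ^ 2 := by
      have := hp.out.two_le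
      nlinarith
    obtain ⟨k, hk⟩ := Nat.exists_eq_add_of_le h3
    rw [hk, pow_add, h, zero_mul]
  conv_lhs => rw [h1]
  rw [add_pow_char_pow_of_commute p 2 (Commute.one_left _), one_pow, h2, add_zero]

/-- `U_L` is a `p`-group -/
theorem isPGroup_UL [Nonempty ι] {p : ℕ} [hp : Fact p.Prime] [CharP F p] (a b : ι → F) :
    IsPGroup p (UL Q a b) := by
  rintro ⟨g, ga, gb, gx⟩
  refine ⟨2, ?_⟩
  apply Subtype.ext
  rw [Subgroup.coe_pow, Subgroup.coe_one]
  show g ^ (p ^ 2) = 1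
  apply omega_ext
  intro x
  rw [Subgroup.coe_pow, lin_pow, Subgroup.coe_one, lin_one_apply]
  have hN : (lin Q g.1 - 1) ^ 3 = 0 := by
    apply LinearMap.ext
    intro y
    have hN1 : ∀ v, (lin Q g.1 - 1) v = lin Q g.1 v - v := fun v => rfl
    have h1 : polar ⇑Q a (lin Q g.1 y - y) = 0 := by
      rw [QuadraticMap.polar_sub_right]
      conv_lhs => rw [← ga]
      rw [polar_lin, ga, sub_self]
    have h2 : polar ⇑Q b (lin Q g.1 y - y) = 0 := by
      rw [QuadraticMap.polar_sub_right]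
      conv_lhs => rw [← gb]
      rw [polar_lin, gb, sub_self]
    obtain ⟨α, β, e⟩ := gx _ h1 h2
    rw [pow_succ, pow_succ, pow_one, Module.End.mul_apply, Module.End.mul_apply, hN1 y,
      hN1 (lin Q g.1 y - y), e, LinearMap.zero_apply, hN1, map_add, map_smul, map_smul, ga, gb,
      sub_self]
  have := pow_eq_one_of_cube p (lin Q g.1) hN
  rw [this]
  rfl

section fin

variable [Fintype F]

theorem eO_mem_UL_left (C : Ctx Q) {a b w : ι → F} (h : IsSingLine Q a b)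
    (hwa : polar ⇑Q a w = 0) (hwb : polar ⇑Q b w = 0) : eO C a w ∈ UL Q a b := by
  refine ⟨?_, ?_, fun x h1 h2 => ⟨polar ⇑Q w x, 0, ?_⟩⟩
  · rw [eO_val]
    exact lin_eichlerO_self Q h.Qp hwa
  · rw [eO_val]
    exact eichlerO_fix Q h.Qp hwa h.polar_eq (by rw [QuadraticMap.polar_comm]; exact hwb)
  · rw [eO_val, eichlerO_apply_of_perp Q h.Qp hwa h1]
    module

theorem eO_mem_UL_right (C : Ctx Q) {a b w : ι → F} (h : IsSingLine Q a b)
    (hwa : polar ⇑Q a w = 0) (hwb : polar ⇑Q b w = 0) : eO C b w ∈ UL Q a b := by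
  refine ⟨?_, ?_, fun x h1 h2 => ⟨0, polar ⇑Q w x, ?_⟩⟩
  · rw [eO_val]
    exact eichlerO_fix Q h.Qr hwb h.polar_eq' (by rw [QuadraticMap.polar_comm]; exact hwa)
  · rw [eO_val]
    exact lin_eichlerO_self Q h.Qr hwb
  · rw [eO_val, eichlerO_apply_of_perp Q h.Qr hwb h2]
    module

end fin


/-- a third vector in `L^⊥` independent of `a, b` -/
theorem exists_third (hQ : (QuadraticMap.polarBilin Q).Nondegenerate)
    (h5 : 5 ≤ Fintype.card ι) {a b : ι → F} (h : IsSingLine Q a b) :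
    ∃ w₀ : ι → F, polar ⇑Q a w₀ = 0 ∧ polar ⇑Q b w₀ = 0 ∧
      ∀ α β γ : F, α • a + β • b + γ • w₀ = 0 → α = 0 ∧ β = 0 ∧ γ = 0 := by
  obtain ⟨a', b', haa', hba', hab', hbb'⟩ := h.exists_dual hQ
  obtain ⟨w₀, hw₀0, hw₀⟩ := exists_ne_zero_orth Q (![a, b, a', b'] : Fin 4 → (ι → F)) (by omega)
  have c1 : polar ⇑Q w₀ a = 0 := hw₀ 0
  have c2 : polar ⇑Q w₀ b = 0 := hw₀ 1
  have c3 : polar ⇑Q w₀ a' = 0 := hw₀ 2
  have c4 : polar ⇑Q w₀ b' = 0 := hw₀ 3
  refine ⟨w₀, by rw [QuadraticMap.polar_comm]; exact c1, by rw [QuadraticMap.polar_comm]; exact c2,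
    ?_⟩
  intro α β γ habc
  have e1 : polar ⇑Q (α • a + β • b + γ • w₀) a' = 0 := by
    rw [habc, QuadraticMap.polar_zero_left]
  rw [QuadraticMap.polar_add_left, QuadraticMap.polar_add_left, QuadraticMap.polar_smul_left,
    QuadraticMap.polar_smul_left, QuadraticMap.polar_smul_left, haa', hba', c3] at e1
  simp only [smul_eq_mul, mul_zero, add_zero, mul_one] at e1
  have e2 : polar ⇑Q (α • a + β • b + γ • w₀) b' = 0 := by
    rw [habc, QuadraticMap.polar_zero_left]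
  rw [QuadraticMap.polar_add_left, QuadraticMap.polar_add_left, QuadraticMap.polar_smul_left,
    QuadraticMap.polar_smul_left, QuadraticMap.polar_smul_left, hab', hbb', c4] at e2
  simp only [smul_eq_mul, mul_zero, add_zero, mul_one, zero_add] at e2
  subst e1 e2
  rw [zero_smul, zero_smul, zero_add, zero_add] at habc
  exact ⟨rfl, rfl, (smul_eq_zero.1 habc).resolve_right hw₀0⟩

/-- an isometry commuting with `E(u, w₁)` and `E(u, w₂)` (`u, w₁, w₂` independent) stabilises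
`⟨u⟩` -/
theorem smul_of_commute_two (hQ : (QuadraticMap.polarBilin Q).Nondegenerate)
    {u w₁ w₂ : ι → F} (hu : Q u = 0) (hw₁ : polar ⇑Q u w₁ = 0) (hw₂ : polar ⇑Q u w₂ = 0)
    (hind : ∀ a b c : F, a • u + b • w₁ + c • w₂ = 0 → a = 0 ∧ b = 0 ∧ c = 0)
    (z : Cfsg.isometryGroup F ⇑Q)
    (hz₁ : z * eichlerO Q u w₁ = eichlerO Q u w₁ * z)
    (hz₂ : z * eichlerO Q u w₂ = eichlerO Q u w₂ * z) :
    ∃ a : F, lin Q z u = a • u := by
  have hu0 : u ≠ 0 := by
    intro h0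
    have := (hind 1 0 0 (by rw [h0]; simp)).1
    exact one_ne_zero this
  have hzu : Q (lin Q z u) = 0 := by rw [lin_isometry, hu]
  have key : ∀ w : ι → F, polar ⇑Q u w = 0 → (∀ a : F, w ≠ a • u) →
      z * eichlerO Q u w = eichlerO Q u w * z →
      ∃ α β : F, lin Q z u = α • u + β • w := by
    intro w hw hwu hzw'
    have h1 : eichlerO Q (lin Q z u) (lin Q z w) = eichlerO Q u w := by
      rw [← eichlerO_conj Q z hu hw, hzw']
      group
    have hzw : polar ⇑Q (lin Q z u) (lin Q z w) = 0 := by rw [polar_lin, hw]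
    have hzu0 : lin Q z u ≠ 0 := by
      intro h0
      apply hu0
      have := lin_inv_apply Q z u
      rw [h0, map_zero] at this
      exact this.symm
    have hzwu : ∀ a : F, lin Q z w ≠ a • lin Q z u := by
      intro a h0
      apply hwu a
      have := lin_inv_apply Q z w
      rw [h0, map_smul, lin_inv_apply] at this
      exact this.symm
    exact (eichlerO_eq_span hQ hzu hzw hu hw hzu0 hzwu h1).1
  have hw₁u : ∀ a : F, w₁ ≠ a • u := by
    intro a h0
    have := (hind (-a) 1 0 (by rw [h0]; module)).2.1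
    exact one_ne_zero this
  have hw₂u : ∀ a : F, w₂ ≠ a • u := by
    intro a h0
    have := (hind (-a) 0 1 (by rw [h0]; module)).2.2
    exact one_ne_zero this
  obtain ⟨α₁, β₁, e₁⟩ := key w₁ hw₁ hw₁u hz₁
  obtain ⟨α₂, β₂, e₂⟩ := key w₂ hw₂ hw₂u hz₂
  have h3 := hind (α₁ - α₂) β₁ (-β₂) (by
    have : α₁ • u + β₁ • w₁ = α₂ • u + β₂ • w₂ := by rw [← e₁, ← e₂]
    have h4 : (α₁ - α₂) • u + β₁ • w₁ + (-β₂) • w₂
        = (α₁ • u + β₁ • w₁) - (α₂ • u + β₂ • w₂) := by module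
    rw [h4, this, sub_self])
  refine ⟨α₁, ?_⟩
  rw [e₁, h3.2.1, zero_smul, add_zero]

theorem lin_pow_smul {z : Cfsg.isometryGroup F ⇑Q} {v : ι → F} {l : F} (h : lin Q z v = l • v)
    (n : ℕ) : lin Q (z ^ n) v = l ^ n • v := by
  induction n with
  | zero => rw [pow_zero, pow_zero, lin_one_apply, one_smul]
  | succ k ih => rw [pow_succ, lin_mul_apply, h, map_smul, ih, smul_smul, pow_succ, mul_comm]

theorem eq_one_of_pow_char_pow {p : ℕ} [hp : Fact p.Prime] [CharP F p] {l : F} {k : ℕ}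
    (h : l ^ (p ^ k) = 1) : l = 1 := by
  have h1 : (l - 1) ^ (p ^ k) = 0 := by
    rw [sub_pow_char_pow, h, one_pow, sub_self]
  exact sub_eq_zero.1 (pow_eq_zero_iff (pow_pos hp.out.pos k).ne' |>.1 h1)

/-- **(★)** a `p`-element commuting with all `E(a, w)`, `E(b, w)`, `w ∈ ⟨a, b⟩^⊥`, is a Siegel
transformation of the line `⟨a, b⟩` -/
theorem eq_siegel_of_commute (hQ : (QuadraticMap.polarBilin Q).Nondegenerate)
    (h5 : 5 ≤ Fintype.card ι) {p : ℕ} [hp : Fact p.Prime] [CharP F p] {a b : ι → F}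
    (h : IsSingLine Q a b) (z : Cfsg.isometryGroup F ⇑Q)
    (hza : ∀ w, polar ⇑Q a w = 0 → polar ⇑Q b w = 0 →
      z * eichlerO Q a w = eichlerO Q a w * z)
    (hzb : ∀ w, polar ⇑Q a w = 0 → polar ⇑Q b w = 0 →
      z * eichlerO Q b w = eichlerO Q b w * z)
    (hzp : ∃ k : ℕ, z ^ (p ^ k) = 1) : ∃ c : F, z = eichlerO Q a (c • b) := by
  obtain ⟨w₀, hw₀a, hw₀b, hind⟩ := exists_third hQ h5 h
  have haa : polar ⇑Q a a = 0 := polar_self_of_singular Q h.Qp
  have hbb : polar ⇑Q b b = 0 := polar_self_of_singular Q h.Qr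
  obtain ⟨l, hl⟩ := smul_of_commute_two hQ h.Qp h.polar_eq hw₀a hind z
    (hza b h.polar_eq hbb) (hza w₀ hw₀a hw₀b)
  obtain ⟨μ, hμ⟩ := smul_of_commute_two hQ h.Qr h.polar_eq' hw₀b (by
      intro α β γ hh
      have := hind β α γ (by rw [← hh]; module)
      exact ⟨this.2.1, this.1, this.2.2⟩) z
    (hzb a haa h.polar_eq') (hzb w₀ hw₀a hw₀b)
  have hne : ∀ {v : ι → F} {t : F}, v ≠ 0 → lin Q z v = t • v → t ≠ 0 := by
    intro v t hv ht h0
    apply hv
    have := lin_inv_apply Q z v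
    rw [ht, h0, zero_smul, map_zero] at this
    exact this.symm
  have hl0 : l ≠ 0 := hne h.p_ne hl
  have hμ0 : μ ≠ 0 := hne h.r_ne hμ
  -- the action on `L^⊥`
  have keyA : ∀ {u : ι → F} {t : F}, u ≠ 0 → Q u = 0 → t ≠ 0 → lin Q z u = t • u →
      ∀ w, polar ⇑Q u w = 0 → z * eichlerO Q u w = eichlerO Q u w * z →
      ∃ c : F, lin Q z w = t⁻¹ • w + c • u := by
    intro u t hu0 hu ht hzu w hw hcomm
    have h1 : eichlerO Q (lin Q z u) (lin Q z w) = eichlerO Q u w := by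
      rw [← eichlerO_conj Q z hu hw, hcomm]
      group
    have h2 : polar ⇑Q u (lin Q z w) = 0 := by
      have h3 : polar ⇑Q (lin Q z u) (lin Q z w) = 0 := by rw [polar_lin, hw]
      rw [hzu, QuadraticMap.polar_smul_left, smul_eq_mul] at h3
      exact (mul_eq_zero.1 h3).resolve_left ht
    rw [hzu, eichlerO_smul_left Q hu h2] at h1
    have h4 : polar ⇑Q u (t • lin Q z w) = 0 := by
      rw [QuadraticMap.polar_smul_right, h2, smul_zero]
    obtain ⟨c, hc⟩ := eichlerO_inj hQ hu0 hu hw h4 h1.symm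
    refine ⟨t⁻¹ * c, ?_⟩
    calc lin Q z w = t⁻¹ • (t • lin Q z w) := by rw [smul_smul, inv_mul_cancel₀ ht, one_smul]
      _ = _ := by rw [hc, smul_add, smul_smul]
  obtain ⟨c₀, e₀⟩ := keyA h.p_ne h.Qp hl0 hl w₀ hw₀a (hza w₀ hw₀a hw₀b)
  obtain ⟨c₀', e₀'⟩ := keyA h.r_ne h.Qr hμ0 hμ w₀ hw₀b (hzb w₀ hw₀a hw₀b)
  have hlm : l⁻¹ = μ⁻¹ := by
    have := hind c₀ (-c₀') (l⁻¹ - μ⁻¹) (by
      have e : l⁻¹ • w₀ + c₀ • a = μ⁻¹ • w₀ + c₀' • b := by rw [← e₀, ← e₀']
      have e' : c₀ • a + (-c₀') • b + (l⁻¹ - μ⁻¹) • w₀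
          = (l⁻¹ • w₀ + c₀ • a) - (μ⁻¹ • w₀ + c₀' • b) := by module
      rw [e', e, sub_self])
    exact sub_eq_zero.1 this.2.2
  have hfix0 : ∀ w, polar ⇑Q a w = 0 → polar ⇑Q b w = 0 → lin Q z w = l⁻¹ • w := by
    intro w hwa hwb
    obtain ⟨c, e⟩ := keyA h.p_ne h.Qp hl0 hl w hwa (hza w hwa hwb)
    obtain ⟨c', e'⟩ := keyA h.r_ne h.Qr hμ0 hμ w hwb (hzb w hwa hwb)
    have := h.indep c (-c') (by
      have e1 : l⁻¹ • w + c • a = l⁻¹ • w + c' • b := by rw [← e, hlm, ← e']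
      have e2 : c • a + (-c') • b = (l⁻¹ • w + c • a) - (l⁻¹ • w + c' • b) := by module
      rw [e2, e1, sub_self])
    rw [e, this.1, zero_smul, add_zero]
  -- `l = 1`
  obtain ⟨k, hk⟩ := hzp
  have hl1 : l = 1 := by
    have h1 := lin_pow_smul hl (p ^ k)
    rw [hk, lin_one_apply] at h1
    have h2 : (l ^ (p ^ k) - 1) • a = 0 := by rw [sub_smul, ← h1, one_smul, sub_self]
    have h3 : l ^ (p ^ k) = 1 := by
      rcases smul_eq_zero.1 h2 with h4 | h4
      · exact sub_eq_zero.1 h4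
      · exact absurd h4 h.p_ne
    exact eq_one_of_pow_char_pow h3
  apply (h.fix_iff hQ z).1
  intro v hva hvb
  rw [hfix0 v (by rw [QuadraticMap.polar_comm]; exact hva)
    (by rw [QuadraticMap.polar_comm]; exact hvb), hl1, inv_one, one_smul]

/-- an isometry commuting with one non-trivial element of a Siegel group commutes with all of
them -/
theorem commute_siegel_all (hQ : (QuadraticMap.polarBilin Q).Nondegenerate) {a b : ι → F}
    (h : IsSingLine Q a b) {c : F} (hc : c ≠ 0) (u : Cfsg.isometryGroup F ⇑Q)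
    (hu : u * eichlerO Q a (c • b) = eichlerO Q a (c • b) * u) (c' : F) :
    u * eichlerO Q a (c' • b) = eichlerO Q a (c' • b) * u := by
  have hpol : ∀ t : F, polar ⇑Q a (t • b) = 0 := by
    intro t
    rw [QuadraticMap.polar_smul_right, h.polar_eq, smul_zero]
  have h1 : eichlerO Q (lin Q u a) (lin Q u (c • b)) = eichlerO Q a (c • b) := by
    rw [← eichlerO_conj Q u h.Qp (hpol c), hu]
    group
  have hL := h.map u
  have hua0 : lin Q u a ≠ 0 := hL.p_ne
  have hind : ∀ t : F, lin Q u (c • b) ≠ t • lin Q u a := by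
    intro t h0
    rw [map_smul] at h0
    have := (hL.indep (-t) c (by rw [h0]; module)).2
    exact hc this
  obtain ⟨⟨α, β, e1⟩, ⟨γ, δ, e2⟩⟩ := eichlerO_eq_span hQ hL.Qp (by rw [polar_lin]; exact hpol c)
    h.Qp (hpol c) hua0 hind h1
  -- rewrite in terms of `a, b`
  have e1' : lin Q u a = α • a + (β * c) • b := by rw [e1, smul_smul]
  have e2' : lin Q u b = (c⁻¹ * γ) • a + δ • b := by
    have : lin Q u b = c⁻¹ • lin Q u (c • b) := by
      rw [map_smul, smul_smul, inv_mul_cancel₀ hc, one_smul]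
    rw [this, e2, smul_add, smul_smul, smul_smul, smul_smul]
    congr 2
    field_simp
  have hform : ∀ t : F, eichlerO Q (lin Q u a) (lin Q u (t • b))
      = eichlerO Q a ((t * (α * δ - β * c * (c⁻¹ * γ))) • b) := by
    intro t
    have e3 : lin Q u (t • b) = (t * (c⁻¹ * γ)) • a + (t * δ) • b := by
      rw [map_smul, e2', smul_add, smul_smul, smul_smul]
    rw [e1', e3, eichlerO_comb h]
    congr 2
    ring
  have hD : α * δ - β * c * (c⁻¹ * γ) = 1 := by
    have h2 := hform c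
    rw [h1] at h2
    have h3 := h.siegel_injective hQ h2
    have h4 : c * (α * δ - β * c * (c⁻¹ * γ) - 1) = 0 := by linear_combination -h3
    have := (mul_eq_zero.1 h4).resolve_left hc
    linear_combination this
  have h5 : u * eichlerO Q a (c' • b) * u⁻¹ = eichlerO Q a (c' • b) := by
    rw [eichlerO_conj Q u h.Qp (hpol c'), hform c', hD, mul_one]
  calc u * eichlerO Q a (c' • b) = (u * eichlerO Q a (c' • b) * u⁻¹) * u := by group
    _ = _ := by rw [h5]

end Cfsg.Agent.Helper5.AutO
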