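import Mathlib
import Cfsg.Agent.Helper5.AutOC

/-!
# Automorphisms of `PΩ(Q)`, part D: Sylow centres in `Ω(Q)` and `PΩ(Q)`
-/

set_option autoImplicit false
set_option linter.unusedSectionVars false
set_option linter.unusedVariables false
set_option linter.unusedSimpArgs false
set_option linter.style.haveILetI false

namespace Cfsg.Agent.Helper5.AutO

open Matrix QuadraticMap Module MulAction Cfsg.Agent.Helper44 Cfsg.Agent.Helper45.OmegaParity
open Cfsg.Agent.Helper14.AutPSL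
open scoped Pointwise

variable {F : Type*} [Field F] [Fintype F] {ι : Type} [Fintype ι] [DecidableEq ι]
variable {Q : QuadraticForm F (ι → F)}

theorem Ctx.nonempty (C : Ctx Q) : Nonempty ι := by
  have := C.hn
  exact Fintype.card_pos_iff.1 (by omega)

theorem eO_mul (C : Ctx Q) {u w₁ w₂ : ι → F} (hu : Q u = 0) (h₁ : polar ⇑Q u w₁ = 0)
    (h₂ : polar ⇑Q u w₂ = 0) : eO C u w₁ * eO C u w₂ = eO C u (w₁ + w₂) :=
  Subtype.ext (eichlerO_mul Q hu h₁ h₂)

theorem eO_conj (C : Ctx Q) (g : ↥(Cfsg.Omega F ⇑Q)) {u w : ι → F} (hu : Q u = 0)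
    (huw : polar ⇑Q u w = 0) : g * eO C u w * g⁻¹ = eO C (lin Q g.1 u) (lin Q g.1 w) :=
  Subtype.ext (eichlerO_conj Q g.1 hu huw)

theorem eO_eq_one_of_eq (C : Ctx Q) {u w : ι → F} (h : eichlerO Q u w = 1) : eO C u w = 1 :=
  Subtype.ext h

theorem siegel_polar {a b : ι → F} (h : IsSingLine Q a b) (c : F) : polar ⇑Q a (c • b) = 0 := by
  rw [QuadraticMap.polar_smul_right, h.polar_eq, smul_zero]

/-- **Sylow centres in `Ω`**: for a Sylow `p`-subgroup containing `U_L`, the centre is the Siegel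
group of `L` -/
theorem center_sylow_of_UL_le (C : Ctx Q) {p : ℕ} [hp : Fact p.Prime] [CharP F p]
    {a b : ι → F} (h : IsSingLine Q a b) (P : Sylow p ↥(Cfsg.Omega F ⇑Q))
    (hP : UL Q a b ≤ (P : Subgroup ↥(Cfsg.Omega F ⇑Q))) (z : ↥(Cfsg.Omega F ⇑Q)) :
    (z ∈ (P : Subgroup ↥(Cfsg.Omega F ⇑Q)) ∧ ∀ u ∈ (P : Subgroup ↥(Cfsg.Omega F ⇑Q)),
      u * z = z * u) ↔ ∃ c : F, z = eO C a (c • b) := by
  have h5 : 5 ≤ Fintype.card ι := by have := C.hn; omega
  have hbb : polar ⇑Q b b = 0 := polar_self_of_singular Q h.Qr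
  -- direction 1
  have dir1 : ∀ z : ↥(Cfsg.Omega F ⇑Q), z ∈ (P : Subgroup ↥(Cfsg.Omega F ⇑Q)) →
      (∀ u ∈ (P : Subgroup ↥(Cfsg.Omega F ⇑Q)), u * z = z * u) → ∃ c : F, z = eO C a (c • b) := by
    intro z hzP hzc
    have hA : ∀ w, polar ⇑Q a w = 0 → polar ⇑Q b w = 0 →
        z.1 * eichlerO Q a w = eichlerO Q a w * z.1 := by
      intro w hwa hwb
      have := hzc _ (hP (eO_mem_UL_left C h hwa hwb))
      have h2 := congrArg Subtype.val this
      rw [Subgroup.coe_mul, Subgroup.coe_mul, eO_val] at h2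
      exact h2.symm
    have hB : ∀ w, polar ⇑Q a w = 0 → polar ⇑Q b w = 0 →
        z.1 * eichlerO Q b w = eichlerO Q b w * z.1 := by
      intro w hwa hwb
      have := hzc _ (hP (eO_mem_UL_right C h hwa hwb))
      have h2 := congrArg Subtype.val this
      rw [Subgroup.coe_mul, Subgroup.coe_mul, eO_val] at h2
      exact h2.symm
    have hpk : ∃ k : ℕ, z.1 ^ (p ^ k) = 1 := by
      obtain ⟨k, hk⟩ := P.isPGroup' ⟨z, hzP⟩
      refine ⟨k, ?_⟩
      have h1 := congrArg Subtype.val hk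
      rw [Subgroup.coe_pow, Subgroup.coe_one] at h1
      have h2 := congrArg Subtype.val h1
      rw [Subgroup.coe_pow, Subgroup.coe_one] at h2
      exact h2
    obtain ⟨c, hc⟩ := eq_siegel_of_commute C.hQ h5 (p := p) h z.1 hA hB hpk
    exact ⟨c, Subtype.ext hc⟩
  constructor
  · rintro ⟨hzP, hzc⟩
    exact dir1 z hzP hzc
  · rintro ⟨c, rfl⟩
    have hmem : ∀ t : F, eO C a (t • b) ∈ (P : Subgroup ↥(Cfsg.Omega F ⇑Q)) := by
      intro t
      apply hP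
      apply eO_mem_UL_left C h (siegel_polar h t)
      rw [QuadraticMap.polar_smul_right, hbb, smul_zero]
    refine ⟨hmem c, ?_⟩
    -- a non-trivial central element
    haveI : Nontrivial ↥(P : Subgroup ↥(Cfsg.Omega F ⇑Q)) := by
      refine ⟨⟨⟨eO C a ((1 : F) • b), hmem 1⟩, 1, ?_⟩⟩
      intro h0
      have h1 : eO C a ((1 : F) • b) = 1 := congrArg Subtype.val h0
      have h2 : eichlerO Q a ((1 : F) • b) = eichlerO Q a ((0 : F) • b) := by
        have := congrArg Subtype.val h1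
        rw [eO_val, Subgroup.coe_one] at this
        rw [this, zero_smul, eichlerO_zero]
      exact one_ne_zero (h.siegel_injective C.hQ h2)
    have hnt := IsPGroup.center_nontrivial (G := ↥(P : Subgroup ↥(Cfsg.Omega F ⇑Q))) P.isPGroup'
    obtain ⟨⟨z, hz⟩, hz1⟩ := exists_ne (1 : ↥(Subgroup.center ↥(P : Subgroup ↥(Cfsg.Omega F ⇑Q))))
    have hzc : ∀ u ∈ (P : Subgroup ↥(Cfsg.Omega F ⇑Q)), u * z.1 = z.1 * u := by
      intro u hu
      have := (Subgroup.mem_center_iff.1 hz) ⟨u, hu⟩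
      exact congrArg Subtype.val this
    obtain ⟨c₀, hc₀⟩ := dir1 z.1 z.2 hzc
    have hc₀0 : c₀ ≠ 0 := by
      rintro rfl
      apply hz1
      apply Subtype.ext
      apply Subtype.ext
      rw [hc₀]
      apply Subtype.ext
      rw [eO_val, zero_smul, eichlerO_zero]
      rfl
    intro u hu
    have h1 := hzc u hu
    rw [hc₀] at h1
    have h2 := congrArg Subtype.val h1
    rw [Subgroup.coe_mul, Subgroup.coe_mul, eO_val] at h2
    have h3 := commute_siegel_all C.hQ h hc₀0 u.1 h2 c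
    apply Subtype.ext
    rw [Subgroup.coe_mul, Subgroup.coe_mul, eO_val]
    exact h3


theorem HypTriple.line01 (T : HypTriple Q) : IsSingLine Q (T.e 0) (T.e 1) := by
  refine isSingLine_of ?_ (T.Qe 0) (T.Qe 1) (T.ee 0 1)
  intro s t hst
  have e1 : polar ⇑Q (s • T.e 0 + t • T.e 1) (T.f 0) = 0 := by
    rw [hst, QuadraticMap.polar_zero_left]
  have e2 : polar ⇑Q (s • T.e 0 + t • T.e 1) (T.f 1) = 0 := by
    rw [hst, QuadraticMap.polar_zero_left]
  rw [QuadraticMap.polar_add_left, QuadraticMap.polar_smul_left, QuadraticMap.polar_smul_left,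
    T.ef, T.ef] at e1 e2
  simp at e1 e2
  exact ⟨e1, e2⟩

/-- conjugates of `U_L` -/
theorem conj_mem_UL {a b : ι → F} (g h : ↥(Cfsg.Omega F ⇑Q)) (hh : h ∈ UL Q a b) :
    g * h * g⁻¹ ∈ UL Q (lin Q g.1 a) (lin Q g.1 b) := by
  obtain ⟨ha, hb, hx⟩ := hh
  have hginv : ∀ v, lin Q (g⁻¹).1 (lin Q g.1 v) = v := by
    intro v
    rw [Subgroup.coe_inv]
    exact lin_inv_apply Q g.1 v
  have hginv' : ∀ v, lin Q g.1 (lin Q (g⁻¹).1 v) = v := by
    intro v
    rw [Subgroup.coe_inv]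
    exact lin_apply_inv Q g.1 v
  refine ⟨?_, ?_, ?_⟩
  · rw [lin_val_mul, lin_val_mul, hginv, ha]
  · rw [lin_val_mul, lin_val_mul, hginv, hb]
  · intro x h1 h2
    have h1' : polar ⇑Q a (lin Q (g⁻¹).1 x) = 0 := by
      rw [← polar_lin Q g.1, hginv']
      exact h1
    have h2' : polar ⇑Q b (lin Q (g⁻¹).1 x) = 0 := by
      rw [← polar_lin Q g.1, hginv']
      exact h2
    obtain ⟨α, β, e⟩ := hx _ h1' h2'
    refine ⟨α, β, ?_⟩
    rw [lin_val_mul, lin_val_mul]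
    have e1 : lin Q h.1 (lin Q (g⁻¹).1 x) = lin Q (g⁻¹).1 x + (α • a + β • b) := by
      rw [← e]; abel
    rw [e1, map_add, hginv', map_add, map_smul, map_smul]
    abel

/-- every Sylow `p`-subgroup of `Ω` contains the unipotent group of a singular line -/
theorem exists_UL_le (C : Ctx Q) (T : HypTriple Q) {p : ℕ} [hp : Fact p.Prime] [CharP F p]
    (P : Sylow p ↥(Cfsg.Omega F ⇑Q)) :
    ∃ a b : ι → F, IsSingLine Q a b ∧ UL Q a b ≤ (P : Subgroup ↥(Cfsg.Omega F ⇑Q)) := by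
  haveI := C.nonempty
  obtain ⟨P₀, hP₀⟩ := IsPGroup.exists_le_sylow (isPGroup_UL (Q := Q) (p := p) (T.e 0) (T.e 1))
  obtain ⟨g, hg⟩ := MulAction.exists_smul_eq ↥(Cfsg.Omega F ⇑Q) P₀ P
  refine ⟨lin Q g.1 (T.e 0), lin Q g.1 (T.e 1), (HypTriple.line01 T).map g.1, ?_⟩
  intro h hh
  rw [← hg, Sylow.coe_subgroup_smul, Subgroup.mem_pointwise_smul_iff_inv_smul_mem]
  apply hP₀
  rw [MulAut.smul_def, MulAut.inv_apply, MulAut.conj_symm_apply]
  have h1 := conj_mem_UL g⁻¹ h hh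
  have e1 : ∀ v, lin Q (g⁻¹).1 (lin Q g.1 v) = v := by
    intro v
    rw [Subgroup.coe_inv]
    exact lin_inv_apply Q g.1 v
  rw [e1, e1, inv_inv] at h1
  exact h1

/-- central elements of `Ω` of `p`-power order are trivial -/
theorem eq_one_of_mem_center_of_pow (C : Ctx Q) (T : HypTriple Q) {p : ℕ} [hp : Fact p.Prime]
    [CharP F p] {s : ↥(Cfsg.Omega F ⇑Q)} (hs : s ∈ Subgroup.center ↥(Cfsg.Omega F ⇑Q)) {k : ℕ}
    (hk : s ^ (p ^ k) = 1) : s = 1 := by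
  obtain ⟨a, -, ha⟩ := center_scalar C T hs
  have h1 : s.1 ^ (p ^ k) = 1 := by
    have := congrArg Subtype.val hk
    rwa [Subgroup.coe_pow, Subgroup.coe_one] at this
  have h2 := lin_pow_smul (ha (T.e 0)) (p ^ k)
  rw [h1, lin_one_apply] at h2
  have h3 : (a ^ (p ^ k) - 1) • T.e 0 = 0 := by rw [sub_smul, ← h2, one_smul, sub_self]
  have h4 : a ^ (p ^ k) = 1 := by
    rcases smul_eq_zero.1 h3 with h5 | h5
    · exact sub_eq_zero.1 h5
    · exact absurd h5 (HypTriple.e_ne_zero T 0)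
  have ha1 : a = 1 := eq_one_of_pow_char_pow h4
  apply omega_ext
  intro x
  rw [ha, ha1, one_smul]
  exact (lin_one_apply Q x).symm

/-- centre of the image of a Sylow subgroup -/
theorem center_map_prj (C : Ctx Q) (T : HypTriple Q) {p : ℕ} [hp : Fact p.Prime] [CharP F p]
    (P : Sylow p ↥(Cfsg.Omega F ⇑Q)) (x : Cfsg.POmega F ⇑Q) :
    (x ∈ ((P.mapSurjective prj_surjective : Sylow p (Cfsg.POmega F ⇑Q)) :
        Subgroup (Cfsg.POmega F ⇑Q)) ∧
      ∀ u ∈ ((P.mapSurjective prj_surjective : Sylow p (Cfsg.POmega F ⇑Q)) :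
        Subgroup (Cfsg.POmega F ⇑Q)), u * x = x * u) ↔
    ∃ z : ↥(Cfsg.Omega F ⇑Q), z ∈ (P : Subgroup ↥(Cfsg.Omega F ⇑Q)) ∧
      (∀ u ∈ (P : Subgroup ↥(Cfsg.Omega F ⇑Q)), u * z = z * u) ∧ prj z = x := by
  constructor
  · rintro ⟨hxP, hc⟩
    rw [Sylow.coe_mapSurjective, Subgroup.mem_map] at hxP
    obtain ⟨z, hzP, hz⟩ := hxP
    refine ⟨z, hzP, ?_, hz⟩
    intro u hu
    have h1 : prj u * x = x * prj u := hc (prj u) (by
      rw [Sylow.coe_mapSurjective]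
      exact Subgroup.mem_map_of_mem _ hu)
    rw [← hz, ← map_mul, ← map_mul] at h1
    have h2 := prj_eq_iff.1 h1
    have h3 : (u * z)⁻¹ * (z * u) ∈ (P : Subgroup ↥(Cfsg.Omega F ⇑Q)) :=
      mul_mem (inv_mem (mul_mem hu hzP)) (mul_mem hzP hu)
    obtain ⟨k, hk⟩ := P.isPGroup' ⟨_, h3⟩
    have hk' : ((u * z)⁻¹ * (z * u)) ^ (p ^ k) = 1 := by
      have := congrArg Subtype.val hk
      rwa [Subgroup.coe_pow, Subgroup.coe_one] at this
    have h4 := eq_one_of_mem_center_of_pow C T h2 hk'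
    exact inv_mul_eq_one.1 h4
  · rintro ⟨z, hzP, hzc, rfl⟩
    refine ⟨?_, ?_⟩
    · rw [Sylow.coe_mapSurjective]
      exact Subgroup.mem_map_of_mem _ hzP
    · intro u hu
      rw [Sylow.coe_mapSurjective, Subgroup.mem_map] at hu
      obtain ⟨v, hv, rfl⟩ := hu
      rw [← map_mul, ← map_mul, hzc v hv]

/-- **Sylow centres of `PΩ(Q)` are the images of the Siegel groups** -/
theorem sylow_center_eq (C : Ctx Q) (T : HypTriple Q) {p : ℕ} [hp : Fact p.Prime] [CharP F p]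
    (P : Sylow p (Cfsg.POmega F ⇑Q)) :
    ∃ a b : ι → F, IsSingLine Q a b ∧ ∀ x : Cfsg.POmega F ⇑Q,
      (x ∈ (P : Subgroup (Cfsg.POmega F ⇑Q)) ∧
        ∀ u ∈ (P : Subgroup (Cfsg.POmega F ⇑Q)), u * x = x * u) ↔
      ∃ c : F, x = prj (eO C a (c • b)) := by
  obtain ⟨P', rfl⟩ := Sylow.mapSurjective_surjective
    (prj_surjective (Q := Q)) p P
  obtain ⟨a, b, h, hP'⟩ := exists_UL_le C T P'
  refine ⟨a, b, h, fun x => ?_⟩
  rw [center_map_prj C T P' x]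
  constructor
  · rintro ⟨z, hzP, hzc, rfl⟩
    obtain ⟨c, hc⟩ := (center_sylow_of_UL_le C h P' hP' z).1 ⟨hzP, hzc⟩
    exact ⟨c, by rw [hc]⟩
  · rintro ⟨c, rfl⟩
    obtain ⟨h1, h2⟩ := (center_sylow_of_UL_le C h P' hP' _).2 ⟨c, rfl⟩
    exact ⟨_, h1, h2, rfl⟩

/-- every Siegel group is the centre of a Sylow subgroup of `PΩ(Q)` -/
theorem exists_sylow_center_eq (C : Ctx Q) (T : HypTriple Q) {p : ℕ} [hp : Fact p.Prime]
    [CharP F p] {a b : ι → F} (h : IsSingLine Q a b) :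
    ∃ P : Sylow p (Cfsg.POmega F ⇑Q), ∀ x : Cfsg.POmega F ⇑Q,
      (x ∈ (P : Subgroup (Cfsg.POmega F ⇑Q)) ∧
        ∀ u ∈ (P : Subgroup (Cfsg.POmega F ⇑Q)), u * x = x * u) ↔
      ∃ c : F, x = prj (eO C a (c • b)) := by
  haveI := C.nonempty
  obtain ⟨P', hP'⟩ := IsPGroup.exists_le_sylow (isPGroup_UL (Q := Q) (p := p) a b)
  refine ⟨P'.mapSurjective prj_surjective, fun x => ?_⟩
  rw [center_map_prj C T P' x]
  constructor
  · rintro ⟨z, hzP, hzc, rfl⟩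
    obtain ⟨c, hc⟩ := (center_sylow_of_UL_le C h P' hP' z).1 ⟨hzP, hzc⟩
    exact ⟨c, by rw [hc]⟩
  · rintro ⟨c, rfl⟩
    obtain ⟨h1, h2⟩ := (center_sylow_of_UL_le C h P' hP' _).2 ⟨c, rfl⟩
    exact ⟨_, h1, h2, rfl⟩

end Cfsg.Agent.Helper5.AutO
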