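import Mathlib
import Cfsg.Agent.Helper5.AutOD

/-!
# Automorphisms of `PΩ(Q)`, part E: geometry of pairs of singular lines and their Siegel elements
-/

set_option autoImplicit false
set_option linter.unusedSectionVars false
set_option linter.unusedVariables false
set_option linter.unusedSimpArgs false

namespace Cfsg.Agent.Helper5.AutO

open Matrix QuadraticMap Module Cfsg.Agent.Helper44 Cfsg.Agent.Helper45.OmegaParity

variable {F : Type*} [Field F] {ι : Type} [Fintype ι] [DecidableEq ι]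
variable {Q : QuadraticForm F (ι → F)}

/-- `v` lies in the span of `a, b` -/
def InL (a b v : ι → F) : Prop := ∃ α β : F, v = α • a + β • b

theorem inL_left (a b : ι → F) : InL a b a := ⟨1, 0, by simp⟩
theorem inL_right (a b : ι → F) : InL a b b := ⟨0, 1, by simp⟩
theorem inL_zero (a b : ι → F) : InL a b 0 := ⟨0, 0, by simp⟩

theorem InL.add {a b v w : ι → F} (hv : InL a b v) (hw : InL a b w) : InL a b (v + w) := by
  obtain ⟨α, β, rfl⟩ := hv
  obtain ⟨γ, δ, rfl⟩ := hw
  exact ⟨α + γ, β + δ, by module⟩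

theorem InL.smul {a b v : ι → F} (hv : InL a b v) (t : F) : InL a b (t • v) := by
  obtain ⟨α, β, rfl⟩ := hv
  exact ⟨t * α, t * β, by module⟩

theorem InL.neg {a b v : ι → F} (hv : InL a b v) : InL a b (-v) := by
  have := hv.smul (-1)
  rwa [neg_one_smul] at this

theorem InL.sub {a b v w : ι → F} (hv : InL a b v) (hw : InL a b w) : InL a b (v - w) := by
  rw [sub_eq_add_neg]
  exact hv.add hw.neg

theorem InL.trans {a b c d v : ι → F} (hc : InL a b c) (hd : InL a b d) (hv : InL c d v) :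
    InL a b v := by
  obtain ⟨α, β, rfl⟩ := hv
  exact (hc.smul α).add (hd.smul β)

theorem InL.comm {a b v : ι → F} (hv : InL a b v) : InL b a v := by
  obtain ⟨α, β, rfl⟩ := hv
  exact ⟨β, α, by module⟩

/-- if the independent vectors `a, b` lie in the span of `c, d` then `c, d` lie in the span of
`a, b` -/
theorem inL_swap {a b c d : ι → F} (hind : ∀ s t : F, s • a + t • b = 0 → s = 0 ∧ t = 0)
    (ha : InL c d a) (hb : InL c d b) : InL a b c ∧ InL a b d := by
  obtain ⟨α₁, β₁, e1⟩ := ha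
  obtain ⟨α₂, β₂, e2⟩ := hb
  have hD : α₁ * β₂ - α₂ * β₁ ≠ 0 := by
    intro hD
    have h1 : β₂ • a + (-β₁) • b = 0 := by
      rw [e1, e2]
      have : β₂ • (α₁ • c + β₁ • d) + (-β₁) • (α₂ • c + β₂ • d)
          = (α₁ * β₂ - α₂ * β₁) • c := by module
      rw [this, hD, zero_smul]
    obtain ⟨h2, h3⟩ := hind _ _ h1
    have h3' : β₁ = 0 := neg_eq_zero.1 h3
    have h4 : α₂ • a + (-α₁) • b = 0 := by
      rw [e1, e2, h2, h3']
      module
    obtain ⟨h5, h6⟩ := hind _ _ h4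
    have h6' : α₁ = 0 := neg_eq_zero.1 h6
    have ha0 : a = 0 := by rw [e1, h6', h3']; simp
    have := (hind 1 0 (by rw [ha0]; simp)).1
    exact one_ne_zero this
  constructor
  · refine ⟨(α₁ * β₂ - α₂ * β₁)⁻¹ * β₂, -((α₁ * β₂ - α₂ * β₁)⁻¹ * β₁), ?_⟩
    rw [e1, e2]
    have : ((α₁ * β₂ - α₂ * β₁)⁻¹ * β₂) • (α₁ • c + β₁ • d) +
        (-((α₁ * β₂ - α₂ * β₁)⁻¹ * β₁)) • (α₂ • c + β₂ • d)
        = ((α₁ * β₂ - α₂ * β₁)⁻¹ * (α₁ * β₂ - α₂ * β₁)) • c := by module
    rw [this, inv_mul_cancel₀ hD, one_smul]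
  · refine ⟨-((α₁ * β₂ - α₂ * β₁)⁻¹ * α₂), (α₁ * β₂ - α₂ * β₁)⁻¹ * α₁, ?_⟩
    rw [e1, e2]
    have : (-((α₁ * β₂ - α₂ * β₁)⁻¹ * α₂)) • (α₁ • c + β₁ • d) +
        ((α₁ * β₂ - α₂ * β₁)⁻¹ * α₁) • (α₂ • c + β₂ • d)
        = ((α₁ * β₂ - α₂ * β₁)⁻¹ * (α₁ * β₂ - α₂ * β₁)) • d := by module
    rw [this, inv_mul_cancel₀ hD, one_smul]

/-- vectors of a singular line are singular -/
theorem _root_.Cfsg.Agent.Helper5.IsSingLine.Q_inL {a b v : ι → F} (h : IsSingLine Q a b) (hv : InL a b v) : Q v = 0 := by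
  obtain ⟨α, β, rfl⟩ := hv
  exact h.Q_comb α β

/-- vectors of a singular line are mutually orthogonal -/
theorem _root_.Cfsg.Agent.Helper5.IsSingLine.polar_inL {a b v w : ι → F} (h : IsSingLine Q a b) (hv : InL a b v)
    (hw : InL a b w) : polar ⇑Q v w = 0 := by
  have h1 := h.Q_inL (hv.add hw)
  rw [QuadraticMap.map_add ⇑Q, h.Q_inL hv, h.Q_inL hw] at h1
  simpa using h1

/-- a vector orthogonal to `a, b` is orthogonal to their span -/
theorem polar_inL_right {a b v x : ι → F} (hv : InL a b v) (ha : polar ⇑Q x a = 0)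
    (hb : polar ⇑Q x b = 0) : polar ⇑Q x v = 0 := by
  obtain ⟨α, β, rfl⟩ := hv
  rw [QuadraticMap.polar_add_right, QuadraticMap.polar_smul_right, QuadraticMap.polar_smul_right,
    ha, hb]
  simp

theorem polar_inL_left {a b v x : ι → F} (hv : InL a b v) (ha : polar ⇑Q a x = 0)
    (hb : polar ⇑Q b x = 0) : polar ⇑Q v x = 0 := by
  rw [QuadraticMap.polar_comm]
  exact polar_inL_right hv (by rw [QuadraticMap.polar_comm]; exact ha)
    (by rw [QuadraticMap.polar_comm]; exact hb)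

/-- **rebasing** a singular line at one of its non-zero vectors -/
theorem rebase {a b v : ι → F} (h : IsSingLine Q a b) (hv : InL a b v) (hv0 : v ≠ 0) :
    ∃ b₁ : ι → F, IsSingLine Q v b₁ ∧ InL a b b₁ ∧ InL v b₁ a ∧ InL v b₁ b ∧
      eichlerO Q v b₁ = eichlerO Q a b := by
  obtain ⟨α, β, rfl⟩ := hv
  have key : ∀ γ δ : F, α * δ - β * γ = 1 →
      IsSingLine Q (α • a + β • b) (γ • a + δ • b) ∧ InL a b (γ • a + δ • b) ∧
      InL (α • a + β • b) (γ • a + δ • b) a ∧ InL (α • a + β • b) (γ • a + δ • b) b ∧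
      eichlerO Q (α • a + β • b) (γ • a + δ • b) = eichlerO Q a b := by
    intro γ δ hdet
    have hL : IsSingLine Q (α • a + β • b) (γ • a + δ • b) :=
      h.comb (by rw [hdet]; exact one_ne_zero)
    obtain ⟨s1, s2⟩ := inL_swap hL.indep ⟨α, β, rfl⟩ ⟨γ, δ, rfl⟩
    refine ⟨hL, ⟨γ, δ, rfl⟩, s1, s2, ?_⟩
    rw [eichlerO_comb h, hdet, one_smul]
  by_cases hα : α = 0
  · have hβ : β ≠ 0 := by
      rintro rfl
      apply hv0
      rw [hα]
      simp
    exact ⟨_, key (-β⁻¹) 0 (by rw [hα, mul_neg, mul_inv_cancel₀ hβ]; ring)⟩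
  · exact ⟨_, key 0 α⁻¹ (by rw [mul_inv_cancel₀ hα]; ring)⟩

/-- the lines meet in a point -/
def MeetL (a b a' b' : ι → F) : Prop := ∃ v : ι → F, v ≠ 0 ∧ InL a b v ∧ InL a' b' v

/-- the lines are orthogonal -/
def PerpL (Q : QuadraticForm F (ι → F)) (a b a' b' : ι → F) : Prop :=
  polar ⇑Q a a' = 0 ∧ polar ⇑Q a b' = 0 ∧ polar ⇑Q b a' = 0 ∧ polar ⇑Q b b' = 0

/-- the second line lies in the span of the first -/
def SameL (a b a' b' : ι → F) : Prop := InL a b a' ∧ InL a b b'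

theorem SameL.symm {a b a' b' : ι → F} (h' : IsSingLine Q a' b') (h : SameL a b a' b') :
    SameL a' b' a b := inL_swap h'.indep h.1 h.2

theorem sameL_refl (a b : ι → F) : SameL a b a b := ⟨inL_left a b, inL_right a b⟩

theorem MeetL.symm {a b a' b' : ι → F} (h : MeetL a b a' b') : MeetL a' b' a b := by
  obtain ⟨v, hv0, h1, h2⟩ := h
  exact ⟨v, hv0, h2, h1⟩

theorem PerpL.symm {a b a' b' : ι → F} (h : PerpL Q a b a' b') : PerpL Q a' b' a b := by
  obtain ⟨h1, h2, h3, h4⟩ := h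
  refine ⟨?_, ?_, ?_, ?_⟩ <;> rw [QuadraticMap.polar_comm] <;> assumption

theorem PerpL.polar {a b a' b' v w : ι → F} (h : PerpL Q a b a' b') (hv : InL a b v)
    (hw : InL a' b' w) : polar ⇑Q v w = 0 := by
  obtain ⟨h1, h2, h3, h4⟩ := h
  apply polar_inL_left hv
  · exact polar_inL_right hw h1 h2
  · exact polar_inL_right hw h3 h4

/-- orthogonality only depends on the spans -/
theorem PerpL.congr {a b a' b' c d c' d' : ι → F} (h : PerpL Q a b a' b')
    (h1 : SameL a b c d) (h2 : SameL a' b' c' d') : PerpL Q c d c' d' :=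
  ⟨h.polar h1.1 h2.1, h.polar h1.1 h2.2, h.polar h1.2 h2.1, h.polar h1.2 h2.2⟩

theorem MeetL.congr {a b a' b' c d c' d' : ι → F} (h : MeetL a b a' b')
    (h1 : SameL c d a b) (h2 : SameL c' d' a' b') : MeetL c d c' d' := by
  obtain ⟨v, hv0, hv1, hv2⟩ := h
  exact ⟨v, hv0, InL.trans h1.1 h1.2 hv1, InL.trans h2.1 h2.2 hv2⟩

theorem SameL.trans {a b c d e f : ι → F} (h1 : SameL a b c d) (h2 : SameL c d e f) :
    SameL a b e f := ⟨InL.trans h1.1 h1.2 h2.1, InL.trans h1.1 h1.2 h2.2⟩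


/-! ### Siegel elements of pairs of lines -/

theorem lin_siegel' {a b : ι → F} (h : IsSingLine Q a b) (x : ι → F) :
    lin Q (eichlerO Q a b) x = x + polar ⇑Q b x • a - polar ⇑Q a x • b := by
  rw [lin_eichlerO Q h.Qp h.polar_eq, h.Qr]
  simp

theorem eichlerO_mem_siegelSub (hQ : (QuadraticMap.polarBilin Q).Nondegenerate) {a b : ι → F}
    (h : IsSingLine Q a b) : eichlerO Q a b ∈ siegelSub Q a b := by
  have := h.siegel_mem hQ 1
  rwa [one_smul] at this

/-- equal Siegel elements belong to the same line -/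
theorem sameL_of_eichlerO_eq (hQ : (QuadraticMap.polarBilin Q).Nondegenerate) {a b a' b' : ι → F}
    (h : IsSingLine Q a b) (h' : IsSingLine Q a' b')
    (e : eichlerO Q a b = eichlerO Q a' b') : SameL a b a' b' :=
  eichlerO_eq_span hQ h'.Qp h'.polar_eq h.Qp h.polar_eq h'.p_ne h'.r_ne_smul e.symm

/-- Siegel elements of the same line -/
theorem eichlerO_of_sameL {a b a' b' : ι → F} (h : IsSingLine Q a b) (hs : SameL a b a' b') :
    ∃ c : F, eichlerO Q a' b' = eichlerO Q a (c • b) := by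
  obtain ⟨⟨α, β, rfl⟩, ⟨γ, δ, rfl⟩⟩ := hs
  exact ⟨_, eichlerO_comb h α β γ δ⟩

/-- independence of two lines which do not meet -/
theorem indep_of_not_meetL {a b a' b' : ι → F} (h : IsSingLine Q a b) (h' : IsSingLine Q a' b')
    (hm : ¬ MeetL a b a' b') {α β γ δ : F} (e : α • a + β • b + γ • a' + δ • b' = 0) :
    α = 0 ∧ β = 0 ∧ γ = 0 ∧ δ = 0 := by
  have e1 : α • a + β • b = (-γ) • a' + (-δ) • b' := by
    have : α • a + β • b = (α • a + β • b + γ • a' + δ • b') + ((-γ) • a' + (-δ) • b') := by module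
    rw [this, e, zero_add]
  have h0 : α • a + β • b = 0 := by
    by_contra hne
    exact hm ⟨_, hne, ⟨α, β, rfl⟩, ⟨-γ, -δ, e1⟩⟩
  obtain ⟨h1, h2⟩ := h.indep α β h0
  rw [h0] at e1
  obtain ⟨h3, h4⟩ := h'.indep (-γ) (-δ) e1.symm
  exact ⟨h1, h2, neg_eq_zero.1 h3, neg_eq_zero.1 h4⟩

/-- **commuting Siegel elements**: the lines are orthogonal or meet -/
theorem commute_iff (hQ : (QuadraticMap.polarBilin Q).Nondegenerate) {a b a' b' : ι → F}
    (h : IsSingLine Q a b) (h' : IsSingLine Q a' b') :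
    eichlerO Q a b * eichlerO Q a' b' = eichlerO Q a' b' * eichlerO Q a b ↔
      PerpL Q a b a' b' ∨ MeetL a b a' b' := by
  constructor
  · intro hc
    have h1 : eichlerO Q (lin Q (eichlerO Q a' b') a) (lin Q (eichlerO Q a' b') b)
        = eichlerO Q a b := by
      rw [← eichlerO_conj Q _ h.Qp h.polar_eq, ← hc]
      group
    have hs := sameL_of_eichlerO_eq hQ h (h.map (eichlerO Q a' b')) h1.symm
    by_cases hm : MeetL a b a' b'
    · exact Or.inr hm
    left
    have key : ∀ v : ι → F, InL a b v → InL a b (lin Q (eichlerO Q a' b') v) →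
        polar ⇑Q v a' = 0 ∧ polar ⇑Q v b' = 0 := by
      intro v hv hv'
      have e1 : lin Q (eichlerO Q a' b') v - v = polar ⇑Q b' v • a' + (-polar ⇑Q a' v) • b' := by
        rw [lin_siegel' h']
        module
      have h2 : InL a b (polar ⇑Q b' v • a' + (-polar ⇑Q a' v) • b') := by
        rw [← e1]
        exact hv'.sub hv
      have h3 : polar ⇑Q b' v • a' + (-polar ⇑Q a' v) • b' = 0 := by
        by_contra hne
        exact hm ⟨_, hne, h2, ⟨_, _, rfl⟩⟩
      obtain ⟨h4, h5⟩ := h'.indep _ _ h3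
      rw [QuadraticMap.polar_comm ⇑Q v a', QuadraticMap.polar_comm ⇑Q v b']
      exact ⟨neg_eq_zero.1 h5, h4⟩
    obtain ⟨k1, k2⟩ := key a (inL_left a b) hs.1
    obtain ⟨k3, k4⟩ := key b (inL_right a b) hs.2
    exact ⟨k1, k2, k3, k4⟩
  · rintro (hp | hm)
    · obtain ⟨e11, e12, e21, e22⟩ := hp
      exact siegel_commute_of_perp hQ h h' e11 e12 e21 e22 _ (eichlerO_mem_siegelSub hQ h) _
        (eichlerO_mem_siegelSub hQ h')
    · obtain ⟨v, hv0, hv1, hv2⟩ := hm
      obtain ⟨b₁, hL, -, -, -, e1⟩ := rebase h hv1 hv0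
      obtain ⟨b₁', hL', -, -, -, e1'⟩ := rebase h' hv2 hv0
      rw [← e1, ← e1', eichlerO_mul Q hL.Qp hL.polar_eq hL'.polar_eq,
        eichlerO_mul Q hL.Qp hL'.polar_eq hL.polar_eq, add_comm]

/-- **products of commuting Siegel elements** of distinct lines: the product is a Siegel element
of a singular line iff the lines meet and are orthogonal -/
theorem prod_siegel_iff (hQ : (QuadraticMap.polarBilin Q).Nondegenerate) {a b a' b' : ι → F}
    (h : IsSingLine Q a b) (h' : IsSingLine Q a' b') (hns : ¬ SameL a b a' b')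
    (hcomm : eichlerO Q a b * eichlerO Q a' b' = eichlerO Q a' b' * eichlerO Q a b) :
    (∃ a'' b'' : ι → F, IsSingLine Q a'' b'' ∧
      eichlerO Q a b * eichlerO Q a' b' = eichlerO Q a'' b'') ↔
      (PerpL Q a b a' b' ∧ MeetL a b a' b') := by
  -- the case of two lines through a common point
  have meetcase : ∀ v : ι → F, v ≠ 0 → InL a b v → InL a' b' v →
      ∃ b₁ b₁' : ι → F, IsSingLine Q v b₁ ∧ IsSingLine Q v b₁' ∧ SameL a b v b₁ ∧
        SameL v b₁ a b ∧ SameL a' b' v b₁' ∧ SameL v b₁' a' b' ∧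
        eichlerO Q a b * eichlerO Q a' b' = eichlerO Q v (b₁ + b₁') ∧
        ∀ t : F, b₁ + b₁' ≠ t • v := by
    intro v hv0 hv1 hv2
    obtain ⟨b₁, hL, i1, i2, i3, e1⟩ := rebase h hv1 hv0
    obtain ⟨b₁', hL', i1', i2', i3', e1'⟩ := rebase h' hv2 hv0
    refine ⟨b₁, b₁', hL, hL', ⟨hv1, i1⟩, ⟨i2, i3⟩, ⟨hv2, i1'⟩, ⟨i2', i3'⟩, ?_, ?_⟩
    · rw [← e1, ← e1', eichlerO_mul Q hL.Qp hL.polar_eq hL'.polar_eq]
    · intro t ht
      apply hns
      have hb₁' : InL a b b₁' := by
        have : b₁' = t • v - b₁ := by rw [← ht]; abel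
        rw [this]
        exact (hv1.smul t).sub i1
      exact ⟨InL.trans hv1 hb₁' i2', InL.trans hv1 hb₁' i3'⟩
  constructor
  · rintro ⟨a'', b'', h'', e⟩
    rcases (commute_iff hQ h h').1 hcomm with hp | hm
    · by_cases hm : MeetL a b a' b'
      · exact ⟨hp, hm⟩
      exfalso
      -- every vector orthogonal to `a'', b''` is orthogonal to `a, b, a', b'`
      have key : ∀ v : ι → F, polar ⇑Q v a'' = 0 → polar ⇑Q v b'' = 0 →
          polar ⇑Q b v = 0 ∧ polar ⇑Q a v = 0 ∧ polar ⇑Q b' v = 0 ∧ polar ⇑Q a' v = 0 := by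
        intro v hva hvb
        have h1 : lin Q (eichlerO Q a b * eichlerO Q a' b') v = v := by
          rw [e]
          exact eichlerO_fix Q h''.Qp h''.polar_eq
            (by rw [QuadraticMap.polar_comm]; exact hva) (by rw [QuadraticMap.polar_comm]; exact hvb)
        rw [lin_mul_apply, lin_siegel' h', lin_siegel' h] at h1
        obtain ⟨p1, p2, p3, p4⟩ := hp
        have q1 : polar ⇑Q b a' = 0 := p3
        have q2 : polar ⇑Q b b' = 0 := p4
        have q3 : polar ⇑Q a a' = 0 := p1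
        have q4 : polar ⇑Q a b' = 0 := p2
        rw [QuadraticMap.polar_sub_right, QuadraticMap.polar_sub_right,
          QuadraticMap.polar_add_right, QuadraticMap.polar_add_right,
          QuadraticMap.polar_smul_right, QuadraticMap.polar_smul_right,
          QuadraticMap.polar_smul_right, QuadraticMap.polar_smul_right, q1, q2, q3, q4] at h1
        simp only [smul_zero, add_zero, sub_zero] at h1
        have h2 : polar ⇑Q b v • a + (-polar ⇑Q a v) • b + polar ⇑Q b' v • a' +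
            (-polar ⇑Q a' v) • b' = 0 := by
          have : polar ⇑Q b v • a + (-polar ⇑Q a v) • b + polar ⇑Q b' v • a' +
              (-polar ⇑Q a' v) • b' = (v + polar ⇑Q b' v • a' - polar ⇑Q a' v • b' +
              polar ⇑Q b v • a - polar ⇑Q a v • b) - v := by module
          rw [this, h1, sub_self]
        obtain ⟨r1, r2, r3, r4⟩ := indep_of_not_meetL h h' hm h2
        exact ⟨r1, neg_eq_zero.1 r2, r3, neg_eq_zero.1 r4⟩
      have ha : InL a'' b'' a := by
        obtain ⟨l, μ, e1⟩ := mem_span_pair_of_perp hQ (e := a'') (b := b'') (d := a)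
          (fun v h1 h2 => by rw [QuadraticMap.polar_comm]; exact (key v h1 h2).2.1)
        exact ⟨l, μ, e1⟩
      have hb : InL a'' b'' b := by
        obtain ⟨l, μ, e1⟩ := mem_span_pair_of_perp hQ (e := a'') (b := b'') (d := b)
          (fun v h1 h2 => by rw [QuadraticMap.polar_comm]; exact (key v h1 h2).1)
        exact ⟨l, μ, e1⟩
      have ha' : InL a'' b'' a' := by
        obtain ⟨l, μ, e1⟩ := mem_span_pair_of_perp hQ (e := a'') (b := b'') (d := a')
          (fun v h1 h2 => by rw [QuadraticMap.polar_comm]; exact (key v h1 h2).2.2.2)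
        exact ⟨l, μ, e1⟩
      obtain ⟨s1, s2⟩ := inL_swap h.indep ha hb
      exact hm ⟨a', h'.p_ne, InL.trans s1 s2 ha', inL_left a' b'⟩
    · refine ⟨?_, hm⟩
      obtain ⟨v, hv0, hv1, hv2⟩ := hm
      obtain ⟨b₁, b₁', hL, hL', s1, s2, s1', s2', eprod, hne⟩ := meetcase v hv0 hv1 hv2
      rw [eprod] at e
      have hpol : polar ⇑Q v (b₁ + b₁') = 0 := by
        rw [QuadraticMap.polar_add_right, hL.polar_eq, hL'.polar_eq, add_zero]
      obtain ⟨-, ⟨γ, δ, e2⟩⟩ := eichlerO_eq_span hQ hL.Qp hpol h''.Qp h''.polar_eq hv0 hne e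
      have hQ0 : Q (b₁ + b₁') = 0 := h''.Q_inL ⟨γ, δ, e2⟩
      rw [QuadraticMap.map_add ⇑Q, hL.Qr, hL'.Qr] at hQ0
      have hbb : polar ⇑Q b₁ b₁' = 0 := by simpa using hQ0
      have hp1 : PerpL Q v b₁ v b₁' :=
        ⟨polar_self_of_singular Q hL.Qp, hL'.polar_eq, hL.polar_eq', hbb⟩
      exact hp1.congr s2 s2'
  · rintro ⟨hp, hm⟩
    obtain ⟨v, hv0, hv1, hv2⟩ := hm
    obtain ⟨b₁, b₁', hL, hL', s1, s2, s1', s2', eprod, hne⟩ := meetcase v hv0 hv1 hv2
    refine ⟨v, b₁ + b₁', ?_, eprod⟩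
    have hbb : polar ⇑Q b₁ b₁' = 0 := hp.polar s1.2 s1'.2
    refine isSingLine_of ?_ hL.Qp ?_ ?_
    · intro s t hst
      by_cases ht : t = 0
      · subst ht
        rw [zero_smul, add_zero] at hst
        exact ⟨(smul_eq_zero.1 hst).resolve_right hv0, rfl⟩
      · exfalso
        apply hne (-(t⁻¹ * s))
        have : t • (b₁ + b₁') = -(s • v) := eq_neg_of_add_eq_zero_right hst
        calc b₁ + b₁' = t⁻¹ • (t • (b₁ + b₁')) := by rw [smul_smul, inv_mul_cancel₀ ht, one_smul]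
          _ = _ := by rw [this]; module
    · rw [QuadraticMap.map_add ⇑Q, hL.Qr, hL'.Qr, hbb]
      simp
    · rw [QuadraticMap.polar_add_right, hL.polar_eq, hL'.polar_eq, add_zero]

end Cfsg.Agent.Helper5.AutO
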