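import Mathlib
import Cfsg.Agent.Helper5.AutOE
import Cfsg.Agent.Helper5.AutOF

/-!
# Automorphisms of `PΩ(Q)`, part G: the dictionary between the group-theoretic relations on root
elements of `PΩ(Q)` and the geometry of singular lines
-/

set_option autoImplicit false
set_option linter.unusedSectionVars false
set_option linter.unusedVariables false
set_option linter.unusedSimpArgs false

namespace Cfsg.Agent.Helper5.AutO

open Matrix QuadraticMap Module Cfsg.Agent.Helper44 Cfsg.Agent.Helper45.OmegaParity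

variable {F : Type*} [Field F] [Fintype F] {ι : Type} [Fintype ι] [DecidableEq ι]
variable {Q : QuadraticForm F (ι → F)}

/-- the image in `PΩ(Q)` of the Eichler transformation `E(a, b)` -/
noncomputable def rE (C : Ctx Q) (a b : ι → F) : Cfsg.POmega F ⇑Q := prj (eO C a b)

theorem rE_def (C : Ctx Q) (a b : ι → F) : rE C a b = prj (eO C a b) := rfl

theorem rE_mul (C : Ctx Q) {u w₁ w₂ : ι → F} (hu : Q u = 0) (h₁ : polar ⇑Q u w₁ = 0)
    (h₂ : polar ⇑Q u w₂ = 0) : rE C u w₁ * rE C u w₂ = rE C u (w₁ + w₂) := by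
  rw [rE_def, rE_def, ← map_mul, eO_mul C hu h₁ h₂]
  rfl

theorem rE_zero (C : Ctx Q) (u : ι → F) : rE C u 0 = 1 := by
  rw [rE_def]
  have : eO C u 0 = 1 := Subtype.ext (eichlerO_zero Q u)
  rw [this, map_one]

/-- lifting an equation between images of Eichler elements fixing a common vector -/
theorem rE_ne_one (C : Ctx Q) (T : HypTriple Q) {a b : ι → F} (ha0 : a ≠ 0) (ha : Q a = 0)
    (hab : polar ⇑Q a b = 0) (hb : ∀ t : F, b ≠ t • a) : rE C a b ≠ 1 := by
  intro h
  have h1 : prj (eO C a b) = prj 1 := by rw [map_one]; exact h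
  have h2 := eq_of_prj_eq_of_fix C T h1 ha0 (by rw [eO_val]; exact lin_eichlerO_self Q ha hab)
    (by rw [Subgroup.coe_one]; exact lin_one_apply Q a)
  have h3 : eichlerO Q a b = 1 := by
    have := congrArg Subtype.val h2
    rwa [eO_val, Subgroup.coe_one] at this
  obtain ⟨c, hc⟩ := eichlerO_eq_one C.hQ ha0 ha hab h3
  exact hb c hc

theorem rE_line_ne_one (C : Ctx Q) (T : HypTriple Q) {a b : ι → F} (h : IsSingLine Q a b) :
    rE C a b ≠ 1 :=
  rE_ne_one C T h.p_ne h.Qp h.polar_eq h.r_ne_smul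

/-- a common fixed vector of two Eichler elements -/
theorem exists_fix2 (C : Ctx Q) {a b a' b' : ι → F} (ha : Q a = 0) (hab : polar ⇑Q a b = 0)
    (ha' : Q a' = 0) (hab' : polar ⇑Q a' b' = 0) :
    ∃ v : ι → F, v ≠ 0 ∧ lin Q (eichlerO Q a b) v = v ∧ lin Q (eichlerO Q a' b') v = v := by
  obtain ⟨v, hv0, hv⟩ := exists_ne_zero_orth Q (![a, b, a', b'] : Fin 4 → (ι → F))
    (by have := C.hn; omega)
  have c1 : polar ⇑Q v a = 0 := hv 0
  have c2 : polar ⇑Q v b = 0 := hv 1
  have c3 : polar ⇑Q v a' = 0 := hv 2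
  have c4 : polar ⇑Q v b' = 0 := hv 3
  refine ⟨v, hv0, eichlerO_fix Q ha hab ?_ ?_, eichlerO_fix Q ha' hab' ?_ ?_⟩ <;>
    rw [QuadraticMap.polar_comm] <;> assumption

/-- a common fixed vector of three Eichler elements -/
theorem exists_fix3 (C : Ctx Q) {a b a' b' a'' b'' : ι → F} (ha : Q a = 0)
    (hab : polar ⇑Q a b = 0) (ha' : Q a' = 0) (hab' : polar ⇑Q a' b' = 0) (ha'' : Q a'' = 0)
    (hab'' : polar ⇑Q a'' b'' = 0) :
    ∃ v : ι → F, v ≠ 0 ∧ lin Q (eichlerO Q a b) v = v ∧ lin Q (eichlerO Q a' b') v = v ∧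
      lin Q (eichlerO Q a'' b'') v = v := by
  obtain ⟨v, hv0, hv⟩ := exists_ne_zero_orth Q (![a, b, a', b', a'', b''] : Fin 6 → (ι → F))
    (by have := C.hn; omega)
  have c1 : polar ⇑Q v a = 0 := hv 0
  have c2 : polar ⇑Q v b = 0 := hv 1
  have c3 : polar ⇑Q v a' = 0 := hv 2
  have c4 : polar ⇑Q v b' = 0 := hv 3
  have c5 : polar ⇑Q v a'' = 0 := hv 4
  have c6 : polar ⇑Q v b'' = 0 := hv 5
  refine ⟨v, hv0, eichlerO_fix Q ha hab ?_ ?_, eichlerO_fix Q ha' hab' ?_ ?_,
    eichlerO_fix Q ha'' hab'' ?_ ?_⟩ <;>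
    rw [QuadraticMap.polar_comm] <;> assumption

/-- equality of images of Eichler elements lifts -/
theorem eichlerO_eq_of_rE_eq (C : Ctx Q) (T : HypTriple Q) {a b a' b' : ι → F} (ha : Q a = 0)
    (hab : polar ⇑Q a b = 0) (ha' : Q a' = 0) (hab' : polar ⇑Q a' b' = 0)
    (h : rE C a b = rE C a' b') : eichlerO Q a b = eichlerO Q a' b' := by
  obtain ⟨v, hv0, h1, h2⟩ := exists_fix2 C ha hab ha' hab'
  have := eq_of_prj_eq_of_fix C T h hv0 (by rw [eO_val]; exact h1) (by rw [eO_val]; exact h2)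
  have h3 := congrArg Subtype.val this
  rwa [eO_val, eO_val] at h3

/-- commutation of images of Eichler elements lifts -/
theorem commute_of_rE_commute (C : Ctx Q) (T : HypTriple Q) {a b a' b' : ι → F} (ha : Q a = 0)
    (hab : polar ⇑Q a b = 0) (ha' : Q a' = 0) (hab' : polar ⇑Q a' b' = 0)
    (h : rE C a b * rE C a' b' = rE C a' b' * rE C a b) :
    eichlerO Q a b * eichlerO Q a' b' = eichlerO Q a' b' * eichlerO Q a b := by
  obtain ⟨v, hv0, h1, h2⟩ := exists_fix2 C ha hab ha' hab'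
  rw [rE_def, rE_def, ← map_mul, ← map_mul] at h
  have := eq_of_prj_eq_of_fix C T h hv0
    (by rw [lin_val_mul, eO_val, eO_val, h2, h1]) (by rw [lin_val_mul, eO_val, eO_val, h1, h2])
  have h3 := congrArg Subtype.val this
  rwa [Subgroup.coe_mul, Subgroup.coe_mul, eO_val, eO_val] at h3

/-- products of images of Eichler elements lift -/
theorem prod_of_rE_prod (C : Ctx Q) (T : HypTriple Q) {a b a' b' a'' b'' : ι → F} (ha : Q a = 0)
    (hab : polar ⇑Q a b = 0) (ha' : Q a' = 0) (hab' : polar ⇑Q a' b' = 0) (ha'' : Q a'' = 0)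
    (hab'' : polar ⇑Q a'' b'' = 0) (h : rE C a b * rE C a' b' = rE C a'' b'') :
    eichlerO Q a b * eichlerO Q a' b' = eichlerO Q a'' b'' := by
  obtain ⟨v, hv0, h1, h2, h3⟩ := exists_fix3 C ha hab ha' hab' ha'' hab''
  rw [rE_def, rE_def, ← map_mul] at h
  have := eq_of_prj_eq_of_fix C T h hv0
    (by rw [lin_val_mul, eO_val, eO_val, h2, h1]) (by rw [eO_val, h3])
  have h4 := congrArg Subtype.val this
  rwa [Subgroup.coe_mul, eO_val, eO_val] at h4

variable {p : ℕ} [hp : Fact p.Prime] [CharP F p]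

theorem isSingLine_smul {a b : ι → F} (h : IsSingLine Q a b) {c : F} (hc : c ≠ 0) :
    IsSingLine Q a (c • b) := by
  have := h.comb (a := 1) (b := 0) (c := 0) (d := c) (by simpa using hc)
  simpa using this

/-- elements of Sylow centres are images of Siegel elements -/
theorem exists_line_of_inZ (C : Ctx Q) (T : HypTriple Q) (P : Sylow p (Cfsg.POmega F ⇑Q)) :
    ∃ a b : ι → F, IsSingLine Q a b ∧ ∀ x : Cfsg.POmega F ⇑Q,
      InZ p P x ↔ ∃ c : F, x = rE C a (c • b) :=
  sylow_center_eq C T P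

theorem same_rE_iff (C : Ctx Q) (T : HypTriple Q) {a b a' b' : ι → F} (h : IsSingLine Q a b)
    (h' : IsSingLine Q a' b') : Same p (rE C a b) (rE C a' b') ↔ SameL a b a' b' := by
  constructor
  · rintro ⟨P, h1, h2⟩
    obtain ⟨a₀, b₀, h₀, hP⟩ := exists_line_of_inZ (p := p) C T P
    have key : ∀ {u w : ι → F}, IsSingLine Q u w → InZ p P (rE C u w) → SameL a₀ b₀ u w := by
      intro u w huw hin
      obtain ⟨c, hc⟩ := (hP _).1 hin
      have hc0 : c ≠ 0 := by
        rintro rfl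
        rw [zero_smul, rE_zero] at hc
        exact rE_line_ne_one C T huw hc
      have hL := isSingLine_smul h₀ hc0
      have e := eichlerO_eq_of_rE_eq C T huw.Qp huw.polar_eq hL.Qp hL.polar_eq hc
      have hs := sameL_of_eichlerO_eq C.hQ hL huw e.symm
      exact ⟨InL.trans (inL_left a₀ b₀) ((inL_right a₀ b₀).smul c) hs.1,
        InL.trans (inL_left a₀ b₀) ((inL_right a₀ b₀).smul c) hs.2⟩
    have s1 := key h h1
    have s2 := key h' h2
    exact (s1.symm h).trans s2
  · intro hs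
    obtain ⟨P, hP⟩ := exists_sylow_center_eq (p := p) C T h
    refine ⟨P, (hP _).2 ⟨1, by rw [one_smul]; rfl⟩, (hP _).2 ?_⟩
    obtain ⟨c, hc⟩ := eichlerO_of_sameL h hs
    refine ⟨c, ?_⟩
    have : eO C a' b' = eO C a (c • b) := Subtype.ext hc
    rw [rE_def, this]

theorem rtE_rE (C : Ctx Q) (T : HypTriple Q) {a b : ι → F} (h : IsSingLine Q a b) :
    RtE p (rE C a b) :=
  ⟨rE_line_ne_one C T h, (same_rE_iff C T h h).2 (sameL_refl a b)⟩

theorem rtE_iff_exists (C : Ctx Q) (T : HypTriple Q) (x : Cfsg.POmega F ⇑Q) :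
    RtE p x ↔ ∃ a b : ι → F, IsSingLine Q a b ∧ x = rE C a b := by
  constructor
  · rintro ⟨hx1, P, hin, -⟩
    obtain ⟨a₀, b₀, h₀, hP⟩ := exists_line_of_inZ (p := p) C T P
    obtain ⟨c, hc⟩ := (hP x).1 hin
    have hc0 : c ≠ 0 := by
      rintro rfl
      rw [zero_smul, rE_zero] at hc
      exact hx1 hc
    exact ⟨a₀, c • b₀, isSingLine_smul h₀ hc0, hc⟩
  · rintro ⟨a, b, h, rfl⟩
    exact rtE_rE C T h

theorem commute_rE_iff (C : Ctx Q) (T : HypTriple Q) {a b a' b' : ι → F} (h : IsSingLine Q a b)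
    (h' : IsSingLine Q a' b') :
    rE C a b * rE C a' b' = rE C a' b' * rE C a b ↔ PerpL Q a b a' b' ∨ MeetL a b a' b' := by
  rw [← commute_iff C.hQ h h']
  constructor
  · exact commute_of_rE_commute C T h.Qp h.polar_eq h'.Qp h'.polar_eq
  · intro e
    rw [rE_def, rE_def, ← map_mul, ← map_mul]
    congr 1
    exact Subtype.ext e

/-- **collinearity** of root elements: the lines are distinct, orthogonal and meet -/
theorem col_rE_iff (C : Ctx Q) (T : HypTriple Q) {a b a' b' : ι → F} (h : IsSingLine Q a b)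
    (h' : IsSingLine Q a' b') :
    Col p (rE C a b) (rE C a' b') ↔
      ¬ SameL a b a' b' ∧ PerpL Q a b a' b' ∧ MeetL a b a' b' := by
  constructor
  · rintro ⟨-, -, hns, hcomm, hprod⟩
    have hns' : ¬ SameL a b a' b' := fun hs => hns ((same_rE_iff C T h h').2 hs)
    refine ⟨hns', ?_⟩
    have hcomm' := commute_of_rE_commute C T h.Qp h.polar_eq h'.Qp h'.polar_eq hcomm
    obtain ⟨a'', b'', h'', e⟩ := (rtE_iff_exists C T _).1 hprod
    have e' := prod_of_rE_prod C T h.Qp h.polar_eq h'.Qp h'.polar_eq h''.Qp h''.polar_eq e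
    exact (prod_siegel_iff C.hQ h h' hns' hcomm').1 ⟨a'', b'', h'', e'⟩
  · rintro ⟨hns, hp, hm⟩
    have hcomm' := (commute_iff C.hQ h h').2 (Or.inr hm)
    obtain ⟨a'', b'', h'', e⟩ := (prod_siegel_iff C.hQ h h' hns hcomm').2 ⟨hp, hm⟩
    refine ⟨rtE_rE C T h, rtE_rE C T h', fun hs => hns ((same_rE_iff C T h h').1 hs),
      (commute_rE_iff C T h h').2 (Or.inr hm), ?_⟩
    have : rE C a b * rE C a' b' = rE C a'' b'' := by
      rw [rE_def, rE_def, ← map_mul]
      congr 1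
      exact Subtype.ext e
    rw [this]
    exact rtE_rE C T h''

end Cfsg.Agent.Helper5.AutO
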