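import Mathlib
import Cfsg.Agent.Helper5.AutOG

/-!
# Automorphisms of `PΩ(Q)`, part H: common collinear neighbours of commuting root elements
-/

set_option autoImplicit false
set_option linter.unusedSectionVars false
set_option linter.unusedVariables false
set_option linter.unusedSimpArgs false

namespace Cfsg.Agent.Helper5.AutO

open Matrix QuadraticMap Module Cfsg.Agent.Helper44 Cfsg.Agent.Helper45.OmegaParity

variable {F : Type*} [Field F] {ι : Type} [Fintype ι] [DecidableEq ι]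
variable {Q : QuadraticForm F (ι → F)}

/-- the geometric collinearity relation of singular lines -/
def ColL (Q : QuadraticForm F (ι → F)) (a b a' b' : ι → F) : Prop :=
  ¬ SameL a b a' b' ∧ PerpL Q a b a' b' ∧ MeetL a b a' b'

/-- there is no totally singular subspace of dimension four -/
def NoTS4 (Q : QuadraticForm F (ι → F)) : Prop :=
  ∀ a b a' b' : ι → F, IsSingLine Q a b → IsSingLine Q a' b' → PerpL Q a b a' b' →
    MeetL a b a' b'

/-! ### orthogonal lines which do not meet -/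

/-- a line meeting two disjoint lines is spanned by the two intersection points -/
theorem span_of_meet_two {a b a' b' u w : ι → F} (h : IsSingLine Q a b)
    (h' : IsSingLine Q a' b') (hN : IsSingLine Q u w) (hm : ¬ MeetL a b a' b')
    (h1 : MeetL u w a b) (h2 : MeetL u w a' b') :
    ∃ l m : ι → F, l ≠ 0 ∧ m ≠ 0 ∧ InL a b l ∧ InL a' b' m ∧ InL u w l ∧ InL u w m ∧
      InL l m u ∧ InL l m w ∧ ∀ s t : F, s • l + t • m = 0 → s = 0 ∧ t = 0 := by
  obtain ⟨l, hl0, hlN, hlL⟩ := h1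
  obtain ⟨m, hm0, hmN, hmM⟩ := h2
  have hind : ∀ s t : F, s • l + t • m = 0 → s = 0 ∧ t = 0 := by
    intro s t hst
    have e : s • l = (-t) • m := by
      have : s • l = (s • l + t • m) + (-t) • m := by module
      rw [this, hst, zero_add]
    have h0 : s • l = 0 := by
      by_contra hne
      exact hm ⟨s • l, hne, hlL.smul s, by rw [e]; exact hmM.smul (-t)⟩
    have hs : s = 0 := (smul_eq_zero.1 h0).resolve_right hl0
    rw [h0] at e
    have ht : -t = 0 := (smul_eq_zero.1 e.symm).resolve_right hm0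
    exact ⟨hs, neg_eq_zero.1 ht⟩
  obtain ⟨s1, s2⟩ := inL_swap hind hlN hmN
  exact ⟨l, m, hl0, hm0, hlL, hmM, hlN, hmN, s1, s2, hind⟩

/-- two lines, each spanned by a point of `L` and a point of `M`, which meet, share one of these
points -/
theorem share_of_meet {a b a' b' l m l' m' : ι → F} (h : IsSingLine Q a b)
    (h' : IsSingLine Q a' b') (hm : ¬ MeetL a b a' b')
    (hl : InL a b l) (hmm : InL a' b' m) (hl' : InL a b l') (hmm' : InL a' b' m')
    (hl0 : l ≠ 0) (hm0 : m ≠ 0)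
    {v : ι → F} (hv0 : v ≠ 0) (hv : InL l m v) (hv' : InL l' m' v) :
    InL l' m' l ∨ InL l' m' m := by
  obtain ⟨α, β, e⟩ := hv
  obtain ⟨α', β', e'⟩ := hv'
  have e1 : α • l - α' • l' = β' • m' - β • m := by
    have : α • l + β • m = α' • l' + β' • m' := by rw [← e, ← e']
    have h2 : α • l - α' • l' = (α • l + β • m) - α' • l' - β • m := by module
    rw [h2, this]
    module
  have h0 : α • l - α' • l' = 0 := by
    by_contra hne
    refine hm ⟨_, hne, (hl.smul α).sub (hl'.smul α'), ?_⟩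
    rw [e1]
    exact (hmm'.smul β').sub (hmm.smul β)
  have h0' : β' • m' - β • m = 0 := by rw [← e1, h0]
  by_cases hα : α = 0
  · have hβ : β ≠ 0 := by
      rintro rfl
      apply hv0
      rw [e, hα]
      simp
    right
    refine ⟨0, β⁻¹ * β', ?_⟩
    have : β • m = β' • m' := (sub_eq_zero.1 h0').symm
    calc m = β⁻¹ • (β • m) := by rw [smul_smul, inv_mul_cancel₀ hβ, one_smul]
      _ = _ := by rw [this]; module
  · left
    refine ⟨α⁻¹ * α', 0, ?_⟩
    have : α • l = α' • l' := sub_eq_zero.1 h0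
    calc l = α⁻¹ • (α • l) := by rw [smul_smul, inv_mul_cancel₀ hα, one_smul]
      _ = _ := by rw [this]; module

/-- lines spanned by points of two orthogonal singular lines are mutually orthogonal -/
theorem perpL_of_span {a b a' b' l m l' m' : ι → F} (h : IsSingLine Q a b)
    (h' : IsSingLine Q a' b') (hp : PerpL Q a b a' b')
    (hl : InL a b l) (hmm : InL a' b' m) (hl' : InL a b l') (hmm' : InL a' b' m') :
    PerpL Q l m l' m' :=
  ⟨h.polar_inL hl hl', hp.polar hl hmm', hp.symm.polar hmm hl', h'.polar_inL hmm hmm'⟩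


section fin

variable [Fintype F] {p : ℕ} [hp : Fact p.Prime] [CharP F p]

theorem col_rE_iff' (C : Ctx Q) (T : HypTriple Q) {a b a' b' : ι → F} (h : IsSingLine Q a b)
    (h' : IsSingLine Q a' b') : Col p (rE C a b) (rE C a' b') ↔ ColL Q a b a' b' :=
  col_rE_iff C T h h'

theorem cN_rE_iff (C : Ctx Q) (T : HypTriple Q) {a b a' b' u w : ι → F} (h : IsSingLine Q a b)
    (h' : IsSingLine Q a' b') (hN : IsSingLine Q u w) :
    CN p (rE C a b) (rE C a' b') (rE C u w) ↔ ColL Q u w a b ∧ ColL Q u w a' b' := by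
  unfold CN
  rw [col_rE_iff' C T hN h, col_rE_iff' C T hN h']

/-- the two relations between root elements whose lines meet and are orthogonal -/
theorem same_or_col (C : Ctx Q) (T : HypTriple Q) {a b a' b' : ι → F} (h : IsSingLine Q a b)
    (h' : IsSingLine Q a' b') (hp' : PerpL Q a b a' b') (hm : MeetL a b a' b') :
    Same p (rE C a b) (rE C a' b') ∨ Col p (rE C a b) (rE C a' b') := by
  by_cases hs : SameL a b a' b'
  · exact Or.inl ((same_rE_iff C T h h').2 hs)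
  · exact Or.inr ((col_rE_iff' C T h h').2 ⟨hs, hp', hm⟩)

/-- common neighbours of orthogonal disjoint lines -/
theorem cType_cN (C : Ctx Q) (T : HypTriple Q) {a b a' b' : ι → F} (h : IsSingLine Q a b)
    (h' : IsSingLine Q a' b') (hm : ¬ MeetL a b a' b') {z : Cfsg.POmega F ⇑Q}
    (hz : CN p (rE C a b) (rE C a' b') z) :
    ∃ u w l m : ι → F, IsSingLine Q u w ∧ z = rE C u w ∧ l ≠ 0 ∧ m ≠ 0 ∧ InL a b l ∧
      InL a' b' m ∧ SameL l m u w ∧ SameL u w l m := by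
  obtain ⟨u, w, hN, rfl⟩ := (rtE_iff_exists C T z).1 hz.1.1
  obtain ⟨⟨-, -, m1⟩, ⟨-, -, m2⟩⟩ := (cN_rE_iff C T h h' hN).1 hz
  obtain ⟨l, m, hl0, hm0, hlL, hmM, hlN, hmN, s1, s2, -⟩ := span_of_meet_two h h' hN hm m1 m2
  exact ⟨u, w, l, m, hN, rfl, hl0, hm0, hlL, hmM, ⟨s1, s2⟩, ⟨hlN, hmN⟩⟩

/-- orthogonal disjoint lines have collinear common neighbours -/
theorem not_noColPair_of_cType (C : Ctx Q) (T : HypTriple Q) {a b a' b' : ι → F}
    (h : IsSingLine Q a b) (h' : IsSingLine Q a' b') (hp' : PerpL Q a b a' b')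
    (hm : ¬ MeetL a b a' b') : ¬ NoColPair p (rE C a b) (rE C a' b') := by
  intro hno
  obtain ⟨p1, p2, p3, p4⟩ := hp'
  have haa : polar ⇑Q a a = 0 := polar_self_of_singular Q h.Qp
  have ha'a' : polar ⇑Q a' a' = 0 := polar_self_of_singular Q h'.Qp
  have hb'b' : polar ⇑Q b' b' = 0 := polar_self_of_singular Q h'.Qr
  have q1 : polar ⇑Q a' a = 0 := by rw [QuadraticMap.polar_comm]; exact p1
  have q2 : polar ⇑Q b' a = 0 := by rw [QuadraticMap.polar_comm]; exact p2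
  have q3 : polar ⇑Q a' b = 0 := by rw [QuadraticMap.polar_comm]; exact p3
  have q4 : polar ⇑Q b' b = 0 := by rw [QuadraticMap.polar_comm]; exact p4
  have ind := fun {α β γ δ : F} (e : α • a + β • b + γ • a' + δ • b' = 0) =>
    indep_of_not_meetL h h' hm e
  -- the lines `⟨a, a'⟩` and `⟨a, b'⟩`
  have hN : IsSingLine Q a a' := by
    refine isSingLine_of ?_ h.Qp h'.Qp p1
    intro s t hst
    have := ind (α := s) (β := 0) (γ := t) (δ := 0) (by rw [← hst]; module)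
    exact ⟨this.1, this.2.2.1⟩
  have hN' : IsSingLine Q a b' := by
    refine isSingLine_of ?_ h.Qp h'.Qr p2
    intro s t hst
    have := ind (α := s) (β := 0) (γ := 0) (δ := t) (by rw [← hst]; module)
    exact ⟨this.1, this.2.2.2⟩
  have n1 : ¬ SameL a a' a b := by
    rintro ⟨-, α, β, e⟩
    have := ind (α := α) (β := -1) (γ := β) (δ := 0) (by rw [e]; module)
    exact one_ne_zero (neg_eq_zero.1 this.2.1)
  have n2 : ¬ SameL a a' a' b' := by
    rintro ⟨-, α, β, e⟩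
    have := ind (α := α) (β := 0) (γ := β) (δ := -1) (by rw [e]; module)
    exact one_ne_zero (neg_eq_zero.1 this.2.2.2)
  have n3 : ¬ SameL a b' a b := by
    rintro ⟨-, α, β, e⟩
    have := ind (α := α) (β := -1) (γ := 0) (δ := β) (by rw [e]; module)
    exact one_ne_zero (neg_eq_zero.1 this.2.1)
  have n4 : ¬ SameL a b' a' b' := by
    rintro ⟨⟨α, β, e⟩, -⟩
    have := ind (α := α) (β := 0) (γ := -1) (δ := β) (by rw [e]; module)
    exact one_ne_zero (neg_eq_zero.1 this.2.2.1)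
  have n5 : ¬ SameL a a' a b' := by
    rintro ⟨-, α, β, e⟩
    have := ind (α := α) (β := 0) (γ := β) (δ := -1) (by rw [e]; module)
    exact one_ne_zero (neg_eq_zero.1 this.2.2.2)
  have c1 : CN p (rE C a b) (rE C a' b') (rE C a a') := by
    rw [cN_rE_iff C T h h' hN]
    exact ⟨⟨n1, ⟨haa, h.polar_eq, q1, q3⟩, ⟨a, h.p_ne, inL_left _ _, inL_left _ _⟩⟩,
      ⟨n2, ⟨p1, p2, ha'a', h'.polar_eq⟩, ⟨a', h'.p_ne, inL_right _ _, inL_left _ _⟩⟩⟩
  have c2 : CN p (rE C a b) (rE C a' b') (rE C a b') := by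
    rw [cN_rE_iff C T h h' hN']
    exact ⟨⟨n3, ⟨haa, h.polar_eq, q2, q4⟩, ⟨a, h.p_ne, inL_left _ _, inL_left _ _⟩⟩,
      ⟨n4, ⟨p1, p2, h'.polar_eq', hb'b'⟩, ⟨b', h'.r_ne, inL_right _ _, inL_right _ _⟩⟩⟩
  apply hno _ _ c1 c2
  rw [col_rE_iff' C T hN hN']
  exact ⟨n5, ⟨haa, p2, q1, h'.polar_eq⟩, ⟨a, h.p_ne, inL_left _ _, inL_left _ _⟩⟩

/-- orthogonal disjoint lines have no claw among their common neighbours -/
theorem not_claw_of_cType (C : Ctx Q) (T : HypTriple Q) {a b a' b' : ι → F}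
    (h : IsSingLine Q a b) (h' : IsSingLine Q a' b') (hp' : PerpL Q a b a' b')
    (hm : ¬ MeetL a b a' b') : ¬ Claw p (rE C a b) (rE C a' b') := by
  rintro ⟨z₀, z₁, z₂, z₃, h0, h1, h2, h3, c1, c2, c3, ⟨n12, m12⟩, ⟨n13, m13⟩, ⟨n23, m23⟩⟩
  obtain ⟨u₀, w₀, l₀, m₀, hN₀, rfl, hl₀, hm₀, hlL₀, hmM₀, s₀, s₀'⟩ := cType_cN C T h h' hm h0
  obtain ⟨u₁, w₁, l₁, m₁, hN₁, rfl, hl₁, hm₁, hlL₁, hmM₁, s₁, s₁'⟩ := cType_cN C T h h' hm h1
  obtain ⟨u₂, w₂, l₂, m₂, hN₂, rfl, hl₂, hm₂, hlL₂, hmM₂, s₂, s₂'⟩ := cType_cN C T h h' hm h2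
  obtain ⟨u₃, w₃, l₃, m₃, hN₃, rfl, hl₃, hm₃, hlL₃, hmM₃, s₃, s₃'⟩ := cType_cN C T h h' hm h3
  -- which point is shared with the line `N₀`
  have share : ∀ {u w l m : ι → F}, IsSingLine Q u w → InL a b l → InL a' b' m →
      SameL l m u w → SameL u w l m → Col p (rE C u₀ w₀) (rE C u w) →
      InL u w l₀ ∨ InL u w m₀ := by
    intro u w l m hN hlL hmM s s' hc
    obtain ⟨-, -, v, hv0, hv1, hv2⟩ := (col_rE_iff' C T hN₀ hN).1 hc
    have hv1' : InL l₀ m₀ v := InL.trans s₀.1 s₀.2 hv1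
    have hv2' : InL l m v := InL.trans s.1 s.2 hv2
    rcases share_of_meet h h' hm hlL₀ hmM₀ hlL hmM hl₀ hm₀ hv0 hv1' hv2' with h5 | h5
    · exact Or.inl (InL.trans s'.1 s'.2 h5)
    · exact Or.inr (InL.trans s'.1 s'.2 h5)
  -- two lines sharing a point with `N₀` are equal or collinear
  have fin : ∀ {u w l m u' w' l' m' v : ι → F}, IsSingLine Q u w → IsSingLine Q u' w' →
      InL a b l → InL a' b' m → SameL l m u w → SameL u w l m →
      InL a b l' → InL a' b' m' → SameL l' m' u' w' → SameL u' w' l' m' →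
      v ≠ 0 → InL u w v → InL u' w' v →
      Same p (rE C u w) (rE C u' w') ∨ Col p (rE C u w) (rE C u' w') := by
    intro u w l m u' w' l' m' v hN hN' hlL hmM s s' hlL' hmM' t t' hv0 hv hv'
    apply same_or_col C T hN hN'
    · exact (perpL_of_span h h' hp' hlL hmM hlL' hmM').congr s t
    · exact ⟨v, hv0, hv, hv'⟩
  have hl₀' : l₀ ≠ 0 := hl₀
  rcases share hN₁ hlL₁ hmM₁ s₁ s₁' c1 with t1 | t1 <;>
  rcases share hN₂ hlL₂ hmM₂ s₂ s₂' c2 with t2 | t2 <;>
  rcases share hN₃ hlL₃ hmM₃ s₃ s₃' c3 with t3 | t3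
  · rcases fin hN₁ hN₂ hlL₁ hmM₁ s₁ s₁' hlL₂ hmM₂ s₂ s₂' hl₀ t1 t2 with r | r
    · exact m12 r
    · exact n12 r
  · rcases fin hN₁ hN₂ hlL₁ hmM₁ s₁ s₁' hlL₂ hmM₂ s₂ s₂' hl₀ t1 t2 with r | r
    · exact m12 r
    · exact n12 r
  · rcases fin hN₁ hN₃ hlL₁ hmM₁ s₁ s₁' hlL₃ hmM₃ s₃ s₃' hl₀ t1 t3 with r | r
    · exact m13 r
    · exact n13 r
  · rcases fin hN₂ hN₃ hlL₂ hmM₂ s₂ s₂' hlL₃ hmM₃ s₃ s₃' hm₀ t2 t3 with r | r
    · exact m23 r
    · exact n23 r
  · rcases fin hN₂ hN₃ hlL₂ hmM₂ s₂ s₂' hlL₃ hmM₃ s₃ s₃' hl₀ t2 t3 with r | r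
    · exact m23 r
    · exact n23 r
  · rcases fin hN₁ hN₃ hlL₁ hmM₁ s₁ s₁' hlL₃ hmM₃ s₃ s₃' hm₀ t1 t3 with r | r
    · exact m13 r
    · exact n13 r
  · rcases fin hN₁ hN₂ hlL₁ hmM₁ s₁ s₁' hlL₂ hmM₂ s₂ s₂' hm₀ t1 t2 with r | r
    · exact m12 r
    · exact n12 r
  · rcases fin hN₁ hN₂ hlL₁ hmM₁ s₁ s₁' hlL₂ hmM₂ s₂ s₂' hm₀ t1 t2 with r | r
    · exact m12 r
    · exact n12 r

end fin

end Cfsg.Agent.Helper5.AutO
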