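import Mathlib
import Cfsg.Agent.Helper5.AutOH

/-!
# Automorphisms of `PΩ(Q)`, part I: two singular lines through a common point
-/

set_option autoImplicit false
set_option linter.unusedSectionVars false
set_option linter.unusedVariables false
set_option linter.unusedSimpArgs false

namespace Cfsg.Agent.Helper5.AutO

open Matrix QuadraticMap Module Cfsg.Agent.Helper44 Cfsg.Agent.Helper45.OmegaParity

variable {F : Type*} [Field F] {ι : Type} [Fintype ι] [DecidableEq ι]
variable {Q : QuadraticForm F (ι → F)}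

/-- normal form of two meeting lines -/
theorem exists_normal_form {a b a' b' : ι → F} (h : IsSingLine Q a b) (h' : IsSingLine Q a' b')
    (hm : MeetL a b a' b') :
    ∃ v b₁ b₁' : ι → F, IsSingLine Q v b₁ ∧ IsSingLine Q v b₁' ∧
      eichlerO Q v b₁ = eichlerO Q a b ∧ eichlerO Q v b₁' = eichlerO Q a' b' ∧
      SameL a b v b₁ ∧ SameL v b₁ a b ∧ SameL a' b' v b₁' ∧ SameL v b₁' a' b' := by
  obtain ⟨v, hv0, hv1, hv2⟩ := hm
  obtain ⟨b₁, hL, i1, i2, i3, e1⟩ := rebase h hv1 hv0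
  obtain ⟨b₁', hL', i1', i2', i3', e1'⟩ := rebase h' hv2 hv0
  exact ⟨v, b₁, b₁', hL, hL', e1, e1', ⟨hv1, i1⟩, ⟨i2, i3⟩, ⟨hv2, i1'⟩, ⟨i2', i3'⟩⟩

theorem sameL_normal_iff {v d d' : ι → F} (h : IsSingLine Q v d) :
    SameL v d v d' ↔ InL v d d' :=
  ⟨fun hs => hs.2, fun hd => ⟨inL_left v d, hd⟩⟩

theorem perpL_normal_iff {v d d' : ι → F} (h : IsSingLine Q v d) (h' : IsSingLine Q v d') :
    PerpL Q v d v d' ↔ polar ⇑Q d d' = 0 :=
  ⟨fun hp => hp.2.2.2, fun hd => ⟨polar_self_of_singular Q h.Qp, h'.polar_eq, h.polar_eq', hd⟩⟩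

theorem meetL_normal {v d d' : ι → F} (h : IsSingLine Q v d) : MeetL v d v d' :=
  ⟨v, h.p_ne, inL_left v d, inL_left v d'⟩

theorem colL_normal_iff {v d d' : ι → F} (h : IsSingLine Q v d) (h' : IsSingLine Q v d') :
    ColL Q v d v d' ↔ ¬ InL v d d' ∧ polar ⇑Q d d' = 0 := by
  unfold ColL
  rw [sameL_normal_iff h, perpL_normal_iff h h']
  constructor
  · rintro ⟨h1, h2, -⟩
    exact ⟨h1, h2⟩
  · rintro ⟨h1, h2⟩
    exact ⟨h1, h2, meetL_normal h⟩

/-- a line collinear with two non-orthogonal lines through `v` passes through `v` -/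
theorem inL_of_col_two {v b₁ b₁' u w : ι → F} (hL : IsSingLine Q v b₁)
    (hL' : IsSingLine Q v b₁') (hb : polar ⇑Q b₁ b₁' ≠ 0) (hN : IsSingLine Q u w)
    (h1 : MeetL u w v b₁) (h2 : MeetL u w v b₁') : InL u w v := by
  obtain ⟨l, hl0, hlN, ⟨α, β, el⟩⟩ := h1
  obtain ⟨m, hm0, hmN, ⟨γ, δ, em⟩⟩ := h2
  have h0 : polar ⇑Q l m = 0 := hN.polar_inL hlN hmN
  rw [el, em, QuadraticMap.polar_add_left, QuadraticMap.polar_add_right,
    QuadraticMap.polar_add_right, QuadraticMap.polar_smul_left, QuadraticMap.polar_smul_left,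
    QuadraticMap.polar_smul_left, QuadraticMap.polar_smul_left, QuadraticMap.polar_smul_right,
    QuadraticMap.polar_smul_right, QuadraticMap.polar_smul_right, QuadraticMap.polar_smul_right,
    polar_self_of_singular Q hL.Qp, hL'.polar_eq, hL.polar_eq'] at h0
  simp only [smul_eq_mul, mul_zero, add_zero, zero_add] at h0
  have h3 : β * δ = 0 := by
    have : (β * δ) * polar ⇑Q b₁ b₁' = 0 := by linear_combination h0
    exact (mul_eq_zero.1 this).resolve_right hb
  rcases mul_eq_zero.1 h3 with hβ | hδ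
  · rw [hβ, zero_smul, add_zero] at el
    have hα : α ≠ 0 := by
      rintro rfl
      rw [zero_smul] at el
      exact hl0 el
    have : v = α⁻¹ • l := by rw [el, smul_smul, inv_mul_cancel₀ hα, one_smul]
    rw [this]
    exact hlN.smul _
  · rw [hδ, zero_smul, add_zero] at em
    have hγ : γ ≠ 0 := by
      rintro rfl
      rw [zero_smul] at em
      exact hm0 em
    have : v = γ⁻¹ • m := by rw [em, smul_smul, inv_mul_cancel₀ hγ, one_smul]
    rw [this]
    exact hmN.smul _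

section fin

variable [Fintype F] {p : ℕ} [hp : Fact p.Prime] [CharP F p]

theorem rE_congr (C : Ctx Q) {a b a' b' : ι → F} (e : eichlerO Q a b = eichlerO Q a' b') :
    rE C a b = rE C a' b' := by
  rw [rE_def, rE_def]
  congr 1
  exact Subtype.ext e

/-- **common neighbours of two non-orthogonal lines through `v`**: the lines `⟨v, d⟩` with `d`
orthogonal to everything -/
theorem bType_cN_iff (C : Ctx Q) (T : HypTriple Q) {v b₁ b₁' : ι → F} (hL : IsSingLine Q v b₁)
    (hL' : IsSingLine Q v b₁') (hb : polar ⇑Q b₁ b₁' ≠ 0) (z : Cfsg.POmega F ⇑Q) :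
    CN p (rE C v b₁) (rE C v b₁') z ↔
      ∃ d : ι → F, IsSingLine Q v d ∧ polar ⇑Q d b₁ = 0 ∧ polar ⇑Q d b₁' = 0 ∧ z = rE C v d := by
  constructor
  · intro hz
    obtain ⟨u, w, hN, rfl⟩ := (rtE_iff_exists C T z).1 hz.1.1
    obtain ⟨⟨-, p1, m1⟩, ⟨-, p2, m2⟩⟩ := (cN_rE_iff C T hL hL' hN).1 hz
    have hv := inL_of_col_two hL hL' hb hN m1 m2
    obtain ⟨d, hNd, i1, -, -, e⟩ := rebase hN hv hL.p_ne
    exact ⟨d, hNd, p1.polar i1 (inL_right _ _), p2.polar i1 (inL_right _ _), (rE_congr C e).symm⟩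
  · rintro ⟨d, hNd, hd1, hd2, rfl⟩
    rw [cN_rE_iff C T hL hL' hNd, colL_normal_iff hNd hL, colL_normal_iff hNd hL']
    have hb' : polar ⇑Q b₁' b₁ ≠ 0 := by rw [QuadraticMap.polar_comm]; exact hb
    refine ⟨⟨?_, hd1⟩, ⟨?_, hd2⟩⟩
    · rintro ⟨α, β, e⟩
      apply hb'
      rw [e, QuadraticMap.polar_add_right, QuadraticMap.polar_smul_right,
        QuadraticMap.polar_smul_right, hL'.polar_eq',
        QuadraticMap.polar_comm ⇑Q b₁' d, hd2]
      simp
    · rintro ⟨α, β, e⟩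
      apply hb
      rw [e, QuadraticMap.polar_add_right, QuadraticMap.polar_smul_right,
        QuadraticMap.polar_smul_right, hL.polar_eq',
        QuadraticMap.polar_comm ⇑Q b₁ d, hd1]
      simp

/-- without totally singular `4`-spaces, non-orthogonal meeting lines have no collinear common
neighbours -/
theorem noColPair_of_bType (C : Ctx Q) (T : HypTriple Q) (H : NoTS4 Q) {v b₁ b₁' : ι → F}
    (hL : IsSingLine Q v b₁) (hL' : IsSingLine Q v b₁') (hb : polar ⇑Q b₁ b₁' ≠ 0) :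
    NoColPair p (rE C v b₁) (rE C v b₁') := by
  intro z z' hz hz' hc
  obtain ⟨d, hN, hd1, hd2, rfl⟩ := (bType_cN_iff C T hL hL' hb z).1 hz
  obtain ⟨d', hN', hd1', hd2', rfl⟩ := (bType_cN_iff C T hL hL' hb z').1 hz'
  obtain ⟨hns, hdd⟩ := (colL_normal_iff hN hN').1 ((col_rE_iff' C T hN hN').1 hc)
  -- the line `⟨d, d'⟩`
  have hK : IsSingLine Q d d' := by
    refine isSingLine_of ?_ hN.Qr hN'.Qr hdd
    intro s t hst
    by_cases ht : t = 0
    · subst ht
      rw [zero_smul, add_zero] at hst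
      exact ⟨(smul_eq_zero.1 hst).resolve_right hN.r_ne, rfl⟩
    · exfalso
      apply hns
      refine ⟨0, -(t⁻¹ * s), ?_⟩
      have : t • d' = -(s • d) := eq_neg_of_add_eq_zero_right hst
      calc d' = t⁻¹ • (t • d') := by rw [smul_smul, inv_mul_cancel₀ ht, one_smul]
        _ = _ := by rw [this]; module
  have hp1 : PerpL Q v b₁ d d' := by
    refine ⟨hN.polar_eq, hN'.polar_eq, ?_, ?_⟩
    · rw [QuadraticMap.polar_comm]; exact hd1
    · rw [QuadraticMap.polar_comm]; exact hd1'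
  obtain ⟨x, hx0, ⟨α, β, e1⟩, ⟨γ, δ, e2⟩⟩ := H _ _ _ _ hL hK hp1
  have hβ : β = 0 := by
    have h1 : polar ⇑Q x b₁' = β * polar ⇑Q b₁ b₁' := by
      rw [e1, QuadraticMap.polar_add_left, QuadraticMap.polar_smul_left,
        QuadraticMap.polar_smul_left, hL'.polar_eq]
      simp
    have h2 : polar ⇑Q x b₁' = 0 := by
      rw [e2, QuadraticMap.polar_add_left, QuadraticMap.polar_smul_left,
        QuadraticMap.polar_smul_left, hd2, hd2']
      simp
    rw [h2] at h1
    exact (mul_eq_zero.1 h1.symm).resolve_right hb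
  rw [hβ, zero_smul, add_zero] at e1
  have hα : α ≠ 0 := by
    rintro rfl
    rw [zero_smul] at e1
    exact hx0 e1
  by_cases hδ : δ = 0
  · rw [hδ, zero_smul, add_zero] at e2
    have := (hN.indep α (-γ) (by rw [← e1, neg_smul, ← e2, add_neg_cancel])).1
    exact hα this
  · apply hns
    refine ⟨δ⁻¹ * α, -(δ⁻¹ * γ), ?_⟩
    have : δ • d' = α • v - γ • d := by rw [← e1, e2]; abel
    calc d' = δ⁻¹ • (δ • d') := by rw [smul_smul, inv_mul_cancel₀ hδ, one_smul]
      _ = _ := by rw [this]; module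

end fin

end Cfsg.Agent.Helper5.AutO
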