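import Mathlib
import Cfsg.Agent.Helper5.AutOI

/-!
# Automorphisms of `PΩ(Q)`, part J: the claw among the common neighbours of two non-orthogonal
meeting lines in dimension at least nine
-/

set_option autoImplicit false
set_option linter.unusedSectionVars false
set_option linter.unusedVariables false
set_option linter.unusedSimpArgs false

namespace Cfsg.Agent.Helper5.AutO

open Matrix QuadraticMap Module Cfsg.Agent.Helper44 Cfsg.Agent.Helper45.OmegaParity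

variable {F : Type*} [Field F] {ι : Type} [Fintype ι] [DecidableEq ι]
variable {Q : QuadraticForm F (ι → F)}

/-- a non-singular vector orthogonal to a family, given a vector orthogonal to the family and
outside its span -/
theorem exists_nonsingular_orth_of (hQ : (QuadraticMap.polarBilin Q).Nondegenerate) {k : ℕ}
    (s : Fin k → (ι → F)) {r : ι → F} (hr : ∀ i, polar ⇑Q r (s i) = 0)
    (hrs : ∀ c : Fin k → F, r ≠ ∑ i, c i • s i) :
    ∃ x : ι → F, (∀ i, polar ⇑Q x (s i) = 0) ∧ Q x ≠ 0 := by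
  by_contra H
  push Not at H
  obtain ⟨c, hc⟩ := mem_span_of_perp hQ s (d := r) (by
    intro x hx
    have h1 : Q (x + r) = 0 := H _ (fun i => by
      rw [QuadraticMap.polar_add_left, hx i, hr i, add_zero])
    rw [QuadraticMap.polar, h1, H x hx, H r hr]
    ring)
  exact hrs c hc

/-- the configuration of vectors giving a claw -/
theorem exists_claw_vectors [Fintype F] (hQ : (QuadraticMap.polarBilin Q).Nondegenerate)
    (h9 : 9 ≤ Fintype.card ι) {v b₁ b₁' : ι → F} (hL : IsSingLine Q v b₁)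
    (hL' : IsSingLine Q v b₁') (hb : polar ⇑Q b₁ b₁' ≠ 0) :
    ∃ d₀ d₁ d₂ d₃ : ι → F,
      (IsSingLine Q v d₀ ∧ polar ⇑Q d₀ b₁ = 0 ∧ polar ⇑Q d₀ b₁' = 0) ∧
      (IsSingLine Q v d₁ ∧ polar ⇑Q d₁ b₁ = 0 ∧ polar ⇑Q d₁ b₁' = 0) ∧
      (IsSingLine Q v d₂ ∧ polar ⇑Q d₂ b₁ = 0 ∧ polar ⇑Q d₂ b₁' = 0) ∧
      (IsSingLine Q v d₃ ∧ polar ⇑Q d₃ b₁ = 0 ∧ polar ⇑Q d₃ b₁' = 0) ∧
      polar ⇑Q d₀ d₁ = 0 ∧ polar ⇑Q d₀ d₂ = 0 ∧ polar ⇑Q d₀ d₃ = 0 ∧
      polar ⇑Q d₁ d₂ ≠ 0 ∧ polar ⇑Q d₁ d₃ ≠ 0 ∧ polar ⇑Q d₂ d₃ ≠ 0 := by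
  have sw : ∀ {x y : ι → F}, polar ⇑Q x y = 0 → polar ⇑Q y x = 0 := by
    intro x y h
    rw [QuadraticMap.polar_comm]; exact h
  have swn : ∀ {x y : ι → F}, polar ⇑Q x y ≠ 0 → polar ⇑Q y x ≠ 0 := by
    intro x y h
    rw [QuadraticMap.polar_comm]; exact h
  have hv0 : v ≠ 0 := hL.p_ne
  have vv : polar ⇑Q v v = 0 := polar_self_of_singular Q hL.Qp
  have b1b1 : polar ⇑Q b₁ b₁ = 0 := polar_self_of_singular Q hL.Qr
  have b2b2 : polar ⇑Q b₁' b₁' = 0 := polar_self_of_singular Q hL'.Qr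
  have vb1 : polar ⇑Q v b₁ = 0 := hL.polar_eq
  have vb2 : polar ⇑Q v b₁' = 0 := hL'.polar_eq
  have b1v := sw vb1
  have b2v := sw vb2
  have hb' := swn hb
  -- the partner `y` of `v`
  obtain ⟨y, hy, hyv⟩ := exists_orth_nonperp hQ (![b₁, b₁'] : Fin 2 → (ι → F)) (d := v) (by
    intro c hc
    rw [Fin.sum_univ_two] at hc
    simp only [Matrix.cons_val_zero, Matrix.cons_val_one, Matrix.cons_val] at hc
    have e1 := congrArg (fun u => polar ⇑Q u b₁') hc
    simp only [QuadraticMap.polar_add_left, QuadraticMap.polar_smul_left, smul_eq_mul, vb2, b2b2,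
      mul_zero, add_zero, zero_add] at e1
    have c0 : c 0 = 0 := (mul_eq_zero.1 e1.symm).resolve_right hb
    rw [c0, zero_smul, zero_add] at hc
    have e2 := congrArg (fun u => polar ⇑Q u b₁) hc
    simp only [QuadraticMap.polar_smul_left, smul_eq_mul, vb1] at e2
    have c1 : c 1 = 0 := (mul_eq_zero.1 e2.symm).resolve_right hb'
    rw [c1, zero_smul] at hc
    exact hv0 hc)
  have yb1 : polar ⇑Q y b₁ = 0 := hy 0
  have yb2 : polar ⇑Q y b₁' = 0 := hy 1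
  have b1y := sw yb1
  have b2y := sw yb2
  have hvy := swn hyv
  -- `d₀`
  obtain ⟨d₀, hd₀0, hd₀Q, hd₀⟩ := exists_singular_orth Q (![v, b₁, b₁', y] : Fin 4 → (ι → F))
    (by omega)
  have d0v : polar ⇑Q d₀ v = 0 := hd₀ 0
  have d0b1 : polar ⇑Q d₀ b₁ = 0 := hd₀ 1
  have d0b2 : polar ⇑Q d₀ b₁' = 0 := hd₀ 2
  have d0y : polar ⇑Q d₀ y = 0 := hd₀ 3
  have vd0 := sw d0v
  have b1d0 := sw d0b1
  have b2d0 := sw d0b2
  have yd0 := sw d0y
  have d0d0 : polar ⇑Q d₀ d₀ = 0 := polar_self_of_singular Q hd₀Q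
  -- the partner `y₀` of `d₀`
  obtain ⟨y₀, hy₀, hy₀d⟩ := exists_orth_nonperp hQ (![v, b₁, b₁', y] : Fin 4 → (ι → F))
      (d := d₀) (by
    intro c hc
    rw [Fin.sum_univ_four] at hc
    simp only [Matrix.cons_val_zero, Matrix.cons_val_one, Matrix.cons_val] at hc
    have e1 := congrArg (fun u => polar ⇑Q u v) hc
    simp only [QuadraticMap.polar_add_left, QuadraticMap.polar_smul_left, smul_eq_mul, vv, b1v,
      b2v, d0v, mul_zero, add_zero, zero_add] at e1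
    have c3 : c 3 = 0 := (mul_eq_zero.1 e1.symm).resolve_right hyv
    rw [c3, zero_smul, add_zero] at hc
    have e2 := congrArg (fun u => polar ⇑Q u y) hc
    simp only [QuadraticMap.polar_add_left, QuadraticMap.polar_smul_left, smul_eq_mul, b1y, b2y,
      d0y, mul_zero, add_zero, zero_add] at e2
    have c0 : c 0 = 0 := (mul_eq_zero.1 e2.symm).resolve_right hvy
    rw [c0, zero_smul, zero_add] at hc
    have e3 := congrArg (fun u => polar ⇑Q u b₁') hc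
    simp only [QuadraticMap.polar_add_left, QuadraticMap.polar_smul_left, smul_eq_mul, d0b2,
      b2b2, mul_zero, add_zero, zero_add] at e3
    have c1 : c 1 = 0 := (mul_eq_zero.1 e3.symm).resolve_right hb
    rw [c1, zero_smul, zero_add] at hc
    have e4 := congrArg (fun u => polar ⇑Q u b₁) hc
    simp only [QuadraticMap.polar_smul_left, smul_eq_mul, d0b1] at e4
    have c2 : c 2 = 0 := (mul_eq_zero.1 e4.symm).resolve_right hb'
    rw [c2, zero_smul] at hc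
    exact hd₀0 hc)
  have y0v : polar ⇑Q y₀ v = 0 := hy₀ 0
  have y0b1 : polar ⇑Q y₀ b₁ = 0 := hy₀ 1
  have y0b2 : polar ⇑Q y₀ b₁' = 0 := hy₀ 2
  have y0y : polar ⇑Q y₀ y = 0 := hy₀ 3
  have vy0 := sw y0v
  have b1y0 := sw y0b1
  have b2y0 := sw y0b2
  have yy0 := sw y0y
  have hd0y0 := swn hy₀d
  -- `d₁`
  obtain ⟨d₁, hd₁0, hd₁Q, hd₁⟩ := exists_singular_orth Q
    (![v, b₁, b₁', y, d₀, y₀] : Fin 6 → (ι → F)) (by omega)
  have d1v : polar ⇑Q d₁ v = 0 := hd₁ 0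
  have d1b1 : polar ⇑Q d₁ b₁ = 0 := hd₁ 1
  have d1b2 : polar ⇑Q d₁ b₁' = 0 := hd₁ 2
  have d1y : polar ⇑Q d₁ y = 0 := hd₁ 3
  have d1d0 : polar ⇑Q d₁ d₀ = 0 := hd₁ 4
  have d1y0 : polar ⇑Q d₁ y₀ = 0 := hd₁ 5
  have vd1 := sw d1v
  have b1d1 := sw d1b1
  have b2d1 := sw d1b2
  have yd1 := sw d1y
  have d0d1 := sw d1d0
  have y0d1 := sw d1y0
  have d1d1 : polar ⇑Q d₁ d₁ = 0 := polar_self_of_singular Q hd₁Q
  -- `z₂`
  obtain ⟨z₂, hz₂, hz₂d⟩ := exists_orth_nonperp hQ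
      (![v, b₁, b₁', d₀, y, y₀] : Fin 6 → (ι → F)) (d := d₁) (by
    intro c hc
    rw [Fin.sum_univ_six] at hc
    simp only [Matrix.cons_val_zero, Matrix.cons_val_one, Matrix.cons_val] at hc
    have e1 := congrArg (fun u => polar ⇑Q u v) hc
    simp only [QuadraticMap.polar_add_left, QuadraticMap.polar_smul_left, smul_eq_mul, vv, b1v,
      b2v, d0v, d1v, y0v, mul_zero, add_zero, zero_add] at e1
    have c4 : c 4 = 0 := (mul_eq_zero.1 e1.symm).resolve_right hyv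
    rw [c4, zero_smul, add_zero] at hc
    have e2 := congrArg (fun u => polar ⇑Q u d₀) hc
    simp only [QuadraticMap.polar_add_left, QuadraticMap.polar_smul_left, smul_eq_mul, vd0, b1d0,
      b2d0, d0d0, d1d0, mul_zero, add_zero, zero_add] at e2
    have c5 : c 5 = 0 := (mul_eq_zero.1 e2.symm).resolve_right hy₀d
    rw [c5, zero_smul, add_zero] at hc
    have e3 := congrArg (fun u => polar ⇑Q u y) hc
    simp only [QuadraticMap.polar_add_left, QuadraticMap.polar_smul_left, smul_eq_mul, b1y, b2y,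
      d0y, d1y, mul_zero, add_zero, zero_add] at e3
    have c0 : c 0 = 0 := (mul_eq_zero.1 e3.symm).resolve_right hvy
    rw [c0, zero_smul, zero_add] at hc
    have e4 := congrArg (fun u => polar ⇑Q u y₀) hc
    simp only [QuadraticMap.polar_add_left, QuadraticMap.polar_smul_left, smul_eq_mul, b1y0,
      b2y0, d1y0, mul_zero, add_zero, zero_add] at e4
    have c3 : c 3 = 0 := (mul_eq_zero.1 e4.symm).resolve_right hd0y0
    rw [c3, zero_smul, add_zero] at hc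
    have e5 := congrArg (fun u => polar ⇑Q u b₁') hc
    simp only [QuadraticMap.polar_add_left, QuadraticMap.polar_smul_left, smul_eq_mul, d1b2,
      b2b2, mul_zero, add_zero, zero_add] at e5
    have c1 : c 1 = 0 := (mul_eq_zero.1 e5.symm).resolve_right hb
    rw [c1, zero_smul, zero_add] at hc
    have e6 := congrArg (fun u => polar ⇑Q u b₁) hc
    simp only [QuadraticMap.polar_smul_left, smul_eq_mul, d1b1] at e6
    have c2 : c 2 = 0 := (mul_eq_zero.1 e6.symm).resolve_right hb'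
    rw [c2, zero_smul] at hc
    exact hd₁0 hc)
  have z2v : polar ⇑Q z₂ v = 0 := hz₂ 0
  have z2b1 : polar ⇑Q z₂ b₁ = 0 := hz₂ 1
  have z2b2 : polar ⇑Q z₂ b₁' = 0 := hz₂ 2
  have z2d0 : polar ⇑Q z₂ d₀ = 0 := hz₂ 3
  have z2y : polar ⇑Q z₂ y = 0 := hz₂ 4
  have z2y0 : polar ⇑Q z₂ y₀ = 0 := hz₂ 5
  -- `d₂`
  obtain ⟨c, hc⟩ := exists_singular_add_smul Q hd₁Q hz₂d
  obtain ⟨d₂, hd₂def⟩ : ∃ d₂ : ι → F, d₂ = z₂ + c • d₁ := ⟨_, rfl⟩
  have hd₂Q : Q d₂ = 0 := by rw [hd₂def]; exact hc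
  have d2x : ∀ x : ι → F, polar ⇑Q z₂ x = 0 → polar ⇑Q d₁ x = 0 → polar ⇑Q d₂ x = 0 := by
    intro x h1 h2
    rw [hd₂def, QuadraticMap.polar_add_left, QuadraticMap.polar_smul_left, h1, h2]
    simp
  have d2v := d2x v z2v d1v
  have d2b1 := d2x b₁ z2b1 d1b1
  have d2b2 := d2x b₁' z2b2 d1b2
  have d2d0 := d2x d₀ z2d0 d1d0
  have d2y := d2x y z2y d1y
  have d2y0 := d2x y₀ z2y0 d1y0
  have d2d1 : polar ⇑Q d₂ d₁ ≠ 0 := by
    rw [hd₂def, QuadraticMap.polar_add_left, QuadraticMap.polar_smul_left, d1d1]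
    simpa using hz₂d
  have d1d2 := swn d2d1
  have d2d2 : polar ⇑Q d₂ d₂ = 0 := polar_self_of_singular Q hd₂Q
  have vd2 := sw d2v
  have b1d2 := sw d2b1
  have b2d2 := sw d2b2
  have d0d2 := sw d2d0
  have yd2 := sw d2y
  have y0d2 := sw d2y0
  -- the auxiliary vector `r`
  obtain ⟨r, hr0, hr⟩ := exists_ne_zero_orth Q
    (![v, b₁, b₁', d₀, d₁, d₂, y, y₀] : Fin 8 → (ι → F)) (by omega)
  have rv : polar ⇑Q r v = 0 := hr 0
  have rb1 : polar ⇑Q r b₁ = 0 := hr 1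
  have rb2 : polar ⇑Q r b₁' = 0 := hr 2
  have rd0 : polar ⇑Q r d₀ = 0 := hr 3
  have rd1 : polar ⇑Q r d₁ = 0 := hr 4
  have rd2 : polar ⇑Q r d₂ = 0 := hr 5
  have ry : polar ⇑Q r y = 0 := hr 6
  have ry0 : polar ⇑Q r y₀ = 0 := hr 7
  -- the non-singular vector `z'`
  obtain ⟨z', hz', hz'Q⟩ := exists_nonsingular_orth_of hQ
      (![v, b₁, b₁', d₀, d₁, d₂] : Fin 6 → (ι → F)) (r := r) (by
    intro i
    fin_cases i
    · exact rv
    · exact rb1
    · exact rb2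
    · exact rd0
    · exact rd1
    · exact rd2) (by
    intro c hc
    rw [Fin.sum_univ_six] at hc
    simp only [Matrix.cons_val_zero, Matrix.cons_val_one, Matrix.cons_val] at hc
    have e1 := congrArg (fun u => polar ⇑Q u y) hc
    simp only [QuadraticMap.polar_add_left, QuadraticMap.polar_smul_left, smul_eq_mul, ry, b1y,
      b2y, d0y, d1y, d2y, mul_zero, add_zero, zero_add] at e1
    have c0 : c 0 = 0 := (mul_eq_zero.1 e1.symm).resolve_right hvy
    rw [c0, zero_smul, zero_add] at hc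
    have e2 := congrArg (fun u => polar ⇑Q u y₀) hc
    simp only [QuadraticMap.polar_add_left, QuadraticMap.polar_smul_left, smul_eq_mul, ry0, b1y0,
      b2y0, d1y0, d2y0, mul_zero, add_zero, zero_add] at e2
    have c3 : c 3 = 0 := (mul_eq_zero.1 e2.symm).resolve_right hd0y0
    rw [c3, zero_smul, add_zero] at hc
    have e3 := congrArg (fun u => polar ⇑Q u b₁') hc
    simp only [QuadraticMap.polar_add_left, QuadraticMap.polar_smul_left, smul_eq_mul, rb2,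
      b2b2, d1b2, d2b2, mul_zero, add_zero, zero_add] at e3
    have c1 : c 1 = 0 := (mul_eq_zero.1 e3.symm).resolve_right hb
    rw [c1, zero_smul, zero_add] at hc
    have e4 := congrArg (fun u => polar ⇑Q u b₁) hc
    simp only [QuadraticMap.polar_add_left, QuadraticMap.polar_smul_left, smul_eq_mul, rb1,
      d1b1, d2b1, mul_zero, add_zero, zero_add] at e4
    have c2 : c 2 = 0 := (mul_eq_zero.1 e4.symm).resolve_right hb'
    rw [c2, zero_smul, zero_add] at hc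
    have e5 := congrArg (fun u => polar ⇑Q u d₂) hc
    simp only [QuadraticMap.polar_add_left, QuadraticMap.polar_smul_left, smul_eq_mul, rd2,
      d2d2, mul_zero, add_zero, zero_add] at e5
    have c4 : c 4 = 0 := (mul_eq_zero.1 e5.symm).resolve_right d1d2
    rw [c4, zero_smul, zero_add] at hc
    have e6 := congrArg (fun u => polar ⇑Q u d₁) hc
    simp only [QuadraticMap.polar_smul_left, smul_eq_mul, rd1] at e6
    have c5 : c 5 = 0 := (mul_eq_zero.1 e6.symm).resolve_right d2d1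
    rw [c5, zero_smul] at hc
    exact hr0 hc)
  have zv : polar ⇑Q z' v = 0 := hz' 0
  have zb1 : polar ⇑Q z' b₁ = 0 := hz' 1
  have zb2 : polar ⇑Q z' b₁' = 0 := hz' 2
  have zd0 : polar ⇑Q z' d₀ = 0 := hz' 3
  have zd1 : polar ⇑Q z' d₁ = 0 := hz' 4
  have zd2 : polar ⇑Q z' d₂ = 0 := hz' 5
  -- `d₃`
  obtain ⟨τ, hτ⟩ : ∃ τ : F, τ = -(Q z' * (polar ⇑Q d₁ d₂)⁻¹) := ⟨_, rfl⟩
  have hτ0 : τ ≠ 0 := by
    rw [hτ]
    exact neg_ne_zero.2 (mul_ne_zero hz'Q (inv_ne_zero d1d2))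
  have hτ1 : τ * polar ⇑Q d₁ d₂ = -(Q z') := by
    rw [hτ, neg_mul, mul_assoc, inv_mul_cancel₀ d1d2, mul_one]
  obtain ⟨d₃, hd₃def⟩ : ∃ d₃ : ι → F, d₃ = d₁ + τ • d₂ + z' := ⟨_, rfl⟩
  have d3x : ∀ x : ι → F, polar ⇑Q d₁ x = 0 → polar ⇑Q d₂ x = 0 → polar ⇑Q z' x = 0 →
      polar ⇑Q d₃ x = 0 := by
    intro x h1 h2 h3
    rw [hd₃def, QuadraticMap.polar_add_left, QuadraticMap.polar_add_left,
      QuadraticMap.polar_smul_left, h1, h2, h3]
    simp
  have d3v := d3x v d1v d2v zv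
  have d3b1 := d3x b₁ d1b1 d2b1 zb1
  have d3b2 := d3x b₁' d1b2 d2b2 zb2
  have d3d0 := d3x d₀ d1d0 d2d0 zd0
  have hd₃Q : Q d₃ = 0 := by
    rw [hd₃def, QuadraticMap.map_add ⇑Q, QuadraticMap.map_add ⇑Q, QuadraticMap.map_smul, hd₁Q,
      hd₂Q, QuadraticMap.polar_smul_right, QuadraticMap.polar_add_left,
      QuadraticMap.polar_smul_left, sw zd1, sw zd2]
    simp only [smul_eq_mul, mul_zero, add_zero, zero_add]
    linear_combination hτ1
  have d3d1 : polar ⇑Q d₃ d₁ ≠ 0 := by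
    rw [hd₃def, QuadraticMap.polar_add_left, QuadraticMap.polar_add_left,
      QuadraticMap.polar_smul_left, d1d1, zd1]
    simp only [smul_eq_mul, zero_add, add_zero]
    exact mul_ne_zero hτ0 d2d1
  have d3d2 : polar ⇑Q d₃ d₂ ≠ 0 := by
    rw [hd₃def, QuadraticMap.polar_add_left, QuadraticMap.polar_add_left,
      QuadraticMap.polar_smul_left, d2d2, zd2]
    simp only [smul_eq_mul, mul_zero, add_zero]
    exact d1d2
  -- the lines
  have line : ∀ {d w : ι → F}, Q d = 0 → polar ⇑Q d v = 0 → polar ⇑Q v w = 0 →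
      polar ⇑Q d w ≠ 0 → IsSingLine Q v d := by
    intro d w hdQ hdv hvw hdw
    refine isSingLine_of ?_ hL.Qp hdQ (sw hdv)
    intro s t hst
    have e1 := congrArg (fun u => polar ⇑Q u w) hst
    simp only [QuadraticMap.polar_add_left, QuadraticMap.polar_smul_left, smul_eq_mul, hvw,
      mul_zero, zero_add, QuadraticMap.polar_zero_left] at e1
    have ht : t = 0 := (mul_eq_zero.1 e1).resolve_right hdw
    rw [ht, zero_smul, add_zero] at hst
    exact ⟨(smul_eq_zero.1 hst).resolve_right hv0, ht⟩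
  have L0 : IsSingLine Q v d₀ := line hd₀Q d0v vy0 hd0y0
  have L1 : IsSingLine Q v d₁ := line hd₁Q d1v vd2 d1d2
  have L2 : IsSingLine Q v d₂ := line hd₂Q d2v vd1 d2d1
  have L3 : IsSingLine Q v d₃ := line hd₃Q d3v vd1 d3d1
  exact ⟨d₀, d₁, d₂, d₃, ⟨L0, d0b1, d0b2⟩, ⟨L1, d1b1, d1b2⟩, ⟨L2, d2b1, d2b2⟩, ⟨L3, d3b1, d3b2⟩,
    d0d1, d0d2, sw d3d0, d1d2, swn d3d1, swn d3d2⟩

end Cfsg.Agent.Helper5.AutO
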