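import Mathlib
import Cfsg.Agent.Helper5.AutOJ

/-!
# Automorphisms of `PΩ(Q)`, part K: the group-theoretic characterisation of meeting lines
-/

set_option autoImplicit false
set_option linter.unusedSectionVars false
set_option linter.unusedVariables false
set_option linter.unusedSimpArgs false

namespace Cfsg.Agent.Helper5.AutO

open Matrix QuadraticMap Module Cfsg.Agent.Helper44 Cfsg.Agent.Helper45.OmegaParity

variable {F : Type*} [Field F] [Fintype F] {ι : Type} [Fintype ι] [DecidableEq ι]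
variable {Q : QuadraticForm F (ι → F)} {p : ℕ} [hp : Fact p.Prime] [CharP F p]

/-- the extra hypothesis excluding the triality configuration -/
def H4 (Q : QuadraticForm F (ι → F)) : Prop := 9 ≤ Fintype.card ι ∨ NoTS4 Q

theorem col_normal_iff (C : Ctx Q) (T : HypTriple Q) {v d d' : ι → F} (h : IsSingLine Q v d)
    (h' : IsSingLine Q v d') :
    Col p (rE C v d) (rE C v d') ↔ ¬ InL v d d' ∧ polar ⇑Q d d' = 0 := by
  rw [col_rE_iff' C T h h', colL_normal_iff h h']

theorem same_normal_iff (C : Ctx Q) (T : HypTriple Q) {v d d' : ι → F} (h : IsSingLine Q v d)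
    (h' : IsSingLine Q v d') : Same p (rE C v d) (rE C v d') ↔ InL v d d' := by
  rw [same_rE_iff C T h h', sameL_normal_iff h]

/-- in dimension at least nine, two non-orthogonal meeting lines have a claw among their common
neighbours -/
theorem claw_of_bType (C : Ctx Q) (T : HypTriple Q) (h9 : 9 ≤ Fintype.card ι) {v b₁ b₁' : ι → F}
    (hL : IsSingLine Q v b₁) (hL' : IsSingLine Q v b₁') (hb : polar ⇑Q b₁ b₁' ≠ 0) :
    Claw p (rE C v b₁) (rE C v b₁') := by
  obtain ⟨d₀, d₁, d₂, d₃, ⟨L0, a0, a0'⟩, ⟨L1, a1, a1'⟩, ⟨L2, a2, a2'⟩, ⟨L3, a3, a3'⟩,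
    o1, o2, o3, n12, n13, n23⟩ := exists_claw_vectors C.hQ h9 hL hL' hb
  have sw : ∀ {x y : ι → F}, polar ⇑Q x y = 0 → polar ⇑Q y x = 0 := by
    intro x y h
    rw [QuadraticMap.polar_comm]; exact h
  have swn : ∀ {x y : ι → F}, polar ⇑Q x y ≠ 0 → polar ⇑Q y x ≠ 0 := by
    intro x y h
    rw [QuadraticMap.polar_comm]; exact h
  -- membership in the set of common neighbours
  have cn : ∀ {d : ι → F}, IsSingLine Q v d → polar ⇑Q d b₁ = 0 → polar ⇑Q d b₁' = 0 →
      CN p (rE C v b₁) (rE C v b₁') (rE C v d) := fun hd h1 h2 =>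
    (bType_cN_iff C T hL hL' hb _).2 ⟨_, hd, h1, h2, rfl⟩
  -- not on the line `⟨v, d₀⟩`
  have notin : ∀ {d w : ι → F}, polar ⇑Q v w = 0 → polar ⇑Q d₀ w = 0 → polar ⇑Q d w ≠ 0 →
      ¬ InL v d₀ d := by
    rintro d w h1 h2 h3 ⟨α, β, e⟩
    apply h3
    rw [e, QuadraticMap.polar_add_left, QuadraticMap.polar_smul_left,
      QuadraticMap.polar_smul_left, h1, h2]
    simp
  -- pairs which are neither collinear nor on the same line
  have nn : ∀ {d d' : ι → F}, IsSingLine Q v d → IsSingLine Q v d' → polar ⇑Q d d' ≠ 0 →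
      ¬ Col p (rE C v d) (rE C v d') ∧ ¬ Same p (rE C v d) (rE C v d') := by
    intro d d' hd hd' hne
    constructor
    · intro hc
      exact hne ((col_normal_iff C T hd hd').1 hc).2
    · intro hs
      obtain ⟨α, β, e⟩ := (same_normal_iff C T hd hd').1 hs
      apply hne
      rw [e, QuadraticMap.polar_add_right, QuadraticMap.polar_smul_right,
        QuadraticMap.polar_smul_right, hd.polar_eq', polar_self_of_singular Q hd.Qr]
      simp
  refine ⟨rE C v d₀, rE C v d₁, rE C v d₂, rE C v d₃, cn L0 a0 a0', cn L1 a1 a1', cn L2 a2 a2',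
    cn L3 a3 a3', ?_, ?_, ?_, nn L1 L2 n12, nn L1 L3 n13, nn L2 L3 n23⟩
  · exact (col_normal_iff C T L0 L1).2 ⟨notin L2.polar_eq o2 n12, o1⟩
  · exact (col_normal_iff C T L0 L2).2 ⟨notin L1.polar_eq o1 (swn n12), o2⟩
  · exact (col_normal_iff C T L0 L3).2 ⟨notin L1.polar_eq o1 (swn n13), o3⟩

/-- **meeting lines**: the group-theoretic relation `Meet` between root elements holds iff their
lines are distinct and meet in a point -/
theorem meet_rE_iff (C : Ctx Q) (T : HypTriple Q) (H : H4 Q) {a b a' b' : ι → F}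
    (h : IsSingLine Q a b) (h' : IsSingLine Q a' b') :
    Meet p (rE C a b) (rE C a' b') ↔ ¬ SameL a b a' b' ∧ MeetL a b a' b' := by
  constructor
  · rintro ⟨-, -, hns, hcomm, hor⟩
    have hns' : ¬ SameL a b a' b' := fun hs => hns ((same_rE_iff C T h h').2 hs)
    refine ⟨hns', ?_⟩
    rcases (commute_rE_iff C T h h').1 hcomm with hp' | hm
    · by_contra hm
      rcases hor with h1 | h1 | h1
      · exact hm ((col_rE_iff' C T h h').1 h1).2.2
      · exact not_noColPair_of_cType C T h h' hp' hm h1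
      · exact not_claw_of_cType C T h h' hp' hm h1
    · exact hm
  · rintro ⟨hns, hm⟩
    refine ⟨rtE_rE C T h, rtE_rE C T h', fun hs => hns ((same_rE_iff C T h h').1 hs),
      (commute_rE_iff C T h h').2 (Or.inr hm), ?_⟩
    by_cases hp' : PerpL Q a b a' b'
    · exact Or.inl ((col_rE_iff' C T h h').2 ⟨hns, hp', hm⟩)
    · right
      obtain ⟨v, b₁, b₁', hL, hL', e1, e1', s1, s2, s1', s2'⟩ := exists_normal_form h h' hm
      have hb : polar ⇑Q b₁ b₁' ≠ 0 := by
        intro h0
        exact hp' (((perpL_normal_iff hL hL').2 h0).congr s2 s2')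
      rw [← rE_congr C e1, ← rE_congr C e1']
      rcases H with h9 | hno
      · exact Or.inr (claw_of_bType C T h9 hL hL' hb)
      · exact Or.inl (noColPair_of_bType C T hno hL hL' hb)

end Cfsg.Agent.Helper5.AutO
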