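import Mathlib
import Cfsg.Agent.Helper5.AutOK

/-!
# Automorphisms of `PΩ(Q)`, part L: points.  The subgroups `Q̄_a` and their images under
automorphisms
-/

set_option autoImplicit false
set_option linter.unusedSectionVars false
set_option linter.unusedVariables false
set_option linter.unusedSimpArgs false

namespace Cfsg.Agent.Helper5.AutO

open Matrix QuadraticMap Module Cfsg.Agent.Helper44 Cfsg.Agent.Helper45.OmegaParity

variable {F : Type*} [Field F] [Fintype F] {ι : Type} [Fintype ι] [DecidableEq ι]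
variable {Q : QuadraticForm F (ι → F)} {p : ℕ} [hp : Fact p.Prime] [CharP F p]

/-- the image in `PΩ(Q)` of the group `{E(a, w) : w ⟂ a}` -/
noncomputable def Qb (C : Ctx Q) (a : ι → F) (ha : Q a = 0) : Subgroup (Cfsg.POmega F ⇑Q) where
  carrier := {x | ∃ w : ι → F, polar ⇑Q a w = 0 ∧ x = rE C a w}
  one_mem' := ⟨0, QuadraticMap.polar_zero_right _ _, (rE_zero C a).symm⟩
  mul_mem' := by
    rintro x y ⟨w, hw, rfl⟩ ⟨w', hw', rfl⟩
    refine ⟨w + w', ?_, rE_mul C ha hw hw'⟩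
    rw [QuadraticMap.polar_add_right, hw, hw', add_zero]
  inv_mem' := by
    rintro x ⟨w, hw, rfl⟩
    have hw' : polar ⇑Q a (-w) = 0 := by rw [QuadraticMap.polar_neg_right, hw, neg_zero]
    refine ⟨-w, hw', ?_⟩
    rw [inv_eq_iff_mul_eq_one, rE_mul C ha hw hw', add_neg_cancel, rE_zero]

theorem mem_Qb (C : Ctx Q) {a : ι → F} {ha : Q a = 0} {x : Cfsg.POmega F ⇑Q} :
    x ∈ Qb C a ha ↔ ∃ w : ι → F, polar ⇑Q a w = 0 ∧ x = rE C a w := Iff.rfl

theorem rE_mem_Qb (C : Ctx Q) {a w : ι → F} (ha : Q a = 0) (hw : polar ⇑Q a w = 0) :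
    rE C a w ∈ Qb C a ha := ⟨w, hw, rfl⟩

/-- the star of a pair of non-orthogonal lines through `v`: the root elements whose line passes
through `v` -/
theorem star_normal_iff (C : Ctx Q) (T : HypTriple Q) (H : H4 Q) {v b₁ b₁' u w : ι → F}
    (hL : IsSingLine Q v b₁) (hL' : IsSingLine Q v b₁') (hb : polar ⇑Q b₁ b₁' ≠ 0)
    (hN : IsSingLine Q u w) :
    Star p (rE C v b₁) (rE C v b₁') (rE C u w) ↔ InL u w v := by
  constructor
  · rintro ⟨-, hs | hs | ⟨hm1, hm2⟩⟩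
    · exact ((same_rE_iff C T hN hL).1 hs).1
    · exact ((same_rE_iff C T hN hL').1 hs).1
    · exact inL_of_col_two hL hL' hb hN ((meet_rE_iff C T H hN hL).1 hm1).2
        ((meet_rE_iff C T H hN hL').1 hm2).2
  · intro hv
    refine ⟨rtE_rE C T hN, ?_⟩
    by_cases h1 : SameL u w v b₁
    · exact Or.inl ((same_rE_iff C T hN hL).2 h1)
    by_cases h2 : SameL u w v b₁'
    · exact Or.inr (Or.inl ((same_rE_iff C T hN hL').2 h2))
    right; right
    exact ⟨(meet_rE_iff C T H hN hL).2 ⟨h1, v, hL.p_ne, hv, inL_left _ _⟩,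
      (meet_rE_iff C T H hN hL').2 ⟨h2, v, hL.p_ne, hv, inL_left _ _⟩⟩

/-- elements of the star lie in `Q̄_v` -/
theorem star_mem_Qb (C : Ctx Q) (T : HypTriple Q) (H : H4 Q) {v b₁ b₁' : ι → F}
    (hL : IsSingLine Q v b₁) (hL' : IsSingLine Q v b₁') (hb : polar ⇑Q b₁ b₁' ≠ 0)
    {z : Cfsg.POmega F ⇑Q} (hz : Star p (rE C v b₁) (rE C v b₁') z) : z ∈ Qb C v hL.Qp := by
  obtain ⟨u, w, hN, rfl⟩ := (rtE_iff_exists C T z).1 hz.1
  have hv := (star_normal_iff C T H hL hL' hb hN).1 hz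
  obtain ⟨d, hNd, -, -, -, e⟩ := rebase hN hv hL.p_ne
  rw [← rE_congr C e]
  exact rE_mem_Qb C hL.Qp hNd.polar_eq

/-- pairs of root elements whose lines meet and are not orthogonal, in normal form -/
theorem exists_normal_of_nP (C : Ctx Q) (T : HypTriple Q) (H : H4 Q) {x y : Cfsg.POmega F ⇑Q}
    (h : NP p x y) :
    ∃ v b₁ b₁' : ι → F, IsSingLine Q v b₁ ∧ IsSingLine Q v b₁' ∧ polar ⇑Q b₁ b₁' ≠ 0 ∧
      x = rE C v b₁ ∧ y = rE C v b₁' := by
  obtain ⟨hmeet, hncol⟩ := h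
  obtain ⟨a, b, hab, rfl⟩ := (rtE_iff_exists C T x).1 hmeet.1
  obtain ⟨a', b', hab', rfl⟩ := (rtE_iff_exists C T y).1 hmeet.2.1
  obtain ⟨hns, hm⟩ := (meet_rE_iff C T H hab hab').1 hmeet
  obtain ⟨v, b₁, b₁', hL, hL', e1, e1', s1, s2, s1', s2'⟩ := exists_normal_form hab hab' hm
  refine ⟨v, b₁, b₁', hL, hL', ?_, (rE_congr C e1).symm, (rE_congr C e1').symm⟩
  intro h0
  apply hncol
  rw [col_rE_iff' C T hab hab']
  exact ⟨hns, ((perpL_normal_iff hL hL').2 h0).congr s2 s2', hm⟩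

theorem nP_normal (C : Ctx Q) (T : HypTriple Q) (H : H4 Q) {v b₁ b₁' : ι → F}
    (hL : IsSingLine Q v b₁) (hL' : IsSingLine Q v b₁') (hb : polar ⇑Q b₁ b₁' ≠ 0) :
    NP p (rE C v b₁) (rE C v b₁') := by
  have hns : ¬ SameL v b₁ v b₁' := by
    rw [sameL_normal_iff hL]
    rintro ⟨α, β, e⟩
    apply hb
    rw [e, QuadraticMap.polar_add_right, QuadraticMap.polar_smul_right,
      QuadraticMap.polar_smul_right, hL.polar_eq', polar_self_of_singular Q hL.Qr]
    simp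
  refine ⟨(meet_rE_iff C T H hL hL').2 ⟨hns, meetL_normal hL⟩, ?_⟩
  intro hc
  exact hb ((col_normal_iff C T hL hL').1 hc).2

end Cfsg.Agent.Helper5.AutO
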