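import Mathlib
import Cfsg.Agent.Helper5.AutOL

/-!
# Automorphisms of `PΩ(Q)`, part M: after an inner adjustment an automorphism normalises `Q̄_e`
-/

set_option autoImplicit false
set_option linter.unusedSectionVars false
set_option linter.unusedVariables false
set_option linter.unusedSimpArgs false

namespace Cfsg.Agent.Helper5.AutO

open Matrix QuadraticMap Module Cfsg.Agent.Helper44 Cfsg.Agent.Helper45.OmegaParity

variable {F : Type*} [Field F] {ι : Type} [Fintype ι] [DecidableEq ι]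
variable {Q : QuadraticForm F (ι → F)}

/-- decomposition of a vector as a sum of three singular vectors, using a hyperbolic pair -/
theorem exists_singular_decomp {u u' : ι → F} (hu : Q u = 0) (hu' : Q u' = 0)
    (huu' : polar ⇑Q u u' = 1) (x : ι → F) :
    ∃ s₁ s₂ s₃ : ι → F, Q s₁ = 0 ∧ Q s₂ = 0 ∧ Q s₃ = 0 ∧ x = s₁ + s₂ + s₃ ∧
      ∀ t : ι → F, polar ⇑Q t u = 0 → polar ⇑Q t u' = 0 → polar ⇑Q t x = 0 →
        (polar ⇑Q t s₁ = 0 ∧ polar ⇑Q t s₂ = 0 ∧ polar ⇑Q t s₃ = 0) := by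
  have hu'u : polar ⇑Q u' u = 1 := by rw [QuadraticMap.polar_comm]; exact huu'
  have huu : polar ⇑Q u u = 0 := polar_self_of_singular Q hu
  have hu'u'' : polar ⇑Q u' u' = 0 := polar_self_of_singular Q hu'
  obtain ⟨y, hy⟩ : ∃ y : ι → F, y = x - polar ⇑Q x u' • u - polar ⇑Q x u • u' := ⟨_, rfl⟩
  have hyu : polar ⇑Q y u = 0 := by
    rw [hy, QuadraticMap.polar_sub_left, QuadraticMap.polar_sub_left, QuadraticMap.polar_smul_left,
      QuadraticMap.polar_smul_left, huu, hu'u]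
    simp
  have hyu' : polar ⇑Q y u' = 0 := by
    rw [hy, QuadraticMap.polar_sub_left, QuadraticMap.polar_sub_left, QuadraticMap.polar_smul_left,
      QuadraticMap.polar_smul_left, huu', hu'u'']
    simp
  refine ⟨u - Q y • u' + y, (polar ⇑Q x u' - 1) • u, (polar ⇑Q x u + Q y) • u', ?_, ?_, ?_, ?_, ?_⟩
  · have e1 : u - Q y • u' + y = (u + (-(Q y)) • u') + y := by module
    rw [e1, QuadraticMap.map_add ⇑Q, QuadraticMap.map_add ⇑Q, QuadraticMap.map_smul, hu, hu',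
      QuadraticMap.polar_smul_right, huu', QuadraticMap.polar_add_left,
      QuadraticMap.polar_smul_left, QuadraticMap.polar_comm ⇑Q u y, hyu,
      QuadraticMap.polar_comm ⇑Q u' y, hyu']
    simp
  · rw [QuadraticMap.map_smul, hu, smul_zero]
  · rw [QuadraticMap.map_smul, hu', smul_zero]
  · rw [hy]
    module
  · intro t h1 h2 h3
    have hty : polar ⇑Q t y = 0 := by
      rw [hy, QuadraticMap.polar_sub_right, QuadraticMap.polar_sub_right,
        QuadraticMap.polar_smul_right, QuadraticMap.polar_smul_right, h1, h2, h3]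
      simp
    refine ⟨?_, ?_, ?_⟩
    · rw [QuadraticMap.polar_add_right, QuadraticMap.polar_sub_right,
        QuadraticMap.polar_smul_right, h1, h2, hty]
      simp
    · rw [QuadraticMap.polar_smul_right, h1, smul_zero]
    · rw [QuadraticMap.polar_smul_right, h2, smul_zero]

section fin

variable [Fintype F] {p : ℕ} [hp : Fact p.Prime] [CharP F p]

/-- the line `⟨e, s⟩` for a singular `s ∈ ⟨e, f⟩^⊥` -/
theorem line_of_W0 {e f s : ι → F} (he : Q e = 0) (hef : polar ⇑Q e f = 1) (hs0 : s ≠ 0)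
    (hs : Q s = 0) (hse : polar ⇑Q e s = 0) (hsf : polar ⇑Q f s = 0) : IsSingLine Q e s := by
  refine isSingLine_of ?_ he hs hse
  intro α β hαβ
  have e1 := congrArg (fun u => polar ⇑Q u f) hαβ
  simp only [QuadraticMap.polar_add_left, QuadraticMap.polar_smul_left, smul_eq_mul, hef,
    QuadraticMap.polar_comm ⇑Q s f, hsf, mul_zero, add_zero, mul_one,
    QuadraticMap.polar_zero_left] at e1
  rw [e1, zero_smul, zero_add] at hαβ
  exact ⟨e1, (smul_eq_zero.1 hαβ).resolve_right hs0⟩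

/-- `Q̄_e` is generated by the star of the pair `E(e, e₁)`, `E(e, f₁)` -/
theorem Qb_le_closure_star (C : Ctx Q) (T : HypTriple Q) (H : H4 Q) :
    Qb C (T.e 0) (T.Qe 0) ≤
      Subgroup.closure {z | Star p (rE C (T.e 0) (T.e 1)) (rE C (T.e 0) (T.f 1)) z} := by
  have hL : IsSingLine Q (T.e 0) (T.e 1) := HypTriple.line01 T
  have hL' : IsSingLine Q (T.e 0) (T.f 1) :=
    line_of_W0 (T.Qe 0) (by rw [T.ef]; simp) (HypTriple.f_ne_zero T 1) (T.Qf 1)
      (by rw [T.ef]; simp) (T.ff 0 1)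
  have hb : polar ⇑Q (T.e 1) (T.f 1) ≠ 0 := by rw [T.ef]; simp
  rintro x ⟨w, hw, rfl⟩
  -- remove the `e`-component
  obtain ⟨w₀, hw₀⟩ : ∃ w₀ : ι → F, w₀ = w - polar ⇑Q w (T.f 0) • T.e 0 := ⟨_, rfl⟩
  have hfe : polar ⇑Q (T.f 0) (T.e 0) = 1 := by rw [HypTriple.fe]; simp
  have hef : polar ⇑Q (T.e 0) (T.f 0) = 1 := by rw [T.ef]; simp
  have hee : polar ⇑Q (T.e 0) (T.e 0) = 0 := T.ee 0 0
  have hw₀e : polar ⇑Q (T.e 0) w₀ = 0 := by
    rw [hw₀, QuadraticMap.polar_sub_right, QuadraticMap.polar_smul_right, hw, hee]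
    simp
  have hw₀f : polar ⇑Q (T.f 0) w₀ = 0 := by
    rw [hw₀, QuadraticMap.polar_sub_right, QuadraticMap.polar_smul_right, hfe,
      QuadraticMap.polar_comm ⇑Q (T.f 0) w]
    simp
  have e1 : rE C (T.e 0) w = rE C (T.e 0) w₀ := by
    apply rE_congr
    have : w = w₀ + polar ⇑Q w (T.f 0) • T.e 0 := by rw [hw₀]; abel
    conv_lhs => rw [this]
    exact eichlerO_add_smul Q (T.Qe 0) hw₀e _
  rw [e1]
  obtain ⟨s₁, s₂, s₃, q1, q2, q3, hsum, hperp⟩ :=
    exists_singular_decomp (T.Qe 1) (T.Qf 1) (by rw [T.ef]; simp) w₀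
  obtain ⟨a1, a2, a3⟩ := hperp (T.e 0) (T.ee 0 1) (by rw [T.ef]; simp) hw₀e
  obtain ⟨b1, b2, b3⟩ := hperp (T.f 0) (by rw [HypTriple.fe]; simp) (T.ff 0 1) hw₀f
  have key : ∀ s : ι → F, Q s = 0 → polar ⇑Q (T.e 0) s = 0 → polar ⇑Q (T.f 0) s = 0 →
      rE C (T.e 0) s ∈
        Subgroup.closure {z | Star p (rE C (T.e 0) (T.e 1)) (rE C (T.e 0) (T.f 1)) z} := by
    intro s hs hse hsf
    by_cases hs0 : s = 0
    · rw [hs0, rE_zero]
      exact one_mem _
    · apply Subgroup.subset_closure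
      have hN := line_of_W0 (T.Qe 0) hef hs0 hs hse hsf
      exact (star_normal_iff C T H hL hL' hb hN).2 (inL_left _ _)
  have a12 : polar ⇑Q (T.e 0) (s₁ + s₂) = 0 := by
    rw [QuadraticMap.polar_add_right, a1, a2, add_zero]
  rw [hsum, ← rE_mul C (T.Qe 0) a12 a3, ← rE_mul C (T.Qe 0) a1 a2]
  exact mul_mem (mul_mem (key s₁ q1 a1 b1) (key s₂ q2 a2 b2)) (key s₃ q3 a3 b3)

/-- **an automorphism maps `Q̄_e` into some `Q̄_v`** -/
theorem exists_point_of_aut {p : ℕ} [hp : Fact p.Prime] [CharP F p] (C : Ctx Q)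
    (T : HypTriple Q) (H : H4 Q) (β : Cfsg.POmega F ⇑Q ≃* Cfsg.POmega F ⇑Q) :
    ∃ (v : ι → F) (hv : Q v = 0), v ≠ 0 ∧
      ∀ x ∈ Qb C (T.e 0) (T.Qe 0), β x ∈ Qb C v hv := by
  have hL : IsSingLine Q (T.e 0) (T.e 1) := HypTriple.line01 T
  have hL' : IsSingLine Q (T.e 0) (T.f 1) :=
    line_of_W0 (T.Qe 0) (by rw [T.ef]; simp) (HypTriple.f_ne_zero T 1) (T.Qf 1)
      (by rw [T.ef]; simp) (T.ff 0 1)
  have hb : polar ⇑Q (T.e 1) (T.f 1) ≠ 0 := by rw [T.ef]; simp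
  have hnp : NP p (β (rE C (T.e 0) (T.e 1))) (β (rE C (T.e 0) (T.f 1))) :=
    (nP_iff β _ _).2 (nP_normal C T H hL hL' hb)
  obtain ⟨v, b₁, b₁', hM, hM', hbb, e1, e2⟩ := exists_normal_of_nP C T H hnp
  refine ⟨v, hM.Qp, hM.p_ne, ?_⟩
  intro x hx
  have h1 := Qb_le_closure_star (p := p) C T H hx
  have h2 : β x ∈ (Subgroup.closure
      {z | Star p (rE C (T.e 0) (T.e 1)) (rE C (T.e 0) (T.f 1)) z}).map β.toMonoidHom :=
    Subgroup.mem_map_of_mem _ h1
  rw [MonoidHom.map_closure] at h2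
  refine (Subgroup.closure_le _).2 ?_ h2
  rintro _ ⟨z, hz, rfl⟩
  have hz' : Star p (β (rE C (T.e 0) (T.e 1))) (β (rE C (T.e 0) (T.f 1))) (β z) :=
    (star_iff β _ _ _).2 hz
  rw [e1, e2] at hz'
  exact star_mem_Qb C T H hM hM' hbb hz'

end fin

end Cfsg.Agent.Helper5.AutO
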