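import Mathlib
import Cfsg.Agent.Helper5.AutOM

/-!
# Automorphisms of `PΩ(Q)`, part N: inner adjustment; the coordinate on `Q̄_e`
-/

set_option autoImplicit false
set_option linter.unusedSectionVars false
set_option linter.unusedVariables false
set_option linter.unusedSimpArgs false

namespace Cfsg.Agent.Helper5.AutO

open Matrix QuadraticMap Module Cfsg.Agent.Helper44 Cfsg.Agent.Helper45.OmegaParity

variable {F : Type*} [Field F] [Fintype F] {ι : Type} [Fintype ι] [DecidableEq ι]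
variable {Q : QuadraticForm F (ι → F)}

theorem prj_conj_rE (C : Ctx Q) (g : ↥(Cfsg.Omega F ⇑Q)) {u w : ι → F} (hu : Q u = 0)
    (huw : polar ⇑Q u w = 0) :
    prj g * rE C u w * (prj g)⁻¹ = rE C (lin Q g.1 u) (lin Q g.1 w) := by
  rw [rE_def, rE_def, ← map_inv, ← map_mul, ← map_mul, eO_conj C g hu huw]

theorem rE_smul_left (C : Ctx Q) {u w : ι → F} (hu : Q u = 0) (huw : polar ⇑Q u w = 0) (c : F) :
    rE C (c • u) w = rE C u (c • w) :=
  rE_congr C (eichlerO_smul_left Q hu huw c)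

/-- `β` normalises `Q̄_e` -/
def NormQ (C : Ctx Q) (T : HypTriple Q) (β : Cfsg.POmega F ⇑Q ≃* Cfsg.POmega F ⇑Q) : Prop :=
  ∀ x, x ∈ Qb C (T.e 0) (T.Qe 0) ↔ β x ∈ Qb C (T.e 0) (T.Qe 0)

theorem normQ_of_maps (C : Ctx Q) (T : HypTriple Q) (β : Cfsg.POmega F ⇑Q ≃* Cfsg.POmega F ⇑Q)
    (h : ∀ x ∈ Qb C (T.e 0) (T.Qe 0), β x ∈ Qb C (T.e 0) (T.Qe 0)) : NormQ C T β := by
  intro x
  refine ⟨h x, ?_⟩
  intro hx
  let f : ↥(Qb C (T.e 0) (T.Qe 0)) → ↥(Qb C (T.e 0) (T.Qe 0)) := fun y => ⟨β y.1, h y.1 y.2⟩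
  have hinj : Function.Injective f := by
    intro y y' hyy'
    apply Subtype.ext
    apply β.injective
    exact congrArg Subtype.val hyy'
  have hsurj := Finite.surjective_of_injective hinj
  obtain ⟨y, hy⟩ := hsurj ⟨β x, hx⟩
  have : β y.1 = β x := congrArg Subtype.val hy
  rw [← β.injective this]
  exact y.2

theorem NormQ.symm {C : Ctx Q} {T : HypTriple Q} {β : Cfsg.POmega F ⇑Q ≃* Cfsg.POmega F ⇑Q}
    (h : NormQ C T β) : NormQ C T β.symm := by
  intro x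
  have := h (β.symm x)
  rw [β.apply_symm_apply] at this
  exact this.symm

/-- **inner adjustment**: some inner automorphism composed with `β` normalises `Q̄_e` -/
theorem exists_inner_normQ {p : ℕ} [hp : Fact p.Prime] [CharP F p] (C : Ctx Q)
    (T : HypTriple Q) (H : H4 Q) (β : Cfsg.POmega F ⇑Q ≃* Cfsg.POmega F ⇑Q) :
    ∃ g : ↥(Cfsg.Omega F ⇑Q), NormQ C T (β.trans (MulAut.conj (prj g))) := by
  obtain ⟨v, hv, hv0, hmap⟩ := exists_point_of_aut (p := p) C T H β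
  obtain ⟨z, w, c, hz, hzw, hc, hgv⟩ := exists_eichlerO_map_point Q C.hQ
    (by have := C.hn; omega) hv0 (HypTriple.e_ne_zero T 0) hv (T.Qe 0)
  refine ⟨eO C z w, normQ_of_maps C T _ ?_⟩
  intro x hx
  obtain ⟨w', hw', e⟩ := hmap x hx
  show MulAut.conj (prj (eO C z w)) (β x) ∈ _
  rw [MulAut.conj_apply, e, prj_conj_rE C _ hv hw', eO_val, hgv]
  have h1 : polar ⇑Q (T.e 0) (lin Q (eichlerO Q z w) w') = 0 := by
    have h2 : polar ⇑Q (lin Q (eichlerO Q z w) v) (lin Q (eichlerO Q z w) w') = 0 := by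
      rw [polar_lin, hw']
    rw [hgv, QuadraticMap.polar_smul_left, smul_eq_mul] at h2
    exact (mul_eq_zero.1 h2).resolve_left hc
  rw [rE_smul_left C (T.Qe 0) h1]
  apply rE_mem_Qb
  rw [QuadraticMap.polar_smul_right, h1, smul_zero]

end Cfsg.Agent.Helper5.AutO
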