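import Mathlib
import Cfsg.Agent.Helper5.AutON

/-!
# Automorphisms of `PΩ(Q)`, part O: the map induced on `W₀ = ⟨e, f⟩^⊥` by an automorphism
normalising `Q̄_e`
-/

set_option autoImplicit false
set_option linter.unusedSectionVars false
set_option linter.unusedVariables false
set_option linter.unusedSimpArgs false

namespace Cfsg.Agent.Helper5.AutO

open Matrix QuadraticMap Module Cfsg.Agent.Helper44 Cfsg.Agent.Helper45.OmegaParity

variable {F : Type*} [Field F] {ι : Type} [Fintype ι] [DecidableEq ι]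
variable {Q : QuadraticForm F (ι → F)}

/-- `W₀ = ⟨e, f⟩^⊥` -/
def W0 (T : HypTriple Q) : Submodule F (ι → F) where
  carrier := {w | polar ⇑Q (T.e 0) w = 0 ∧ polar ⇑Q (T.f 0) w = 0}
  add_mem' := by
    rintro a b ⟨h1, h2⟩ ⟨h3, h4⟩
    exact ⟨by rw [QuadraticMap.polar_add_right, h1, h3, add_zero],
      by rw [QuadraticMap.polar_add_right, h2, h4, add_zero]⟩
  zero_mem' := ⟨QuadraticMap.polar_zero_right _ _, QuadraticMap.polar_zero_right _ _⟩
  smul_mem' := by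
    rintro c a ⟨h1, h2⟩
    exact ⟨by rw [QuadraticMap.polar_smul_right, h1, smul_zero],
      by rw [QuadraticMap.polar_smul_right, h2, smul_zero]⟩

theorem mem_W0 {T : HypTriple Q} {w : ι → F} :
    w ∈ W0 T ↔ polar ⇑Q (T.e 0) w = 0 ∧ polar ⇑Q (T.f 0) w = 0 := Iff.rfl

theorem ef0 (T : HypTriple Q) : polar ⇑Q (T.e 0) (T.f 0) = 1 := by rw [T.ef]; simp

theorem fe0 (T : HypTriple Q) : polar ⇑Q (T.f 0) (T.e 0) = 1 := by rw [HypTriple.fe]; simp

/-- a vector of `W₀` proportional to `e` vanishes -/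
theorem W0_smul_e {T : HypTriple Q} {w : ι → F} (hw : w ∈ W0 T) {t : F} (h : w = t • T.e 0) :
    w = 0 := by
  have h1 := hw.2
  rw [h, QuadraticMap.polar_smul_right, fe0, smul_eq_mul, mul_one] at h1
  rw [h, h1, zero_smul]

theorem e1_mem_W0 (T : HypTriple Q) : T.e 1 ∈ W0 T := ⟨T.ee 0 1, by rw [HypTriple.fe]; simp⟩
theorem f1_mem_W0 (T : HypTriple Q) : T.f 1 ∈ W0 T := ⟨by rw [T.ef]; simp, T.ff 0 1⟩
theorem e2_mem_W0 (T : HypTriple Q) : T.e 2 ∈ W0 T := ⟨T.ee 0 2, by rw [HypTriple.fe]; simp⟩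
theorem f2_mem_W0 (T : HypTriple Q) : T.f 2 ∈ W0 T := ⟨by rw [T.ef]; simp, T.ff 0 2⟩

/-- membership of `W₀` in a line through `e` -/
theorem W0_inL {T : HypTriple Q} {w w' : ι → F} (hw' : w' ∈ W0 T) (hw : w ∈ W0 T)
    (h : InL (T.e 0) w w') : ∃ t : F, w' = t • w := by
  obtain ⟨α, β, e⟩ := h
  have h1 := hw'.2
  rw [e, QuadraticMap.polar_add_right, QuadraticMap.polar_smul_right,
    QuadraticMap.polar_smul_right, fe0, hw.2] at h1
  simp only [smul_eq_mul, mul_one, mul_zero, add_zero] at h1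
  exact ⟨β, by rw [e, h1, zero_smul, zero_add]⟩

section fin

variable [Fintype F]

/-- a singular non-zero vector of `W₀` spans a singular line with `e` -/
theorem line_W0 {T : HypTriple Q} {w : ι → F} (hw : w ∈ W0 T) (hw0 : w ≠ 0) (hwQ : Q w = 0) :
    IsSingLine Q (T.e 0) w :=
  line_of_W0 (T.Qe 0) (ef0 T) hw0 hwQ hw.1 hw.2

/-- parametrisation of `Q̄_e` by `W₀` -/
theorem exists_param (C : Ctx Q) (T : HypTriple Q) {x : Cfsg.POmega F ⇑Q}
    (hx : x ∈ Qb C (T.e 0) (T.Qe 0)) : ∃ w : W0 T, x = rE C (T.e 0) (w : ι → F) := by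
  obtain ⟨w, hw, rfl⟩ := hx
  have hee : polar ⇑Q (T.e 0) (T.e 0) = 0 := T.ee 0 0
  have hmem : w - polar ⇑Q w (T.f 0) • T.e 0 ∈ W0 T := by
    constructor
    · rw [QuadraticMap.polar_sub_right, QuadraticMap.polar_smul_right, hw, hee]
      simp
    · rw [QuadraticMap.polar_sub_right, QuadraticMap.polar_smul_right, fe0,
        QuadraticMap.polar_comm ⇑Q (T.f 0) w]
      simp
  refine ⟨⟨_, hmem⟩, ?_⟩
  apply rE_congr
  have : w = (w - polar ⇑Q w (T.f 0) • T.e 0) + polar ⇑Q w (T.f 0) • T.e 0 := by abel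
  conv_lhs => rw [this]
  exact eichlerO_add_smul Q (T.Qe 0) hmem.1 _

theorem param_unique (C : Ctx Q) (T : HypTriple Q) {w w' : W0 T}
    (h : rE C (T.e 0) (w : ι → F) = rE C (T.e 0) (w' : ι → F)) : w = w' := by
  have h1 := eichlerO_eq_of_rE_eq C T (T.Qe 0) w.2.1 (T.Qe 0) w'.2.1 h
  obtain ⟨c, hc⟩ := eichlerO_inj C.hQ (HypTriple.e_ne_zero T 0) (T.Qe 0) w.2.1 w'.2.1 h1
  have h2 : (w' : ι → F) - (w : ι → F) ∈ W0 T := (W0 T).sub_mem w'.2 w.2
  have h3 := W0_smul_e h2 (t := c) (by rw [hc]; abel)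
  apply Subtype.ext
  exact (sub_eq_zero.1 h3).symm

open Classical in
/-- the `W₀`-coordinate of an element of `Q̄_e` -/
noncomputable def wcoord (C : Ctx Q) (T : HypTriple Q) (x : Cfsg.POmega F ⇑Q) : W0 T :=
  if hx : x ∈ Qb C (T.e 0) (T.Qe 0) then (exists_param C T hx).choose else 0

theorem wcoord_spec (C : Ctx Q) (T : HypTriple Q) {x : Cfsg.POmega F ⇑Q}
    (hx : x ∈ Qb C (T.e 0) (T.Qe 0)) : x = rE C (T.e 0) (wcoord C T x : ι → F) := by
  unfold wcoord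
  rw [dif_pos hx]
  exact (exists_param C T hx).choose_spec

theorem rE_W0_mem (C : Ctx Q) (T : HypTriple Q) (w : W0 T) :
    rE C (T.e 0) (w : ι → F) ∈ Qb C (T.e 0) (T.Qe 0) := rE_mem_Qb C (T.Qe 0) w.2.1

theorem wcoord_rE (C : Ctx Q) (T : HypTriple Q) (w : W0 T) :
    wcoord C T (rE C (T.e 0) (w : ι → F)) = w :=
  (param_unique C T (wcoord_spec C T (rE_W0_mem C T w))).symm

/-- the map induced on `W₀` -/
noncomputable def gFun (C : Ctx Q) (T : HypTriple Q)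
    (β : Cfsg.POmega F ⇑Q ≃* Cfsg.POmega F ⇑Q) (w : W0 T) : W0 T :=
  wcoord C T (β (rE C (T.e 0) (w : ι → F)))

theorem gFun_spec {C : Ctx Q} {T : HypTriple Q} {β : Cfsg.POmega F ⇑Q ≃* Cfsg.POmega F ⇑Q}
    (hβ : NormQ C T β) (w : W0 T) :
    β (rE C (T.e 0) (w : ι → F)) = rE C (T.e 0) (gFun C T β w : ι → F) :=
  wcoord_spec C T ((hβ _).1 (rE_W0_mem C T w))

theorem gFun_add {C : Ctx Q} {T : HypTriple Q} {β : Cfsg.POmega F ⇑Q ≃* Cfsg.POmega F ⇑Q}
    (hβ : NormQ C T β) (w w' : W0 T) :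
    gFun C T β (w + w') = gFun C T β w + gFun C T β w' := by
  apply param_unique C T
  rw [← gFun_spec hβ, Submodule.coe_add, Submodule.coe_add,
    ← rE_mul C (T.Qe 0) w.2.1 w'.2.1, map_mul, gFun_spec hβ, gFun_spec hβ,
    rE_mul C (T.Qe 0) (gFun C T β w).2.1 (gFun C T β w').2.1]

theorem gFun_zero {C : Ctx Q} {T : HypTriple Q} {β : Cfsg.POmega F ⇑Q ≃* Cfsg.POmega F ⇑Q}
    (hβ : NormQ C T β) : gFun C T β 0 = 0 := by
  have := gFun_add hβ 0 0
  rw [add_zero] at this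
  exact left_eq_add.1 this

theorem gFun_injective {C : Ctx Q} {T : HypTriple Q}
    {β : Cfsg.POmega F ⇑Q ≃* Cfsg.POmega F ⇑Q} (hβ : NormQ C T β) :
    Function.Injective (gFun C T β) := by
  intro w w' h
  apply param_unique C T
  apply β.injective
  rw [gFun_spec hβ, gFun_spec hβ, h]

theorem gFun_ne_zero {C : Ctx Q} {T : HypTriple Q}
    {β : Cfsg.POmega F ⇑Q ≃* Cfsg.POmega F ⇑Q} (hβ : NormQ C T β) {w : W0 T} (hw : w ≠ 0) :
    gFun C T β w ≠ 0 := by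
  intro h
  apply hw
  apply gFun_injective hβ
  rw [h, gFun_zero hβ]

/-- the inverse map -/
theorem gFun_symm {C : Ctx Q} {T : HypTriple Q} {β : Cfsg.POmega F ⇑Q ≃* Cfsg.POmega F ⇑Q}
    (hβ : NormQ C T β) (w : W0 T) : gFun C T β (gFun C T β.symm w) = w := by
  apply param_unique C T
  rw [← gFun_spec hβ, ← gFun_spec hβ.symm, β.apply_symm_apply]

theorem gFun_surjective {C : Ctx Q} {T : HypTriple Q}
    {β : Cfsg.POmega F ⇑Q ≃* Cfsg.POmega F ⇑Q} (hβ : NormQ C T β) :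
    Function.Surjective (gFun C T β) := fun w => ⟨_, gFun_symm hβ w⟩

end fin

end Cfsg.Agent.Helper5.AutO
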