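import Mathlib
import Cfsg.Agent.Helper5.AutOO

/-!
# Automorphisms of `PΩ(Q)`, part P: the induced map on `W₀` preserves singular vectors, singular
lines and orthogonality of singular vectors
-/

set_option autoImplicit false
set_option linter.unusedSectionVars false
set_option linter.unusedVariables false
set_option linter.unusedSimpArgs false

namespace Cfsg.Agent.Helper5.AutO

open Matrix QuadraticMap Module Cfsg.Agent.Helper44 Cfsg.Agent.Helper45.OmegaParity

variable {F : Type*} [Field F] [Fintype F] {ι : Type} [Fintype ι] [DecidableEq ι]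
variable {Q : QuadraticForm F (ι → F)}

theorem coe_ne_zero' {T : HypTriple Q} {w : W0 T} (hw : w ≠ 0) : (w : ι → F) ≠ 0 :=
  fun h => hw (Subtype.ext h)

/-- **(P1)** singular vectors go to singular vectors -/
theorem gFun_singular {p : ℕ} [hp : Fact p.Prime] [CharP F p] {C : Ctx Q} {T : HypTriple Q}
    {β : Cfsg.POmega F ⇑Q ≃* Cfsg.POmega F ⇑Q} (hβ : NormQ C T β) {w : W0 T}
    (hwQ : Q (w : ι → F) = 0) : Q (gFun C T β w : ι → F) = 0 := by
  by_cases hw : w = 0
  · rw [hw, gFun_zero hβ]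
    exact map_zero _
  have hL := line_W0 w.2 (coe_ne_zero' hw) hwQ
  have h1 : RtE p (β (rE C (T.e 0) (w : ι → F))) := (rtE_iff β _).2 (rtE_rE C T hL)
  obtain ⟨a, b, hab, e⟩ := (rtE_iff_exists C T _).1 h1
  rw [gFun_spec hβ] at e
  have h2 := eichlerO_eq_of_rE_eq C T (T.Qe 0) (gFun C T β w).2.1 hab.Qp hab.polar_eq e
  have hg0 := coe_ne_zero' (gFun_ne_zero hβ hw)
  have hne : ∀ t : F, (gFun C T β w : ι → F) ≠ t • T.e 0 := by
    intro t ht
    exact hg0 (W0_smul_e (gFun C T β w).2 ht)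
  obtain ⟨-, hin⟩ := eichlerO_eq_span C.hQ (T.Qe 0) (gFun C T β w).2.1 hab.Qp hab.polar_eq
    (HypTriple.e_ne_zero T 0) hne h2
  exact hab.Q_inL hin

/-- the line `⟨e, g w⟩` -/
theorem gFun_line {p : ℕ} [hp : Fact p.Prime] [CharP F p] {C : Ctx Q} {T : HypTriple Q}
    {β : Cfsg.POmega F ⇑Q ≃* Cfsg.POmega F ⇑Q} (hβ : NormQ C T β) {w : W0 T} (hw : w ≠ 0)
    (hwQ : Q (w : ι → F) = 0) : IsSingLine Q (T.e 0) (gFun C T β w : ι → F) :=
  line_W0 (gFun C T β w).2 (coe_ne_zero' (gFun_ne_zero hβ hw)) (gFun_singular (p := p) hβ hwQ)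

/-- **(P2)** singular lines go to singular lines -/
theorem gFun_smul_singular {p : ℕ} [hp : Fact p.Prime] [CharP F p] {C : Ctx Q} {T : HypTriple Q}
    {β : Cfsg.POmega F ⇑Q ≃* Cfsg.POmega F ⇑Q} (hβ : NormQ C T β) {w : W0 T}
    (hwQ : Q (w : ι → F) = 0) (t : F) :
    ∃ s : F, gFun C T β (t • w) = s • gFun C T β w := by
  by_cases hw : w = 0
  · refine ⟨0, ?_⟩
    rw [hw, smul_zero, gFun_zero hβ, smul_zero]
  by_cases ht : t = 0
  · refine ⟨0, ?_⟩
    rw [ht, zero_smul, zero_smul, gFun_zero hβ]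
  have htw : t • w ≠ 0 := smul_ne_zero ht hw
  have htwQ : Q ((t • w : W0 T) : ι → F) = 0 := by
    rw [Submodule.coe_smul, QuadraticMap.map_smul, hwQ, smul_zero]
  have hL := line_W0 w.2 (coe_ne_zero' hw) hwQ
  have hL' := line_W0 (t • w).2 (coe_ne_zero' htw) htwQ
  have h1 : Same p (rE C (T.e 0) (w : ι → F)) (rE C (T.e 0) ((t • w : W0 T) : ι → F)) := by
    rw [same_normal_iff C T hL hL', Submodule.coe_smul]
    exact (inL_right _ _).smul t
  have h2 := (same_iff β _ _).2 h1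
  rw [gFun_spec hβ, gFun_spec hβ,
    same_normal_iff C T (gFun_line (p := p) hβ hw hwQ) (gFun_line (p := p) hβ htw htwQ)] at h2
  obtain ⟨s, hs⟩ := W0_inL (gFun C T β (t • w)).2 (gFun C T β w).2 h2
  exact ⟨s, Subtype.ext hs⟩

/-- **(P3)** orthogonal singular vectors go to orthogonal singular vectors -/
theorem gFun_orth {p : ℕ} [hp : Fact p.Prime] [CharP F p] {C : Ctx Q} {T : HypTriple Q}
    {β : Cfsg.POmega F ⇑Q ≃* Cfsg.POmega F ⇑Q} (hβ : NormQ C T β) {w w' : W0 T}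
    (hwQ : Q (w : ι → F) = 0) (hw'Q : Q (w' : ι → F) = 0)
    (hww' : polar ⇑Q (w : ι → F) (w' : ι → F) = 0) :
    polar ⇑Q (gFun C T β w : ι → F) (gFun C T β w' : ι → F) = 0 := by
  by_cases hw : w = 0
  · rw [hw, gFun_zero hβ]
    exact QuadraticMap.polar_zero_left _ _
  by_cases hw' : w' = 0
  · rw [hw', gFun_zero hβ]
    exact QuadraticMap.polar_zero_right _ _
  have hL := line_W0 w.2 (coe_ne_zero' hw) hwQ
  have hL' := line_W0 w'.2 (coe_ne_zero' hw') hw'Q
  have gL := gFun_line (p := p) hβ hw hwQ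
  have gL' := gFun_line (p := p) hβ hw' hw'Q
  by_cases hin : InL (T.e 0) (w : ι → F) (w' : ι → F)
  · obtain ⟨t, ht⟩ := W0_inL w'.2 w.2 hin
    have ht' : w' = t • w := Subtype.ext ht
    obtain ⟨s, hs⟩ := gFun_smul_singular (p := p) hβ hwQ t
    rw [ht', hs, Submodule.coe_smul, QuadraticMap.polar_smul_right,
      polar_self_of_singular Q (gFun_singular (p := p) hβ hwQ), smul_zero]
  · have h1 : Col p (rE C (T.e 0) (w : ι → F)) (rE C (T.e 0) (w' : ι → F)) :=
      (col_normal_iff C T hL hL').2 ⟨hin, hww'⟩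
    have h2 := (col_iff β _ _).2 h1
    rw [gFun_spec hβ, gFun_spec hβ, col_normal_iff C T gL gL'] at h2
    exact h2.2

/-- images of independent singular vectors are independent -/
theorem gFun_indep {p : ℕ} [hp : Fact p.Prime] [CharP F p] {C : Ctx Q} {T : HypTriple Q}
    {β : Cfsg.POmega F ⇑Q ≃* Cfsg.POmega F ⇑Q} (hβ : NormQ C T β) {w w' : W0 T} (hw : w ≠ 0)
    (hw' : w' ≠ 0) (hwQ : Q (w : ι → F) = 0) (hw'Q : Q (w' : ι → F) = 0)
    (hind : ∀ t : F, w' ≠ t • w) (t : F) : gFun C T β w' ≠ t • gFun C T β w := by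
  intro h
  have hL := line_W0 w.2 (coe_ne_zero' hw) hwQ
  have hL' := line_W0 w'.2 (coe_ne_zero' hw') hw'Q
  have gL := gFun_line (p := p) hβ hw hwQ
  have gL' := gFun_line (p := p) hβ hw' hw'Q
  have h1 : Same p (rE C (T.e 0) (gFun C T β w : ι → F))
      (rE C (T.e 0) (gFun C T β w' : ι → F)) := by
    rw [same_normal_iff C T gL gL', h, Submodule.coe_smul]
    exact (inL_right _ _).smul t
  rw [← gFun_spec hβ, ← gFun_spec hβ, same_iff, same_normal_iff C T hL hL'] at h1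
  obtain ⟨s, hs⟩ := W0_inL w'.2 w.2 h1
  exact hind s (Subtype.ext hs)

end Cfsg.Agent.Helper5.AutO
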