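import Mathlib
import Cfsg.Agent.Helper5.AutOP

/-!
# Automorphisms of `PΩ(Q)`, part Q: the induced map on `W₀` is semilinear
-/

set_option autoImplicit false
set_option linter.unusedSectionVars false
set_option linter.unusedVariables false
set_option linter.unusedSimpArgs false

namespace Cfsg.Agent.Helper5.AutO

open Matrix QuadraticMap Module Cfsg.Agent.Helper44 Cfsg.Agent.Helper45.OmegaParity

variable {F : Type*} [Field F] [Fintype F] {ι : Type} [Fintype ι] [DecidableEq ι]
variable {Q : QuadraticForm F (ι → F)}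

/-- **(S1)** orthogonal independent singular vectors have the same scalar function -/
theorem sigma_eq_of_orth {p : ℕ} [hp : Fact p.Prime] [CharP F p] {C : Ctx Q} {T : HypTriple Q}
    {β : Cfsg.POmega F ⇑Q ≃* Cfsg.POmega F ⇑Q} (hβ : NormQ C T β) {w w' : W0 T} (hw : w ≠ 0)
    (hw' : w' ≠ 0) (hwQ : Q (w : ι → F) = 0) (hw'Q : Q (w' : ι → F) = 0)
    (hww' : polar ⇑Q (w : ι → F) (w' : ι → F) = 0) (hind : ∀ t : F, w' ≠ t • w) {t a a' : F}
    (ha : gFun C T β (t • w) = a • gFun C T β w)
    (ha' : gFun C T β (t • w') = a' • gFun C T β w') : a = a' := by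
  have hsQ : Q ((w + w' : W0 T) : ι → F) = 0 := by
    rw [Submodule.coe_add, QuadraticMap.map_add ⇑Q, hwQ, hw'Q, hww']
    simp
  obtain ⟨c, hc⟩ := gFun_smul_singular (p := p) hβ hsQ t
  rw [smul_add, gFun_add hβ, gFun_add hβ, ha, ha', smul_add] at hc
  have h1 : (a - c) • gFun C T β w + (a' - c) • gFun C T β w' = 0 := by
    have : (a - c) • gFun C T β w + (a' - c) • gFun C T β w'
        = (a • gFun C T β w + a' • gFun C T β w') - (c • gFun C T β w + c • gFun C T β w') := by
      module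
    rw [this, hc, sub_self]
  have hgi := gFun_indep (p := p) hβ hw hw' hwQ hw'Q hind
  have hac' : a' = c := by
    by_contra hne
    have hne' : a' - c ≠ 0 := sub_ne_zero.2 hne
    apply hgi (-((a' - c)⁻¹ * (a - c)))
    have h2 : (a' - c) • gFun C T β w' = -((a - c) • gFun C T β w) :=
      eq_neg_of_add_eq_zero_right h1
    calc gFun C T β w' = (a' - c)⁻¹ • ((a' - c) • gFun C T β w') := by
          rw [smul_smul, inv_mul_cancel₀ hne', one_smul]
      _ = _ := by rw [h2]; module
  rw [hac', sub_self, zero_smul, add_zero] at h1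
  have := (smul_eq_zero.1 h1).resolve_right (gFun_ne_zero hβ hw)
  rw [hac']
  exact sub_eq_zero.1 this

/-- a singular vector of `W₀` orthogonal to two given vectors -/
theorem exists_W0_singular_orth (C : Ctx Q) (T : HypTriple Q) (x y : ι → F) :
    ∃ w'' : W0 T, w'' ≠ 0 ∧ Q (w'' : ι → F) = 0 ∧ polar ⇑Q (w'' : ι → F) x = 0 ∧
      polar ⇑Q (w'' : ι → F) y = 0 := by
  obtain ⟨v, hv0, hvQ, hv⟩ := exists_singular_orth Q (![T.e 0, T.f 0, x, y] : Fin 4 → (ι → F))
    (by have := C.hn; omega)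
  have c1 : polar ⇑Q v (T.e 0) = 0 := hv 0
  have c2 : polar ⇑Q v (T.f 0) = 0 := hv 1
  have c3 : polar ⇑Q v x = 0 := hv 2
  have c4 : polar ⇑Q v y = 0 := hv 3
  refine ⟨⟨v, by rw [QuadraticMap.polar_comm]; exact c1, by rw [QuadraticMap.polar_comm]; exact c2⟩,
    fun h => hv0 (congrArg Subtype.val h), hvQ, c3, c4⟩

/-- **(S2)** all non-zero singular vectors of `W₀` have the same scalar function -/
theorem sigma_eq {p : ℕ} [hp : Fact p.Prime] [CharP F p] {C : Ctx Q} {T : HypTriple Q}
    {β : Cfsg.POmega F ⇑Q ≃* Cfsg.POmega F ⇑Q} (hβ : NormQ C T β) {w w' : W0 T} (hw : w ≠ 0)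
    (hw' : w' ≠ 0) (hwQ : Q (w : ι → F) = 0) (hw'Q : Q (w' : ι → F) = 0) {t a a' : F}
    (ha : gFun C T β (t • w) = a • gFun C T β w)
    (ha' : gFun C T β (t • w') = a' • gFun C T β w') : a = a' := by
  have sw : ∀ {x y : ι → F}, polar ⇑Q x y = 0 → polar ⇑Q y x = 0 := by
    intro x y h
    rw [QuadraticMap.polar_comm]; exact h
  by_cases hdep : ∃ s : F, w' = s • w
  · -- dependent vectors: connect through a third vector
    obtain ⟨s, hs⟩ := hdep
    obtain ⟨y, hy⟩ := exists_polar_ne_zero Q C.hQ (coe_ne_zero' hw)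
    obtain ⟨w'', hw''0, hw''Q, h1, h2⟩ := exists_W0_singular_orth C T (w : ι → F) y
    have hind1 : ∀ r : F, w'' ≠ r • w := by
      intro r hr
      have h3 : polar ⇑Q (w'' : ι → F) y = r * polar ⇑Q (w : ι → F) y := by
        rw [hr, Submodule.coe_smul, QuadraticMap.polar_smul_left, smul_eq_mul]
      rw [h2] at h3
      have hr0 : r = 0 := (mul_eq_zero.1 h3.symm).resolve_right hy
      rw [hr0, zero_smul] at hr
      exact hw''0 hr
    have hs0 : s ≠ 0 := by
      rintro rfl
      rw [zero_smul] at hs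
      exact hw' hs
    have hind2 : ∀ r : F, w'' ≠ r • w' := by
      intro r hr
      apply hind1 (r * s)
      rw [hr, hs, smul_smul]
    obtain ⟨a'', ha''⟩ := gFun_smul_singular (p := p) hβ hw''Q t
    have e1 := sigma_eq_of_orth (p := p) hβ hw hw''0 hwQ hw''Q (sw h1) hind1 ha ha''
    have h1' : polar ⇑Q (w' : ι → F) (w'' : ι → F) = 0 := by
      rw [hs, Submodule.coe_smul, QuadraticMap.polar_smul_left, sw h1, smul_zero]
    have e2 := sigma_eq_of_orth (p := p) hβ hw' hw''0 hw'Q hw''Q h1' hind2 ha' ha''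
    rw [e1, e2]
  · push Not at hdep
    by_cases hperp : polar ⇑Q (w : ι → F) (w' : ι → F) = 0
    · exact sigma_eq_of_orth (p := p) hβ hw hw' hwQ hw'Q hperp hdep ha ha'
    · obtain ⟨w'', hw''0, hw''Q, h1, h2⟩ :=
        exists_W0_singular_orth C T (w : ι → F) (w' : ι → F)
      have hind1 : ∀ r : F, w'' ≠ r • w := by
        intro r hr
        have h3 : polar ⇑Q (w'' : ι → F) (w' : ι → F) = r * polar ⇑Q (w : ι → F) (w' : ι → F) := by
          rw [hr, Submodule.coe_smul, QuadraticMap.polar_smul_left, smul_eq_mul]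
        rw [h2] at h3
        have hr0 : r = 0 := (mul_eq_zero.1 h3.symm).resolve_right hperp
        rw [hr0, zero_smul] at hr
        exact hw''0 hr
      have hind2 : ∀ r : F, w'' ≠ r • w' := by
        intro r hr
        have h3 : polar ⇑Q (w'' : ι → F) (w : ι → F) = r * polar ⇑Q (w' : ι → F) (w : ι → F) := by
          rw [hr, Submodule.coe_smul, QuadraticMap.polar_smul_left, smul_eq_mul]
        rw [h1] at h3
        have hr0 : r = 0 :=
          (mul_eq_zero.1 h3.symm).resolve_right (fun h => hperp (sw h))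
        rw [hr0, zero_smul] at hr
        exact hw''0 hr
      obtain ⟨a'', ha''⟩ := gFun_smul_singular (p := p) hβ hw''Q t
      have e1 := sigma_eq_of_orth (p := p) hβ hw hw''0 hwQ hw''Q (sw h1) hind1 ha ha''
      have e2 := sigma_eq_of_orth (p := p) hβ hw' hw''0 hw'Q hw''Q (sw h2) hind2 ha' ha''
      rw [e1, e2]

end Cfsg.Agent.Helper5.AutO
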