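import Mathlib
import Cfsg.Agent.Helper5.AutOQ

/-!
# Automorphisms of `PΩ(Q)`, part R: the field automorphism `σ`
-/

set_option autoImplicit false
set_option linter.unusedSectionVars false
set_option linter.unusedVariables false
set_option linter.unusedSimpArgs false

namespace Cfsg.Agent.Helper5.AutO

open Matrix QuadraticMap Module Cfsg.Agent.Helper44 Cfsg.Agent.Helper45.OmegaParity

variable {F : Type*} [Field F] [Fintype F] {ι : Type} [Fintype ι] [DecidableEq ι]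
variable {Q : QuadraticForm F (ι → F)}

/-- `e₁` as an element of `W₀` -/
def e1W (T : HypTriple Q) : W0 T := ⟨T.e 1, e1_mem_W0 T⟩
/-- `f₁` as an element of `W₀` -/
def f1W (T : HypTriple Q) : W0 T := ⟨T.f 1, f1_mem_W0 T⟩

theorem e1W_ne_zero (T : HypTriple Q) : e1W T ≠ 0 :=
  fun h => HypTriple.e_ne_zero T 1 (congrArg Subtype.val h)

theorem e1W_singular (T : HypTriple Q) : Q ((e1W T : W0 T) : ι → F) = 0 := T.Qe 1

open Classical in
/-- the scalar function of `e₁` -/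
noncomputable def sigF (C : Ctx Q) (T : HypTriple Q)
    (β : Cfsg.POmega F ⇑Q ≃* Cfsg.POmega F ⇑Q) (t : F) : F :=
  if h : ∃ s : F, gFun C T β (t • e1W T) = s • gFun C T β (e1W T) then h.choose else 0

theorem sigF_spec {p : ℕ} [hp : Fact p.Prime] [CharP F p] {C : Ctx Q} {T : HypTriple Q}
    {β : Cfsg.POmega F ⇑Q ≃* Cfsg.POmega F ⇑Q} (hβ : NormQ C T β) (t : F) :
    gFun C T β (t • e1W T) = sigF C T β t • gFun C T β (e1W T) := by
  unfold sigF
  rw [dif_pos (gFun_smul_singular (p := p) hβ (e1W_singular T) t)]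
  exact (gFun_smul_singular (p := p) hβ (e1W_singular T) t).choose_spec

/-- the scalar function is the same for all singular vectors of `W₀` -/
theorem gFun_smul_of_singular {p : ℕ} [hp : Fact p.Prime] [CharP F p] {C : Ctx Q}
    {T : HypTriple Q} {β : Cfsg.POmega F ⇑Q ≃* Cfsg.POmega F ⇑Q} (hβ : NormQ C T β) {w : W0 T}
    (hwQ : Q (w : ι → F) = 0) (t : F) :
    gFun C T β (t • w) = sigF C T β t • gFun C T β w := by
  by_cases hw : w = 0
  · rw [hw, smul_zero, gFun_zero hβ, smul_zero]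
  obtain ⟨a, ha⟩ := gFun_smul_singular (p := p) hβ hwQ t
  rw [ha, sigma_eq (p := p) hβ hw (e1W_ne_zero T) hwQ (e1W_singular T) ha (sigF_spec (p := p) hβ t)]

theorem smul_gFun_cancel {C : Ctx Q} {T : HypTriple Q}
    {β : Cfsg.POmega F ⇑Q ≃* Cfsg.POmega F ⇑Q} (hβ : NormQ C T β) {a b : F}
    (h : a • gFun C T β (e1W T) = b • gFun C T β (e1W T)) : a = b := by
  have h1 : (a - b) • gFun C T β (e1W T) = 0 := by
    have := sub_smul a b (gFun C T β (e1W T))
    rw [this, h, sub_self]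
  exact sub_eq_zero.1 ((smul_eq_zero.1 h1).resolve_right (gFun_ne_zero hβ (e1W_ne_zero T)))

theorem sigF_add {p : ℕ} [hp : Fact p.Prime] [CharP F p] {C : Ctx Q} {T : HypTriple Q}
    {β : Cfsg.POmega F ⇑Q ≃* Cfsg.POmega F ⇑Q} (hβ : NormQ C T β) (s t : F) :
    sigF C T β (s + t) = sigF C T β s + sigF C T β t := by
  apply smul_gFun_cancel hβ
  rw [← sigF_spec (p := p) hβ, add_smul, gFun_add hβ, sigF_spec (p := p) hβ,
    sigF_spec (p := p) hβ, add_smul]

theorem sigF_mul {p : ℕ} [hp : Fact p.Prime] [CharP F p] {C : Ctx Q} {T : HypTriple Q}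
    {β : Cfsg.POmega F ⇑Q ≃* Cfsg.POmega F ⇑Q} (hβ : NormQ C T β) (s t : F) :
    sigF C T β (s * t) = sigF C T β s * sigF C T β t := by
  apply smul_gFun_cancel hβ
  have hQ' : Q ((t • e1W T : W0 T) : ι → F) = 0 := by
    rw [Submodule.coe_smul, QuadraticMap.map_smul, e1W_singular, smul_zero]
  rw [← sigF_spec (p := p) hβ, mul_smul, gFun_smul_of_singular (p := p) hβ hQ' s,
    sigF_spec (p := p) hβ, smul_smul]

theorem sigF_one {p : ℕ} [hp : Fact p.Prime] [CharP F p] {C : Ctx Q} {T : HypTriple Q}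
    {β : Cfsg.POmega F ⇑Q ≃* Cfsg.POmega F ⇑Q} (hβ : NormQ C T β) : sigF C T β 1 = 1 := by
  apply smul_gFun_cancel hβ
  rw [← sigF_spec (p := p) hβ, one_smul, one_smul]

theorem sigF_zero {p : ℕ} [hp : Fact p.Prime] [CharP F p] {C : Ctx Q} {T : HypTriple Q}
    {β : Cfsg.POmega F ⇑Q ≃* Cfsg.POmega F ⇑Q} (hβ : NormQ C T β) : sigF C T β 0 = 0 := by
  apply smul_gFun_cancel hβ
  rw [← sigF_spec (p := p) hβ, zero_smul, zero_smul, gFun_zero hβ]

/-- vectors of `W₀` are sums of three singular vectors of `W₀` -/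
theorem exists_W0_decomp (T : HypTriple Q) (x : W0 T) :
    ∃ s₁ s₂ s₃ : W0 T, Q (s₁ : ι → F) = 0 ∧ Q (s₂ : ι → F) = 0 ∧ Q (s₃ : ι → F) = 0 ∧
      x = s₁ + s₂ + s₃ := by
  obtain ⟨s₁, s₂, s₃, q1, q2, q3, hsum, hperp⟩ :=
    exists_singular_decomp (T.Qe 1) (T.Qf 1) (by rw [T.ef]; simp) (x : ι → F)
  obtain ⟨a1, a2, a3⟩ := hperp (T.e 0) (T.ee 0 1) (by rw [T.ef]; simp) x.2.1
  obtain ⟨b1, b2, b3⟩ := hperp (T.f 0) (by rw [HypTriple.fe]; simp) (T.ff 0 1) x.2.2
  exact ⟨⟨s₁, a1, b1⟩, ⟨s₂, a2, b2⟩, ⟨s₃, a3, b3⟩, q1, q2, q3, Subtype.ext hsum⟩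

/-- **the induced map on `W₀` is semilinear** -/
theorem exists_sigma {p : ℕ} [hp : Fact p.Prime] [CharP F p] {C : Ctx Q} {T : HypTriple Q}
    {β : Cfsg.POmega F ⇑Q ≃* Cfsg.POmega F ⇑Q} (hβ : NormQ C T β) :
    ∃ σ : F ≃+* F, ∀ (t : F) (x : W0 T), gFun C T β (t • x) = σ t • gFun C T β x := by
  let f : F →+* F :=
    { toFun := sigF C T β
      map_one' := sigF_one (p := p) hβ
      map_mul' := sigF_mul (p := p) hβ
      map_zero' := sigF_zero (p := p) hβ
      map_add' := sigF_add (p := p) hβ }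
  have hinj : Function.Injective f := f.injective
  have hbij : Function.Bijective f := ⟨hinj, Finite.surjective_of_injective hinj⟩
  refine ⟨RingEquiv.ofBijective f hbij, ?_⟩
  intro t x
  have e : (RingEquiv.ofBijective f hbij) t = sigF C T β t := rfl
  rw [e]
  obtain ⟨s₁, s₂, s₃, q1, q2, q3, rfl⟩ := exists_W0_decomp T x
  rw [smul_add, smul_add, gFun_add hβ, gFun_add hβ, gFun_add hβ, gFun_add hβ,
    gFun_smul_of_singular (p := p) hβ q1, gFun_smul_of_singular (p := p) hβ q2,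
    gFun_smul_of_singular (p := p) hβ q3, smul_add, smul_add]

end Cfsg.Agent.Helper5.AutO
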