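import Mathlib
import Cfsg.Agent.Helper5.AutOR

/-!
# Automorphisms of `PΩ(Q)`, part S: the induced map on `W₀` is a semisimilarity
-/

set_option autoImplicit false
set_option linter.unusedSectionVars false
set_option linter.unusedVariables false
set_option linter.unusedSimpArgs false

namespace Cfsg.Agent.Helper5.AutO

open Matrix QuadraticMap Module Cfsg.Agent.Helper44 Cfsg.Agent.Helper45.OmegaParity

variable {F : Type*} [Field F] [Fintype F] {ι : Type} [Fintype ι] [DecidableEq ι]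
variable {Q : QuadraticForm F (ι → F)}

/-- **the induced map on `W₀` multiplies the form by a scalar, up to `σ`** -/
theorem exists_multiplier {p : ℕ} [hp : Fact p.Prime] [CharP F p] {C : Ctx Q} {T : HypTriple Q}
    {β : Cfsg.POmega F ⇑Q ≃* Cfsg.POmega F ⇑Q} (hβ : NormQ C T β) (σ : F ≃+* F)
    (hσ : ∀ (t : F) (x : W0 T), gFun C T β (t • x) = σ t • gFun C T β x) :
    ∃ lam : F, lam ≠ 0 ∧ ∀ x : W0 T, Q (gFun C T β x : ι → F) = lam * σ (Q (x : ι → F)) := by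
  -- notation
  obtain ⟨N, hN⟩ : ∃ N : W0 T → F, ∀ x, N x = Q (gFun C T β x : ι → F) := ⟨_, fun _ => rfl⟩
  obtain ⟨P, hP⟩ : ∃ P : W0 T → W0 T → F, ∀ x y, P x y =
      polar ⇑Q (gFun C T β x : ι → F) (gFun C T β y : ι → F) := ⟨_, fun _ _ => rfl⟩
  have N_add : ∀ x y, N (x + y) = N x + N y + P x y := by
    intro x y
    rw [hN, hN, hN, hP, gFun_add hβ, Submodule.coe_add, QuadraticMap.map_add ⇑Q]
  have N_smul : ∀ (t : F) x, N (t • x) = σ t * σ t * N x := by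
    intro t x
    rw [hN, hN, hσ, Submodule.coe_smul, QuadraticMap.map_smul, smul_eq_mul]
  have P_add_left : ∀ x y z, P (x + y) z = P x z + P y z := by
    intro x y z
    rw [hP, hP, hP, gFun_add hβ, Submodule.coe_add, QuadraticMap.polar_add_left]
  have P_add_right : ∀ x y z, P x (y + z) = P x y + P x z := by
    intro x y z
    rw [hP, hP, hP, gFun_add hβ, Submodule.coe_add, QuadraticMap.polar_add_right]
  have P_smul_left : ∀ (t : F) x y, P (t • x) y = σ t * P x y := by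
    intro t x y
    rw [hP, hP, hσ, Submodule.coe_smul, QuadraticMap.polar_smul_left, smul_eq_mul]
  have P_smul_right : ∀ (t : F) x y, P x (t • y) = σ t * P x y := by
    intro t x y
    rw [hP, hP, hσ, Submodule.coe_smul, QuadraticMap.polar_smul_right, smul_eq_mul]
  have N_sing : ∀ s : W0 T, Q (s : ι → F) = 0 → N s = 0 := by
    intro s hs
    rw [hN]
    exact gFun_singular (p := p) hβ hs
  have P_sing : ∀ s s' : W0 T, Q (s : ι → F) = 0 → Q (s' : ι → F) = 0 →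
      polar ⇑Q (s : ι → F) (s' : ι → F) = 0 → P s s' = 0 := by
    intro s s' hs hs' hss'
    rw [hP]
    exact gFun_orth (p := p) hβ hs hs' hss'
  -- the frame
  have hQe1 : Q ((e1W T : W0 T) : ι → F) = 0 := T.Qe 1
  have hQf1 : Q ((f1W T : W0 T) : ι → F) = 0 := T.Qf 1
  have e1f1 : polar ⇑Q (T.e 1) (T.f 1) = 1 := by rw [T.ef]; simp
  have f1e1 : polar ⇑Q (T.f 1) (T.e 1) = 1 := by rw [HypTriple.fe]; simp
  have e1e1 : polar ⇑Q (T.e 1) (T.e 1) = 0 := T.ee 1 1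
  have f1f1 : polar ⇑Q (T.f 1) (T.f 1) = 0 := T.ff 1 1
  obtain ⟨lam, hlam⟩ : ∃ lam : F, lam = P (e1W T) (f1W T) := ⟨_, rfl⟩
  -- step 1
  have step1 : ∀ y : W0 T, polar ⇑Q (T.e 1) (y : ι → F) = 0 → polar ⇑Q (T.f 1) (y : ι → F) = 0 →
      P (e1W T) y = 0 ∧ P (f1W T) y = 0 := by
    intro y hy1 hy2
    obtain ⟨s₁, s₂, s₃, q1, q2, q3, hsum, hperp⟩ :=
      exists_singular_decomp (T.Qe 2) (T.Qf 2) (by rw [T.ef]; simp) (y : ι → F)
    obtain ⟨a1, a2, a3⟩ := hperp (T.e 0) (T.ee 0 2) (by rw [T.ef]; simp) y.2.1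
    obtain ⟨b1, b2, b3⟩ := hperp (T.f 0) (by rw [HypTriple.fe]; simp) (T.ff 0 2) y.2.2
    obtain ⟨c1, c2, c3⟩ := hperp (T.e 1) (T.ee 1 2) (by rw [T.ef]; simp) hy1
    obtain ⟨d1, d2, d3⟩ := hperp (T.f 1) (by rw [HypTriple.fe]; simp) (T.ff 1 2) hy2
    have hy : y = (⟨s₁, a1, b1⟩ : W0 T) + ⟨s₂, a2, b2⟩ + ⟨s₃, a3, b3⟩ := Subtype.ext hsum
    rw [hy, P_add_right, P_add_right, P_add_right, P_add_right,
      P_sing (e1W T) ⟨s₁, a1, b1⟩ hQe1 q1 c1, P_sing (e1W T) ⟨s₂, a2, b2⟩ hQe1 q2 c2,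
      P_sing (e1W T) ⟨s₃, a3, b3⟩ hQe1 q3 c3, P_sing (f1W T) ⟨s₁, a1, b1⟩ hQf1 q1 d1,
      P_sing (f1W T) ⟨s₂, a2, b2⟩ hQf1 q2 d2, P_sing (f1W T) ⟨s₃, a3, b3⟩ hQf1 q3 d3]
    simp
  -- step 2
  have step2 : ∀ y : W0 T, polar ⇑Q (T.e 1) (y : ι → F) = 0 → polar ⇑Q (T.f 1) (y : ι → F) = 0 →
      N y = lam * σ (Q (y : ι → F)) := by
    intro y hy1 hy2
    obtain ⟨k1, k2⟩ := step1 y hy1 hy2
    have hs : Q ((e1W T + (-(Q (y : ι → F))) • f1W T + y : W0 T) : ι → F) = 0 := by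
      rw [Submodule.coe_add, Submodule.coe_add, Submodule.coe_smul]
      show Q (T.e 1 + (-(Q (y : ι → F))) • T.f 1 + (y : ι → F)) = 0
      rw [QuadraticMap.map_add ⇑Q, QuadraticMap.map_add ⇑Q, QuadraticMap.map_smul, T.Qe 1, T.Qf 1,
        QuadraticMap.polar_smul_right, e1f1, QuadraticMap.polar_add_left,
        QuadraticMap.polar_smul_left, hy1, hy2]
      simp
    have h0 := N_sing _ hs
    rw [N_add, N_add, P_add_left, N_smul, N_sing _ hQe1, N_sing _ hQf1, P_smul_right,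
      P_smul_left, k1, k2, ← hlam, map_neg] at h0
    linear_combination h0
  -- step 3
  have step3 : ∀ x : W0 T, N x = lam * σ (Q (x : ι → F)) := by
    intro x
    obtain ⟨α, hα⟩ : ∃ α : F, α = polar ⇑Q (x : ι → F) (T.f 1) := ⟨_, rfl⟩
    obtain ⟨γ, hγ⟩ : ∃ γ : F, γ = polar ⇑Q (x : ι → F) (T.e 1) := ⟨_, rfl⟩
    obtain ⟨y, hy⟩ : ∃ y : W0 T, y = x - α • e1W T - γ • f1W T := ⟨_, rfl⟩
    have hyc : (y : ι → F) = (x : ι → F) - α • T.e 1 - γ • T.f 1 := by
      rw [hy]; rfl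
    have hy1 : polar ⇑Q (T.e 1) (y : ι → F) = 0 := by
      rw [hyc, QuadraticMap.polar_sub_right, QuadraticMap.polar_sub_right,
        QuadraticMap.polar_smul_right, QuadraticMap.polar_smul_right, e1e1, e1f1,
        QuadraticMap.polar_comm ⇑Q (T.e 1) (x : ι → F), ← hγ]
      simp
    have hy2 : polar ⇑Q (T.f 1) (y : ι → F) = 0 := by
      rw [hyc, QuadraticMap.polar_sub_right, QuadraticMap.polar_sub_right,
        QuadraticMap.polar_smul_right, QuadraticMap.polar_smul_right, f1e1, f1f1,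
        QuadraticMap.polar_comm ⇑Q (T.f 1) (x : ι → F), ← hα]
      simp
    obtain ⟨k1, k2⟩ := step1 y hy1 hy2
    have hx : x = α • e1W T + γ • f1W T + y := by rw [hy]; abel
    have hQx : Q (x : ι → F) = α * γ + Q (y : ι → F) := by
      have : (x : ι → F) = α • T.e 1 + γ • T.f 1 + (y : ι → F) := by rw [hyc]; abel
      conv_lhs => rw [this]
      rw [QuadraticMap.map_add ⇑Q, QuadraticMap.map_add ⇑Q, QuadraticMap.map_smul,
        QuadraticMap.map_smul, T.Qe 1, T.Qf 1, QuadraticMap.polar_smul_left,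
        QuadraticMap.polar_smul_right, e1f1, QuadraticMap.polar_add_left,
        QuadraticMap.polar_smul_left, QuadraticMap.polar_smul_left, hy1, hy2]
      simp
    rw [hQx]
    conv_lhs => rw [hx]
    rw [N_add, N_add, P_add_left, N_smul, N_smul, N_sing _ hQe1, N_sing _ hQf1, P_smul_left,
      P_smul_right, P_smul_left, P_smul_left, k1, k2, ← hlam, step2 y hy1 hy2, map_add, map_mul]
    ring
  refine ⟨lam, ?_, fun x => by rw [← hN]; exact step3 x⟩
  -- `lam ≠ 0`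
  intro h0
  obtain ⟨x, hx⟩ := gFun_surjective hβ (e1W T + f1W T)
  have h1 := step3 x
  rw [hN, hx, h0, zero_mul, Submodule.coe_add] at h1
  have h2 : Q (T.e 1 + T.f 1) = 1 := by
    rw [QuadraticMap.map_add ⇑Q, T.Qe 1, T.Qf 1, e1f1]
    simp
  have h3 : Q (((e1W T : W0 T) : ι → F) + ((f1W T : W0 T) : ι → F)) = 1 := h2
  rw [h3] at h1
  exact one_ne_zero h1

end Cfsg.Agent.Helper5.AutO
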