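import Mathlib
import Cfsg.Prelude.Def_LieTypeDatum
import Cfsg.Agent.Helper5.AutOS

/-!
# Automorphisms of `PΩ(Q)`, part T: the automorphism induced by a semilinear similitude
-/

set_option autoImplicit false
set_option linter.unusedSectionVars false
set_option linter.unusedVariables false
set_option linter.unusedSimpArgs false

namespace Cfsg.Agent.Helper5.AutO

open Matrix QuadraticMap Module Cfsg.Agent.Helper44 Cfsg.Agent.Helper45.OmegaParity

variable {F : Type*} [Field F] {ι : Type} [Fintype ι] [DecidableEq ι]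
variable {Q : QuadraticForm F (ι → F)}

/-- the semilinear map `v ↦ M σ(v)` -/
def semiMap (M : GL ι F) (σ : F ≃+* F) (v : ι → F) : ι → F :=
  (M : Matrix ι ι F) *ᵥ (fun i => σ (v i))

theorem semiMap_add (M : GL ι F) (σ : F ≃+* F) (v w : ι → F) :
    semiMap M σ (v + w) = semiMap M σ v + semiMap M σ w := by
  unfold semiMap
  rw [← Matrix.mulVec_add]
  congr 1
  funext i
  simp

theorem semiMap_smul (M : GL ι F) (σ : F ≃+* F) (t : F) (v : ι → F) :
    semiMap M σ (t • v) = σ t • semiMap M σ v := by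
  unfold semiMap
  rw [← Matrix.mulVec_smul]
  congr 1
  funext i
  simp

theorem semiMap_zero (M : GL ι F) (σ : F ≃+* F) : semiMap M σ 0 = 0 := by
  have := semiMap_smul M σ 0 0
  rw [zero_smul, map_zero, zero_smul] at this
  exact this

theorem semiMap_neg (M : GL ι F) (σ : F ≃+* F) (v : ι → F) :
    semiMap M σ (-v) = -semiMap M σ v := by
  have := semiMap_smul M σ (-1) v
  rw [neg_one_smul, map_neg, map_one, neg_one_smul] at this
  exact this

theorem semiMap_sub (M : GL ι F) (σ : F ≃+* F) (v w : ι → F) :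
    semiMap M σ (v - w) = semiMap M σ v - semiMap M σ w := by
  rw [sub_eq_add_neg, semiMap_add, semiMap_neg, ← sub_eq_add_neg]

/-- the inverse of the semilinear map -/
def semiInv (M : GL ι F) (σ : F ≃+* F) (v : ι → F) : ι → F :=
  fun i => σ.symm ((((M⁻¹ : GL ι F) : Matrix ι ι F) *ᵥ v) i)

theorem semiMap_semiInv (M : GL ι F) (σ : F ≃+* F) (v : ι → F) :
    semiMap M σ (semiInv M σ v) = v := by
  unfold semiMap semiInv
  simp only [RingEquiv.apply_symm_apply]
  rw [Matrix.mulVec_mulVec, ← Units.val_mul, mul_inv_cancel, Units.val_one, Matrix.one_mulVec]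

theorem semiInv_semiMap (M : GL ι F) (σ : F ≃+* F) (v : ι → F) :
    semiInv M σ (semiMap M σ v) = v := by
  unfold semiMap semiInv
  rw [Matrix.mulVec_mulVec, ← Units.val_mul, inv_mul_cancel, Units.val_one, Matrix.one_mulVec]
  funext i
  simp

theorem semiMap_injective (M : GL ι F) (σ : F ≃+* F) : Function.Injective (semiMap M σ) := by
  intro v w h
  rw [← semiInv_semiMap M σ v, h, semiInv_semiMap]

theorem semiMap_surjective (M : GL ι F) (σ : F ≃+* F) : Function.Surjective (semiMap M σ) :=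
  fun v => ⟨_, semiMap_semiInv M σ v⟩

/-- the automorphism `s ↦ M σ(s) M⁻¹` of `GL` -/
def glSemi (M : GL ι F) (σ : F ≃+* F) : GL ι F ≃* GL ι F :=
  (Units.mapEquiv (σ.mapMatrix (m := ι)).toMulEquiv).trans (MulAut.conj M)

theorem glSemi_coe (M : GL ι F) (σ : F ≃+* F) (s : GL ι F) :
    ((glSemi M σ s : GL ι F) : Matrix ι ι F)
      = (M : Matrix ι ι F) * (s : Matrix ι ι F).map σ * ((M⁻¹ : GL ι F) : Matrix ι ι F) := rfl

theorem map_mulVec_semi (σ : F ≃+* F) (A : Matrix ι ι F) (v : ι → F) :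
    A.map σ *ᵥ (fun i => σ (v i)) = fun i => σ ((A *ᵥ v) i) := by
  funext i
  exact (RingHom.map_mulVec (σ : F →+* F) A v i).symm

theorem glSemi_mulVec (M : GL ι F) (σ : F ≃+* F) (s : GL ι F) (v : ι → F) :
    ((glSemi M σ s : GL ι F) : Matrix ι ι F) *ᵥ semiMap M σ v
      = semiMap M σ ((s : Matrix ι ι F) *ᵥ v) := by
  rw [glSemi_coe]
  unfold semiMap
  rw [Matrix.mulVec_mulVec, Matrix.mul_assoc, Matrix.mul_assoc, ← Units.val_mul, inv_mul_cancel,
    Units.val_one, Matrix.mul_one, ← Matrix.mulVec_mulVec, map_mulVec_semi]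

/-- the multiplier condition -/
def IsSemiSim (Q : QuadraticForm F (ι → F)) (M : GL ι F) (σ : F ≃+* F) (c : F) : Prop :=
  c ≠ 0 ∧ ∀ v : ι → F, Q (semiMap M σ v) = c * σ (Q v)

theorem IsSemiSim.pair {M : GL ι F} {σ : F ≃+* F} {c : F} (h : IsSemiSim Q M σ c) :
    Cfsg.IsSemisimilarityPair ⇑Q M σ :=
  ⟨Units.mk0 c h.1, fun v => h.2 v⟩

theorem IsSemiSim.polar {M : GL ι F} {σ : F ≃+* F} {c : F} (h : IsSemiSim Q M σ c)
    (v w : ι → F) :
    polar ⇑Q (semiMap M σ v) (semiMap M σ w) = c * σ (polar ⇑Q v w) := by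
  unfold QuadraticMap.polar
  rw [← semiMap_add, h.2, h.2, h.2, map_sub, map_sub]
  ring

theorem glSemi_mem_iff {M : GL ι F} {σ : F ≃+* F} {c : F} (h : IsSemiSim Q M σ c) (s : GL ι F) :
    glSemi M σ s ∈ Cfsg.isometryGroup F ⇑Q ↔ s ∈ Cfsg.isometryGroup F ⇑Q := by
  rw [Cfsg.Agent.Helper45.mem_isometryGroup_iff, Cfsg.Agent.Helper45.mem_isometryGroup_iff]
  constructor
  · intro hs u
    have h1 := hs (semiMap M σ u)
    rw [glSemi_mulVec, h.2, h.2] at h1
    exact σ.injective (mul_left_cancel₀ h.1 h1)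
  · intro hs u
    obtain ⟨v, rfl⟩ := semiMap_surjective M σ u
    rw [glSemi_mulVec, h.2, h.2, hs]

/-- the automorphism `s ↦ M σ(s) M⁻¹` of the isometry group -/
noncomputable def semiO {M : GL ι F} {σ : F ≃+* F} {c : F} (h : IsSemiSim Q M σ c) :
    ↥(Cfsg.isometryGroup F ⇑Q) ≃* ↥(Cfsg.isometryGroup F ⇑Q) where
  toFun s := ⟨glSemi M σ s.1, (glSemi_mem_iff h s.1).2 s.2⟩
  invFun s := ⟨(glSemi M σ).symm s.1, (glSemi_mem_iff h _).1 (by
    rw [MulEquiv.apply_symm_apply]; exact s.2)⟩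
  left_inv s := Subtype.ext ((glSemi M σ).symm_apply_apply _)
  right_inv s := Subtype.ext ((glSemi M σ).apply_symm_apply _)
  map_mul' s t := Subtype.ext (map_mul (glSemi M σ) _ _)

theorem semiO_val {M : GL ι F} {σ : F ≃+* F} {c : F} (h : IsSemiSim Q M σ c)
    (s : ↥(Cfsg.isometryGroup F ⇑Q)) : (semiO h s).1 = glSemi M σ s.1 := rfl

theorem lin_semiO {M : GL ι F} {σ : F ≃+* F} {c : F} (h : IsSemiSim Q M σ c)
    (s : ↥(Cfsg.isometryGroup F ⇑Q)) (v : ι → F) :
    lin Q (semiO h s) (semiMap M σ v) = semiMap M σ (lin Q s v) := by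
  rw [lin_apply, lin_apply, semiO_val, glSemi_mulVec]

theorem semiO_mem_Omega {M : GL ι F} {σ : F ≃+* F} {c : F} (h : IsSemiSim Q M σ c)
    (s : ↥(Cfsg.isometryGroup F ⇑Q)) :
    semiO h s ∈ Cfsg.Omega F ⇑Q ↔ s ∈ Cfsg.Omega F ⇑Q := by
  have h1 := Subgroup.characteristic_iff_comap_eq.1
    (inferInstance : (commutator ↥(Cfsg.isometryGroup F ⇑Q)).Characteristic) (semiO h)
  have h2 : s ∈ Subgroup.comap (semiO h).toMonoidHom (commutator ↥(Cfsg.isometryGroup F ⇑Q))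
      ↔ s ∈ commutator ↥(Cfsg.isometryGroup F ⇑Q) := by rw [h1]
  exact h2

/-- the automorphism `s ↦ M σ(s) M⁻¹` of `Ω(Q)` -/
noncomputable def semiOm {M : GL ι F} {σ : F ≃+* F} {c : F} (h : IsSemiSim Q M σ c) :
    ↥(Cfsg.Omega F ⇑Q) ≃* ↥(Cfsg.Omega F ⇑Q) where
  toFun s := ⟨semiO h s.1, (semiO_mem_Omega h s.1).2 s.2⟩
  invFun s := ⟨(semiO h).symm s.1, (semiO_mem_Omega h _).1 (by
    rw [MulEquiv.apply_symm_apply]; exact s.2)⟩
  left_inv s := Subtype.ext ((semiO h).symm_apply_apply _)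
  right_inv s := Subtype.ext ((semiO h).apply_symm_apply _)
  map_mul' s t := Subtype.ext (map_mul (semiO h) _ _)

theorem semiOm_val {M : GL ι F} {σ : F ≃+* F} {c : F} (h : IsSemiSim Q M σ c)
    (s : ↥(Cfsg.Omega F ⇑Q)) : (semiOm h s).1 = semiO h s.1 := rfl

/-- the automorphism of `PΩ(Q)` induced by the semilinear map `v ↦ M σ(v)` -/
noncomputable def semiAut {M : GL ι F} {σ : F ≃+* F} {c : F} (h : IsSemiSim Q M σ c) :
    Cfsg.POmega F ⇑Q ≃* Cfsg.POmega F ⇑Q :=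
  QuotientGroup.congr _ _ (semiOm h)
    (Subgroup.characteristic_iff_map_eq.1 Subgroup.centerCharacteristic _)

theorem semiAut_prj {M : GL ι F} {σ : F ≃+* F} {c : F} (h : IsSemiSim Q M σ c)
    (s : ↥(Cfsg.Omega F ⇑Q)) : semiAut h (prj s) = prj (semiOm h s) := rfl

theorem semiAut_isInduced {M : GL ι F} {σ : F ≃+* F} {c : F} (h : IsSemiSim Q M σ c) :
    Cfsg.IsInducedBySemilinearPOmega ⇑Q M σ (semiAut h) := by
  intro s s' hss'
  show semiAut h (prj s) = prj s'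
  rw [semiAut_prj]
  congr 1
  apply Subtype.ext
  apply Subtype.ext
  apply Units.ext
  rw [semiOm_val, semiO_val, glSemi_coe, hss']

theorem semiAut_mem_gamma {M : GL ι F} {σ : F ≃+* F} {c : F} (h : IsSemiSim Q M σ c) :
    semiAut h ∈ Cfsg.gammaPOmega F ⇑Q :=
  Subgroup.subset_closure ⟨M, σ, h.pair, semiAut_isInduced h⟩

/-- the conjugation formula `G E(u,w) G⁻¹ = E(Gu, c⁻¹ Gw)` -/
theorem semiOm_eO [Fintype F] (C : Ctx Q) {M : GL ι F} {σ : F ≃+* F} {c : F} (h : IsSemiSim Q M σ c)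
    {u w : ι → F} (hu : Q u = 0) (huw : polar ⇑Q u w = 0) :
    semiOm h (eO C u w) = eO C (semiMap M σ u) (c⁻¹ • semiMap M σ w) := by
  apply omega_ext
  intro y
  obtain ⟨x, rfl⟩ := semiMap_surjective M σ y
  have hu' : Q (semiMap M σ u) = 0 := by rw [h.2, hu, map_zero, mul_zero]
  have huw' : polar ⇑Q (semiMap M σ u) (c⁻¹ • semiMap M σ w) = 0 := by
    rw [QuadraticMap.polar_smul_right, h.polar, huw, map_zero, mul_zero, smul_zero]
  have hc : c⁻¹ * c = 1 := inv_mul_cancel₀ h.1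
  rw [semiOm_val, lin_semiO, eO_val, eO_val, lin_eichlerO Q hu huw, lin_eichlerO Q hu' huw',
    QuadraticMap.polar_smul_left, h.polar, h.polar, QuadraticMap.map_smul, h.2,
    semiMap_sub, semiMap_sub, semiMap_add, semiMap_smul, semiMap_smul, semiMap_smul]
  simp only [smul_eq_mul, smul_smul, map_mul]
  have e1 : c⁻¹ * (c * σ (polar ⇑Q w x)) = σ (polar ⇑Q w x) := by
    rw [← mul_assoc, hc, one_mul]
  have e2 : c * σ (polar ⇑Q u x) * c⁻¹ = σ (polar ⇑Q u x) := by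
    rw [mul_comm, ← mul_assoc, hc, one_mul]
  have e3 : c⁻¹ * c⁻¹ * (c * σ (Q w)) * (c * σ (polar ⇑Q u x))
      = σ (Q w) * σ (polar ⇑Q u x) := by
    linear_combination (c⁻¹ * σ (Q w) * σ (polar ⇑Q u x) * c + σ (Q w) * σ (polar ⇑Q u x)) * hc
  rw [e1, e2, e3]

end Cfsg.Agent.Helper5.AutO
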