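import Mathlib
import Cfsg.Agent.Helper5.AutOT

/-!
# Automorphisms of `PΩ(Q)`, part U: the semilinear similitude attached to an automorphism
normalising `Q̄_e`
-/

set_option autoImplicit false
set_option linter.unusedSectionVars false
set_option linter.unusedVariables false
set_option linter.unusedSimpArgs false

namespace Cfsg.Agent.Helper5.AutO

open Matrix QuadraticMap Module Cfsg.Agent.Helper44 Cfsg.Agent.Helper45.OmegaParity

variable {F : Type*} [Field F] {ι : Type} [Fintype ι] [DecidableEq ι]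
variable {Q : QuadraticForm F (ι → F)}

/-- an injective additive `σ`-semilinear map is `v ↦ M σ(v)` for some `M` -/
theorem exists_matrix_of_semilinear (σ : F ≃+* F) (G : (ι → F) → (ι → F))
    (hadd : ∀ x y, G (x + y) = G x + G y) (hsmul : ∀ (t : F) x, G (t • x) = σ t • G x)
    (hinj : ∀ x, G x = 0 → x = 0) : ∃ M : GL ι F, ∀ v, semiMap M σ v = G v := by
  let L : (ι → F) →ₗ[F] (ι → F) :=
    { toFun := fun x => G (fun i => σ.symm (x i))
      map_add' := by
        intro x y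
        rw [← hadd]
        congr 1
        funext i
        simp
      map_smul' := by
        intro t x
        have : (fun i => σ.symm ((t • x) i)) = σ.symm t • (fun i => σ.symm (x i)) := by
          funext i
          simp
        rw [this, hsmul, σ.apply_symm_apply]
        rfl }
  have hL : ∀ x, L x = G (fun i => σ.symm (x i)) := fun x => rfl
  have hLinj : Function.Injective L := by
    rw [← LinearMap.ker_eq_bot, LinearMap.ker_eq_bot']
    intro x hx
    rw [hL] at hx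
    have := hinj _ hx
    funext i
    have h1 := congrFun this i
    simp only [Pi.zero_apply] at h1 ⊢
    exact (map_eq_zero_iff σ.symm σ.symm.injective).1 h1
  refine ⟨Cfsg.Agent.Helper45.WittQuad.glOfLin (LinearEquiv.ofInjectiveEndo L hLinj), ?_⟩
  intro v
  unfold semiMap
  rw [Cfsg.Agent.Helper45.WittQuad.glOfLin_mulVec]
  show L _ = _
  rw [hL]
  congr 1
  funext i
  simp

/-- the projection to `W₀` -/
def projW (T : HypTriple Q) (x : ι → F) : W0 T :=
  ⟨x - polar ⇑Q x (T.f 0) • T.e 0 - polar ⇑Q x (T.e 0) • T.f 0, by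
    have hee : polar ⇑Q (T.e 0) (T.e 0) = 0 := T.ee 0 0
    have hff : polar ⇑Q (T.f 0) (T.f 0) = 0 := T.ff 0 0
    constructor
    · rw [QuadraticMap.polar_sub_right, QuadraticMap.polar_sub_right,
        QuadraticMap.polar_smul_right, QuadraticMap.polar_smul_right, hee, ef0,
        QuadraticMap.polar_comm ⇑Q (T.e 0) x]
      simp
    · rw [QuadraticMap.polar_sub_right, QuadraticMap.polar_sub_right,
        QuadraticMap.polar_smul_right, QuadraticMap.polar_smul_right, hff, fe0,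
        QuadraticMap.polar_comm ⇑Q (T.f 0) x]
      simp⟩

theorem projW_val (T : HypTriple Q) (x : ι → F) :
    (projW T x : ι → F) = x - polar ⇑Q x (T.f 0) • T.e 0 - polar ⇑Q x (T.e 0) • T.f 0 := rfl

theorem projW_add (T : HypTriple Q) (x y : ι → F) : projW T (x + y) = projW T x + projW T y := by
  apply Subtype.ext
  rw [Submodule.coe_add, projW_val, projW_val, projW_val, QuadraticMap.polar_add_left,
    QuadraticMap.polar_add_left, add_smul, add_smul]
  abel

theorem projW_smul (T : HypTriple Q) (t : F) (x : ι → F) : projW T (t • x) = t • projW T x := by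
  apply Subtype.ext
  rw [Submodule.coe_smul, projW_val, projW_val, QuadraticMap.polar_smul_left,
    QuadraticMap.polar_smul_left, smul_sub, smul_sub, smul_smul, smul_smul]
  rfl

theorem projW_of_mem (T : HypTriple Q) (w : W0 T) : projW T (w : ι → F) = w := by
  apply Subtype.ext
  rw [projW_val, QuadraticMap.polar_comm ⇑Q _ (T.f 0), w.2.2,
    QuadraticMap.polar_comm ⇑Q _ (T.e 0), w.2.1]
  simp

theorem projW_e (T : HypTriple Q) : projW T (T.e 0) = 0 := by
  apply Subtype.ext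
  have hee : polar ⇑Q (T.e 0) (T.e 0) = 0 := T.ee 0 0
  rw [projW_val, ef0, hee]
  simp

theorem decomp_eq (T : HypTriple Q) (x : ι → F) :
    x = polar ⇑Q x (T.f 0) • T.e 0 + polar ⇑Q x (T.e 0) • T.f 0 + (projW T x : ι → F) := by
  rw [projW_val]
  abel

/-- the value of the form on `α e + γ f + w` -/
theorem Q_decomp (T : HypTriple Q) (α γ : F) {w : ι → F} (hw : w ∈ W0 T) :
    Q (α • T.e 0 + γ • T.f 0 + w) = α * γ + Q w := by
  rw [QuadraticMap.map_add ⇑Q, QuadraticMap.map_add ⇑Q, QuadraticMap.map_smul,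
    QuadraticMap.map_smul, T.Qe 0, T.Qf 0, QuadraticMap.polar_add_left,
    QuadraticMap.polar_smul_left, QuadraticMap.polar_smul_left, QuadraticMap.polar_smul_left,
    QuadraticMap.polar_smul_right, ef0, hw.1, hw.2]
  simp only [smul_eq_mul]
  ring

theorem Q_eq (T : HypTriple Q) (x : ι → F) :
    Q x = polar ⇑Q x (T.f 0) * polar ⇑Q x (T.e 0) + Q (projW T x : ι → F) := by
  conv_lhs => rw [decomp_eq T x]
  exact Q_decomp T _ _ (projW T x).2

section fin

variable [Fintype F]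

/-- the semilinear similitude extending `g` -/
noncomputable def bigG (C : Ctx Q) (T : HypTriple Q)
    (β : Cfsg.POmega F ⇑Q ≃* Cfsg.POmega F ⇑Q) (σ : F ≃+* F) (lam : F) (x : ι → F) : ι → F :=
  σ (polar ⇑Q x (T.f 0)) • T.e 0 + (lam⁻¹ * σ (polar ⇑Q x (T.e 0))) • T.f 0
    + lam⁻¹ • (gFun C T β (projW T x) : ι → F)

theorem bigG_add {C : Ctx Q} {T : HypTriple Q} {β : Cfsg.POmega F ⇑Q ≃* Cfsg.POmega F ⇑Q}
    (hβ : NormQ C T β) (σ : F ≃+* F) (lam : F) (x y : ι → F) :
    bigG C T β σ lam (x + y) = bigG C T β σ lam x + bigG C T β σ lam y := by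
  unfold bigG
  rw [projW_add, gFun_add hβ, Submodule.coe_add, QuadraticMap.polar_add_left,
    QuadraticMap.polar_add_left, map_add, map_add, mul_add, add_smul, add_smul, smul_add]
  abel

theorem bigG_smul {C : Ctx Q} {T : HypTriple Q} {β : Cfsg.POmega F ⇑Q ≃* Cfsg.POmega F ⇑Q}
    (hβ : NormQ C T β) (σ : F ≃+* F)
    (hσ : ∀ (t : F) (x : W0 T), gFun C T β (t • x) = σ t • gFun C T β x) (lam : F) (t : F)
    (x : ι → F) :
    bigG C T β σ lam (t • x) = σ t • bigG C T β σ lam x := by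
  unfold bigG
  rw [projW_smul, hσ, Submodule.coe_smul, QuadraticMap.polar_smul_left,
    QuadraticMap.polar_smul_left, smul_eq_mul, smul_eq_mul, map_mul, map_mul, smul_add, smul_add,
    smul_smul, smul_smul, smul_smul, smul_smul]
  rw [mul_left_comm lam⁻¹ (σ t), mul_comm lam⁻¹ (σ t)]

theorem bigG_Q {C : Ctx Q} {T : HypTriple Q} {β : Cfsg.POmega F ⇑Q ≃* Cfsg.POmega F ⇑Q}
    (hβ : NormQ C T β) (σ : F ≃+* F) {lam : F} (hlam : lam ≠ 0)
    (hQ : ∀ x : W0 T, Q (gFun C T β x : ι → F) = lam * σ (Q (x : ι → F))) (x : ι → F) :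
    Q (bigG C T β σ lam x) = lam⁻¹ * σ (Q x) := by
  unfold bigG
  rw [Q_decomp T _ _ ((W0 T).smul_mem _ (gFun C T β (projW T x)).2), QuadraticMap.map_smul, hQ,
    Q_eq T x, map_add, map_mul]
  have hc : lam⁻¹ * lam = 1 := inv_mul_cancel₀ hlam
  simp only [smul_eq_mul]
  linear_combination (lam⁻¹ * σ (Q (projW T x : ι → F))) * hc

theorem bigG_inj {C : Ctx Q} {T : HypTriple Q} {β : Cfsg.POmega F ⇑Q ≃* Cfsg.POmega F ⇑Q}
    (hβ : NormQ C T β) (σ : F ≃+* F) {lam : F} (hlam : lam ≠ 0) (x : ι → F)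
    (hx : bigG C T β σ lam x = 0) : x = 0 := by
  have hee : polar ⇑Q (T.e 0) (T.e 0) = 0 := T.ee 0 0
  have hff : polar ⇑Q (T.f 0) (T.f 0) = 0 := T.ff 0 0
  have hg := (gFun C T β (projW T x)).2
  have h1 : polar ⇑Q (T.f 0) (bigG C T β σ lam x) = 0 := by
    rw [hx, QuadraticMap.polar_zero_right]
  have h2 : polar ⇑Q (T.e 0) (bigG C T β σ lam x) = 0 := by
    rw [hx, QuadraticMap.polar_zero_right]
  unfold bigG at h1 h2
  rw [QuadraticMap.polar_add_right, QuadraticMap.polar_add_right,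
    QuadraticMap.polar_smul_right, QuadraticMap.polar_smul_right,
    QuadraticMap.polar_smul_right, fe0, hff, hg.2] at h1
  rw [QuadraticMap.polar_add_right, QuadraticMap.polar_add_right,
    QuadraticMap.polar_smul_right, QuadraticMap.polar_smul_right,
    QuadraticMap.polar_smul_right, ef0, hee, hg.1] at h2
  simp only [smul_eq_mul, mul_one, mul_zero, add_zero, zero_add] at h1 h2
  have a1 : polar ⇑Q x (T.f 0) = 0 := (map_eq_zero_iff σ σ.injective).1 h1
  have a2 : polar ⇑Q x (T.e 0) = 0 := by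
    rcases mul_eq_zero.1 h2 with h3 | h3
    · exact absurd h3 (inv_ne_zero hlam)
    · exact (map_eq_zero_iff σ σ.injective).1 h3
  unfold bigG at hx
  rw [a1, a2, map_zero, mul_zero, zero_smul, zero_smul, zero_add, zero_add] at hx
  have h3 : (gFun C T β (projW T x) : ι → F) = 0 :=
    (smul_eq_zero.1 hx).resolve_left (inv_ne_zero hlam)
  have h4 : projW T x = 0 := by
    by_contra h5
    exact gFun_ne_zero hβ h5 (Subtype.ext h3)
  rw [decomp_eq T x, a1, a2, h4]
  simp

theorem bigG_e {C : Ctx Q} {T : HypTriple Q} {β : Cfsg.POmega F ⇑Q ≃* Cfsg.POmega F ⇑Q}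
    (hβ : NormQ C T β) (σ : F ≃+* F) (lam : F) : bigG C T β σ lam (T.e 0) = T.e 0 := by
  have hee : polar ⇑Q (T.e 0) (T.e 0) = 0 := T.ee 0 0
  unfold bigG
  rw [projW_e, gFun_zero hβ, ef0, hee]
  simp

theorem bigG_W0 {C : Ctx Q} {T : HypTriple Q} {β : Cfsg.POmega F ⇑Q ≃* Cfsg.POmega F ⇑Q}
    (hβ : NormQ C T β) (σ : F ≃+* F) (lam : F) (w : W0 T) :
    bigG C T β σ lam (w : ι → F) = lam⁻¹ • (gFun C T β w : ι → F) := by
  unfold bigG
  rw [projW_of_mem, QuadraticMap.polar_comm ⇑Q _ (T.f 0), w.2.2,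
    QuadraticMap.polar_comm ⇑Q _ (T.e 0), w.2.1]
  simp

/-- `β` fixes `Q̄_e` pointwise -/
def FixQ (C : Ctx Q) (T : HypTriple Q) (β : Cfsg.POmega F ⇑Q ≃* Cfsg.POmega F ⇑Q) : Prop :=
  ∀ x ∈ Qb C (T.e 0) (T.Qe 0), β x = x

/-- **an automorphism normalising `Q̄_e` agrees on `Q̄_e` with the automorphism induced by a
semilinear similitude** -/
theorem exists_semiAut_agree {p : ℕ} [hp : Fact p.Prime] [CharP F p] {C : Ctx Q}
    {T : HypTriple Q} {β : Cfsg.POmega F ⇑Q ≃* Cfsg.POmega F ⇑Q} (hβ : NormQ C T β) :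
    ∃ (M : GL ι F) (σ : F ≃+* F) (c : F) (h : IsSemiSim Q M σ c),
      FixQ C T (β.trans (semiAut h).symm) := by
  obtain ⟨σ, hσ⟩ := exists_sigma (p := p) hβ
  obtain ⟨lam, hlam, hQ⟩ := exists_multiplier (p := p) hβ σ hσ
  obtain ⟨M, hM⟩ := exists_matrix_of_semilinear σ (bigG C T β σ lam) (bigG_add hβ σ lam)
    (bigG_smul hβ σ hσ lam) (bigG_inj hβ σ hlam)
  have h : IsSemiSim Q M σ lam⁻¹ := by
    refine ⟨inv_ne_zero hlam, ?_⟩
    intro v
    rw [hM, bigG_Q hβ σ hlam hQ]
  refine ⟨M, σ, lam⁻¹, h, ?_⟩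
  intro x hx
  obtain ⟨w, rfl⟩ := exists_param C T hx
  show (semiAut h).symm (β (rE C (T.e 0) (w : ι → F))) = _
  rw [MulEquiv.symm_apply_eq, gFun_spec hβ, rE_def, rE_def, semiAut_prj,
    semiOm_eO C h (T.Qe 0) w.2.1, hM, hM, bigG_e hβ, bigG_W0 hβ, inv_inv, smul_smul,
    mul_inv_cancel₀ hlam, one_smul]

end fin

end Cfsg.Agent.Helper5.AutO
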