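import Mathlib
import Cfsg.Agent.Helper5.AutOU

/-!
# Automorphisms of `PΩ(Q)`, part V: an automorphism fixing `Q̄_e` and `Q̄_f` pointwise is trivial
-/

set_option autoImplicit false
set_option linter.unusedSectionVars false
set_option linter.unusedVariables false
set_option linter.unusedSimpArgs false

namespace Cfsg.Agent.Helper5.AutO

open Matrix QuadraticMap Module Cfsg.Agent.Helper44 Cfsg.Agent.Helper45.OmegaParity

variable {F : Type*} [Field F] {ι : Type} [Fintype ι] [DecidableEq ι]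
variable {Q : QuadraticForm F (ι → F)}

/-- the hyperbolic triple with the two halves exchanged -/
def swapT (T : HypTriple Q) : HypTriple Q where
  e := T.f
  f := T.e
  Qe := T.Qf
  Qf := T.Qe
  ee := T.ff
  ff := T.ee
  ef := fun i j => HypTriple.fe T i j

theorem swapT_e (T : HypTriple Q) (i : Fin 3) : (swapT T).e i = T.f i := rfl
theorem swapT_f (T : HypTriple Q) (i : Fin 3) : (swapT T).f i = T.e i := rfl

theorem mem_W0_swap {T : HypTriple Q} {w : ι → F} : w ∈ W0 (swapT T) ↔ w ∈ W0 T :=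
  ⟨fun h => ⟨h.2, h.1⟩, fun h => ⟨h.2, h.1⟩⟩

/-- `E(a,b) = E(b,-a)` for singular orthogonal `a`, `b` -/
theorem eichlerO_swap {a b : ι → F} (ha : Q a = 0) (hb : Q b = 0) (hab : polar ⇑Q a b = 0) :
    eichlerO Q a b = eichlerO Q b (-a) := by
  have hba : polar ⇑Q b (-a) = 0 := by
    rw [QuadraticMap.polar_neg_right, QuadraticMap.polar_comm, hab, neg_zero]
  apply isom_ext
  intro x
  rw [lin_eichlerO Q ha hab, lin_eichlerO Q hb hba, hb, QuadraticMap.map_neg, ha,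
    QuadraticMap.polar_neg_left]
  module

section fin

variable [Fintype F]

theorem rE_swap (C : Ctx Q) {a b : ι → F} (ha : Q a = 0) (hb : Q b = 0) (hab : polar ⇑Q a b = 0) :
    rE C a b = rE C b (-a) := rE_congr C (eichlerO_swap ha hb hab)

theorem rE_inv (C : Ctx Q) {u w : ι → F} (hu : Q u = 0) (huw : polar ⇑Q u w = 0) :
    (rE C u w)⁻¹ = rE C u (-w) := by
  rw [inv_eq_iff_mul_eq_one, rE_mul C hu huw (by rw [QuadraticMap.polar_neg_right, huw, neg_zero]),
    add_neg_cancel, rE_zero]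

/-- inner automorphisms lie in `PΓO` -/
theorem conj_mem_gamma (g : ↥(Cfsg.Omega F ⇑Q)) :
    MulAut.conj (prj g) ∈ Cfsg.gammaPOmega F ⇑Q := by
  apply Subgroup.subset_closure
  refine ⟨g.1.1, RingEquiv.refl F, ⟨1, fun v => ?_⟩, ?_⟩
  · have h1 : (fun i => (RingEquiv.refl F) (v i)) = v := rfl
    rw [h1, Units.val_one, one_mul]
    show Q (lin Q g.1 v) = _
    rw [lin_isometry]
    rfl
  · intro s s' hss'
    show MulAut.conj (prj g) (prj s) = prj s'
    rw [MulAut.conj_apply, ← map_inv, ← map_mul, ← map_mul]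
    congr 1
    apply Subtype.ext
    apply Subtype.ext
    apply Units.ext
    rw [hss']
    have h1 : ((((s : ↥(Cfsg.isometryGroup F ⇑Q)) : GL ι F) : Matrix ι ι F)).map
        (RingEquiv.refl F) = (((s : ↥(Cfsg.isometryGroup F ⇑Q)) : GL ι F) : Matrix ι ι F) := by
      ext i j
      rfl
    rw [h1]
    rfl

/-- `β` fixes the root group `Q̄_u` pointwise -/
def FixPt (C : Ctx Q) (β : Cfsg.POmega F ⇑Q ≃* Cfsg.POmega F ⇑Q) (u : ι → F) : Prop :=
  ∀ v : ι → F, polar ⇑Q u v = 0 → β (rE C u v) = rE C u v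

theorem fixPt_of_fixQ {C : Ctx Q} {T : HypTriple Q} {β : Cfsg.POmega F ⇑Q ≃* Cfsg.POmega F ⇑Q}
    (h : FixQ C T β) : FixPt C β (T.e 0) :=
  fun v hv => h _ (rE_mem_Qb C (T.Qe 0) hv)

/-- transfer of the pointwise fixing along a root group -/
theorem fixPt_transfer {C : Ctx Q} {β : Cfsg.POmega F ⇑Q ≃* Cfsg.POmega F ⇑Q} {a b u : ι → F}
    (ha : Q a = 0) (hb : Q b = 0) (hu : Q u = 0) (hba : polar ⇑Q b a ≠ 0)
    (hbu : polar ⇑Q b u ≠ 0) (fa : FixPt C β a) (fb : FixPt C β b) : FixPt C β u := by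
  obtain ⟨k, hk⟩ : ∃ k : F, k = polar ⇑Q b u / polar ⇑Q b a := ⟨_, rfl⟩
  have hka : Q (k • a) = 0 := by rw [QuadraticMap.map_smul, ha, smul_zero]
  have h1 : polar ⇑Q b (k • a) = polar ⇑Q b u := by
    rw [QuadraticMap.polar_smul_right, hk, smul_eq_mul, div_mul_cancel₀ _ hba]
  obtain ⟨hc, hmap⟩ := eichlerO_map Q hb hka hu h1 rfl hbu
  obtain ⟨c, hcdef⟩ : ∃ c : ι → F, c = (polar ⇑Q b u)⁻¹ • (k • a - u) := ⟨_, rfl⟩
  rw [← hcdef] at hc hmap
  intro v hv
  obtain ⟨v', hv'⟩ : ∃ v' : ι → F, v' = lin Q (eichlerO Q b c)⁻¹ v := ⟨_, rfl⟩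
  have hvv' : lin Q (eichlerO Q b c) v' = v := by rw [hv', lin_apply_inv]
  have h2 : polar ⇑Q (k • a) v' = 0 := by
    rw [← polar_lin Q (eichlerO Q b c), hmap, hvv', hv]
  have h3 : polar ⇑Q a (k • v') = 0 := by
    rw [QuadraticMap.polar_smul_right, ← QuadraticMap.polar_smul_left]
    exact h2
  have h4 : polar ⇑Q a v' = 0 := by
    have hk0 : k ≠ 0 := by
      rw [hk]
      exact div_ne_zero hbu hba
    rw [QuadraticMap.polar_smul_left, smul_eq_mul] at h2
    exact (mul_eq_zero.1 h2).resolve_left hk0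
  have h5 : rE C u v = prj (eO C b c) * rE C a (k • v') * (prj (eO C b c))⁻¹ := by
    rw [← rE_smul_left C ha h4, prj_conj_rE C _ hka h2, eO_val, hmap, hvv']
  have h6 : β (prj (eO C b c)) = prj (eO C b c) := fb c hc
  rw [h5, map_mul, map_mul, map_inv, h6, fa _ h3]

/-- **rigidity**: an automorphism fixing `Q̄_e` and `Q̄_f` pointwise is the identity -/
theorem eq_id_of_fix {C : Ctx Q} {T : HypTriple Q} {β : Cfsg.POmega F ⇑Q ≃* Cfsg.POmega F ⇑Q}
    (h1 : FixQ C T β) (h2 : FixQ C (swapT T) β) (x : Cfsg.POmega F ⇑Q) : β x = x := by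
  have fe : FixPt C β (T.e 0) := fixPt_of_fixQ h1
  have ff : FixPt C β (T.f 0) := fixPt_of_fixQ h2
  have h5 : 4 < Fintype.card ι := by have := C.hn; omega
  have hall : ∀ u : ι → F, Q u = 0 → FixPt C β u := by
    intro u hu
    by_cases hu0 : u = 0
    · intro v hv
      have : rE C u v = 1 := by
        rw [rE_def]
        rw [show eO C u v = 1 from ?_, map_one]
        apply omega_ext
        intro x
        rw [eO_val, lin_eichlerO Q hu hv, hu0]
        simp [lin_one_apply]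
      rw [this, map_one]
    obtain ⟨z, hz, hze, hzu⟩ := exists_singular_nonperp_both Q C.hQ h5
      (HypTriple.e_ne_zero T 0) hu0 (T.Qe 0) hu
    have hez : polar ⇑Q (T.e 0) z ≠ 0 := by rw [QuadraticMap.polar_comm]; exact hze
    have fz : FixPt C β z :=
      fixPt_transfer (T.Qf 0) (T.Qe 0) hz (by rw [ef0]; exact one_ne_zero) hez ff fe
    exact fixPt_transfer (T.Qe 0) hz hu hze hzu fe fz
  obtain ⟨g, rfl⟩ := prj_surjective x
  have hg : g.1 ∈ eichlerGroup Q :=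
    Omega_le_eichlerGroup Q C.hQ (by have := C.hn; omega) g.2
  have key : ∀ y : ↥(Cfsg.isometryGroup F ⇑Q), y ∈ eichlerGroup Q →
      ∃ hy : y ∈ Cfsg.Omega F ⇑Q, β (prj ⟨y, hy⟩) = prj ⟨y, hy⟩ := by
    intro y hy
    unfold eichlerGroup at hy
    induction hy using Subgroup.closure_induction with
    | mem y hy =>
      obtain ⟨u, w, hu, huw, rfl⟩ := hy
      exact ⟨(eO C u w).2, hall u hu w huw⟩
    | one => exact ⟨one_mem _, by
        have : (⟨1, one_mem _⟩ : ↥(Cfsg.Omega F ⇑Q)) = 1 := rfl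
        rw [this, map_one, map_one]⟩
    | mul y z _ _ hy hz =>
      obtain ⟨hy1, hy2⟩ := hy
      obtain ⟨hz1, hz2⟩ := hz
      refine ⟨mul_mem hy1 hz1, ?_⟩
      have : (⟨y * z, mul_mem hy1 hz1⟩ : ↥(Cfsg.Omega F ⇑Q)) = ⟨y, hy1⟩ * ⟨z, hz1⟩ := rfl
      rw [this, map_mul, map_mul, hy2, hz2]
    | inv y _ hy =>
      obtain ⟨hy1, hy2⟩ := hy
      refine ⟨inv_mem hy1, ?_⟩
      have : (⟨y⁻¹, inv_mem hy1⟩ : ↥(Cfsg.Omega F ⇑Q)) = (⟨y, hy1⟩)⁻¹ := rfl
      rw [this, map_inv, map_inv, hy2]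
  obtain ⟨hy, e⟩ := key g.1 hg
  exact e

end fin

end Cfsg.Agent.Helper5.AutO
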