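import Mathlib
import Cfsg.Agent.Helper5.AutOV

/-!
# Automorphisms of `PΩ(Q)`, part W: an automorphism fixing `Q̄_e` pointwise is inner
-/

set_option autoImplicit false
set_option linter.unusedSectionVars false
set_option linter.unusedVariables false
set_option linter.unusedSimpArgs false

namespace Cfsg.Agent.Helper5.AutO

open Matrix QuadraticMap Module Cfsg.Agent.Helper44 Cfsg.Agent.Helper45.OmegaParity

variable {F : Type*} [Field F] [Fintype F] {ι : Type} [Fintype ι] [DecidableEq ι]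
variable {Q : QuadraticForm F (ι → F)}

/-- the commutator relation between `Q̄_e` and `Q̄_f` -/
theorem commutator_rE (C : Ctx Q) (T : HypTriple Q) {w₁ w₂ : ι → F} (h1 : w₁ ∈ W0 T)
    (h2 : w₂ ∈ W0 T) (q1 : Q w₁ = 0) (q2 : Q w₂ = 0) (h12 : polar ⇑Q w₁ w₂ = 0) :
    rE C (T.e 0) w₁ * rE C (T.f 0) w₂ * (rE C (T.e 0) w₁)⁻¹
      = rE C w₂ w₁ * rE C (T.f 0) w₂ := by
  have hfw₁ : polar ⇑Q (T.f 0) w₁ = 0 := h1.2
  have hw₁f : polar ⇑Q w₁ (T.f 0) = 0 := by rw [QuadraticMap.polar_comm]; exact h1.2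
  have a1 : lin Q (eichlerO Q (T.e 0) w₁) (T.f 0) = T.f 0 - w₁ := by
    rw [lin_eichlerO Q (T.Qe 0) h1.1, hw₁f, ef0, q1]
    simp
  have a2 : lin Q (eichlerO Q (T.e 0) w₁) w₂ = w₂ := by
    rw [lin_eichlerO Q (T.Qe 0) h1.1, h12, h2.1]
    simp
  have hQ' : Q (T.f 0 - w₁) = 0 := by
    rw [sub_eq_add_neg, QuadraticMap.map_add ⇑Q, QuadraticMap.map_neg, T.Qf 0, q1,
      QuadraticMap.polar_neg_right, hfw₁]
    simp
  have hp' : polar ⇑Q (T.f 0 - w₁) w₂ = 0 := by
    rw [QuadraticMap.polar_sub_left, h2.2, h12, sub_zero]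
  have hw₂w₁ : polar ⇑Q w₂ w₁ = 0 := by rw [QuadraticMap.polar_comm]; exact h12
  have hw₂f : polar ⇑Q w₂ (-(T.f 0)) = 0 := by
    rw [QuadraticMap.polar_neg_right, QuadraticMap.polar_comm, h2.2, neg_zero]
  rw [show rE C (T.e 0) w₁ = prj (eO C (T.e 0) w₁) from rfl, prj_conj_rE C _ (T.Qf 0) h2.2,
    eO_val, a1, a2, rE_swap C hQ' q2 hp', neg_sub, sub_eq_add_neg,
    ← rE_mul C q2 hw₂w₁ hw₂f, ← rE_swap C (T.Qf 0) q2 h2.2]

/-- an element of `Q̄_e` commuting with `E(f, w)` has its line through `w` -/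
theorem inL_of_commute (C : Ctx Q) (T : HypTriple Q) {c w : ι → F}
    (hL : IsSingLine Q (T.e 0) c) (hw : w ∈ W0 T) (hw0 : w ≠ 0) (hwQ : Q w = 0)
    (h : rE C (T.e 0) c * rE C (T.f 0) w = rE C (T.f 0) w * rE C (T.e 0) c) :
    InL (T.e 0) c w := by
  have hL' : IsSingLine Q (T.f 0) w := line_of_W0 (T.Qf 0) (fe0 T) hw0 hwQ hw.2 hw.1
  rcases (commute_rE_iff C T hL hL').1 h with hp | hm
  · exfalso
    have := hp.1
    rw [ef0] at this
    exact one_ne_zero this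
  · obtain ⟨v, hv0, ⟨α, β, e1⟩, ⟨γ, δ, e2⟩⟩ := hm
    have hee : polar ⇑Q (T.e 0) (T.e 0) = 0 := T.ee 0 0
    have h1 : polar ⇑Q (T.e 0) v = 0 := by
      rw [e1, QuadraticMap.polar_add_right, QuadraticMap.polar_smul_right,
        QuadraticMap.polar_smul_right, hee, hL.polar_eq]
      simp
    have h2 : polar ⇑Q (T.e 0) v = γ := by
      rw [e2, QuadraticMap.polar_add_right, QuadraticMap.polar_smul_right,
        QuadraticMap.polar_smul_right, ef0, hw.1]
      simp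
    have hγ : γ = 0 := by rw [← h2, h1]
    rw [hγ, zero_smul, zero_add] at e2
    have hδ : δ ≠ 0 := by
      rintro rfl
      rw [zero_smul] at e2
      exact hv0 e2
    refine ⟨δ⁻¹ * α, δ⁻¹ * β, ?_⟩
    have : w = δ⁻¹ • v := by rw [e2, smul_smul, inv_mul_cancel₀ hδ, one_smul]
    rw [this, e1, smul_add, smul_smul, smul_smul]

/-- no element of `Q̄_e` centralises `Q̄_f` -/
theorem not_commute_both (C : Ctx Q) (T : HypTriple Q) {c : ι → F}
    (hL : IsSingLine Q (T.e 0) c)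
    (h1 : rE C (T.e 0) c * rE C (T.f 0) (T.e 1) = rE C (T.f 0) (T.e 1) * rE C (T.e 0) c)
    (h2 : rE C (T.e 0) c * rE C (T.f 0) (T.e 2) = rE C (T.f 0) (T.e 2) * rE C (T.e 0) c) :
    False := by
  obtain ⟨a₁, b₁, e1⟩ := inL_of_commute C T hL (e1_mem_W0 T) (HypTriple.e_ne_zero T 1) (T.Qe 1) h1
  obtain ⟨a₂, b₂, e2⟩ := inL_of_commute C T hL (e2_mem_W0 T) (HypTriple.e_ne_zero T 2) (T.Qe 2) h2
  have key : b₂ • T.e 1 - b₁ • T.e 2 = (b₂ * a₁ - b₁ * a₂) • T.e 0 := by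
    rw [e1, e2]
    module
  have k1 := congrArg (fun x => polar ⇑Q x (T.f 1)) key
  have k2 := congrArg (fun x => polar ⇑Q x (T.f 2)) key
  simp only [QuadraticMap.polar_sub_left, QuadraticMap.polar_smul_left, T.ef, smul_eq_mul] at k1 k2
  simp at k1 k2
  have hb₂ : b₂ = 0 := k1
  have hb₁ : b₁ = 0 := k2
  rw [hb₁, zero_smul, add_zero] at e1
  have k3 := congrArg (fun x => polar ⇑Q x (T.f 1)) e1
  simp only [QuadraticMap.polar_smul_left, T.ef, smul_eq_mul] at k3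
  simp at k3

/-- **adjusting by an element of `Q̄_e`**: an automorphism fixing `Q̄_e` pointwise can be
composed with an inner automorphism from `Q̄_e` so as to normalise `Q̄_f` -/
theorem exists_adjust {p : ℕ} [hp : Fact p.Prime] [CharP F p] (C : Ctx Q) (T : HypTriple Q)
    (H : H4 Q) {β : Cfsg.POmega F ⇑Q ≃* Cfsg.POmega F ⇑Q} (hβ : FixQ C T β) :
    ∃ c : ι → F, polar ⇑Q (T.e 0) c = 0 ∧
      NormQ C (swapT T) (β.trans (MulAut.conj (rE C (T.e 0) c))) ∧
      FixQ C T (β.trans (MulAut.conj (rE C (T.e 0) c))) := by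
  obtain ⟨f', hf', hf'0, hmap⟩ := exists_point_of_aut (p := p) C (swapT T) H β
  have hmap' : ∀ w : ι → F, polar ⇑Q (T.f 0) w = 0 →
      ∃ w' : ι → F, polar ⇑Q f' w' = 0 ∧ β (rE C (T.f 0) w) = rE C f' w' := by
    intro w hw
    exact hmap _ (rE_mem_Qb C (T.Qf 0) hw)
  have hee : polar ⇑Q (T.e 0) (T.e 0) = 0 := T.ee 0 0
  -- `f'` is not orthogonal to `e`
  have hk : polar ⇑Q (T.e 0) f' ≠ 0 := by
    intro h0
    -- an element of `Q̄_e` commuting with the image of `Q̄_f`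
    have hex : ∃ c₀ : ι → F, IsSingLine Q (T.e 0) c₀ ∧
        ∀ w' : ι → F, polar ⇑Q f' w' = 0 →
          rE C (T.e 0) c₀ * rE C f' w' = rE C f' w' * rE C (T.e 0) c₀ := by
      by_cases hcase : ∃ s : F, f' = s • T.e 0
      · obtain ⟨s, hs⟩ := hcase
        have hs0 : s ≠ 0 := by
          rintro rfl
          rw [zero_smul] at hs
          exact hf'0 hs
        refine ⟨T.e 1, HypTriple.line01 T, ?_⟩
        intro w' hw'
        have h1 : polar ⇑Q (T.e 0) w' = 0 := by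
          rw [hs, QuadraticMap.polar_smul_left, smul_eq_mul] at hw'
          exact (mul_eq_zero.1 hw').resolve_left hs0
        have h2 : polar ⇑Q (T.e 0) (s • w') = 0 := by
          rw [QuadraticMap.polar_smul_right, h1, smul_zero]
        have h3 : rE C f' w' = rE C (T.e 0) (s • w') := by
          rw [hs, rE_smul_left C (T.Qe 0) h1]
        rw [h3, rE_mul C (T.Qe 0) (T.ee 0 1) h2, rE_mul C (T.Qe 0) h2 (T.ee 0 1), add_comm]
      · push Not at hcase
        have hL : IsSingLine Q (T.e 0) f' := by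
          refine isSingLine_of ?_ (T.Qe 0) hf' h0
          intro s t hst
          have ht : t = 0 := by
            by_contra ht
            apply hcase (-(t⁻¹ * s))
            have : t • f' = -(s • T.e 0) := eq_neg_of_add_eq_zero_right hst
            calc f' = t⁻¹ • (t • f') := by rw [smul_smul, inv_mul_cancel₀ ht, one_smul]
              _ = -(t⁻¹ * s) • T.e 0 := by rw [this, smul_neg, smul_smul, neg_smul]
          rw [ht, zero_smul, add_zero] at hst
          exact ⟨(smul_eq_zero.1 hst).resolve_right (HypTriple.e_ne_zero T 0), ht⟩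
        refine ⟨f', hL, ?_⟩
        intro w' hw'
        have h1 : polar ⇑Q f' (-(T.e 0)) = 0 := by
          rw [QuadraticMap.polar_neg_right, QuadraticMap.polar_comm, h0, neg_zero]
        rw [rE_swap C (T.Qe 0) hf' h0, rE_mul C hf' h1 hw', rE_mul C hf' hw' h1, add_comm]
    obtain ⟨c₀, hL, hcomm⟩ := hex
    have hfix : β (rE C (T.e 0) c₀) = rE C (T.e 0) c₀ := hβ _ (rE_mem_Qb C (T.Qe 0) hL.polar_eq)
    have hcomm' : ∀ w : ι → F, polar ⇑Q (T.f 0) w = 0 →
        rE C (T.e 0) c₀ * rE C (T.f 0) w = rE C (T.f 0) w * rE C (T.e 0) c₀ := by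
      intro w hw
      obtain ⟨w', hw', e⟩ := hmap' w hw
      apply β.injective
      rw [map_mul, map_mul, hfix, e]
      exact hcomm w' hw'
    exact not_commute_both C T hL (hcomm' _ (by rw [HypTriple.fe]; simp))
      (hcomm' _ (by rw [HypTriple.fe]; simp))
  -- move `f'` back to `⟨f⟩`
  obtain ⟨k, hkdef⟩ : ∃ k : F, k = polar ⇑Q (T.e 0) f' := ⟨_, rfl⟩
  rw [← hkdef] at hk
  have hkf : Q (k • T.f 0) = 0 := by rw [QuadraticMap.map_smul, T.Qf 0, smul_zero]
  have h1 : polar ⇑Q (T.e 0) (k • T.f 0) = k := by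
    rw [QuadraticMap.polar_smul_right, ef0, smul_eq_mul, mul_one]
  obtain ⟨hc, hmapc⟩ := eichlerO_map Q (T.Qe 0) hf' hkf hkdef.symm h1 hk
  obtain ⟨c, hcdef⟩ : ∃ c : ι → F, c = k⁻¹ • (f' - k • T.f 0) := ⟨_, rfl⟩
  rw [← hcdef] at hc hmapc
  refine ⟨c, hc, ?_, ?_⟩
  · apply normQ_of_maps
    intro x hx
    obtain ⟨w, hw, rfl⟩ := hx
    obtain ⟨w', hw', e⟩ := hmap' w hw
    show MulAut.conj (rE C (T.e 0) c) (β (rE C (T.f 0) w)) ∈ _
    rw [MulAut.conj_apply, e, show rE C (T.e 0) c = prj (eO C (T.e 0) c) from rfl,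
      prj_conj_rE C _ hf' hw', eO_val, hmapc]
    have h2 : polar ⇑Q (T.f 0) (lin Q (eichlerO Q (T.e 0) c) w') = 0 := by
      have h3 : polar ⇑Q (lin Q (eichlerO Q (T.e 0) c) f') (lin Q (eichlerO Q (T.e 0) c) w') = 0 := by
        rw [polar_lin, hw']
      rw [hmapc, QuadraticMap.polar_smul_left, smul_eq_mul] at h3
      exact (mul_eq_zero.1 h3).resolve_left hk
    rw [rE_smul_left C (T.Qf 0) h2]
    apply rE_mem_Qb
    show polar ⇑Q (T.f 0) _ = 0
    rw [QuadraticMap.polar_smul_right, h2, smul_zero]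
  · intro x hx
    obtain ⟨w, hw, rfl⟩ := hx
    show MulAut.conj (rE C (T.e 0) c) (β (rE C (T.e 0) w)) = _
    rw [hβ _ (rE_mem_Qb C (T.Qe 0) hw), MulAut.conj_apply, rE_mul C (T.Qe 0) hc hw, add_comm,
      ← rE_mul C (T.Qe 0) hw hc, mul_inv_cancel_right]

end Cfsg.Agent.Helper5.AutO
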