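import Mathlib
import Cfsg.Agent.Helper5.AutOW

/-!
# Automorphisms of `PΩ(Q)`, part X: an automorphism fixing `Q̄_e` pointwise and normalising
`Q̄_f` fixes `Q̄_f` pointwise
-/

set_option autoImplicit false
set_option linter.unusedSectionVars false
set_option linter.unusedVariables false
set_option linter.unusedSimpArgs false

namespace Cfsg.Agent.Helper5.AutO

open Matrix QuadraticMap Module Cfsg.Agent.Helper44 Cfsg.Agent.Helper45.OmegaParity

variable {F : Type*} [Field F] [Fintype F] {ι : Type} [Fintype ι] [DecidableEq ι]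
variable {Q : QuadraticForm F (ι → F)}

/-- the induced map on `W₀` (through `Q̄_f`) stabilises every singular point -/
theorem gFun_swap_smul {p : ℕ} [hp : Fact p.Prime] [CharP F p] (C : Ctx Q) (T : HypTriple Q)
    (H : H4 Q) {β : Cfsg.POmega F ⇑Q ≃* Cfsg.POmega F ⇑Q} (h1 : FixQ C T β)
    (h2 : NormQ C (swapT T) β) {w : W0 (swapT T)} (hw0 : w ≠ 0) (hwQ : Q (w : ι → F) = 0) :
    ∃ μ : F, (gFun C (swapT T) β w : ι → F) = μ • (w : ι → F) := by
  have hwT : (w : ι → F) ∈ W0 T := mem_W0_swap.1 w.2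
  have hw0' : (w : ι → F) ≠ 0 := coe_ne_zero' hw0
  have hL : IsSingLine Q (T.e 0) (w : ι → F) := line_W0 hwT hw0' hwQ
  have hL' : IsSingLine Q (T.f 0) (w : ι → F) := line_W0 (T := swapT T) w.2 hw0' hwQ
  have hg0 : gFun C (swapT T) β w ≠ 0 := gFun_ne_zero h2 hw0
  have hgQ : Q (gFun C (swapT T) β w : ι → F) = 0 := gFun_singular (p := p) h2 hwQ
  have hgT : (gFun C (swapT T) β w : ι → F) ∈ W0 T := mem_W0_swap.1 (gFun C (swapT T) β w).2
  have hL'' : IsSingLine Q (T.f 0) (gFun C (swapT T) β w : ι → F) :=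
    line_W0 (T := swapT T) (gFun C (swapT T) β w).2 (coe_ne_zero' hg0) hgQ
  have hmeet : Meet p (rE C (T.e 0) (w : ι → F)) (rE C (T.f 0) (w : ι → F)) := by
    rw [meet_rE_iff (p := p) C T H hL hL']
    refine ⟨?_, (w : ι → F), hw0', inL_right _ _, inL_right _ _⟩
    rintro ⟨⟨α, β', e⟩, -⟩
    have h3 := congrArg (fun x => polar ⇑Q (T.e 0) x) e
    simp only [QuadraticMap.polar_add_right, QuadraticMap.polar_smul_right, ef0, T.ee 0 0,
      hwT.1, smul_eq_mul, mul_zero, add_zero] at h3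
    exact one_ne_zero h3
  have hmeet' := (meet_iff (p := p) β _ _).2 hmeet
  have e1 : β (rE C (T.e 0) (w : ι → F)) = rE C (T.e 0) (w : ι → F) :=
    h1 _ (rE_mem_Qb C (T.Qe 0) hwT.1)
  have e2 : β (rE C (T.f 0) (w : ι → F)) = rE C (T.f 0) (gFun C (swapT T) β w : ι → F) :=
    gFun_spec h2 w
  rw [e1, e2, meet_rE_iff (p := p) C T H hL hL''] at hmeet'
  obtain ⟨-, v, hv0, ⟨α, β', ev1⟩, ⟨γ, δ, ev2⟩⟩ := hmeet'
  have hff : polar ⇑Q (T.f 0) (T.f 0) = 0 := T.ff 0 0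
  have hee : polar ⇑Q (T.e 0) (T.e 0) = 0 := T.ee 0 0
  have a1 : polar ⇑Q (T.e 0) v = 0 := by
    rw [ev1, QuadraticMap.polar_add_right, QuadraticMap.polar_smul_right,
      QuadraticMap.polar_smul_right, hee, hwT.1]
    simp
  have a2 : polar ⇑Q (T.e 0) v = γ := by
    rw [ev2, QuadraticMap.polar_add_right, QuadraticMap.polar_smul_right,
      QuadraticMap.polar_smul_right, ef0, hgT.1]
    simp
  have hγ : γ = 0 := by rw [← a2, a1]
  rw [hγ, zero_smul, zero_add] at ev2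
  have hδ : δ ≠ 0 := by
    rintro rfl
    rw [zero_smul] at ev2
    exact hv0 ev2
  have b1 : polar ⇑Q (T.f 0) v = α := by
    rw [ev1, QuadraticMap.polar_add_right, QuadraticMap.polar_smul_right,
      QuadraticMap.polar_smul_right, fe0, hwT.2]
    simp
  have b2 : polar ⇑Q (T.f 0) v = 0 := by
    rw [ev2, QuadraticMap.polar_smul_right, hgT.2, smul_zero]
  have hα : α = 0 := by rw [← b1, b2]
  rw [hα, zero_smul, zero_add] at ev1
  refine ⟨δ⁻¹ * β', ?_⟩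
  have : (gFun C (swapT T) β w : ι → F) = δ⁻¹ • v := by
    rw [ev2, smul_smul, inv_mul_cancel₀ hδ, one_smul]
  rw [this, ev1, smul_smul]

/-- the scalar is one -/
theorem gFun_swap_eq {p : ℕ} [hp : Fact p.Prime] [CharP F p] (C : Ctx Q) (T : HypTriple Q)
    (H : H4 Q) {β : Cfsg.POmega F ⇑Q ≃* Cfsg.POmega F ⇑Q} (h1 : FixQ C T β)
    (h2 : NormQ C (swapT T) β) {w : W0 (swapT T)} (hwQ : Q (w : ι → F) = 0) :
    gFun C (swapT T) β w = w := by
  by_cases hw0 : w = 0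
  · rw [hw0, gFun_zero h2]
  obtain ⟨μ, hμ⟩ := gFun_swap_smul (p := p) C T H h1 h2 hw0 hwQ
  have hwT : (w : ι → F) ∈ W0 T := mem_W0_swap.1 w.2
  have hw0' : (w : ι → F) ≠ 0 := coe_ne_zero' hw0
  obtain ⟨w₂, hw₂⟩ : ∃ w₂ : ι → F, w₂ = (w : ι → F) := ⟨_, rfl⟩
  rw [← hw₂] at hwT hw0' hμ hwQ
  -- auxiliary vectors
  obtain ⟨y, hy⟩ := exists_polar_ne_zero Q C.hQ hw0'
  obtain ⟨v₀, hv₀⟩ : ∃ v₀ : ι → F, v₀ = (polar ⇑Q w₂ y)⁻¹ • (projW T y : ι → F) := ⟨_, rfl⟩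
  have hv₀T : v₀ ∈ W0 T := by
    rw [hv₀]
    exact (W0 T).smul_mem _ (projW T y).2
  have hw₂e : polar ⇑Q w₂ (T.e 0) = 0 := by rw [QuadraticMap.polar_comm]; exact hwT.1
  have hw₂f : polar ⇑Q w₂ (T.f 0) = 0 := by rw [QuadraticMap.polar_comm]; exact hwT.2
  have hw₂v₀ : polar ⇑Q w₂ v₀ = 1 := by
    rw [hv₀, QuadraticMap.polar_smul_right, projW_val, QuadraticMap.polar_sub_right,
      QuadraticMap.polar_sub_right, QuadraticMap.polar_smul_right,
      QuadraticMap.polar_smul_right, hw₂e, hw₂f, smul_zero, smul_zero, sub_zero, sub_zero,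
      smul_eq_mul, inv_mul_cancel₀ hy]
  obtain ⟨w₁, hw₁0, q1, hw₁⟩ := exists_singular_orth Q
    (![T.e 0, T.f 0, w₂, v₀] : Fin 4 → (ι → F)) (by have := C.hn; omega)
  have c1 : polar ⇑Q w₁ (T.e 0) = 0 := hw₁ 0
  have c2 : polar ⇑Q w₁ (T.f 0) = 0 := hw₁ 1
  have c3 : polar ⇑Q w₁ w₂ = 0 := hw₁ 2
  have c4 : polar ⇑Q w₁ v₀ = 0 := hw₁ 3
  have hw₁T : w₁ ∈ W0 T :=
    ⟨by rw [QuadraticMap.polar_comm]; exact c1, by rw [QuadraticMap.polar_comm]; exact c2⟩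
  have hw₂w₁ : polar ⇑Q w₂ w₁ = 0 := by rw [QuadraticMap.polar_comm]; exact c3
  -- `μ ≠ 0`
  have hμ0 : μ ≠ 0 := by
    rintro rfl
    rw [zero_smul] at hμ
    exact gFun_ne_zero h2 hw0 (Subtype.ext hμ)
  -- the image of `E(w₂, w₁)`
  have hμT : μ • w₂ ∈ W0 T := (W0 T).smul_mem _ hwT
  have hμQ : Q (μ • w₂) = 0 := by rw [QuadraticMap.map_smul, hwQ, smul_zero]
  have hμ12 : polar ⇑Q w₁ (μ • w₂) = 0 := by
    rw [QuadraticMap.polar_smul_right, c3, smul_zero]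
  have r1 := commutator_rE C T hw₁T hwT q1 hwQ c3
  have r2 := commutator_rE C T hw₁T hμT q1 hμQ hμ12
  have e1 : β (rE C (T.e 0) w₁) = rE C (T.e 0) w₁ := h1 _ (rE_mem_Qb C (T.Qe 0) hw₁T.1)
  have e2 : β (rE C (T.f 0) w₂) = rE C (T.f 0) (μ • w₂) := by
    rw [← hμ, hw₂]
    exact gFun_spec h2 w
  have r3 : β (rE C w₂ w₁) = rE C w₂ (μ • w₁) := by
    have := congrArg β r1
    rw [map_mul, map_mul, map_inv, map_mul, e1, e2, r2] at this
    rw [← mul_right_cancel this, rE_smul_left C hwQ hw₂w₁]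
  -- conjugating `E(e, v₀)`
  have hfixe : ∀ t : F, lin Q (eichlerO Q w₂ (t • w₁)) (T.e 0) = T.e 0 := by
    intro t
    apply eichlerO_fix Q hwQ
    · rw [QuadraticMap.polar_smul_right, hw₂w₁, smul_zero]
    · exact hw₂e
    · rw [QuadraticMap.polar_smul_left, c1, smul_zero]
  have hv : ∀ t : F, lin Q (eichlerO Q w₂ (t • w₁)) v₀ = v₀ - t • w₁ := by
    intro t
    rw [lin_eichlerO Q hwQ (by rw [QuadraticMap.polar_smul_right, hw₂w₁, smul_zero]),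
      QuadraticMap.polar_smul_left, c4, hw₂v₀, QuadraticMap.map_smul, q1]
    simp
  have hconj : ∀ t : F, rE C w₂ (t • w₁) * rE C (T.e 0) v₀ * (rE C w₂ (t • w₁))⁻¹
      = rE C (T.e 0) (v₀ - t • w₁) := by
    intro t
    rw [show rE C w₂ (t • w₁) = prj (eO C w₂ (t • w₁)) from rfl,
      prj_conj_rE C _ (T.Qe 0) hv₀T.1, eO_val, hfixe, hv]
  have k1 := hconj 1
  rw [one_smul] at k1
  have k2 := congrArg β k1
  have hm1 : v₀ - w₁ ∈ W0 T := (W0 T).sub_mem hv₀T hw₁T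
  have hm2 : v₀ - μ • w₁ ∈ W0 T := (W0 T).sub_mem hv₀T ((W0 T).smul_mem _ hw₁T)
  rw [map_mul, map_mul, map_inv, r3, h1 _ (rE_mem_Qb C (T.Qe 0) hv₀T.1), hconj μ,
    h1 _ (rE_mem_Qb C (T.Qe 0) hm1.1)] at k2
  have k3 := param_unique C T (w := ⟨_, hm2⟩) (w' := ⟨_, hm1⟩) k2
  have k4 : v₀ - μ • w₁ = v₀ - w₁ := congrArg Subtype.val k3
  have k5 : (μ - 1) • w₁ = 0 := by
    rw [sub_smul, one_smul]
    have := sub_right_injective k4
    rw [this, sub_self]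
  have hμ1 : μ = 1 := by
    rcases smul_eq_zero.1 k5 with h | h
    · exact sub_eq_zero.1 h
    · exact absurd h hw₁0
  apply Subtype.ext
  rw [← hw₂, hμ, hμ1, one_smul]

/-- **an automorphism fixing `Q̄_e` pointwise and normalising `Q̄_f` fixes `Q̄_f` pointwise** -/
theorem fixQ_swap {p : ℕ} [hp : Fact p.Prime] [CharP F p] (C : Ctx Q) (T : HypTriple Q)
    (H : H4 Q) {β : Cfsg.POmega F ⇑Q ≃* Cfsg.POmega F ⇑Q} (h1 : FixQ C T β)
    (h2 : NormQ C (swapT T) β) : FixQ C (swapT T) β := by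
  intro x hx
  obtain ⟨w, rfl⟩ := exists_param C (swapT T) hx
  rw [gFun_spec h2 w]
  congr 2
  obtain ⟨s₁, s₂, s₃, q1, q2, q3, rfl⟩ := exists_W0_decomp (swapT T) w
  rw [gFun_add h2, gFun_add h2, gFun_swap_eq (p := p) C T H h1 h2 q1,
    gFun_swap_eq (p := p) C T H h1 h2 q2, gFun_swap_eq (p := p) C T H h1 h2 q3]

/-- **an automorphism fixing `Q̄_e` pointwise is inner** -/
theorem inner_of_fixQ {p : ℕ} [hp : Fact p.Prime] [CharP F p] (C : Ctx Q) (T : HypTriple Q)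
    (H : H4 Q) {β : Cfsg.POmega F ⇑Q ≃* Cfsg.POmega F ⇑Q} (hβ : FixQ C T β) :
    ∃ g : ↥(Cfsg.Omega F ⇑Q), ∀ x, β x = MulAut.conj (prj g) x := by
  obtain ⟨c, hc, hN, hF⟩ := exists_adjust (p := p) C T H hβ
  have hF' := fixQ_swap (p := p) C T H hF hN
  have hid := eq_id_of_fix hF hF'
  refine ⟨(eO C (T.e 0) c)⁻¹, ?_⟩
  intro x
  have h1 := hid x
  have h2 : MulAut.conj (rE C (T.e 0) c) (β x) = x := h1
  rw [map_inv, map_inv, MulAut.inv_apply, MulEquiv.eq_symm_apply]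
  exact h2

end Cfsg.Agent.Helper5.AutO
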