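import Mathlib
import Cfsg.Agent.Helper5.AutOX

/-!
# Automorphisms of `PΩ(Q)`, part Y: every automorphism is induced by a semilinear similitude
-/

set_option autoImplicit false
set_option linter.unusedSectionVars false
set_option linter.unusedVariables false
set_option linter.unusedSimpArgs false

namespace Cfsg.Agent.Helper5.AutO

open Matrix QuadraticMap Module Cfsg.Agent.Helper44 Cfsg.Agent.Helper45.OmegaParity

variable {F : Type*} [Field F] [Fintype F] {ι : Type} [Fintype ι] [DecidableEq ι]
variable {Q : QuadraticForm F (ι → F)}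

theorem gamma_eq_top_aux {p : ℕ} [hp : Fact p.Prime] [CharP F p] (C : Ctx Q) (T : HypTriple Q)
    (H : H4 Q) : Cfsg.gammaPOmega F ⇑Q = ⊤ := by
  rw [eq_top_iff]
  intro β _
  obtain ⟨g, hN⟩ := exists_inner_normQ (p := p) C T H β
  obtain ⟨M, σ, c, h, hF⟩ := exists_semiAut_agree (p := p) hN
  obtain ⟨g', hg'⟩ := inner_of_fixQ (p := p) C T H hF
  have key : β = (MulAut.conj (prj g))⁻¹ * semiAut h * MulAut.conj (prj g') := by
    apply MulEquiv.ext
    intro x
    have h1 : (semiAut h).symm (MulAut.conj (prj g) (β x)) = MulAut.conj (prj g') x := hg' x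
    rw [MulEquiv.symm_apply_eq] at h1
    show β x = (MulAut.conj (prj g))⁻¹ (semiAut h (MulAut.conj (prj g') x))
    rw [← h1, MulAut.inv_apply, MulEquiv.symm_apply_apply]
  rw [key]
  exact mul_mem (mul_mem (inv_mem (conj_mem_gamma g)) (semiAut_mem_gamma h)) (conj_mem_gamma g')

/-- **`Aut(PΩ(Q)) = PΓO(Q)`**: every automorphism of `PΩ(Q)` lies in the group generated by the
automorphisms induced by semilinear similitudes -/
theorem gamma_eq_top (C : Ctx Q) (T : HypTriple Q) (H : H4 Q) : Cfsg.gammaPOmega F ⇑Q = ⊤ := by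
  obtain ⟨p, hp⟩ := CharP.exists F
  haveI : Fact p.Prime := ⟨CharP.char_is_prime F p⟩
  exact gamma_eq_top_aux (p := p) C T H

end Cfsg.Agent.Helper5.AutO
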