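import Mathlib
import Cfsg.Agent.Helper12.D4H
import Cfsg.Agent.Helper5.AutOY

/-!
# Automorphisms of `PΩ(Q)` mapping every `Q̄_a` into some `Q̄_v` are induced by semilinear
similitudes (an `H4`-free version of `Helper5.AutO.gamma_eq_top_aux`, for helper12, S2715)
-/

set_option autoImplicit false
set_option linter.unusedSectionVars false
set_option linter.unusedVariables false
set_option linter.unusedSimpArgs false

namespace Cfsg.Agent.Helper5.AutOQb

open Matrix QuadraticMap Module Cfsg.Agent.Helper44 Cfsg.Agent.Helper45.OmegaParity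
  Cfsg.Agent.Helper5 Cfsg.Agent.Helper5.AutO Cfsg.Agent.Helper12.D4

variable {F : Type*} [Field F] [Fintype F] {ι : Type} [Fintype ι] [DecidableEq ι]
variable {Q : QuadraticForm F (ι → F)}

/-- **inner adjustment**: some inner automorphism composed with `β` normalises `Q̄_e` -/
theorem exists_inner_normQ_qb {p : ℕ} [hp : Fact p.Prime] [CharP F p] (C : Ctx Q)
    (T : HypTriple Q) {β : Cfsg.POmega F ⇑Q ≃* Cfsg.POmega F ⇑Q} (hM : MapsQb C β) :
    ∃ g : ↥(Cfsg.Omega F ⇑Q), NormQ C T (β.trans (MulAut.conj (prj g))) := by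
  obtain ⟨v, hv, hv0, hmap⟩ := hM (T.e 0) (T.Qe 0) (HypTriple.e_ne_zero T 0)
  obtain ⟨z, w, c, hz, hzw, hc, hgv⟩ := exists_eichlerO_map_point Q C.hQ
    (by have := C.hn; omega) hv0 (HypTriple.e_ne_zero T 0) hv (T.Qe 0)
  refine ⟨eO C z w, normQ_of_maps C T _ ?_⟩
  intro x hx
  obtain ⟨w', hw', e⟩ := hmap x hx
  show MulAut.conj (prj (eO C z w)) (β x) ∈ _
  rw [MulAut.conj_apply, e, prj_conj_rE C _ hv hw', eO_val, hgv]
  have h1 : polar ⇑Q (T.e 0) (lin Q (eichlerO Q z w) w') = 0 := by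
    have h2 : polar ⇑Q (lin Q (eichlerO Q z w) v) (lin Q (eichlerO Q z w) w') = 0 := by
      rw [polar_lin, hw']
    rw [hgv, QuadraticMap.polar_smul_left, smul_eq_mul] at h2
    exact (mul_eq_zero.1 h2).resolve_left hc
  rw [rE_smul_left C (T.Qe 0) h1]
  apply rE_mem_Qb
  rw [QuadraticMap.polar_smul_right, h1, smul_zero]

/-- **adjusting by an element of `Q̄_e`**: an automorphism fixing `Q̄_e` pointwise can be
composed with an inner automorphism from `Q̄_e` so as to normalise `Q̄_f` -/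
theorem exists_adjust_qb {p : ℕ} [hp : Fact p.Prime] [CharP F p] (C : Ctx Q) (T : HypTriple Q)
    {β : Cfsg.POmega F ⇑Q ≃* Cfsg.POmega F ⇑Q} (hM : MapsQb C β) (hβ : FixQ C T β) :
    ∃ c : ι → F, polar ⇑Q (T.e 0) c = 0 ∧
      NormQ C (swapT T) (β.trans (MulAut.conj (rE C (T.e 0) c))) ∧
      FixQ C T (β.trans (MulAut.conj (rE C (T.e 0) c))) := by
  obtain ⟨f', hf', hf'0, hmap⟩ := hM (T.f 0) (T.Qf 0) (HypTriple.f_ne_zero T 0)
  have hmap' : ∀ w : ι → F, polar ⇑Q (T.f 0) w = 0 →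
      ∃ w' : ι → F, polar ⇑Q f' w' = 0 ∧ β (rE C (T.f 0) w) = rE C f' w' := by
    intro w hw
    exact hmap _ (rE_mem_Qb C (T.Qf 0) hw)
  have hee : polar ⇑Q (T.e 0) (T.e 0) = 0 := T.ee 0 0
  -- `f'` is not orthogonal to `e`
  have hk : polar ⇑Q (T.e 0) f' ≠ 0 := by
    intro h0
    -- an element of `Q̄_e` commuting with the image of `Q̄_f`
    have hex : ∃ c₀ : ι → F, IsSingLine Q (T.e 0) c₀ ∧
        ∀ w' : ι → F, polar ⇑Q f' w' = 0 →
          rE C (T.e 0) c₀ * rE C f' w' = rE C f' w' * rE C (T.e 0) c₀ := by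
      by_cases hcase : ∃ s : F, f' = s • T.e 0
      · obtain ⟨s, hs⟩ := hcase
        have hs0 : s ≠ 0 := by
          rintro rfl
          rw [zero_smul] at hs
          exact hf'0 hs
        refine ⟨T.e 1, HypTriple.line01 T, ?_⟩
        intro w' hw'
        have h1 : polar ⇑Q (T.e 0) w' = 0 := by
          rw [hs, QuadraticMap.polar_smul_left, smul_eq_mul] at hw'
          exact (mul_eq_zero.1 hw').resolve_left hs0
        have h2 : polar ⇑Q (T.e 0) (s • w') = 0 := by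
          rw [QuadraticMap.polar_smul_right, h1, smul_zero]
        have h3 : rE C f' w' = rE C (T.e 0) (s • w') := by
          rw [hs, rE_smul_left C (T.Qe 0) h1]
        rw [h3, rE_mul C (T.Qe 0) (T.ee 0 1) h2, rE_mul C (T.Qe 0) h2 (T.ee 0 1), add_comm]
      · push Not at hcase
        have hL : IsSingLine Q (T.e 0) f' := by
          refine isSingLine_of ?_ (T.Qe 0) hf' h0
          intro s t hst
          have ht : t = 0 := by
            by_contra ht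
            apply hcase (-(t⁻¹ * s))
            have : t • f' = -(s • T.e 0) := eq_neg_of_add_eq_zero_right hst
            calc f' = t⁻¹ • (t • f') := by rw [smul_smul, inv_mul_cancel₀ ht, one_smul]
              _ = -(t⁻¹ * s) • T.e 0 := by rw [this, smul_neg, smul_smul, neg_smul]
          rw [ht, zero_smul, add_zero] at hst
          exact ⟨(smul_eq_zero.1 hst).resolve_right (HypTriple.e_ne_zero T 0), ht⟩
        refine ⟨f', hL, ?_⟩
        intro w' hw'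
        have h1 : polar ⇑Q f' (-(T.e 0)) = 0 := by
          rw [QuadraticMap.polar_neg_right, QuadraticMap.polar_comm, h0, neg_zero]
        rw [rE_swap C (T.Qe 0) hf' h0, rE_mul C hf' h1 hw', rE_mul C hf' hw' h1, add_comm]
    obtain ⟨c₀, hL, hcomm⟩ := hex
    have hfix : β (rE C (T.e 0) c₀) = rE C (T.e 0) c₀ := hβ _ (rE_mem_Qb C (T.Qe 0) hL.polar_eq)
    have hcomm' : ∀ w : ι → F, polar ⇑Q (T.f 0) w = 0 →
        rE C (T.e 0) c₀ * rE C (T.f 0) w = rE C (T.f 0) w * rE C (T.e 0) c₀ := by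
      intro w hw
      obtain ⟨w', hw', e⟩ := hmap' w hw
      apply β.injective
      rw [map_mul, map_mul, hfix, e]
      exact hcomm w' hw'
    exact not_commute_both C T hL (hcomm' _ (by rw [HypTriple.fe]; simp))
      (hcomm' _ (by rw [HypTriple.fe]; simp))
  -- move `f'` back to `⟨f⟩`
  obtain ⟨k, hkdef⟩ : ∃ k : F, k = polar ⇑Q (T.e 0) f' := ⟨_, rfl⟩
  rw [← hkdef] at hk
  have hkf : Q (k • T.f 0) = 0 := by rw [QuadraticMap.map_smul, T.Qf 0, smul_zero]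
  have h1 : polar ⇑Q (T.e 0) (k • T.f 0) = k := by
    rw [QuadraticMap.polar_smul_right, ef0, smul_eq_mul, mul_one]
  obtain ⟨hc, hmapc⟩ := eichlerO_map Q (T.Qe 0) hf' hkf hkdef.symm h1 hk
  obtain ⟨c, hcdef⟩ : ∃ c : ι → F, c = k⁻¹ • (f' - k • T.f 0) := ⟨_, rfl⟩
  rw [← hcdef] at hc hmapc
  refine ⟨c, hc, ?_, ?_⟩
  · apply normQ_of_maps
    intro x hx
    obtain ⟨w, hw, rfl⟩ := hx
    obtain ⟨w', hw', e⟩ := hmap' w hw
    show MulAut.conj (rE C (T.e 0) c) (β (rE C (T.f 0) w)) ∈ _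
    rw [MulAut.conj_apply, e, show rE C (T.e 0) c = prj (eO C (T.e 0) c) from rfl,
      prj_conj_rE C _ hf' hw', eO_val, hmapc]
    have h2 : polar ⇑Q (T.f 0) (lin Q (eichlerO Q (T.e 0) c) w') = 0 := by
      have h3 : polar ⇑Q (lin Q (eichlerO Q (T.e 0) c) f') (lin Q (eichlerO Q (T.e 0) c) w') = 0 := by
        rw [polar_lin, hw']
      rw [hmapc, QuadraticMap.polar_smul_left, smul_eq_mul] at h3
      exact (mul_eq_zero.1 h3).resolve_left hk
    rw [rE_smul_left C (T.Qf 0) h2]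
    apply rE_mem_Qb
    show polar ⇑Q (T.f 0) _ = 0
    rw [QuadraticMap.polar_smul_right, h2, smul_zero]
  · intro x hx
    obtain ⟨w, hw, rfl⟩ := hx
    show MulAut.conj (rE C (T.e 0) c) (β (rE C (T.e 0) w)) = _
    rw [hβ _ (rE_mem_Qb C (T.Qe 0) hw), MulAut.conj_apply, rE_mul C (T.Qe 0) hc hw, add_comm,
      ← rE_mul C (T.Qe 0) hw hc, mul_inv_cancel_right]

/-- the induced map on `W₀` (through `Q̄_f`) stabilises every singular point -/
theorem gFun_swap_smul_qb {p : ℕ} [hp : Fact p.Prime] [CharP F p] (C : Ctx Q) (T : HypTriple Q)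
    {β : Cfsg.POmega F ⇑Q ≃* Cfsg.POmega F ⇑Q} (h1 : FixQ C T β)
    (h2 : NormQ C (swapT T) β) {w : W0 (swapT T)} (hw0 : w ≠ 0) (hwQ : Q (w : ι → F) = 0) :
    ∃ μ : F, (gFun C (swapT T) β w : ι → F) = μ • (w : ι → F) := by
  have hwT : (w : ι → F) ∈ W0 T := mem_W0_swap.1 w.2
  have hw0' : (w : ι → F) ≠ 0 := coe_ne_zero' hw0
  have hL : IsSingLine Q (T.e 0) (w : ι → F) := line_W0 hwT hw0' hwQ
  have hL' : IsSingLine Q (T.f 0) (w : ι → F) := line_W0 (T := swapT T) w.2 hw0' hwQ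
  have hg0 : gFun C (swapT T) β w ≠ 0 := gFun_ne_zero h2 hw0
  have hgQ : Q (gFun C (swapT T) β w : ι → F) = 0 := gFun_singular (p := p) h2 hwQ
  have hgT : (gFun C (swapT T) β w : ι → F) ∈ W0 T := mem_W0_swap.1 (gFun C (swapT T) β w).2
  have hL'' : IsSingLine Q (T.f 0) (gFun C (swapT T) β w : ι → F) :=
    line_W0 (T := swapT T) (gFun C (swapT T) β w).2 (coe_ne_zero' hg0) hgQ
  have hcomm : rE C (T.e 0) (w : ι → F) * rE C (T.f 0) (w : ι → F)
      = rE C (T.f 0) (w : ι → F) * rE C (T.e 0) (w : ι → F) :=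
    (commute_rE_iff C T hL hL').2 (Or.inr ⟨(w : ι → F), hw0', inL_right _ _, inL_right _ _⟩)
  have e1 : β (rE C (T.e 0) (w : ι → F)) = rE C (T.e 0) (w : ι → F) :=
    h1 _ (rE_mem_Qb C (T.Qe 0) hwT.1)
  have e2 : β (rE C (T.f 0) (w : ι → F)) = rE C (T.f 0) (gFun C (swapT T) β w : ι → F) :=
    gFun_spec h2 w
  have hcomm' := congrArg β hcomm
  rw [map_mul, map_mul, e1, e2] at hcomm'
  have hm : MeetL (T.e 0) (w : ι → F) (T.f 0) (gFun C (swapT T) β w : ι → F) := by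
    rcases (commute_rE_iff C T hL hL'').1 hcomm' with hp | hm
    · exfalso
      have := hp.1
      rw [ef0] at this
      exact one_ne_zero this
    · exact hm
  obtain ⟨v, hv0, ⟨α, β', ev1⟩, ⟨γ, δ, ev2⟩⟩ := hm
  have hff : polar ⇑Q (T.f 0) (T.f 0) = 0 := T.ff 0 0
  have hee : polar ⇑Q (T.e 0) (T.e 0) = 0 := T.ee 0 0
  have a1 : polar ⇑Q (T.e 0) v = 0 := by
    rw [ev1, QuadraticMap.polar_add_right, QuadraticMap.polar_smul_right,
      QuadraticMap.polar_smul_right, hee, hwT.1]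
    simp
  have a2 : polar ⇑Q (T.e 0) v = γ := by
    rw [ev2, QuadraticMap.polar_add_right, QuadraticMap.polar_smul_right,
      QuadraticMap.polar_smul_right, ef0, hgT.1]
    simp
  have hγ : γ = 0 := by rw [← a2, a1]
  rw [hγ, zero_smul, zero_add] at ev2
  have hδ : δ ≠ 0 := by
    rintro rfl
    rw [zero_smul] at ev2
    exact hv0 ev2
  have b1 : polar ⇑Q (T.f 0) v = α := by
    rw [ev1, QuadraticMap.polar_add_right, QuadraticMap.polar_smul_right,
      QuadraticMap.polar_smul_right, fe0, hwT.2]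
    simp
  have b2 : polar ⇑Q (T.f 0) v = 0 := by
    rw [ev2, QuadraticMap.polar_smul_right, hgT.2, smul_zero]
  have hα : α = 0 := by rw [← b1, b2]
  rw [hα, zero_smul, zero_add] at ev1
  refine ⟨δ⁻¹ * β', ?_⟩
  have : (gFun C (swapT T) β w : ι → F) = δ⁻¹ • v := by
    rw [ev2, smul_smul, inv_mul_cancel₀ hδ, one_smul]
  rw [this, ev1, smul_smul]

/-- the scalar is one -/
theorem gFun_swap_eq_qb {p : ℕ} [hp : Fact p.Prime] [CharP F p] (C : Ctx Q) (T : HypTriple Q)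
    {β : Cfsg.POmega F ⇑Q ≃* Cfsg.POmega F ⇑Q} (h1 : FixQ C T β)
    (h2 : NormQ C (swapT T) β) {w : W0 (swapT T)} (hwQ : Q (w : ι → F) = 0) :
    gFun C (swapT T) β w = w := by
  by_cases hw0 : w = 0
  · rw [hw0, gFun_zero h2]
  obtain ⟨μ, hμ⟩ := gFun_swap_smul_qb (p := p) C T h1 h2 hw0 hwQ
  have hwT : (w : ι → F) ∈ W0 T := mem_W0_swap.1 w.2
  have hw0' : (w : ι → F) ≠ 0 := coe_ne_zero' hw0
  obtain ⟨w₂, hw₂⟩ : ∃ w₂ : ι → F, w₂ = (w : ι → F) := ⟨_, rfl⟩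
  rw [← hw₂] at hwT hw0' hμ hwQ
  -- auxiliary vectors
  obtain ⟨y, hy⟩ := exists_polar_ne_zero Q C.hQ hw0'
  obtain ⟨v₀, hv₀⟩ : ∃ v₀ : ι → F, v₀ = (polar ⇑Q w₂ y)⁻¹ • (projW T y : ι → F) := ⟨_, rfl⟩
  have hv₀T : v₀ ∈ W0 T := by
    rw [hv₀]
    exact (W0 T).smul_mem _ (projW T y).2
  have hw₂e : polar ⇑Q w₂ (T.e 0) = 0 := by rw [QuadraticMap.polar_comm]; exact hwT.1
  have hw₂f : polar ⇑Q w₂ (T.f 0) = 0 := by rw [QuadraticMap.polar_comm]; exact hwT.2
  have hw₂v₀ : polar ⇑Q w₂ v₀ = 1 := by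
    rw [hv₀, QuadraticMap.polar_smul_right, projW_val, QuadraticMap.polar_sub_right,
      QuadraticMap.polar_sub_right, QuadraticMap.polar_smul_right,
      QuadraticMap.polar_smul_right, hw₂e, hw₂f, smul_zero, smul_zero, sub_zero, sub_zero,
      smul_eq_mul, inv_mul_cancel₀ hy]
  obtain ⟨w₁, hw₁0, q1, hw₁⟩ := exists_singular_orth Q
    (![T.e 0, T.f 0, w₂, v₀] : Fin 4 → (ι → F)) (by have := C.hn; omega)
  have c1 : polar ⇑Q w₁ (T.e 0) = 0 := hw₁ 0
  have c2 : polar ⇑Q w₁ (T.f 0) = 0 := hw₁ 1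
  have c3 : polar ⇑Q w₁ w₂ = 0 := hw₁ 2
  have c4 : polar ⇑Q w₁ v₀ = 0 := hw₁ 3
  have hw₁T : w₁ ∈ W0 T :=
    ⟨by rw [QuadraticMap.polar_comm]; exact c1, by rw [QuadraticMap.polar_comm]; exact c2⟩
  have hw₂w₁ : polar ⇑Q w₂ w₁ = 0 := by rw [QuadraticMap.polar_comm]; exact c3
  -- `μ ≠ 0`
  have hμ0 : μ ≠ 0 := by
    rintro rfl
    rw [zero_smul] at hμ
    exact gFun_ne_zero h2 hw0 (Subtype.ext hμ)
  -- the image of `E(w₂, w₁)`
  have hμT : μ • w₂ ∈ W0 T := (W0 T).smul_mem _ hwT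
  have hμQ : Q (μ • w₂) = 0 := by rw [QuadraticMap.map_smul, hwQ, smul_zero]
  have hμ12 : polar ⇑Q w₁ (μ • w₂) = 0 := by
    rw [QuadraticMap.polar_smul_right, c3, smul_zero]
  have r1 := commutator_rE C T hw₁T hwT q1 hwQ c3
  have r2 := commutator_rE C T hw₁T hμT q1 hμQ hμ12
  have e1 : β (rE C (T.e 0) w₁) = rE C (T.e 0) w₁ := h1 _ (rE_mem_Qb C (T.Qe 0) hw₁T.1)
  have e2 : β (rE C (T.f 0) w₂) = rE C (T.f 0) (μ • w₂) := by
    rw [← hμ, hw₂]
    exact gFun_spec h2 w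
  have r3 : β (rE C w₂ w₁) = rE C w₂ (μ • w₁) := by
    have := congrArg β r1
    rw [map_mul, map_mul, map_inv, map_mul, e1, e2, r2] at this
    rw [← mul_right_cancel this, rE_smul_left C hwQ hw₂w₁]
  -- conjugating `E(e, v₀)`
  have hfixe : ∀ t : F, lin Q (eichlerO Q w₂ (t • w₁)) (T.e 0) = T.e 0 := by
    intro t
    apply eichlerO_fix Q hwQ
    · rw [QuadraticMap.polar_smul_right, hw₂w₁, smul_zero]
    · exact hw₂e
    · rw [QuadraticMap.polar_smul_left, c1, smul_zero]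
  have hv : ∀ t : F, lin Q (eichlerO Q w₂ (t • w₁)) v₀ = v₀ - t • w₁ := by
    intro t
    rw [lin_eichlerO Q hwQ (by rw [QuadraticMap.polar_smul_right, hw₂w₁, smul_zero]),
      QuadraticMap.polar_smul_left, c4, hw₂v₀, QuadraticMap.map_smul, q1]
    simp
  have hconj : ∀ t : F, rE C w₂ (t • w₁) * rE C (T.e 0) v₀ * (rE C w₂ (t • w₁))⁻¹
      = rE C (T.e 0) (v₀ - t • w₁) := by
    intro t
    rw [show rE C w₂ (t • w₁) = prj (eO C w₂ (t • w₁)) from rfl,
      prj_conj_rE C _ (T.Qe 0) hv₀T.1, eO_val, hfixe, hv]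
  have k1 := hconj 1
  rw [one_smul] at k1
  have k2 := congrArg β k1
  have hm1 : v₀ - w₁ ∈ W0 T := (W0 T).sub_mem hv₀T hw₁T
  have hm2 : v₀ - μ • w₁ ∈ W0 T := (W0 T).sub_mem hv₀T ((W0 T).smul_mem _ hw₁T)
  rw [map_mul, map_mul, map_inv, r3, h1 _ (rE_mem_Qb C (T.Qe 0) hv₀T.1), hconj μ,
    h1 _ (rE_mem_Qb C (T.Qe 0) hm1.1)] at k2
  have k3 := param_unique C T (w := ⟨_, hm2⟩) (w' := ⟨_, hm1⟩) k2
  have k4 : v₀ - μ • w₁ = v₀ - w₁ := congrArg Subtype.val k3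
  have k5 : (μ - 1) • w₁ = 0 := by
    rw [sub_smul, one_smul]
    have := sub_right_injective k4
    rw [this, sub_self]
  have hμ1 : μ = 1 := by
    rcases smul_eq_zero.1 k5 with h | h
    · exact sub_eq_zero.1 h
    · exact absurd h hw₁0
  apply Subtype.ext
  rw [← hw₂, hμ, hμ1, one_smul]

/-- **an automorphism fixing `Q̄_e` pointwise and normalising `Q̄_f` fixes `Q̄_f` pointwise** -/
theorem fixQ_swap_qb {p : ℕ} [hp : Fact p.Prime] [CharP F p] (C : Ctx Q) (T : HypTriple Q)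
    {β : Cfsg.POmega F ⇑Q ≃* Cfsg.POmega F ⇑Q} (h1 : FixQ C T β)
    (h2 : NormQ C (swapT T) β) : FixQ C (swapT T) β := by
  intro x hx
  obtain ⟨w, rfl⟩ := exists_param C (swapT T) hx
  rw [gFun_spec h2 w]
  congr 2
  obtain ⟨s₁, s₂, s₃, q1, q2, q3, rfl⟩ := exists_W0_decomp (swapT T) w
  rw [gFun_add h2, gFun_add h2, gFun_swap_eq_qb (p := p) C T h1 h2 q1,
    gFun_swap_eq_qb (p := p) C T h1 h2 q2, gFun_swap_eq_qb (p := p) C T h1 h2 q3]

/-- **an automorphism fixing `Q̄_e` pointwise is inner** -/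
theorem inner_of_fixQ_qb {p : ℕ} [hp : Fact p.Prime] [CharP F p] (C : Ctx Q) (T : HypTriple Q)
    {β : Cfsg.POmega F ⇑Q ≃* Cfsg.POmega F ⇑Q} (hM : MapsQb C β) (hβ : FixQ C T β) :
    ∃ g : ↥(Cfsg.Omega F ⇑Q), ∀ x, β x = MulAut.conj (prj g) x := by
  obtain ⟨c, hc, hN, hF⟩ := exists_adjust_qb (p := p) C T hM hβ
  have hF' := fixQ_swap_qb (p := p) C T hF hN
  have hid := eq_id_of_fix hF hF'
  refine ⟨(eO C (T.e 0) c)⁻¹, ?_⟩
  intro x
  have h1 := hid x
  have h2 : MulAut.conj (rE C (T.e 0) c) (β x) = x := h1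
  rw [map_inv, map_inv, MulAut.inv_apply, MulEquiv.eq_symm_apply]
  exact h2

/-- **an automorphism mapping every `Q̄_a` into some `Q̄_v` is induced by a semilinear
similitude, up to inner automorphisms** -/
theorem exists_semiAut_of_mapsQb {p : ℕ} [hp : Fact p.Prime] [CharP F p] (C : Ctx Q)
    (T : HypTriple Q) {β : Cfsg.POmega F ⇑Q ≃* Cfsg.POmega F ⇑Q} (hβ : MapsQb C β) :
    ∃ (g g' : ↥(Cfsg.Omega F ⇑Q)) (M : GL ι F) (σ : F ≃+* F) (c : F) (h : IsSemiSim Q M σ c),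
      β = (MulAut.conj (prj g))⁻¹ * semiAut h * MulAut.conj (prj g') := by
  obtain ⟨g, hN⟩ := exists_inner_normQ_qb (p := p) C T hβ
  obtain ⟨M, σ, c, h, hF⟩ := exists_semiAut_agree (p := p) hN
  have hβ₂ : MapsQb C ((β.trans (MulAut.conj (prj g))).trans (semiAut h).symm) :=
    (hβ.trans (mapsQb_conj C g)).trans (mapsQb_semiAut_symm C h)
  obtain ⟨g', hg'⟩ := inner_of_fixQ_qb (p := p) C T hβ₂ hF
  refine ⟨g, g', M, σ, c, h, ?_⟩
  apply MulEquiv.ext
  intro x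
  have h1 : (semiAut h).symm (MulAut.conj (prj g) (β x)) = MulAut.conj (prj g') x := hg' x
  rw [MulEquiv.symm_apply_eq] at h1
  show β x = (MulAut.conj (prj g))⁻¹ (semiAut h (MulAut.conj (prj g') x))
  rw [← h1, MulAut.inv_apply, MulEquiv.symm_apply_apply]

end Cfsg.Agent.Helper5.AutOQb
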