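import Mathlib
import Cfsg.Agent.Helper5.AutOY

/-!
# Automorphisms of `PΩ(Q)`, part Z: forms of Witt index three have no totally singular 4-spaces
-/

set_option autoImplicit false
set_option linter.unusedSectionVars false
set_option linter.unusedVariables false
set_option linter.unusedSimpArgs false

namespace Cfsg.Agent.Helper5.AutO

open Matrix QuadraticMap Module Cfsg.Agent.Helper44 Cfsg.Agent.Helper45.OmegaParity

variable {F : Type*} [Field F] {ι : Type} [Fintype ι] [DecidableEq ι]
variable {Q : QuadraticForm F (ι → F)}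

/-- if the singular vectors of the orthogonal `P` of three vectors are all in the radical of `P`,
then there is no totally singular subspace of dimension four -/
theorem noTS4_of_perp (hQ : (QuadraticMap.polarBilin Q).Nondegenerate) (s : Fin 3 → (ι → F))
    (hP : ∀ κ v : ι → F, (∀ i, polar ⇑Q κ (s i) = 0) → Q κ = 0 → (∀ i, polar ⇑Q v (s i) = 0) →
      polar ⇑Q κ v = 0) : NoTS4 Q := by
  intro a b a' b' h h' hperp
  by_contra hm
  obtain ⟨p1, p2, p3, p4⟩ := hperp
  -- the four vectors
  obtain ⟨t, ht⟩ : ∃ t : Fin 4 → (ι → F), t = ![a, b, a', b'] := ⟨_, rfl⟩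
  have hcomb : ∀ g : Fin 4 → F, ∑ i, g i • t i
      = (g 0 • a + g 1 • b) + (g 2 • a' + g 3 • b') := by
    intro g
    rw [ht, Fin.sum_univ_four]
    simp only [Matrix.cons_val_zero, Matrix.cons_val_one, Matrix.cons_val]
    abel
  have hli : LinearIndependent F t := by
    rw [Fintype.linearIndependent_iff]
    intro g hg
    rw [hcomb] at hg
    have hv : g 0 • a + g 1 • b = 0 := by
      by_contra hv0
      apply hm
      refine ⟨g 0 • a + g 1 • b, hv0, ⟨g 0, g 1, rfl⟩, ⟨-g 2, -g 3, ?_⟩⟩
      rw [eq_neg_of_add_eq_zero_left hg]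
      module
    have hv' : g 2 • a' + g 3 • b' = 0 := by
      rw [hv, zero_add] at hg
      exact hg
    obtain ⟨g0, g1⟩ := h.indep _ _ hv
    obtain ⟨g2, g3⟩ := h'.indep _ _ hv'
    intro i
    fin_cases i
    · exact g0
    · exact g1
    · exact g2
    · exact g3
  obtain ⟨U, hU⟩ : ∃ U : Submodule F (ι → F), U = Submodule.span F (Set.range t) := ⟨_, rfl⟩
  have hUrank : finrank F ↥U = 4 := by
    rw [hU, finrank_span_eq_card hli, Fintype.card_fin]
  have hUmem : ∀ x ∈ U, ∃ g : Fin 4 → F, x = (g 0 • a + g 1 • b) + (g 2 • a' + g 3 • b') := by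
    intro x hx
    rw [hU, Submodule.mem_span_range_iff_exists_fun] at hx
    obtain ⟨g, hg⟩ := hx
    exact ⟨g, by rw [← hg, hcomb]⟩
  have hpol : ∀ x ∈ U, ∀ y ∈ U, polar ⇑Q x y = 0 := by
    intro x hx y hy
    obtain ⟨g, rfl⟩ := hUmem x hx
    obtain ⟨g', rfl⟩ := hUmem y hy
    have e1 : polar ⇑Q a a = 0 := polar_self_of_singular Q h.Qp
    have e2 : polar ⇑Q b b = 0 := polar_self_of_singular Q h.Qr
    have e3 : polar ⇑Q a' a' = 0 := polar_self_of_singular Q h'.Qp
    have e4 : polar ⇑Q b' b' = 0 := polar_self_of_singular Q h'.Qr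
    have sw : ∀ {x y : ι → F}, polar ⇑Q x y = 0 → polar ⇑Q y x = 0 := by
      intro x y hxy
      rw [QuadraticMap.polar_comm]
      exact hxy
    simp only [QuadraticMap.polar_add_left, QuadraticMap.polar_add_right,
      QuadraticMap.polar_smul_left, QuadraticMap.polar_smul_right, e1, e2, e3, e4, p1, p2, p3, p4,
      sw p1, sw p2, sw p3, sw p4, h.polar_eq, h.polar_eq', h'.polar_eq, h'.polar_eq', smul_zero,
      add_zero]
  have hsing : ∀ x ∈ U, Q x = 0 := by
    intro x hx
    obtain ⟨g, rfl⟩ := hUmem x hx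
    rw [QuadraticMap.map_add ⇑Q, h.Q_comb, h'.Q_comb]
    simp only [QuadraticMap.polar_add_left, QuadraticMap.polar_add_right,
      QuadraticMap.polar_smul_left, QuadraticMap.polar_smul_right, p1, p2, p3, p4, smul_zero,
      add_zero]
  -- the orthogonal of `s`
  obtain ⟨P, hPdef⟩ : ∃ P : Submodule F (ι → F), P = LinearMap.ker (evalMap Q s) := ⟨_, rfl⟩
  have hPrank : Fintype.card ι ≤ finrank F ↥P + 3 := by
    rw [hPdef]
    exact finrank_ker_evalMap Q s
  have hPmem : ∀ v, v ∈ P ↔ ∀ i, polar ⇑Q v (s i) = 0 := by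
    intro v
    rw [hPdef]
    exact mem_ker_evalMap Q s v
  have hle : U ⊔ P ≤ LinearMap.BilinForm.orthogonal (QuadraticMap.polarBilin Q) (U ⊓ P) := by
    intro v hv
    rw [LinearMap.BilinForm.mem_orthogonal_iff]
    intro κ hκ
    obtain ⟨u, hu, p, hp, rfl⟩ := Submodule.mem_sup.1 hv
    rw [map_add, QuadraticMap.polarBilin_apply_apply, QuadraticMap.polarBilin_apply_apply,
      hpol κ hκ.1 u hu, hP κ p ((hPmem κ).1 hκ.2) (hsing κ hκ.1) ((hPmem p).1 hp), add_zero]
  have h1 := Submodule.finrank_mono hle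
  rw [LinearMap.BilinForm.finrank_orthogonal hQ, Module.finrank_fintype_fun_eq_card] at h1
  have h2 := Submodule.finrank_sup_add_finrank_inf_eq U P
  have h3 : finrank F ↥(U ⊓ P) ≤ Fintype.card ι := by
    have := Submodule.finrank_le (U ⊓ P)
    rwa [Module.finrank_fintype_fun_eq_card] at this
  omega

/-- the seven-dimensional form has no totally singular 4-space -/
theorem noTS4_oddForm (h2 : (2 : F) ≠ 0) : NoTS4 (oddForm 3 F) := by
  apply noTS4_of_perp (nondegenerate_oddForm h2 3)
    (fun i => Pi.single (Sum.inr (Sum.inl i)) (1 : F))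
  intro κ v hκ hκQ hv
  have hk : ∀ i : Fin 3, κ (Sum.inr (Sum.inr i)) = 0 := by
    intro i
    have := hκ i
    rw [QuadraticMap.polar_comm, (isHypPair_oddForm 3 i).polar_a] at this
    exact this
  have hv' : ∀ i : Fin 3, v (Sum.inr (Sum.inr i)) = 0 := by
    intro i
    have := hv i
    rw [QuadraticMap.polar_comm, (isHypPair_oddForm 3 i).polar_a] at this
    exact this
  have h0 : κ (Sum.inl ()) = 0 := by
    have h3 : Cfsg.quadFormOdd 3 F κ = 0 := hκQ
    unfold Cfsg.quadFormOdd at h3
    simp only [hk, mul_zero, Finset.sum_const_zero, add_zero] at h3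
    exact (pow_eq_zero_iff two_ne_zero).1 h3
  show polar (Cfsg.quadFormOdd 3 F) κ v = 0
  rw [polar_quadFormOdd, polar_quadFormPlus]
  simp only [Function.comp_apply, h0, hk, hv', mul_zero, zero_mul, add_zero,
    Finset.sum_const_zero]

/-- the eight-dimensional form of minus type has no totally singular 4-space -/
theorem noTS4_minusForm [Fintype F] (a b : F)
    (hab : ∀ z₁ z₂ : F, z₁ ^ 2 + a * z₁ * z₂ + b * z₂ ^ 2 = 0 → z₁ = 0 ∧ z₂ = 0) :
    NoTS4 (minusForm 3 F a b) := by
  apply noTS4_of_perp (nondegenerate_minusForm_of_aniso 3 a b hab)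
    (fun i => Pi.single (Sum.inl (Sum.inl i)) (1 : F))
  intro κ v hκ hκQ hv
  have hk : ∀ i : Fin 3, κ (Sum.inl (Sum.inr i)) = 0 := by
    intro i
    have := hκ i
    rw [QuadraticMap.polar_comm, (isHypPair_minusForm 3 a b i).polar_a] at this
    exact this
  have hv' : ∀ i : Fin 3, v (Sum.inl (Sum.inr i)) = 0 := by
    intro i
    have := hv i
    rw [QuadraticMap.polar_comm, (isHypPair_minusForm 3 a b i).polar_a] at this
    exact this
  have h0 : κ (Sum.inr 0) = 0 ∧ κ (Sum.inr 1) = 0 := by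
    apply hab
    have h3 : Cfsg.quadFormMinus 3 F a b κ = 0 := hκQ
    rw [quadFormMinus_eq] at h3
    unfold Cfsg.quadFormPlus at h3
    simp only [Function.comp_apply, hk, mul_zero, Finset.sum_const_zero, zero_add] at h3
    exact h3
  show polar (Cfsg.quadFormMinus 3 F a b) κ v = 0
  rw [polar_quadFormMinus, polar_quadFormPlus]
  simp only [Function.comp_apply, h0.1, h0.2, hk, hv', mul_zero, zero_mul, add_zero,
    Finset.sum_const_zero]

end Cfsg.Agent.Helper5.AutO
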