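import Mathlib
import Cfsg.Agent.Helper5.AutSpD

/-!
# Automorphisms of `PSp_{2m}(q)`, part E: automorphisms preserve the set of transvections;
commutation of transvections and orthogonality
-/

set_option autoImplicit false
set_option linter.unusedSectionVars false
set_option linter.unusedVariables false
set_option linter.unusedSimpArgs false

namespace Cfsg.Agent.Helper5.AutSp

open Matrix Cfsg.Agent.Helper13 Cfsg.Agent.Helper94.SpRoot Cfsg.Agent.Helper14.AutPSL

variable {F : Type*} [Field F] {m : ℕ}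

local notation "Vec" => (Fin m ⊕ Fin m → F)
local notation "Mat" => Matrix (Fin m ⊕ Fin m) (Fin m ⊕ Fin m) F
local notation "Sp" => Matrix.symplecticGroup (Fin m) F
local notation "B" => Cfsg.sympForm m F

theorem tE_smul_self (a : Vec) (c : F) : tE a c • a = a := by
  rw [tE_smul_vec, sympForm_self, mul_zero, zero_smul, add_zero]

theorem prj_tE_ne_one (hm : 1 ≤ m) {a : Vec} {c : F} (ha : a ≠ 0) (hc : c ≠ 0) :
    prj (tE a c) ≠ 1 := by
  intro h
  have h1 : tE a c = 1 :=
    eq_of_prj_eq_of_fix hm (h.trans (map_one prj).symm) ha (tE_smul_self a c) (one_smul _ a)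
  exact tE_ne_one ha hc h1

theorem IsTv.ne_one (hm : 1 ≤ m) {x : Cfsg.PSp m F} (hx : IsTv x) : x ≠ 1 := by
  obtain ⟨a, c, ha, hc, rfl⟩ := hx
  exact prj_tE_ne_one hm ha hc

/-- **Theorem A**: every automorphism of `PSp_{2m}(q)` maps transvections to transvections
(`m ≥ 2`, `(m, p) ≠ (2, 2)`). -/
theorem isTv_map [Fintype F] {p : ℕ} [hp : Fact p.Prime] [CharP F p] (hm : 2 ≤ m)
    (h4 : m = 2 → p ≠ 2) (β : Cfsg.PSp m F ≃* Cfsg.PSp m F) {x : Cfsg.PSp m F} (hx : IsTv x) :
    IsTv (β x) := by
  have hm1 : 1 ≤ m := by omega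
  have hx1 : β x ≠ 1 := by
    intro h
    apply hx.ne_one hm1
    apply β.injective
    rw [h, map_one]
  obtain ⟨a, c, ha, hc, rfl⟩ := hx
  have hsc : IsSylCentral p (β (prj (tE a c))) := (isSylCentral_tE hm1 ha c).map β
  by_cases hp2 : p = 2
  · subst hp2
    have hm3 : 3 ≤ m := by
      by_contra hcon
      exact h4 (by omega) rfl
    have hno : NoOrd4 (β (prj (tE a c))) := (noOrd4_tE hm1 a c).map β
    obtain ⟨e, w, c', he, hew, hβ⟩ := exists_uE_of_isSylCentral hm1 hsc
    by_cases hw : ∃ l : F, w = l • e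
    · obtain ⟨l, rfl⟩ := hw
      have h0 : B e (0 : Vec) = 0 := sympForm_zero_right e
      have h1 : uE e (l • e) c' = tE e (c' + 2 * l) := by
        rw [← zero_add (l • e), uE_add_smul h0, uE_zero]
      rw [h1] at hβ
      refine ⟨e, c' + 2 * l, he, ?_, hβ⟩
      intro h0'
      rw [h0', tE_zero, map_one] at hβ
      exact hx1 hβ
    · push Not at hw
      rw [hβ] at hno
      exact absurd hno (not_noOrd4_uE hm3 he hw hew c')
  · exact isTv_of_isSylCentral hm1 hp2 hsc hx1

/-- commuting with a transvection, for an arbitrary element -/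
theorem commute_prj_tE_iff (hm : 2 ≤ m) (g : Sp) {b : Vec} {d : F} (hb : b ≠ 0) (hd : d ≠ 0) :
    Commute (prj g) (prj (tE b d)) ↔ (g • b = b ∨ g • b = -b) := by
  have hm1 : 1 ≤ m := by omega
  constructor
  · intro h
    have h1 : prj (g * tE b d * g⁻¹) = prj (tE b d) := by
      rw [map_mul, map_mul, map_inv, h.eq, mul_inv_cancel_right]
    rw [conj_tE] at h1
    obtain ⟨v, hv0, hv⟩ := exists_ne_zero_orth (![g • b, b] : Fin 2 → Vec) (by omega)
    have hv1 : B v (g • b) = 0 := hv 0
    have hv2 : B v b = 0 := hv 1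
    have h2 : tE (g • b) d = tE b d := by
      apply eq_of_prj_eq_of_fix hm1 h1 hv0
      · rw [tE_smul_vec, hv1, mul_zero, zero_smul, add_zero]
      · rw [tE_smul_vec, hv2, mul_zero, zero_smul, add_zero]
    rw [← conj_tE] at h2
    exact smul_eq_of_tE_fix hb hd h2
  · intro h
    have h1 : g * tE b d * g⁻¹ = tE b d := by
      rw [conj_tE]
      rcases h with h | h
      · rw [h]
      · rw [h, ← neg_one_smul F b, tE_smul]
        congr 1
        ring
    show prj g * prj (tE b d) = prj (tE b d) * prj g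
    rw [← map_mul, ← map_mul]
    congr 1
    rw [mul_inv_eq_iff_eq_mul] at h1
    exact h1

/-- transvections commute iff their centres are orthogonal -/
theorem commute_tE_iff (hm : 2 ≤ m) {a b : Vec} {c d : F} (ha : a ≠ 0) (hb : b ≠ 0) (hc : c ≠ 0)
    (hd : d ≠ 0) : Commute (prj (tE a c)) (prj (tE b d)) ↔ B a b = 0 := by
  rw [commute_prj_tE_iff hm _ hb hd, tE_smul_vec]
  constructor
  · intro h
    by_contra hab
    have hba : B b a ≠ 0 := fun h0 => hab (B_eq_zero_symm h0)
    have hk : c * B b a ≠ 0 := mul_ne_zero hc hba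
    rcases h with h | h
    · rw [add_eq_left] at h
      rcases smul_eq_zero.1 h with h1 | h1
      · exact hk h1
      · exact ha h1
    · -- `a` is a multiple of `b`
      have h2 : (c * B b a) • a = -((2 : F) • b) := by
        rw [two_smul]
        have h3 : (c * B b a) • a = -b - b := by rw [← h]; abel
        rw [h3]; abel
      have h1 : a = (-(c * B b a)⁻¹ * 2) • b := by
        calc a = (c * B b a)⁻¹ • ((c * B b a) • a) := by
              rw [smul_smul, inv_mul_cancel₀ hk, one_smul]
          _ = (c * B b a)⁻¹ • (-((2 : F) • b)) := by rw [h2]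
          _ = (-(c * B b a)⁻¹ * 2) • b := by rw [smul_neg, smul_smul, neg_mul, neg_smul]
      apply hab
      rw [h1, sympForm_smul_left, sympForm_self, mul_zero]
  · intro hab
    left
    rw [B_eq_zero_symm hab, mul_zero, zero_smul, add_zero]

end Cfsg.Agent.Helper5.AutSp
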