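import Mathlib
import Cfsg.Agent.Helper5.AutSpE

/-!
# Automorphisms of `PSp_{2m}(q)`, part F: geometry from commutation of transvections
-/

set_option autoImplicit false
set_option linter.unusedSectionVars false
set_option linter.unusedVariables false
set_option linter.unusedSimpArgs false

namespace Cfsg.Agent.Helper5.AutSp

open Matrix Cfsg.Agent.Helper13 Cfsg.Agent.Helper94.SpRoot Cfsg.Agent.Helper14.AutPSL

variable {F : Type*} [Field F] {m : ℕ}

local notation "Vec" => (Fin m ⊕ Fin m → F)
local notation "Mat" => Matrix (Fin m ⊕ Fin m) (Fin m ⊕ Fin m) F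
local notation "Sp" => Matrix.symplecticGroup (Fin m) F
local notation "B" => Cfsg.sympForm m F

/-- the functional `B(·, a)` -/
def Bl (a : Vec) : Vec →ₗ[F] F where
  toFun v := B v a
  map_add' v v' := sympForm_add_left v v' a
  map_smul' c v := by
    simp [sympForm_smul_left]

theorem Bl_apply (a v : Vec) : Bl a v = B v a := rfl

/-- the functional `B(x, ·)` -/
def Br (x : Vec) : Vec →ₗ[F] F where
  toFun v := B x v
  map_add' v v' := sympForm_add_right x v v'
  map_smul' c v := by
    simp [sympForm_smul_right]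

theorem Br_apply (x v : Vec) : Br x v = B x v := rfl

theorem B_sum_right {k : ℕ} (x : Vec) (c : Fin k → F) (s : Fin k → Vec) :
    B x (∑ i, c i • s i) = ∑ i, c i * B x (s i) := by
  rw [← Br_apply, map_sum]
  simp [Br_apply]

/-- double orthogonal complement of a finite family -/
theorem mem_span_of_perp {k : ℕ} (s : Fin k → Vec) {d : Vec}
    (h : ∀ v : Vec, (∀ i, B v (s i) = 0) → B v d = 0) :
    ∃ c : Fin k → F, d = ∑ i, c i • s i := by
  have h1 : ⨅ i, LinearMap.ker (Bl (s i)) ≤ LinearMap.ker (Bl d) := by
    intro v hv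
    rw [Submodule.mem_iInf] at hv
    rw [LinearMap.mem_ker, Bl_apply]
    apply h
    intro i
    have := hv i
    rwa [LinearMap.mem_ker, Bl_apply] at this
  obtain ⟨c, hc⟩ := (Submodule.mem_span_range_iff_exists_fun F).1 (mem_span_of_iInf_ker_le_ker h1)
  refine ⟨c, ?_⟩
  have h2 : d - ∑ i, c i • s i = 0 := by
    apply eq_zero_of_sympForm_eq_zero
    intro y
    have h3 := LinearMap.congr_fun hc y
    rw [LinearMap.sum_apply] at h3
    simp only [LinearMap.smul_apply, Bl_apply, smul_eq_mul] at h3
    rw [B_swap, sympForm_sub_right, ← h3, B_sum_right, sub_self, neg_zero]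
  exact sub_eq_zero.1 h2

theorem mem_span_pair_of_perp {e b d : Vec}
    (h : ∀ v : Vec, B v e = 0 → B v b = 0 → B v d = 0) : ∃ l μ : F, d = l • b + μ • e := by
  obtain ⟨c, hc⟩ := mem_span_of_perp (![b, e] : Fin 2 → Vec) (d := d) (by
    intro v hv
    exact h v (hv 1) (hv 0))
  refine ⟨c 0, c 1, ?_⟩
  rw [hc, Fin.sum_univ_two]
  rfl

/-- an element `u(w,c)` of `Q_e` outside `X_e` commutes with a transvection iff the centre is
orthogonal to `e` and `w` -/
theorem commute_uE_tE_iff (hm : 2 ≤ m) {e w b : Vec} {c d : F} (he : e ≠ 0)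
    (hw : ∀ l : F, w ≠ l • e) (hew : B e w = 0) (hb : b ≠ 0) (hd : d ≠ 0) :
    Commute (prj (uE e w c)) (prj (tE b d)) ↔ B b e = 0 ∧ B b w = 0 := by
  rw [commute_prj_tE_iff hm _ hb hd, uE_smul_vec hew]
  have hind : ∀ x y : F, x • w + y • e = 0 → x = 0 ∧ y = 0 := by
    intro x y hxy
    by_cases hx : x = 0
    · rw [hx, zero_smul, zero_add] at hxy
      exact ⟨hx, (smul_eq_zero.1 hxy).resolve_right he⟩
    · exfalso
      apply hw (-x⁻¹ * y)
      have : x • w = -(y • e) := eq_neg_of_add_eq_zero_left hxy
      calc w = x⁻¹ • (x • w) := by rw [smul_smul, inv_mul_cancel₀ hx, one_smul]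
        _ = (-x⁻¹ * y) • e := by rw [this, smul_neg, smul_smul, neg_mul, neg_smul]
  constructor
  · intro h
    rcases h with h | h
    · have h1 : B b e • w + (B b w + c * B b e) • e = 0 := by
        have h2 := h
        rw [add_assoc, add_assoc, add_eq_left] at h2
        rw [← h2]
        module
      obtain ⟨h3, h4⟩ := hind _ _ h1
      rw [h3, mul_zero, add_zero] at h4
      exact ⟨h3, h4⟩
    · -- then `2 b ∈ span (e, w)`
      have h1 : (2 : F) • b = -(B b e • w + (B b w + c * B b e) • e) := by
        rw [two_smul]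
        have h2 : b + (b + B b e • w + B b w • e + (c * B b e) • e) = 0 := by
          rw [h, add_neg_cancel]
        rw [← sub_eq_zero, ← h2]
        module
      have h5 : (2 : F) * B b e = 0 := by
        have := congrArg (fun x => B x e) h1
        simp only [sympForm_smul_left, sympForm_neg_left, sympForm_add_left, sympForm_self,
          B_eq_zero_symm hew, mul_zero, add_zero, neg_zero] at this
        exact this
      by_cases h2 : (2 : F) = 0
      · -- characteristic two: `-b = b`
        have h6 : -b = b := by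
          have : (2 : F) • b = 0 := by rw [h2, zero_smul]
          rw [two_smul] at this
          exact neg_eq_of_add_eq_zero_left this
        rw [h6] at h
        have h1' : B b e • w + (B b w + c * B b e) • e = 0 := by
          have h2' := h
          rw [add_assoc, add_assoc, add_eq_left] at h2'
          rw [← h2']
          module
        obtain ⟨h3, h4⟩ := hind _ _ h1'
        rw [h3, mul_zero, add_zero] at h4
        exact ⟨h3, h4⟩
      · have h6 : B b e = 0 := (mul_eq_zero.1 h5).resolve_left h2
        rw [h6, zero_smul, mul_zero, add_zero, zero_add] at h1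
        have h7 : (2 : F) * B b w = 0 := by
          have := congrArg (fun x => B x w) h1
          simp only [sympForm_smul_left, sympForm_neg_left, hew, mul_zero, neg_zero] at this
          exact this
        exact ⟨h6, (mul_eq_zero.1 h7).resolve_left h2⟩
  · rintro ⟨h1, h2⟩
    left
    rw [h1, h2]
    simp

/-- `β` preserves the set of transvections in both directions -/
def TvPres (β : Cfsg.PSp m F ≃* Cfsg.PSp m F) : Prop := ∀ x, IsTv x ↔ IsTv (β x)

theorem TvPres.symm {β : Cfsg.PSp m F ≃* Cfsg.PSp m F} (h : TvPres β) : TvPres β.symm := by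
  intro x
  rw [h (β.symm x), β.apply_symm_apply]

theorem TvPres.trans {β γ : Cfsg.PSp m F ≃* Cfsg.PSp m F} (h : TvPres β) (h' : TvPres γ) :
    TvPres (β.trans γ) := by
  intro x
  rw [h x, h' (β x)]
  rfl

theorem tvPres_of_aut [Fintype F] {p : ℕ} [hp : Fact p.Prime] [CharP F p] (hm : 2 ≤ m)
    (h4 : m = 2 → p ≠ 2) (β : Cfsg.PSp m F ≃* Cfsg.PSp m F) : TvPres β := by
  intro x
  constructor
  · exact isTv_map hm h4 β
  · intro h
    have := isTv_map hm h4 β.symm h
    rwa [β.symm_apply_apply] at this

/-- transvections commuting with the same transvections have proportional centres -/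
theorem smul_of_same_commute (hm : 2 ≤ m) {a a' : Vec} {c c' : F} (ha : a ≠ 0) (ha' : a' ≠ 0)
    (hc : c ≠ 0) (hc' : c' ≠ 0)
    (h : ∀ y : Cfsg.PSp m F, IsTv y → (Commute y (prj (tE a c)) ↔ Commute y (prj (tE a' c')))) :
    ∃ l : F, a' = l • a := by
  apply mem_span_of_perp_perp ha
  intro x hx
  by_cases hx0 : x = 0
  · rw [hx0, sympForm_zero_right]
  have h1 := h (prj (tE x 1)) ⟨x, 1, hx0, one_ne_zero, rfl⟩
  rw [commute_tE_iff hm hx0 ha one_ne_zero hc, commute_tE_iff hm hx0 ha' one_ne_zero hc'] at h1
  exact B_eq_zero_symm (h1.1 (B_eq_zero_symm hx))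

/-- an automorphism preserving transvections maps each transvection subgroup into one -/
theorem map_tE_line (hm : 2 ≤ m) {β : Cfsg.PSp m F ≃* Cfsg.PSp m F} (hβ : TvPres β) {a b : Vec}
    {c d : F} (ha : a ≠ 0) (hb : b ≠ 0) (hc : c ≠ 0) (hd : d ≠ 0)
    (h : β (prj (tE a c)) = prj (tE b d)) (c' : F) : ∃ d' : F, β (prj (tE a c')) = prj (tE b d') := by
  by_cases hc' : c' = 0
  · exact ⟨0, by rw [hc', tE_zero, tE_zero, map_one, map_one]⟩
  obtain ⟨b', d'', hb', hd'', h'⟩ := (hβ _).1 ⟨a, c', ha, hc', rfl⟩
  have h1 : ∀ y : Cfsg.PSp m F, IsTv y →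
      (Commute y (prj (tE b d)) ↔ Commute y (prj (tE b' d''))) := by
    intro y hy
    have hy' : IsTv (β.symm y) := (hβ.symm _).1 hy
    obtain ⟨v, δ, hv, hδ, hy''⟩ := hy'
    have e1 : Commute y (prj (tE b d)) ↔ Commute (β.symm y) (prj (tE a c)) := by
      rw [← h]
      constructor
      · intro hh
        have := hh.map β.symm
        rwa [β.symm_apply_apply] at this
      · intro hh
        have := hh.map β
        rwa [β.apply_symm_apply] at this
    have e2 : Commute y (prj (tE b' d'')) ↔ Commute (β.symm y) (prj (tE a c')) := by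
      rw [← h']
      constructor
      · intro hh
        have := hh.map β.symm
        rwa [β.symm_apply_apply] at this
      · intro hh
        have := hh.map β
        rwa [β.apply_symm_apply] at this
    rw [e1, e2, hy'', commute_tE_iff hm hv ha hδ hc, commute_tE_iff hm hv ha hδ hc']
  obtain ⟨l, hl⟩ := smul_of_same_commute hm hb hb' hd hd'' h1
  refine ⟨d'' * l ^ 2, ?_⟩
  rw [h', hl, tE_smul]

end Cfsg.Agent.Helper5.AutSp
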