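import Mathlib
import Cfsg.Agent.Helper5.AutSpF
import Cfsg.Agent.Helper14.AutKer

/-!
# Automorphisms of `PSp_{2m}(q)`, part G: the image of `Q_e` in `PSp` is characterised by
commutation with transvections; coordinates on it
-/

set_option autoImplicit false
set_option linter.unusedSectionVars false
set_option linter.unusedVariables false
set_option linter.unusedSimpArgs false

namespace Cfsg.Agent.Helper5.AutSp

open Matrix Cfsg.Agent.Helper13 Cfsg.Agent.Helper94.SpRoot Cfsg.Agent.Helper14.AutPSL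

variable {F : Type*} [Field F] {m : ℕ}

local notation "Vec" => (Fin m ⊕ Fin m → F)
local notation "Mat" => Matrix (Fin m ⊕ Fin m) (Fin m ⊕ Fin m) F
local notation "Sp" => Matrix.symplecticGroup (Fin m) F
local notation "B" => Cfsg.sympForm m F

/-- the orthogonal complement of the pair `(e, f)` -/
def W0 (e f : Vec) : Submodule F Vec where
  carrier := {w | B e w = 0 ∧ B f w = 0}
  add_mem' := by
    rintro a b ⟨h1, h2⟩ ⟨h3, h4⟩
    exact ⟨by rw [sympForm_add_right, h1, h3, add_zero], by rw [sympForm_add_right, h2, h4, add_zero]⟩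
  zero_mem' := ⟨sympForm_zero_right e, sympForm_zero_right f⟩
  smul_mem' := by
    rintro c a ⟨h1, h2⟩
    exact ⟨by rw [sympForm_smul_right, h1, mul_zero], by rw [sympForm_smul_right, h2, mul_zero]⟩

theorem mem_W0 {e f w : Vec} : w ∈ W0 e f ↔ B e w = 0 ∧ B f w = 0 := Iff.rfl

/-- the projection onto `W0 e f` along `⟨e, f⟩` -/
def P0 (e f : Vec) : Vec →ₗ[F] Vec :=
  LinearMap.id - (Bl f).smulRight e + (Bl e).smulRight f

theorem P0_apply (e f x : Vec) : P0 e f x = x - B x f • e + B x e • f := by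
  simp [P0, Bl_apply]

theorem P0_mem {e f : Vec} (hef : B e f = 1) (x : Vec) : P0 e f x ∈ W0 e f := by
  have hfe : B f e = -1 := by rw [B_swap, hef]
  rw [mem_W0, P0_apply]
  constructor
  · rw [sympForm_add_right, sympForm_sub_right, sympForm_smul_right, sympForm_smul_right,
      sympForm_self, hef, B_swap e x]
    ring
  · rw [sympForm_add_right, sympForm_sub_right, sympForm_smul_right, sympForm_smul_right,
      sympForm_self, hfe, B_swap f x]
    ring

theorem P0_of_mem {e f w : Vec} (hw : w ∈ W0 e f) : P0 e f w = w := by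
  rw [P0_apply, B_eq_zero_symm hw.1, B_eq_zero_symm hw.2]
  simp

theorem P0_self {e f : Vec} (hef : B e f = 1) : P0 e f e = 0 := by
  rw [P0_apply, hef, sympForm_self]
  simp

theorem decomp (e f x : Vec) : x = B x f • e - B x e • f + P0 e f x := by
  rw [P0_apply]
  abel

theorem ne_zero_of_pair {e f : Vec} (hef : B e f = 1) : e ≠ 0 := by
  rintro rfl
  rw [sympForm_zero_left] at hef
  exact zero_ne_one hef

/-- a non-zero vector of `W0` is not a multiple of `e` -/
theorem not_smul_of_mem_W0 {e f w : Vec} (hef : B e f = 1) (hw : w ∈ W0 e f) (hw0 : w ≠ 0)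
    (l : F) : w ≠ l • e := by
  intro h
  have h1 : B f w = 0 := hw.2
  rw [h, sympForm_smul_right, B_swap, hef] at h1
  have hl : l = 0 := by linear_combination -h1
  rw [hl, zero_smul] at h
  exact hw0 h

/-- two independent vectors of `W0` -/
theorem exists_indep_W0 (hm : 2 ≤ m) {e f : Vec} (hef : B e f = 1) :
    ∃ v₁ v₂ : W0 e f, v₁ ≠ 0 ∧ ∀ k : F, v₂ ≠ k • v₁ := by
  obtain ⟨v, hv0, hv⟩ := exists_ne_zero_orth (![e, f] : Fin 2 → Vec) (by omega)
  have hve : B v e = 0 := hv 0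
  have hvf : B v f = 0 := hv 1
  have hvW : v ∈ W0 e f := ⟨B_eq_zero_symm hve, B_eq_zero_symm hvf⟩
  obtain ⟨x, hx⟩ := sympForm_nondeg_right hv0
  have h1 : B v (P0 e f x) ≠ 0 := by
    rw [P0_apply, sympForm_add_right, sympForm_sub_right, sympForm_smul_right, sympForm_smul_right,
      hve, hvf, mul_zero, mul_zero, sub_zero, add_zero]
    exact hx
  refine ⟨⟨v, hvW⟩, ⟨P0 e f x, P0_mem hef x⟩, ?_, ?_⟩
  · intro h
    exact hv0 (congrArg Subtype.val h)
  · intro k h
    have h2 : P0 e f x = k • v := congrArg Subtype.val h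
    rw [h2, sympForm_smul_right, sympForm_self, mul_zero] at h1
    exact h1 rfl

/-- the image of `Q_e` in `PSp` -/
def Qb (e : Vec) : Subgroup (Cfsg.PSp m F) := (Qe e).map prj

theorem mem_Qb {e : Vec} {x : Cfsg.PSp m F} :
    x ∈ Qb e ↔ ∃ (w : Vec) (c : F), B e w = 0 ∧ x = prj (uE e w c) := by
  constructor
  · rintro ⟨g, ⟨w, c, h, rfl⟩, rfl⟩
    exact ⟨w, c, h, rfl⟩
  · rintro ⟨w, c, h, rfl⟩
    exact ⟨_, ⟨w, c, h, rfl⟩, rfl⟩

/-- the image of a transvection subgroup in `PSp` -/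
def Xb (a : Vec) : Subgroup (Cfsg.PSp m F) := (T a).map prj

theorem mem_Xb {a : Vec} {x : Cfsg.PSp m F} : x ∈ Xb a ↔ ∃ c : F, x = prj (tE a c) := by
  constructor
  · rintro ⟨g, hg, rfl⟩
    obtain ⟨c, rfl⟩ := mem_T_iff.1 hg
    exact ⟨c, rfl⟩
  · rintro ⟨c, rfl⟩
    exact ⟨_, tE_mem_T a c, rfl⟩

/-- coordinates in `W0` -/
theorem exists_param {e f : Vec} (hef : B e f = 1) {x : Cfsg.PSp m F} (hx : x ∈ Qb e) :
    ∃ (w : W0 e f) (c : F), x = prj (uE e (w : Vec) c) := by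
  obtain ⟨w, c, hw, rfl⟩ := mem_Qb.1 hx
  have hw' : B w e = 0 := B_eq_zero_symm hw
  have h1 : w = P0 e f w + B w f • e := by
    rw [P0_apply, hw']
    simp
  have h2 : B e (P0 e f w) = 0 := (P0_mem hef w).1
  refine ⟨⟨P0 e f w, P0_mem hef w⟩, c + 2 * B w f, ?_⟩
  rw [← uE_add_smul h2, ← h1]

theorem uE_W0_unique (hm : 1 ≤ m) {e f : Vec} (hef : B e f = 1) {w w' : W0 e f} {c c' : F}
    (h : prj (uE e (w : Vec) c) = prj (uE e (w' : Vec) c')) : w = w' ∧ c = c' := by
  have he := ne_zero_of_pair hef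
  have h1 : uE e (w : Vec) c = uE e (w' : Vec) c' :=
    eq_of_prj_eq_of_fix hm h he (uE_smul_self w.2.1 c) (uE_smul_self w'.2.1 c')
  obtain ⟨l, hl, hc⟩ := uE_eq he w.2.1 w'.2.1 h1
  have h2 : B f (w : Vec) = 0 := w.2.2
  rw [hl, sympForm_add_right, w'.2.2, zero_add, sympForm_smul_right, B_swap, hef] at h2
  have hl0 : l = 0 := by linear_combination -h2
  rw [hl0, zero_smul, add_zero] at hl
  rw [hl0, mul_zero, add_zero] at hc
  exact ⟨Subtype.ext hl, hc.symm⟩

open Classical in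
/-- the `W0`-coordinate of an element of `Qb e` -/
noncomputable def wcoord (e f : Vec) (x : Cfsg.PSp m F) : W0 e f :=
  if h : ∃ (w : W0 e f) (c : F), x = prj (uE e (w : Vec) c) then h.choose else 0

theorem wcoord_prj_uE (hm : 1 ≤ m) {e f : Vec} (hef : B e f = 1) (w : W0 e f) (c : F) :
    wcoord e f (prj (uE e (w : Vec) c)) = w := by
  have h : ∃ (w' : W0 e f) (c' : F), prj (uE e (w : Vec) c) = prj (uE e (w' : Vec) c') := ⟨w, c, rfl⟩
  rw [wcoord, dif_pos h]
  obtain ⟨c', hc'⟩ := h.choose_spec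
  exact ((uE_W0_unique hm hef hc').1).symm

theorem wcoord_spec {e f : Vec} (hef : B e f = 1) {x : Cfsg.PSp m F} (hx : x ∈ Qb e) :
    ∃ c : F, x = prj (uE e (wcoord e f x : Vec) c) := by
  have h := exists_param (f := f) hef hx
  rw [wcoord, dif_pos h]
  exact h.choose_spec

theorem prj_uE_mem_Qb {e w : Vec} (h : B e w = 0) (c : F) : prj (uE e w c) ∈ Qb e :=
  mem_Qb.2 ⟨w, c, h, rfl⟩

theorem Xb_le_Qb (e : Vec) : Xb e ≤ (Qb e : Subgroup (Cfsg.PSp m F)) := by
  intro x hx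
  obtain ⟨c, rfl⟩ := mem_Xb.1 hx
  rw [← uE_zero]
  exact prj_uE_mem_Qb (sympForm_zero_right e) c

theorem wcoord_eq_zero_iff (hm : 1 ≤ m) {e f : Vec} (hef : B e f = 1) {x : Cfsg.PSp m F}
    (hx : x ∈ Qb e) : wcoord e f x = 0 ↔ x ∈ Xb e := by
  constructor
  · intro h
    obtain ⟨c, hc⟩ := wcoord_spec hef hx
    rw [h] at hc
    rw [hc, mem_Xb]
    exact ⟨c, by rw [← uE_zero]; rfl⟩
  · intro h
    obtain ⟨c, rfl⟩ := mem_Xb.1 h
    have := wcoord_prj_uE hm hef (0 : W0 e f) c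
    rw [← this]
    congr 2
    rw [← uE_zero]
    rfl

/-- `wcoord` is additive -/
theorem wcoord_mul (hm : 1 ≤ m) {e f : Vec} (hef : B e f = 1) {x y : Cfsg.PSp m F}
    (hx : x ∈ Qb e) (hy : y ∈ Qb e) : wcoord e f (x * y) = wcoord e f x + wcoord e f y := by
  obtain ⟨c, hc⟩ := wcoord_spec hef hx
  obtain ⟨c', hc'⟩ := wcoord_spec hef hy
  have h1 : x * y = prj (uE e ((wcoord e f x + wcoord e f y : W0 e f) : Vec)
      (c + c' + B (wcoord e f y : Vec) (wcoord e f x : Vec))) := by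
    nth_rewrite 1 [hc, hc']
    rw [← map_mul, uE_mul (wcoord e f x).2.1 (wcoord e f y).2.1]
    rfl
  rw [h1, wcoord_prj_uE hm hef]

end Cfsg.Agent.Helper5.AutSp
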