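import Mathlib
import Cfsg.Agent.Helper5.AutSpG

/-!
# Automorphisms of `PSp_{2m}(q)`, part H: an intrinsic description of the image of `Q_e`
-/

set_option autoImplicit false
set_option linter.unusedSectionVars false
set_option linter.unusedVariables false
set_option linter.unusedSimpArgs false

namespace Cfsg.Agent.Helper5.AutSp

open Matrix Cfsg.Agent.Helper13 Cfsg.Agent.Helper94.SpRoot Cfsg.Agent.Helper14.AutPSL

variable {F : Type*} [Field F] {m : ℕ}

local notation "Vec" => (Fin m ⊕ Fin m → F)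
local notation "Mat" => Matrix (Fin m ⊕ Fin m) (Fin m ⊕ Fin m) F
local notation "Sp" => Matrix.symplecticGroup (Fin m) F
local notation "B" => Cfsg.sympForm m F

/-- the property characterising the elements of `Qb e` in terms of a transvection `t₀` with
centre `e` -/
def QP (p : ℕ) (t₀ x : Cfsg.PSp m F) : Prop :=
  Commute x t₀ ∧ (∃ k : ℕ, x ^ (p ^ k) = 1) ∧
    ∀ y, IsTv y → Commute y t₀ → ∀ y', IsTv y' → Commute y' t₀ → Commute y' y →
      Commute y' (x * y * x⁻¹)

theorem QP.map {p : ℕ} {t₀ x : Cfsg.PSp m F} {β : Cfsg.PSp m F ≃* Cfsg.PSp m F} (hβ : TvPres β)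
    (h : QP p t₀ x) : QP p (β t₀) (β x) := by
  obtain ⟨h1, ⟨k, hk⟩, h3⟩ := h
  refine ⟨h1.map β, ⟨k, by rw [← map_pow, hk, map_one]⟩, ?_⟩
  intro y hy hyt y' hy' hyt' hyy
  have e1 : ∀ z : Cfsg.PSp m F, Commute z (β t₀) → Commute (β.symm z) t₀ := by
    intro z hz
    have := hz.map β.symm
    rwa [β.symm_apply_apply] at this
  have h4 := h3 (β.symm y) ((hβ.symm _).1 hy) (e1 y hyt) (β.symm y') ((hβ.symm _).1 hy')
    (e1 y' hyt') (hyy.map β.symm)
  have h5 := h4.map β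
  rwa [map_mul, map_mul, map_inv, β.apply_symm_apply, β.apply_symm_apply] at h5

theorem qP_of_mem_Qb {p : ℕ} [CharP F p] (hm : 2 ≤ m) {e : Vec} (he : e ≠ 0) {d : F} (hd : d ≠ 0)
    {x : Cfsg.PSp m F} (hx : x ∈ Qb e) : QP p (prj (tE e d)) x := by
  obtain ⟨w, c, hw, rfl⟩ := mem_Qb.1 hx
  have h0 : B e (0 : Vec) = 0 := sympForm_zero_right e
  refine ⟨?_, ⟨1, ?_⟩, ?_⟩
  · show prj (uE e w c) * prj (tE e d) = prj (tE e d) * prj (uE e w c)
    rw [← map_mul, ← map_mul, ← uE_zero, uE_mul hw h0, uE_mul h0 hw]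
    congr 2
    · rw [add_comm]
    · rw [sympForm_zero_left, sympForm_zero_right]
      ring
  · rw [pow_one, ← map_pow, uE_pow hw, CharP.cast_eq_zero F p, zero_smul, zero_mul,
      uE_zero_zero, map_one]
  · rintro y ⟨b, δ, hb, hδ, rfl⟩ hyt y' ⟨v, δ', hv, hδ', rfl⟩ hyt' hyy
    rw [commute_tE_iff hm hb he hδ hd] at hyt
    rw [commute_tE_iff hm hv he hδ' hd] at hyt'
    rw [commute_tE_iff hm hv hb hδ' hδ] at hyy
    have h1 : prj (uE e w c) * prj (tE b δ) * (prj (uE e w c))⁻¹ = prj (tE (uE e w c • b) δ) := by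
      rw [← map_inv, ← map_mul, ← map_mul, conj_tE]
    rw [h1, commute_tE_iff hm hv ((smul_ne_zero_iff_ne _).2 hb) hδ' hδ, uE_smul_perp hw c hyt,
      sympForm_add_right, sympForm_smul_right, hyy, hyt', mul_zero, add_zero]

theorem pow_smul_fix {g : Sp} {e : Vec} (h : g • e = e) (n : ℕ) : g ^ n • e = e := by
  induction n with
  | zero => rw [pow_zero, one_smul]
  | succ n ih => rw [pow_succ, mul_smul, h, ih]

theorem mem_Qb_of_qP [Fintype F] {p : ℕ} [hp : Fact p.Prime] [CharP F p] (hm : 2 ≤ m)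
    {e f : Vec} (hef : B e f = 1) {d : F} (hd : d ≠ 0) {x : Cfsg.PSp m F}
    (h : QP p (prj (tE e d)) x) : x ∈ Qb e := by
  have hm1 : 1 ≤ m := by omega
  have he := ne_zero_of_pair hef
  have hfe : B f e = -1 := by rw [B_swap, hef]
  obtain ⟨h1, ⟨k, hk⟩, h3⟩ := h
  -- a lift fixing `e`
  obtain ⟨g, hgx, hge⟩ : ∃ g : Sp, prj g = x ∧ g • e = e := by
    obtain ⟨g₀, rfl⟩ := prj_surjective x
    rcases (commute_prj_tE_iff hm g₀ he hd).1 h1 with h | h
    · exact ⟨g₀, rfl, h⟩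
    · refine ⟨g₀ * Cfsg.Agent.S0246.negOne m F, ?_, ?_⟩
      · rw [map_mul]
        have : prj (Cfsg.Agent.S0246.negOne m F) = 1 :=
          (QuotientGroup.eq_one_iff _).2 Cfsg.Agent.S0246.negOne_mem_center
        rw [this, mul_one]
      · rw [mul_smul, negOne_smul, smul_neg, h, neg_neg]
  subst hgx
  -- `g` preserves every line through `e`
  have hline : ∀ b : Vec, B b e = 0 → ∃ l μ : F, g • b = l • b + μ • e := by
    intro b hb
    by_cases hb0 : b = 0
    · exact ⟨0, 0, by rw [hb0, smul_zero, smul_zero, zero_smul, add_zero]⟩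
    apply mem_span_pair_of_perp
    intro v hve hvb
    by_cases hv0 : v = 0
    · rw [hv0, sympForm_zero_left]
    have h4 := h3 (prj (tE b 1)) ⟨b, 1, hb0, one_ne_zero, rfl⟩
      ((commute_tE_iff hm hb0 he one_ne_zero hd).2 hb)
      (prj (tE v 1)) ⟨v, 1, hv0, one_ne_zero, rfl⟩
      ((commute_tE_iff hm hv0 he one_ne_zero hd).2 hve)
      ((commute_tE_iff hm hv0 hb0 one_ne_zero one_ne_zero).2 hvb)
    have h5 : prj g * prj (tE b 1) * (prj g)⁻¹ = prj (tE (g • b) 1) := by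
      rw [← map_inv, ← map_mul, ← map_mul, conj_tE]
    rw [h5, commute_tE_iff hm hv0 ((smul_ne_zero_iff_ne _).2 hb0) one_ne_zero one_ne_zero] at h4
    exact h4
  -- the induced map on `W0` is a scalar
  let L : W0 e f →+ W0 e f :=
    { toFun := fun w => ⟨P0 e f (g • (w : Vec)), P0_mem hef _⟩
      map_zero' := by
        apply Subtype.ext
        simp
      map_add' := fun w w' => by
        apply Subtype.ext
        simp [smul_add] }
  have hL : ∀ w : W0 e f, ∃ l : F, L w = l • w := by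
    intro w
    obtain ⟨l, μ, hl⟩ := hline w (B_eq_zero_symm w.2.1)
    refine ⟨l, Subtype.ext ?_⟩
    show P0 e f (g • (w : Vec)) = l • (w : Vec)
    rw [hl, map_add, map_smul, map_smul, P0_self hef, P0_of_mem w.2, smul_zero, add_zero]
  obtain ⟨v₁, v₂, hv₁, hv₂⟩ := exists_indep_W0 hm hef
  obtain ⟨lam, hlam⟩ := eigen_uniform L hL hv₁ hv₂
  have hact : ∀ w : W0 e f, g • (w : Vec) = lam • (w : Vec) + B (g • (w : Vec)) f • e := by
    intro w
    have h4 := decomp e f (g • (w : Vec))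
    have h5 : B (g • (w : Vec)) e = 0 := by
      nth_rewrite 2 [← hge]
      rw [B_smul, B_eq_zero_symm w.2.1]
    have h6 : P0 e f (g • (w : Vec)) = lam • (w : Vec) := congrArg Subtype.val (hlam w)
    rw [h5, zero_smul, sub_zero, h6] at h4
    rw [add_comm]
    exact h4
  -- `g` has `p`-power order
  have hgn : g ^ (p ^ k) = 1 := by
    apply eq_of_prj_eq_of_fix hm1 _ he (pow_smul_fix hge _) (one_smul _ e)
    rw [map_pow, hk, map_one]
  -- hence the scalar is one
  obtain ⟨c₁, hc₁⟩ : ∃ c₁ : F, g • (v₁ : Vec) = lam • (v₁ : Vec) + c₁ • e := ⟨_, hact v₁⟩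
  have hpow : ∀ n : ℕ, ∃ μ : F, g ^ n • (v₁ : Vec) = lam ^ n • (v₁ : Vec) + μ • e := by
    intro n
    induction n with
    | zero => exact ⟨0, by rw [pow_zero, pow_zero, one_smul, one_smul, zero_smul, add_zero]⟩
    | succ n ih =>
      obtain ⟨μ, hμ⟩ := ih
      refine ⟨lam ^ n * c₁ + μ, ?_⟩
      rw [pow_succ', mul_smul, hμ, smul_add, smul_comm g, smul_comm g μ, hge, hc₁, pow_succ]
      module
  have hlam1 : lam = 1 := by
    obtain ⟨μ, hμ⟩ := hpow (p ^ k)
    rw [hgn, one_smul] at hμ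
    have h4 : B f (v₁ : Vec) = 0 := v₁.2.2
    have h5 := congrArg (fun z => B f z) hμ
    simp only [sympForm_add_right, sympForm_smul_right, h4, hfe, mul_zero, zero_add] at h5
    have hμ0 : μ = 0 := by linear_combination h5
    rw [hμ0, zero_smul, add_zero] at hμ
    have h6 : (lam ^ (p ^ k) - 1) • (v₁ : Vec) = 0 := by
      rw [sub_smul, one_smul, ← hμ, sub_self]
    have hv₁' : (v₁ : Vec) ≠ 0 := fun h0 => hv₁ (Subtype.ext h0)
    have h7 : lam ^ (p ^ k) - 1 = 0 := (smul_eq_zero.1 h6).resolve_right hv₁'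
    have h8 : (lam - 1) ^ (p ^ k) = 0 := by
      rw [sub_pow_char_pow, one_pow, h7]
    exact sub_eq_zero.1 (pow_eq_zero_iff (pow_ne_zero k hp.out.ne_zero) |>.1 h8)
  -- conclusion
  refine ⟨g, ?_, rfl⟩
  apply mem_Qe_of_action he hge
  intro b hb
  have h4 := decomp e f b
  rw [hb, zero_smul, sub_zero] at h4
  obtain ⟨c₂, hc₂⟩ : ∃ c₂ : F, g • (P0 e f b) = P0 e f b + c₂ • e := by
    have h5 := hact ⟨P0 e f b, P0_mem hef b⟩
    rw [hlam1, one_smul] at h5
    exact ⟨_, h5⟩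
  refine ⟨c₂, ?_⟩
  have h6 : g • b = B b f • e + g • (P0 e f b) := by
    conv_lhs => rw [h4]
    rw [smul_add, smul_comm, hge]
  rw [h6, hc₂]
  conv_rhs => rw [h4]
  abel

end Cfsg.Agent.Helper5.AutSp
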