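import Mathlib
import Cfsg.Agent.Helper5.AutSpH
import Cfsg.Agent.Helper14.AutSemi

/-!
# Automorphisms of `PSp_{2m}(q)`, part I: the semilinear similitude of `e^⊥/e` induced by an
automorphism normalising `X_e`
-/

set_option autoImplicit false
set_option linter.unusedSectionVars false
set_option linter.unusedVariables false
set_option linter.unusedSimpArgs false

namespace Cfsg.Agent.Helper5.AutSp

open Matrix Cfsg.Agent.Helper13 Cfsg.Agent.Helper94.SpRoot Cfsg.Agent.Helper14.AutPSL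

variable {F : Type*} [Field F] {m : ℕ}

local notation "Vec" => (Fin m ⊕ Fin m → F)
local notation "Mat" => Matrix (Fin m ⊕ Fin m) (Fin m ⊕ Fin m) F
local notation "Sp" => Matrix.symplecticGroup (Fin m) F
local notation "B" => Cfsg.sympForm m F

/-- `β` normalises the image of the transvection group with centre `a` -/
def FixX (β : Cfsg.PSp m F ≃* Cfsg.PSp m F) (a : Vec) : Prop := ∀ x, x ∈ Xb a ↔ β x ∈ Xb a

theorem FixX.symm {β : Cfsg.PSp m F ≃* Cfsg.PSp m F} {a : Vec} (h : FixX β a) : FixX β.symm a := by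
  intro x
  rw [h (β.symm x), β.apply_symm_apply]

theorem FixX.trans {β γ : Cfsg.PSp m F ≃* Cfsg.PSp m F} {a : Vec} (h : FixX β a) (h' : FixX γ a) :
    FixX (β.trans γ) a := by
  intro x
  rw [h x, h' (β x)]
  rfl

/-- the `W0`-coordinate map induced by `β` -/
noncomputable def gFun (e f : Vec) (β : Cfsg.PSp m F ≃* Cfsg.PSp m F) (w : W0 e f) : W0 e f :=
  wcoord e f (β (prj (uE e (w : Vec) 0)))

section

theorem map_mem_Qb [Fintype F] {p : ℕ} [hp : Fact p.Prime] [CharP F p] (hm : 2 ≤ m) {e f : Vec} (hef : B e f = 1)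
    {β : Cfsg.PSp m F ≃* Cfsg.PSp m F} (hβ : TvPres β) (hX : FixX β e) {x : Cfsg.PSp m F}
    (hx : x ∈ Qb e) : β x ∈ Qb e := by
  have he := ne_zero_of_pair hef
  have h1 : QP p (prj (tE e 1)) x := qP_of_mem_Qb hm he one_ne_zero hx
  have h2 := h1.map hβ
  obtain ⟨d, hd⟩ := mem_Xb.1 ((hX _).1 (mem_Xb.2 ⟨1, rfl⟩))
  have hd0 : d ≠ 0 := by
    rintro rfl
    rw [tE_zero, map_one] at hd
    have h3 : prj (tE e (1 : F)) = 1 := by
      apply β.injective
      rw [hd, map_one]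
    exact prj_tE_ne_one (by omega) he one_ne_zero h3
  rw [hd] at h2
  exact mem_Qb_of_qP (p := p) hm hef hd0 h2

theorem map_mem_Qb_iff [Fintype F] {p : ℕ} [hp : Fact p.Prime] [CharP F p] (hm : 2 ≤ m) {e f : Vec} (hef : B e f = 1)
    {β : Cfsg.PSp m F ≃* Cfsg.PSp m F} (hβ : TvPres β) (hX : FixX β e) (x : Cfsg.PSp m F) :
    x ∈ Qb e ↔ β x ∈ Qb e := by
  constructor
  · exact map_mem_Qb (p := p) hm hef hβ hX
  · intro h
    have := map_mem_Qb (p := p) hm hef hβ.symm hX.symm h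
    rwa [β.symm_apply_apply] at this

theorem gFun_spec [Fintype F] {p : ℕ} [hp : Fact p.Prime] [CharP F p] (hm : 2 ≤ m) {e f : Vec} (hef : B e f = 1)
    {β : Cfsg.PSp m F ≃* Cfsg.PSp m F} (hβ : TvPres β) (hX : FixX β e) (w : W0 e f) (c : F) :
    ∃ c' : F, β (prj (uE e (w : Vec) c)) = prj (uE e (gFun e f β w : Vec) c') := by
  have h0 : B e (0 : Vec) = 0 := sympForm_zero_right e
  have h1 : uE e (w : Vec) c = uE e (w : Vec) 0 * tE e c := by
    rw [← uE_zero, uE_mul w.2.1 h0, add_zero, sympForm_zero_left, add_zero, zero_add]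
  have h2 : β (prj (uE e (w : Vec) 0)) ∈ Qb e :=
    map_mem_Qb (p := p) hm hef hβ hX (prj_uE_mem_Qb w.2.1 0)
  obtain ⟨c₁, hc₁⟩ := wcoord_spec hef h2
  have hc₁' : β (prj (uE e (w : Vec) 0)) = prj (uE e (gFun e f β w : Vec) c₁) := hc₁
  obtain ⟨c₂, hc₂⟩ := mem_Xb.1 ((hX _).1 (mem_Xb.2 ⟨c, rfl⟩))
  refine ⟨c₁ + c₂, ?_⟩
  rw [h1, map_mul, map_mul, hc₁', hc₂, ← map_mul]
  congr 1
  rw [← uE_zero, uE_mul (gFun e f β w).2.1 h0, add_zero, sympForm_zero_left, add_zero]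

theorem wcoord_map [Fintype F] {p : ℕ} [hp : Fact p.Prime] [CharP F p] (hm : 2 ≤ m) {e f : Vec} (hef : B e f = 1)
    {β : Cfsg.PSp m F ≃* Cfsg.PSp m F} (hβ : TvPres β) (hX : FixX β e) (w : W0 e f) (c : F) :
    wcoord e f (β (prj (uE e (w : Vec) c))) = gFun e f β w := by
  obtain ⟨c', hc'⟩ := gFun_spec (p := p) hm hef hβ hX w c
  rw [hc', wcoord_prj_uE (by omega) hef]

theorem gFun_add [Fintype F] {p : ℕ} [hp : Fact p.Prime] [CharP F p] (hm : 2 ≤ m) {e f : Vec} (hef : B e f = 1)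
    {β : Cfsg.PSp m F ≃* Cfsg.PSp m F} (hβ : TvPres β) (hX : FixX β e) (w w' : W0 e f) :
    gFun e f β (w + w') = gFun e f β w + gFun e f β w' := by
  have h1 : prj (uE e ((w + w' : W0 e f) : Vec) (B (w' : Vec) (w : Vec)))
      = prj (uE e (w : Vec) 0) * prj (uE e (w' : Vec) 0) := by
    rw [← map_mul, uE_mul w.2.1 w'.2.1, zero_add, zero_add]
    rfl
  rw [← wcoord_map (p := p) hm hef hβ hX (w + w') (B (w' : Vec) (w : Vec)), h1, map_mul,
    wcoord_mul (by omega) hef (map_mem_Qb (p := p) hm hef hβ hX (prj_uE_mem_Qb w.2.1 0))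
      (map_mem_Qb (p := p) hm hef hβ hX (prj_uE_mem_Qb w'.2.1 0))]
  rfl

theorem gFun_eq_zero [Fintype F] {p : ℕ} [hp : Fact p.Prime] [CharP F p] (hm : 2 ≤ m) {e f : Vec} (hef : B e f = 1)
    {β : Cfsg.PSp m F ≃* Cfsg.PSp m F} (hβ : TvPres β) (hX : FixX β e) {w : W0 e f}
    (h : gFun e f β w = 0) : w = 0 := by
  have hm1 : 1 ≤ m := by omega
  have h2 : β (prj (uE e (w : Vec) 0)) ∈ Qb e :=
    map_mem_Qb (p := p) hm hef hβ hX (prj_uE_mem_Qb w.2.1 0)
  have h3 : β (prj (uE e (w : Vec) 0)) ∈ Xb e := (wcoord_eq_zero_iff hm1 hef h2).1 h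
  have h4 : prj (uE e (w : Vec) 0) ∈ Xb e := (hX _).2 h3
  have h5 := (wcoord_eq_zero_iff hm1 hef (prj_uE_mem_Qb w.2.1 0)).2 h4
  rwa [wcoord_prj_uE hm1 hef] at h5

/-- the additive map induced on `W0` -/
noncomputable def gAdd [Fintype F] {p : ℕ} [hp : Fact p.Prime] [CharP F p] (hm : 2 ≤ m) {e f : Vec} (hef : B e f = 1)
    {β : Cfsg.PSp m F ≃* Cfsg.PSp m F} (hβ : TvPres β) (hX : FixX β e) : W0 e f →+ W0 e f :=
  AddMonoidHom.mk' (gFun e f β) (gFun_add (p := p) hm hef hβ hX)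

theorem gAdd_apply [Fintype F] {p : ℕ} [hp : Fact p.Prime] [CharP F p] (hm : 2 ≤ m) {e f : Vec} (hef : B e f = 1)
    {β : Cfsg.PSp m F ≃* Cfsg.PSp m F} (hβ : TvPres β) (hX : FixX β e) (w : W0 e f) :
    gAdd (p := p) hm hef hβ hX w = gFun e f β w := rfl

theorem gAdd_injective [Fintype F] {p : ℕ} [hp : Fact p.Prime] [CharP F p] (hm : 2 ≤ m) {e f : Vec} (hef : B e f = 1)
    {β : Cfsg.PSp m F ≃* Cfsg.PSp m F} (hβ : TvPres β) (hX : FixX β e) :
    Function.Injective (gAdd (p := p) hm hef hβ hX) := by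
  rw [injective_iff_map_eq_zero]
  intro w hw
  exact gFun_eq_zero (p := p) hm hef hβ hX hw

/-- transfer of commutation with transvections -/
theorem commute_transfer {β : Cfsg.PSp m F ≃* Cfsg.PSp m F} (u y : Cfsg.PSp m F) :
    Commute (β u) y ↔ Commute u (β.symm y) := by
  constructor
  · intro h
    have := h.map β.symm
    rwa [β.symm_apply_apply] at this
  · intro h
    have := h.map β
    rwa [β.apply_symm_apply] at this

theorem coe_ne_zero {e f : Vec} {w : W0 e f} (hw : w ≠ 0) : (w : Vec) ≠ 0 :=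
  fun h => hw (Subtype.ext h)

/-- lines of `W0` go to lines -/
theorem gFun_line [Fintype F] {p : ℕ} [hp : Fact p.Prime] [CharP F p] (hm : 2 ≤ m) {e f : Vec} (hef : B e f = 1)
    {β : Cfsg.PSp m F ≃* Cfsg.PSp m F} (hβ : TvPres β) (hX : FixX β e) (w : W0 e f) (c : F) :
    ∃ d : F, gFun e f β (c • w) = d • gFun e f β w := by
  have he := ne_zero_of_pair hef
  have hfe : B f e = -1 := by rw [B_swap, hef]
  have hzero : gFun e f β (0 : W0 e f) = 0 := by
    have := gFun_add (p := p) hm hef hβ hX 0 0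
    rw [add_zero] at this
    exact left_eq_add.1 this
  by_cases hw : w = 0
  · exact ⟨0, by rw [hw, smul_zero, hzero, smul_zero]⟩
  by_cases hc : c = 0
  · exact ⟨0, by rw [hc, zero_smul, zero_smul, hzero]⟩
  have hcw : c • w ≠ 0 := smul_ne_zero hc hw
  obtain ⟨c₁, hc₁⟩ := gFun_spec (p := p) hm hef hβ hX w 0
  obtain ⟨c₂, hc₂⟩ := gFun_spec (p := p) hm hef hβ hX (c • w) 0
  have hw₁ : gFun e f β w ≠ 0 := fun h => hw (gFun_eq_zero (p := p) hm hef hβ hX h)
  have hw₂ : gFun e f β (c • w) ≠ 0 := fun h => hcw (gFun_eq_zero (p := p) hm hef hβ hX h)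
  have key : ∀ v : Vec, B v e = 0 → B v (gFun e f β w : Vec) = 0 →
      B v (gFun e f β (c • w) : Vec) = 0 := by
    intro v hve hvw
    by_cases hv0 : v = 0
    · rw [hv0, sympForm_zero_left]
    have h1 : Commute (prj (uE e (gFun e f β w : Vec) c₁)) (prj (tE v 1)) :=
      (commute_uE_tE_iff hm he (not_smul_of_mem_W0 hef (gFun e f β w).2 (coe_ne_zero hw₁))
        (gFun e f β w).2.1 hv0 one_ne_zero).2 ⟨hve, hvw⟩
    rw [← hc₁, commute_transfer] at h1
    obtain ⟨v', δ', hv', hδ', hy⟩ := (hβ.symm _).1 ⟨v, 1, hv0, one_ne_zero, rfl⟩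
    rw [hy, commute_uE_tE_iff hm he (not_smul_of_mem_W0 hef w.2 (coe_ne_zero hw)) w.2.1 hv' hδ']
      at h1
    have h2 : Commute (prj (uE e ((c • w : W0 e f) : Vec) 0)) (prj (tE v' δ')) :=
      (commute_uE_tE_iff hm he (not_smul_of_mem_W0 hef (c • w).2 (coe_ne_zero hcw))
        (c • w).2.1 hv' hδ').2 ⟨h1.1, by
          show B v' (c • (w : Vec)) = 0
          rw [sympForm_smul_right, h1.2, mul_zero]⟩
    rw [← hy, ← commute_transfer, hc₂, commute_uE_tE_iff hm he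
      (not_smul_of_mem_W0 hef (gFun e f β (c • w)).2 (coe_ne_zero hw₂))
      (gFun e f β (c • w)).2.1 hv0 one_ne_zero] at h2
    exact h2.2
  obtain ⟨l, μ, hl⟩ := mem_span_pair_of_perp key
  have h3 : B f (gFun e f β (c • w) : Vec) = 0 := (gFun e f β (c • w)).2.2
  rw [hl, sympForm_add_right, sympForm_smul_right, sympForm_smul_right, (gFun e f β w).2.2, hfe,
    mul_zero, zero_add] at h3
  have hμ : μ = 0 := by linear_combination -h3
  rw [hμ, zero_smul, add_zero] at hl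
  exact ⟨l, Subtype.ext hl⟩

/-- the relation expressing orthogonality of two lines through `e` -/
def OrthP (u u' : Cfsg.PSp m F) : Prop :=
  ∀ y, IsTv y → (∀ y', IsTv y' → Commute u' y' → Commute y' y) → Commute u y

theorem OrthP.map {β : Cfsg.PSp m F ≃* Cfsg.PSp m F} (hβ : TvPres β) {u u' : Cfsg.PSp m F}
    (h : OrthP u u') : OrthP (β u) (β u') := by
  intro y hy hyy
  rw [commute_transfer]
  apply h _ ((hβ.symm _).1 hy)
  intro y' hy' hc
  have h1 : Commute (β u') (β y') := hc.map β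
  have h2 := hyy (β y') ((hβ _).1 hy') h1
  have h3 := h2.map β.symm
  rwa [β.symm_apply_apply] at h3

theorem orthP_iff (hm : 2 ≤ m) {e f : Vec} (hef : B e f = 1) {w w' : W0 e f} (hw : w ≠ 0)
    (hw' : w' ≠ 0) (c c' : F) :
    OrthP (prj (uE e (w : Vec) c)) (prj (uE e (w' : Vec) c')) ↔ B (w : Vec) (w' : Vec) = 0 := by
  have he := ne_zero_of_pair hef
  have hwe := not_smul_of_mem_W0 hef w.2 (coe_ne_zero hw)
  have hwe' := not_smul_of_mem_W0 hef w'.2 (coe_ne_zero hw')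
  constructor
  · intro h
    have h1 := h (prj (tE (w' : Vec) 1)) ⟨_, 1, coe_ne_zero hw', one_ne_zero, rfl⟩ (by
      rintro y' ⟨v, δ, hv, hδ, rfl⟩ hc
      rw [commute_uE_tE_iff hm he hwe' w'.2.1 hv hδ] at hc
      exact (commute_tE_iff hm hv (coe_ne_zero hw') hδ one_ne_zero).2 hc.2)
    rw [commute_uE_tE_iff hm he hwe w.2.1 (coe_ne_zero hw') one_ne_zero] at h1
    exact B_eq_zero_symm h1.2
  · intro h
    rintro y ⟨b, δ, hb, hδ, rfl⟩ hyy
    rw [commute_uE_tE_iff hm he hwe w.2.1 hb hδ]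
    have key : ∀ v : Vec, B v e = 0 → B v (w' : Vec) = 0 → B v b = 0 := by
      intro v hve hvw
      by_cases hv0 : v = 0
      · rw [hv0, sympForm_zero_left]
      have h1 := hyy (prj (tE v 1)) ⟨v, 1, hv0, one_ne_zero, rfl⟩
        ((commute_uE_tE_iff hm he hwe' w'.2.1 hv0 one_ne_zero).2 ⟨hve, hvw⟩)
      exact (commute_tE_iff hm hv0 hb one_ne_zero hδ).1 h1
    obtain ⟨l, μ, hl⟩ := mem_span_pair_of_perp key
    constructor
    · rw [hl, sympForm_add_left, sympForm_smul_left, sympForm_smul_left, sympForm_self,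
        B_eq_zero_symm w'.2.1, mul_zero, mul_zero, add_zero]
    · rw [hl, sympForm_add_left, sympForm_smul_left, sympForm_smul_left, B_eq_zero_symm h, w.2.1,
        mul_zero, mul_zero, add_zero]

theorem gFun_zero [Fintype F] {p : ℕ} [hp : Fact p.Prime] [CharP F p] (hm : 2 ≤ m) {e f : Vec} (hef : B e f = 1)
    {β : Cfsg.PSp m F ≃* Cfsg.PSp m F} (hβ : TvPres β) (hX : FixX β e) :
    gFun e f β (0 : W0 e f) = 0 := by
  have := gFun_add (p := p) hm hef hβ hX 0 0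
  rw [add_zero] at this
  exact left_eq_add.1 this

/-- orthogonality is preserved -/
theorem gFun_orth [Fintype F] {p : ℕ} [hp : Fact p.Prime] [CharP F p] (hm : 2 ≤ m) {e f : Vec} (hef : B e f = 1)
    {β : Cfsg.PSp m F ≃* Cfsg.PSp m F} (hβ : TvPres β) (hX : FixX β e) (w w' : W0 e f) :
    B (w : Vec) (w' : Vec) = 0 ↔ B (gFun e f β w : Vec) (gFun e f β w' : Vec) = 0 := by
  by_cases hw : w = 0
  · rw [hw, gFun_zero (p := p) hm hef hβ hX]
    simp
  by_cases hw' : w' = 0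
  · rw [hw', gFun_zero (p := p) hm hef hβ hX]
    simp
  have hw₁ : gFun e f β w ≠ 0 := fun h => hw (gFun_eq_zero (p := p) hm hef hβ hX h)
  have hw₂ : gFun e f β w' ≠ 0 := fun h => hw' (gFun_eq_zero (p := p) hm hef hβ hX h)
  obtain ⟨c₁, hc₁⟩ := gFun_spec (p := p) hm hef hβ hX w 0
  obtain ⟨c₂, hc₂⟩ := gFun_spec (p := p) hm hef hβ hX w' 0
  rw [← orthP_iff hm hef hw hw' 0 0, ← orthP_iff hm hef hw₁ hw₂ c₁ c₂, ← hc₁, ← hc₂]
  constructor
  · exact OrthP.map hβ
  · intro h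
    have := OrthP.map hβ.symm h
    rwa [β.symm_apply_apply, β.symm_apply_apply] at this

end

end Cfsg.Agent.Helper5.AutSp
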