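import Mathlib
import Cfsg.Agent.Helper5.AutSpI

/-!
# Automorphisms of `PSp_{2m}(q)`, part J: the induced map on `W0` is a semilinear similitude
-/

set_option autoImplicit false
set_option linter.unusedSectionVars false
set_option linter.unusedVariables false
set_option linter.unusedSimpArgs false

namespace Cfsg.Agent.Helper5.AutSp

open Matrix Cfsg.Agent.Helper13 Cfsg.Agent.Helper94.SpRoot Cfsg.Agent.Helper14.AutPSL

variable {F : Type*} [Field F] {m : ℕ}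

local notation "Vec" => (Fin m ⊕ Fin m → F)
local notation "Mat" => Matrix (Fin m ⊕ Fin m) (Fin m ⊕ Fin m) F
local notation "Sp" => Matrix.symplecticGroup (Fin m) F
local notation "B" => Cfsg.sympForm m F

/-- non-degeneracy of the form on `W0` -/
theorem exists_W0_pair {e f : Vec} (hef : B e f = 1) {w : W0 e f} (hw : w ≠ 0) :
    ∃ w₀ : W0 e f, B (w : Vec) (w₀ : Vec) = 1 := by
  obtain ⟨x, hx⟩ := sympForm_nondeg_right (coe_ne_zero hw)
  have h1 : B (w : Vec) (P0 e f x) = B (w : Vec) x := by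
    rw [P0_apply, sympForm_add_right, sympForm_sub_right, sympForm_smul_right, sympForm_smul_right,
      B_eq_zero_symm w.2.1, B_eq_zero_symm w.2.2, mul_zero, mul_zero, sub_zero, add_zero]
  refine ⟨(B (w : Vec) x)⁻¹ • ⟨P0 e f x, P0_mem hef x⟩, ?_⟩
  show B (w : Vec) ((B (w : Vec) x)⁻¹ • P0 e f x) = 1
  rw [sympForm_smul_right, h1, inv_mul_cancel₀ hx]

theorem exists_W0_both {e f : Vec} (hef : B e f = 1) {w w₁ : W0 e f} (hw : w ≠ 0) (hw₁ : w₁ ≠ 0) :
    ∃ w₂ : W0 e f, B (w : Vec) (w₂ : Vec) ≠ 0 ∧ B (w₁ : Vec) (w₂ : Vec) ≠ 0 := by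
  obtain ⟨x, hx, hx₁⟩ := exists_sympForm_ne_zero_both (coe_ne_zero hw) (coe_ne_zero hw₁)
  have h1 : ∀ v : W0 e f, B (v : Vec) (P0 e f x) = B (v : Vec) x := by
    intro v
    rw [P0_apply, sympForm_add_right, sympForm_sub_right, sympForm_smul_right, sympForm_smul_right,
      B_eq_zero_symm v.2.1, B_eq_zero_symm v.2.2, mul_zero, mul_zero, sub_zero, add_zero]
  refine ⟨⟨P0 e f x, P0_mem hef x⟩, ?_, ?_⟩
  · show B (w : Vec) (P0 e f x) ≠ 0
    rw [h1, B_swap]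
    exact neg_ne_zero.2 hx
  · show B (w₁ : Vec) (P0 e f x) ≠ 0
    rw [h1, B_swap]
    exact neg_ne_zero.2 hx₁

/-- a semilinear bijection of `W0` preserving orthogonality is a similitude -/
theorem similitude_of_orth {e f : Vec} (hef : B e f = 1) (g : W0 e f → W0 e f) (σ : F ≃+* F)
    (hadd : ∀ w w', g (w + w') = g w + g w') (hsemi : ∀ (c : F) (w : W0 e f), g (c • w) = σ c • g w)
    (horth : ∀ w w' : W0 e f, B (w : Vec) (w' : Vec) = 0 ↔ B (g w : Vec) (g w' : Vec) = 0)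
    (hne : ∃ w : W0 e f, w ≠ 0) :
    ∃ κ : F, κ ≠ 0 ∧ ∀ w w' : W0 e f, B (g w : Vec) (g w' : Vec) = κ * σ (B (w : Vec) (w' : Vec)) := by
  have hsub : ∀ w w', g (w - w') = g w - g w' := by
    intro w w'
    have := hadd (w - w') w'
    rw [sub_add_cancel] at this
    rw [this, add_sub_cancel_right]
  have hzero : g 0 = 0 := by
    have := hadd 0 0
    rw [add_zero] at this
    exact left_eq_add.1 this
  -- pointwise constants
  have step1 : ∀ w : W0 e f, w ≠ 0 → ∃ κ : F, κ ≠ 0 ∧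
      ∀ w' : W0 e f, B (g w : Vec) (g w' : Vec) = κ * σ (B (w : Vec) (w' : Vec)) := by
    intro w hw
    obtain ⟨w₀, hw₀⟩ := exists_W0_pair hef hw
    refine ⟨B (g w : Vec) (g w₀ : Vec), ?_, ?_⟩
    · intro h
      have := (horth w w₀).2 h
      rw [hw₀] at this
      exact one_ne_zero this
    · intro w'
      have h1 : B (w : Vec) ((w' - B (w : Vec) (w' : Vec) • w₀ : W0 e f) : Vec) = 0 := by
        show B (w : Vec) ((w' : Vec) - B (w : Vec) (w' : Vec) • (w₀ : Vec)) = 0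
        rw [sympForm_sub_right, sympForm_smul_right, hw₀, mul_one, sub_self]
      have h2 := (horth _ _).1 h1
      rw [hsub, hsemi] at h2
      have h3 : B (g w : Vec) ((g w' : Vec) - σ (B (w : Vec) (w' : Vec)) • (g w₀ : Vec)) = 0 := h2
      rw [sympForm_sub_right, sympForm_smul_right] at h3
      linear_combination h3
  -- the constant does not depend on the vector
  have step2 : ∀ w w₁ : W0 e f, w ≠ 0 → w₁ ≠ 0 → B (w : Vec) (w₁ : Vec) ≠ 0 →
      ∀ κ κ₁ : F, (∀ w' : W0 e f, B (g w : Vec) (g w' : Vec) = κ * σ (B (w : Vec) (w' : Vec))) →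
        (∀ w' : W0 e f, B (g w₁ : Vec) (g w' : Vec) = κ₁ * σ (B (w₁ : Vec) (w' : Vec))) →
        κ = κ₁ := by
    intro w w₁ hw hw₁ hww κ κ₁ hκ hκ₁
    have h1 := hκ w₁
    have h2 := hκ₁ w
    rw [B_swap (g w₁ : Vec), B_swap (w₁ : Vec), map_neg] at h2
    have h3 : σ (B (w : Vec) (w₁ : Vec)) ≠ 0 := by
      intro h
      exact hww ((map_eq_zero σ).1 h)
    have h4 : (κ - κ₁) * σ (B (w : Vec) (w₁ : Vec)) = 0 := by linear_combination -h1 - h2
    rcases mul_eq_zero.1 h4 with h5 | h5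
    · exact sub_eq_zero.1 h5
    · exact absurd h5 h3
  obtain ⟨w₁, hw₁⟩ := hne
  obtain ⟨κ, hκ0, hκ⟩ := step1 w₁ hw₁
  refine ⟨κ, hκ0, ?_⟩
  intro w w'
  by_cases hw : w = 0
  · rw [hw, hzero]
    simp
  obtain ⟨κ', -, hκ'⟩ := step1 w hw
  obtain ⟨w₂, h1, h2⟩ := exists_W0_both hef hw hw₁
  have hw₂ : w₂ ≠ 0 := by
    rintro rfl
    exact h1 (sympForm_zero_right _)
  obtain ⟨κ₂, -, hκ₂⟩ := step1 w₂ hw₂
  have e1 : κ' = κ₂ := step2 w w₂ hw hw₂ h1 κ' κ₂ hκ' hκ₂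
  have e2 : κ = κ₂ := step2 w₁ w₂ hw₁ hw₂ h2 κ κ₂ hκ hκ₂
  rw [hκ', e1, ← e2]

/-- the map induced on `W0` by an automorphism normalising `X_e` is a semilinear similitude -/
theorem exists_sigma [Fintype F] {p : ℕ} [hp : Fact p.Prime] [CharP F p] (hm : 2 ≤ m)
    {e f : Vec} (hef : B e f = 1) {β : Cfsg.PSp m F ≃* Cfsg.PSp m F} (hβ : TvPres β)
    (hX : FixX β e) :
    ∃ (σ : F ≃+* F) (κ : F), κ ≠ 0 ∧
      (∀ (c : F) (w : W0 e f), gFun e f β (c • w) = σ c • gFun e f β w) ∧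
      ∀ w w' : W0 e f, B (gFun e f β w : Vec) (gFun e f β w' : Vec)
        = κ * σ (B (w : Vec) (w' : Vec)) := by
  obtain ⟨v₁, v₂, hv₁, hv₂⟩ := exists_indep_W0 hm hef
  have hnt : Nontrivial (W0 e f) := ⟨⟨v₁, 0, hv₁⟩⟩
  have hinj := gAdd_injective (p := p) hm hef hβ hX
  have hline : ∀ (w : W0 e f) (c : F), ∃ d : F,
      gAdd (p := p) hm hef hβ hX (c • w) = d • gAdd (p := p) hm hef hβ hX w := by
    intro w c
    exact gFun_line (p := p) hm hef hβ hX w c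
  have hunif : ∀ c : F, ∃ d : F, ∀ w : W0 e f,
      gAdd (p := p) hm hef hβ hX (c • w) = d • gAdd (p := p) hm hef hβ hX w :=
    fun c => uniform_of_line _ hinj hline hv₁ hv₂ c
  obtain ⟨σ, hσ⟩ := exists_ringEquiv_of_uniform _ hinj hunif
  obtain ⟨κ, hκ0, hκ⟩ := similitude_of_orth hef (gFun e f β) σ
    (gFun_add (p := p) hm hef hβ hX) hσ (gFun_orth (p := p) hm hef hβ hX) ⟨v₁, hv₁⟩
  exact ⟨σ, κ, hκ0, hσ, hκ⟩

end Cfsg.Agent.Helper5.AutSp
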