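import Mathlib
import Cfsg.Prelude.Def_LieTypeDatum
import Cfsg.Agent.Helper5.AutSpF

/-!
# Automorphisms of `PSp_{2m}(q)`, part K: the automorphism induced by a semilinear similitude
-/

set_option autoImplicit false
set_option linter.unusedSectionVars false
set_option linter.unusedVariables false
set_option linter.unusedSimpArgs false

namespace Cfsg.Agent.Helper5.AutSp

open Matrix Cfsg.Agent.Helper13 Cfsg.Agent.Helper94.SpRoot Cfsg.Agent.Helper14.AutPSL

variable {F : Type*} [Field F] {m : ℕ}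

local notation "Vec" => (Fin m ⊕ Fin m → F)
local notation "Mat" => Matrix (Fin m ⊕ Fin m) (Fin m ⊕ Fin m) F
local notation "Sp" => Matrix.symplecticGroup (Fin m) F
local notation "B" => Cfsg.sympForm m F

theorem B_map (σ : F ≃+* F) (x y : Vec) :
    B (fun i => σ (x i)) (fun i => σ (y i)) = σ (B x y) := by
  rw [sympForm_eq_sum, sympForm_eq_sum, map_sum]
  refine Finset.sum_congr rfl fun i _ => ?_
  rw [map_sub, map_mul, map_mul]

theorem map_mulVec_equiv (σ : F ≃+* F) (A : Mat) (v : Vec) :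
    A.map σ *ᵥ (fun i => σ (v i)) = fun i => σ ((A *ᵥ v) i) := by
  funext i
  exact (RingHom.map_mulVec (σ : F →+* F) A v i).symm

theorem map_mem_symplectic (s : Sp) (σ : F ≃+* F) :
    (s : Mat).map σ ∈ Matrix.symplecticGroup (Fin m) F := by
  rw [mem_symplecticGroup_iff_preserves]
  intro u v
  have hu : u = fun i => σ (σ.symm (u i)) := by
    funext i
    rw [σ.apply_symm_apply]
  have hv : v = fun i => σ (σ.symm (v i)) := by
    funext i
    rw [σ.apply_symm_apply]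
  rw [hu, hv, map_mulVec_equiv, map_mulVec_equiv, B_map, B_map]
  congr 1
  exact sp_preserves s _ _

/-- conjugation by the semilinear map `v ↦ M σ(v)` -/
def semiSpFun (M : GL (Fin m ⊕ Fin m) F) (hM : M ∈ Cfsg.GSp m F) (σ : F ≃+* F) (s : Sp) : Sp :=
  ⟨(M : Mat) * (s : Mat).map σ * ((M⁻¹ : GL (Fin m ⊕ Fin m) F) : Mat), by
    rw [mem_symplecticGroup_iff_preserves]
    intro u v
    obtain ⟨c, hc⟩ := hM
    have h1 : ∀ x : Vec, ((M : Mat) * (s : Mat).map σ * ((M⁻¹ : GL (Fin m ⊕ Fin m) F) : Mat)) *ᵥ x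
        = (M : Mat) *ᵥ ((s : Mat).map σ *ᵥ (((M⁻¹ : GL (Fin m ⊕ Fin m) F) : Mat) *ᵥ x)) := by
      intro x
      rw [Matrix.mulVec_mulVec, Matrix.mulVec_mulVec, Matrix.mul_assoc]
    have h2 : ∀ x : Vec, (M : Mat) *ᵥ (((M⁻¹ : GL (Fin m ⊕ Fin m) F) : Mat) *ᵥ x) = x := by
      intro x
      rw [Matrix.mulVec_mulVec, ← Units.val_mul, mul_inv_cancel, Units.val_one, Matrix.one_mulVec]
    rw [h1, h1, hc, (mem_symplecticGroup_iff_preserves _).1 (map_mem_symplectic s σ), ← hc, h2, h2]⟩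

theorem semiSpFun_coe (M : GL (Fin m ⊕ Fin m) F) (hM : M ∈ Cfsg.GSp m F) (σ : F ≃+* F) (s : Sp) :
    ((semiSpFun M hM σ s : Sp) : Mat)
      = (M : Mat) * (s : Mat).map σ * ((M⁻¹ : GL (Fin m ⊕ Fin m) F) : Mat) := rfl

/-- the homomorphism `s ↦ M σ(s) M⁻¹` of the symplectic group -/
def semiSpHom (M : GL (Fin m ⊕ Fin m) F) (hM : M ∈ Cfsg.GSp m F) (σ : F ≃+* F) : Sp →* Sp where
  toFun := semiSpFun M hM σ
  map_one' := by
    apply Subtype.ext
    rw [semiSpFun_coe]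
    show (M : Mat) * (1 : Mat).map σ * ((M⁻¹ : GL (Fin m ⊕ Fin m) F) : Mat) = 1
    rw [Matrix.map_one σ (map_zero σ) (map_one σ), Matrix.mul_one, ← Units.val_mul, mul_inv_cancel,
      Units.val_one]
  map_mul' s t := by
    apply Subtype.ext
    show (M : Mat) * ((s : Mat) * (t : Mat)).map σ * ((M⁻¹ : GL (Fin m ⊕ Fin m) F) : Mat)
      = ((M : Mat) * (s : Mat).map σ * ((M⁻¹ : GL (Fin m ⊕ Fin m) F) : Mat)) *
        ((M : Mat) * (t : Mat).map σ * ((M⁻¹ : GL (Fin m ⊕ Fin m) F) : Mat))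
    have h1 : ((M⁻¹ : GL (Fin m ⊕ Fin m) F) : Mat) * (M : Mat) = 1 := by
      rw [← Units.val_mul, inv_mul_cancel, Units.val_one]
    rw [Matrix.map_mul]
    calc (M : Mat) * ((s : Mat).map σ * (t : Mat).map σ) * ((M⁻¹ : GL (Fin m ⊕ Fin m) F) : Mat)
        = (M : Mat) * (s : Mat).map σ * (1 : Mat) * (t : Mat).map σ
            * ((M⁻¹ : GL (Fin m ⊕ Fin m) F) : Mat) := by
          simp only [Matrix.mul_one, Matrix.mul_assoc]
      _ = _ := by
          rw [← h1]
          simp only [Matrix.mul_assoc]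

theorem semiSpHom_injective (M : GL (Fin m ⊕ Fin m) F) (hM : M ∈ Cfsg.GSp m F) (σ : F ≃+* F) :
    Function.Injective (semiSpHom M hM σ) := by
  intro s t h
  have h1 : (M : Mat) * (s : Mat).map σ * ((M⁻¹ : GL (Fin m ⊕ Fin m) F) : Mat)
      = (M : Mat) * (t : Mat).map σ * ((M⁻¹ : GL (Fin m ⊕ Fin m) F) : Mat) :=
    congrArg Subtype.val h
  have h2 : ((M⁻¹ : GL (Fin m ⊕ Fin m) F) : Mat) * (M : Mat) = 1 := by
    rw [← Units.val_mul, inv_mul_cancel, Units.val_one]
  have h3 : (M : Mat) * ((M⁻¹ : GL (Fin m ⊕ Fin m) F) : Mat) = 1 := by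
    rw [← Units.val_mul, mul_inv_cancel, Units.val_one]
  have h4 : (s : Mat).map σ = (t : Mat).map σ := by
    have h5 := congrArg (fun A : Mat => ((M⁻¹ : GL (Fin m ⊕ Fin m) F) : Mat) * A * (M : Mat)) h1
    simp only [Matrix.mul_assoc, h2, Matrix.mul_one] at h5
    simp only [← Matrix.mul_assoc, h2, Matrix.one_mul] at h5
    exact h5
  apply Subtype.ext
  ext i j
  have := congrFun (congrFun h4 i) j
  simp only [Matrix.map_apply] at this
  exact σ.injective this

/-- the automorphism `s ↦ M σ(s) M⁻¹` of the symplectic group -/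
noncomputable def semiSpEquiv [Finite F] (M : GL (Fin m ⊕ Fin m) F) (hM : M ∈ Cfsg.GSp m F)
    (σ : F ≃+* F) : Sp ≃* Sp :=
  MulEquiv.ofBijective (semiSpHom M hM σ)
    ⟨semiSpHom_injective M hM σ, by
      have : Finite Mat := by
        unfold Matrix
        infer_instance
      have : Finite Sp := Finite.of_injective (fun s : Sp => (s : Mat)) Subtype.val_injective
      exact Finite.injective_iff_surjective.1 (semiSpHom_injective M hM σ)⟩

theorem semiSpEquiv_coe [Finite F] (M : GL (Fin m ⊕ Fin m) F) (hM : M ∈ Cfsg.GSp m F)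
    (σ : F ≃+* F) (s : Sp) :
    ((semiSpEquiv M hM σ s : Sp) : Mat)
      = (M : Mat) * (s : Mat).map σ * ((M⁻¹ : GL (Fin m ⊕ Fin m) F) : Mat) := rfl

/-- the automorphism of `PSp` induced by the semilinear map `v ↦ M σ(v)` -/
noncomputable def semiAut [Finite F] (M : GL (Fin m ⊕ Fin m) F) (hM : M ∈ Cfsg.GSp m F)
    (σ : F ≃+* F) : Cfsg.PSp m F ≃* Cfsg.PSp m F :=
  QuotientGroup.congr _ _ (semiSpEquiv M hM σ)
    (Subgroup.characteristic_iff_map_eq.1 Subgroup.centerCharacteristic _)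

theorem semiAut_prj [Finite F] (M : GL (Fin m ⊕ Fin m) F) (hM : M ∈ Cfsg.GSp m F)
    (σ : F ≃+* F) (s : Sp) : semiAut M hM σ (prj s) = prj (semiSpEquiv M hM σ s) := rfl

theorem semiAut_isInduced [Finite F] (M : GL (Fin m ⊕ Fin m) F) (hM : M ∈ Cfsg.GSp m F)
    (σ : F ≃+* F) : Cfsg.IsInducedBySemilinearPSp M σ (semiAut M hM σ) := by
  intro s s' h
  show semiAut M hM σ (prj s) = prj s'
  rw [semiAut_prj]
  congr 1
  apply Subtype.ext
  rw [semiSpEquiv_coe, h]

theorem semiAut_mem_gamma [Finite F] (M : GL (Fin m ⊕ Fin m) F) (hM : M ∈ Cfsg.GSp m F)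
    (σ : F ≃+* F) : semiAut M hM σ ∈ Cfsg.gammaPSp m F :=
  Subgroup.subset_closure ⟨M, σ, hM, semiAut_isInduced M hM σ⟩

end Cfsg.Agent.Helper5.AutSp
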