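import Mathlib
import Cfsg.Agent.Helper5.AutSpK

/-!
# Automorphisms of `PSp_{2m}(q)`, part L: semilinear similitudes as maps of vectors, their
matrices and the induced automorphisms
-/

set_option autoImplicit false
set_option linter.unusedSectionVars false
set_option linter.unusedVariables false
set_option linter.unusedSimpArgs false

namespace Cfsg.Agent.Helper5.AutSp

open Matrix Cfsg.Agent.Helper13 Cfsg.Agent.Helper94.SpRoot Cfsg.Agent.Helper14.AutPSL

variable {F : Type*} [Field F] {m : ℕ}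

local notation "Vec" => (Fin m ⊕ Fin m → F)
local notation "Mat" => Matrix (Fin m ⊕ Fin m) (Fin m ⊕ Fin m) F
local notation "Sp" => Matrix.symplecticGroup (Fin m) F
local notation "B" => Cfsg.sympForm m F

/-- `G` is a `σ`-semilinear similitude with multiplier `lam` -/
structure SemiSim (σ : F ≃+* F) (lam : F) (G : Vec → Vec) : Prop where
  add : ∀ x y, G (x + y) = G x + G y
  semi : ∀ (c : F) (x : Vec), G (c • x) = σ c • G x
  form : ∀ x y, B (G x) (G y) = lam * σ (B x y)
  ne : lam ≠ 0

/-- the matrix whose columns are the images of the standard basis vectors -/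
def smat (G : Vec → Vec) : Mat := Matrix.of fun i j => G (Pi.single j 1) i

namespace SemiSim

theorem map_zero' {σ : F ≃+* F} {lam : F} {G : Vec → Vec} (h : SemiSim σ lam G) : G 0 = 0 := by
  have := h.add 0 0
  rw [add_zero] at this
  exact left_eq_add.1 this

theorem map_sub' {σ : F ≃+* F} {lam : F} {G : Vec → Vec} (h : SemiSim σ lam G) (x y : Vec) : G (x - y) = G x - G y := by
  have := h.add (x - y) y
  rw [sub_add_cancel] at this
  rw [this, add_sub_cancel_right]

theorem inj {σ : F ≃+* F} {lam : F} {G : Vec → Vec} (h : SemiSim σ lam G) : Function.Injective G := by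
  intro x y hxy
  have h1 : G (x - y) = 0 := by rw [h.map_sub', hxy, sub_self]
  have h2 : x - y = 0 := by
    apply eq_zero_of_sympForm_eq_zero
    intro z
    have h3 := h.form (x - y) z
    rw [h1, sympForm_zero_left] at h3
    have h4 : σ (B (x - y) z) = 0 := (mul_eq_zero.1 h3.symm).resolve_left h.ne
    exact (map_eq_zero σ).1 h4
  exact sub_eq_zero.1 h2

theorem mat_mulVec {σ : F ≃+* F} {lam : F} {G : Vec → Vec} (h : SemiSim σ lam G) (x : Vec) : smat G *ᵥ (fun j => σ (x j)) = G x := by
  let GA : Vec →+ Vec := AddMonoidHom.mk' G h.add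
  have hx : x = ∑ j, x j • (Pi.single j 1 : Vec) := by
    funext i
    simp [Finset.sum_apply, Pi.single_apply]
  have h1 : G x = ∑ j, σ (x j) • G (Pi.single j 1) := by
    conv_lhs => rw [hx]
    show GA (∑ j, x j • (Pi.single j 1 : Vec)) = _
    rw [map_sum]
    refine Finset.sum_congr rfl fun j _ => ?_
    exact h.semi _ _
  rw [h1]
  funext i
  simp only [Matrix.mulVec, dotProduct, smat, Matrix.of_apply, Finset.sum_apply, Pi.smul_apply,
    smul_eq_mul]
  refine Finset.sum_congr rfl fun j _ => ?_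
  ring

theorem mat_mulVec' {σ : F ≃+* F} {lam : F} {G : Vec → Vec} (h : SemiSim σ lam G) (y : Vec) : smat G *ᵥ y = G (fun j => σ.symm (y j)) := by
  rw [← h.mat_mulVec]
  congr 1
  funext j
  rw [σ.apply_symm_apply]

theorem isUnit_mat {σ : F ≃+* F} {lam : F} {G : Vec → Vec} (h : SemiSim σ lam G) : IsUnit (smat G) := by
  rw [← Matrix.mulVec_injective_iff_isUnit]
  intro y y' hyy
  rw [h.mat_mulVec', h.mat_mulVec'] at hyy
  have := h.inj hyy
  funext j
  have h2 := congrFun this j
  exact σ.symm.injective h2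

/-- the matrix of `G` as an element of `GL` -/
noncomputable def gl {σ : F ≃+* F} {lam : F} {G : Vec → Vec} (h : SemiSim σ lam G) : GL (Fin m ⊕ Fin m) F := h.isUnit_mat.unit

theorem gl_coe {σ : F ≃+* F} {lam : F} {G : Vec → Vec} (h : SemiSim σ lam G) : ((h.gl : GL (Fin m ⊕ Fin m) F) : Mat) = smat G :=
  h.isUnit_mat.unit_spec

theorem gl_mem {σ : F ≃+* F} {lam : F} {G : Vec → Vec} (h : SemiSim σ lam G) : h.gl ∈ Cfsg.GSp m F := by
  refine ⟨Units.mk0 lam h.ne, ?_⟩
  intro u v
  rw [h.gl_coe, h.mat_mulVec', h.mat_mulVec', h.form, Units.val_mk0]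
  congr 1
  rw [← B_map σ]
  congr 1 <;> funext j <;> rw [σ.apply_symm_apply]

theorem surj [Finite F] {σ : F ≃+* F} {lam : F} {G : Vec → Vec} (h : SemiSim σ lam G) : Function.Surjective G :=
  Finite.injective_iff_surjective.1 h.inj

theorem semi_smul [Finite F] {σ : F ≃+* F} {lam : F} {G : Vec → Vec} (h : SemiSim σ lam G) (s : Sp) (x : Vec) :
    semiSpEquiv h.gl h.gl_mem σ s • G x = G (s • x) := by
  rw [smul_def, semiSpEquiv_coe, ← h.mat_mulVec x, ← h.mat_mulVec (s • x), h.gl_coe]
  have h1 : ((h.gl⁻¹ : GL (Fin m ⊕ Fin m) F) : Mat) * smat G = 1 := by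
    rw [← h.gl_coe, ← Units.val_mul, inv_mul_cancel, Units.val_one]
  rw [← Matrix.mulVec_mulVec, ← Matrix.mulVec_mulVec, Matrix.mulVec_mulVec _ _ (smat G), h1,
    Matrix.one_mulVec, map_mulVec_equiv]
  rfl

theorem semi_tE [Finite F] {σ : F ≃+* F} {lam : F} {G : Vec → Vec} (h : SemiSim σ lam G) (a : Vec) (c : F) :
    semiSpEquiv h.gl h.gl_mem σ (tE a c) = tE (G a) (σ c / lam) := by
  apply ext_smul
  intro y
  obtain ⟨x, rfl⟩ := h.surj y
  rw [h.semi_smul, tE_smul_vec, tE_smul_vec, h.add, h.semi, h.form, map_mul]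
  congr 2
  field_simp [h.ne]

theorem semiAut_tE [Finite F] {σ : F ≃+* F} {lam : F} {G : Vec → Vec} (h : SemiSim σ lam G) (a : Vec) (c : F) :
    semiAut h.gl h.gl_mem σ (prj (tE a c)) = prj (tE (G a) (σ c / lam)) := by
  rw [semiAut_prj, h.semi_tE]

theorem semiAut_mul [Finite F] {σ : F ≃+* F} {lam : F} {G : Vec → Vec} (h : SemiSim σ lam G) (s t : Sp) :
    semiSpEquiv h.gl h.gl_mem σ (s * t)
      = semiSpEquiv h.gl h.gl_mem σ s * semiSpEquiv h.gl h.gl_mem σ t := map_mul _ s t

end SemiSim

/-- a scaled version of the definition of `uE` -/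
theorem uE_scaled {e w : Vec} (h : B e w = 0) (k c : F) :
    tE (e + w) k * tE w (-k) * tE e (c - k) = uE e (k • w) c := by
  have h' : B w e = 0 := B_eq_zero_symm h
  have h2 : B e (k • w) = 0 := by rw [sympForm_smul_right, h, mul_zero]
  apply ext_smul
  intro x
  rw [uE_smul_vec h2, mul_smul, mul_smul, tE_smul_vec, tE_smul_vec, tE_smul_vec]
  simp only [sympForm_add_left, sympForm_add_right, sympForm_smul_left, sympForm_smul_right,
    sympForm_self, h, h', mul_zero, add_zero, zero_add, one_mul, neg_mul, mul_neg]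
  module

end Cfsg.Agent.Helper5.AutSp
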