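import Mathlib
import Cfsg.Agent.Helper5.AutSpJ
import Cfsg.Agent.Helper5.AutSpL

/-!
# Automorphisms of `PSp_{2m}(q)`, part M: extending the similitude of `W0` to the whole space
and the induced semilinear automorphism
-/

set_option autoImplicit false
set_option linter.unusedSectionVars false
set_option linter.unusedVariables false
set_option linter.unusedSimpArgs false

namespace Cfsg.Agent.Helper5.AutSp

open Matrix Cfsg.Agent.Helper13 Cfsg.Agent.Helper94.SpRoot Cfsg.Agent.Helper14.AutPSL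

variable {F : Type*} [Field F] {m : ℕ}

local notation "Vec" => (Fin m ⊕ Fin m → F)
local notation "Mat" => Matrix (Fin m ⊕ Fin m) (Fin m ⊕ Fin m) F
local notation "Sp" => Matrix.symplecticGroup (Fin m) F
local notation "B" => Cfsg.sympForm m F

/-- the `W0`-component of a vector, as an element of `W0` -/
def P0' {e f : Vec} (hef : B e f = 1) (x : Vec) : W0 e f := ⟨P0 e f x, P0_mem hef x⟩

theorem P0'_coe {e f : Vec} (hef : B e f = 1) (x : Vec) : ((P0' hef x : W0 e f) : Vec) = P0 e f x :=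
  rfl

theorem P0'_add {e f : Vec} (hef : B e f = 1) (x y : Vec) :
    P0' hef (x + y) = P0' hef x + P0' hef y := by
  apply Subtype.ext
  show P0 e f (x + y) = P0 e f x + P0 e f y
  rw [map_add]

theorem P0'_smul {e f : Vec} (hef : B e f = 1) (c : F) (x : Vec) :
    P0' hef (c • x) = c • P0' hef x := by
  apply Subtype.ext
  show P0 e f (c • x) = c • P0 e f x
  rw [map_smul]

theorem P0'_of_mem {e f : Vec} (hef : B e f = 1) (w : W0 e f) : P0' hef (w : Vec) = w :=
  Subtype.ext (P0_of_mem w.2)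

theorem P0_snd {e f : Vec} (hef : B e f = 1) : P0 e f f = 0 := by
  have hfe : B f e = -1 := by rw [B_swap, hef]
  rw [P0_apply, hfe, sympForm_self]
  simp

/-- the form in terms of the decomposition -/
theorem B_decomp {e f : Vec} (hef : B e f = 1) (x y : Vec) :
    B x y = B x e * B y f - B x f * B y e + B (P0 e f x) (P0 e f y) := by
  have hfe : B f e = -1 := by rw [B_swap, hef]
  rw [P0_apply, P0_apply]
  simp only [sympForm_add_left, sympForm_add_right, sympForm_sub_left, sympForm_sub_right,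
    sympForm_smul_left, sympForm_smul_right, sympForm_self, hef, hfe]
  rw [B_swap e y, B_swap f y]
  ring

/-- the extension to the whole space of a map of `W0` -/
def extG {e f : Vec} (hef : B e f = 1) (σ : F ≃+* F) (lam : F) (g : W0 e f → W0 e f)
    (x : Vec) : Vec :=
  σ (B x f) • e - (lam * σ (B x e)) • f + lam • (g (P0' hef x) : Vec)

theorem extG_semiSim {e f : Vec} (hef : B e f = 1) (σ : F ≃+* F) {lam κ : F}
    (g : W0 e f → W0 e f) (hκ : κ * lam = 1)
    (hadd : ∀ w w', g (w + w') = g w + g w')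
    (hsemi : ∀ (c : F) (w : W0 e f), g (c • w) = σ c • g w)
    (hform : ∀ w w' : W0 e f, B (g w : Vec) (g w' : Vec) = κ * σ (B (w : Vec) (w' : Vec))) :
    SemiSim σ lam (extG hef σ lam g) := by
  have hfe : B f e = -1 := by rw [B_swap, hef]
  have hlam : lam ≠ 0 := by
    rintro rfl
    rw [mul_zero] at hκ
    exact zero_ne_one hκ
  refine ⟨?_, ?_, ?_, hlam⟩
  · intro x y
    unfold extG
    rw [P0'_add, hadd, sympForm_add_left, sympForm_add_left, map_add, map_add]
    show _ + lam • ((g (P0' hef x) : Vec) + (g (P0' hef y) : Vec)) = _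
    module
  · intro c x
    unfold extG
    rw [P0'_smul, hsemi, sympForm_smul_left, sympForm_smul_left, map_mul, map_mul]
    show _ + lam • (σ c • (g (P0' hef x) : Vec)) = _
    module
  · intro x y
    have hg1 : ∀ w : W0 e f, B e (g w : Vec) = 0 := fun w => (g w).2.1
    have hg2 : ∀ w : W0 e f, B f (g w : Vec) = 0 := fun w => (g w).2.2
    have hg3 : ∀ w : W0 e f, B (g w : Vec) e = 0 := fun w => B_eq_zero_symm (g w).2.1
    have hg4 : ∀ w : W0 e f, B (g w : Vec) f = 0 := fun w => B_eq_zero_symm (g w).2.2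
    unfold extG
    simp only [sympForm_add_left, sympForm_add_right, sympForm_sub_left, sympForm_sub_right,
      sympForm_smul_left, sympForm_smul_right, sympForm_self, hef, hfe, hg1, hg2, hg3, hg4, hform,
      P0'_coe]
    rw [B_decomp hef x y]
    simp only [map_add, map_sub, map_mul]
    linear_combination (lam * σ (B (P0 e f x) (P0 e f y))) * hκ

theorem map_zero_of_add {e f : Vec} (g : W0 e f → W0 e f)
    (hadd : ∀ w w', g (w + w') = g w + g w') : g 0 = 0 := by
  have := hadd 0 0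
  rw [add_zero] at this
  exact left_eq_add.1 this

theorem extG_fst {e f : Vec} (hef : B e f = 1) (σ : F ≃+* F) (lam : F) (g : W0 e f → W0 e f)
    (hadd : ∀ w w', g (w + w') = g w + g w') : extG hef σ lam g e = e := by
  have h0 : P0' hef e = 0 := Subtype.ext (P0_self hef)
  unfold extG
  rw [h0, map_zero_of_add g hadd, hef, sympForm_self, map_one, map_zero]
  simp

theorem extG_snd {e f : Vec} (hef : B e f = 1) (σ : F ≃+* F) (lam : F) (g : W0 e f → W0 e f)
    (hadd : ∀ w w', g (w + w') = g w + g w') : extG hef σ lam g f = lam • f := by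
  have hfe : B f e = -1 := by rw [B_swap, hef]
  have h0 : P0' hef f = 0 := Subtype.ext (P0_snd hef)
  unfold extG
  rw [h0, map_zero_of_add g hadd, hfe, sympForm_self, map_neg, map_one, map_zero]
  simp

theorem extG_W0 {e f : Vec} (hef : B e f = 1) (σ : F ≃+* F) (lam : F) (g : W0 e f → W0 e f)
    (w : W0 e f) : extG hef σ lam g (w : Vec) = lam • (g w : Vec) := by
  unfold extG
  rw [P0'_of_mem, B_eq_zero_symm w.2.1, B_eq_zero_symm w.2.2, map_zero]
  simp

/-- the image of an element of `Q_e` under the automorphism induced by a semilinear similitude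
fixing `e` -/
theorem semiAut_uE [Finite F] {σ : F ≃+* F} {lam : F} {G : Vec → Vec} (h : SemiSim σ lam G)
    {e w w' : Vec} (he : G e = e) (hw : G w = lam • w') (hew : B e w' = 0) (c : F) :
    semiAut h.gl h.gl_mem σ (prj (uE e w c)) = prj (uE e w' (σ c / lam)) := by
  have hlam := h.ne
  have h1 : uE e w c = tE (e + w) 1 * tE w (-1) * tE e (c - 1) := rfl
  rw [h1, map_mul, map_mul, map_mul, map_mul, h.semiAut_tE, h.semiAut_tE, h.semiAut_tE, h.add, he,
    hw, ← map_mul, ← map_mul]
  have h2 : B e (lam • w') = 0 := by rw [sympForm_smul_right, hew, mul_zero]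
  have h3 := uE_scaled h2 lam⁻¹ (σ c / lam)
  rw [smul_smul, inv_mul_cancel₀ hlam, one_smul] at h3
  rw [← h3]
  congr 3
  · rw [map_one, one_div]
  · rw [map_neg, map_one, neg_div, one_div]
  · rw [map_sub, map_one, sub_div, one_div]

/-- the semilinear correction: an induced automorphism acting on `Q_e / X_e` like `β` -/
theorem exists_semi_correction [Fintype F] {p : ℕ} [hp : Fact p.Prime] [CharP F p] (hm : 2 ≤ m)
    (h4 : m = 2 → p ≠ 2) {e f : Vec} (hef : B e f = 1) {β : Cfsg.PSp m F ≃* Cfsg.PSp m F}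
    (hβ : TvPres β) (hX : FixX β e) :
    ∃ ψ : Cfsg.PSp m F ≃* Cfsg.PSp m F, ψ ∈ Cfsg.gammaPSp m F ∧ TvPres ψ ∧ FixX ψ e ∧ FixX ψ f ∧
      ∀ (w : W0 e f) (c : F), ∃ c' : F, β (prj (uE e (w : Vec) c)) = ψ (prj (uE e (w : Vec) c')) := by
  obtain ⟨σ, κ, hκ0, hsemi, hform⟩ := exists_sigma (p := p) hm hef hβ hX
  have hadd := gFun_add (p := p) hm hef hβ hX
  have hκ : κ * κ⁻¹ = 1 := mul_inv_cancel₀ hκ0
  have hlam : κ⁻¹ ≠ 0 := inv_ne_zero hκ0
  have hS := extG_semiSim hef σ (gFun e f β) hκ hadd hsemi hform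
  have hGe := extG_fst hef σ κ⁻¹ (gFun e f β) hadd
  have hGf := extG_snd hef σ κ⁻¹ (gFun e f β) hadd
  have hGw := extG_W0 hef σ κ⁻¹ (gFun e f β)
  refine ⟨semiAut hS.gl hS.gl_mem σ, semiAut_mem_gamma _ _ _, tvPres_of_aut (p := p) hm h4 _,
    ?_, ?_, ?_⟩
  · intro x
    constructor
    · intro hx
      obtain ⟨c, rfl⟩ := mem_Xb.1 hx
      rw [hS.semiAut_tE, hGe]
      exact mem_Xb.2 ⟨_, rfl⟩
    · intro hx
      obtain ⟨c, hc⟩ := mem_Xb.1 hx
      have h1 : semiAut hS.gl hS.gl_mem σ (prj (tE e (σ.symm (c * κ⁻¹)))) = prj (tE e c) := by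
        rw [hS.semiAut_tE, hGe, σ.apply_symm_apply, mul_div_assoc, div_self hlam, mul_one]
      rw [← h1] at hc
      rw [(semiAut hS.gl hS.gl_mem σ).injective hc]
      exact mem_Xb.2 ⟨_, rfl⟩
  · intro x
    constructor
    · intro hx
      obtain ⟨c, rfl⟩ := mem_Xb.1 hx
      rw [hS.semiAut_tE, hGf, tE_smul]
      exact mem_Xb.2 ⟨_, rfl⟩
    · intro hx
      obtain ⟨c, hc⟩ := mem_Xb.1 hx
      have h1 : semiAut hS.gl hS.gl_mem σ (prj (tE f (σ.symm (c * κ)))) = prj (tE f c) := by
        rw [hS.semiAut_tE, hGf, tE_smul, σ.apply_symm_apply]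
        congr 2
        field_simp
      rw [← h1] at hc
      rw [(semiAut hS.gl hS.gl_mem σ).injective hc]
      exact mem_Xb.2 ⟨_, rfl⟩
  · intro w c
    obtain ⟨c₁, hc₁⟩ := gFun_spec (p := p) hm hef hβ hX w c
    refine ⟨σ.symm (c₁ * κ⁻¹), ?_⟩
    rw [hc₁, semiAut_uE hS hGe (hGw w) (gFun e f β w).2.1, σ.apply_symm_apply, mul_div_assoc,
      div_self hlam, mul_one]

end Cfsg.Agent.Helper5.AutSp
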