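import Mathlib
import Cfsg.Agent.Helper5.AutSpM

/-!
# Automorphisms of `PSp_{2m}(q)`, part N: rigidity.  An automorphism normalising `X_e` and `X_f`
and acting trivially on `Q_e / X_e` is the identity.
-/

set_option autoImplicit false
set_option linter.unusedSectionVars false
set_option linter.unusedVariables false
set_option linter.unusedSimpArgs false

namespace Cfsg.Agent.Helper5.AutSp

open Matrix Cfsg.Agent.Helper13 Cfsg.Agent.Helper94.SpRoot Cfsg.Agent.Helper14.AutPSL

variable {F : Type*} [Field F] {m : ℕ}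

local notation "Vec" => (Fin m ⊕ Fin m → F)
local notation "Mat" => Matrix (Fin m ⊕ Fin m) (Fin m ⊕ Fin m) F
local notation "Sp" => Matrix.symplecticGroup (Fin m) F
local notation "B" => Cfsg.sympForm m F

/-- the image of `f` under an element of `Q_e` -/
theorem uE_smul_snd {e f : Vec} (hef : B e f = 1) (w : W0 e f) (c : F) :
    uE e (w : Vec) c • f = f - (w : Vec) - c • e := by
  have hfe : B f e = -1 := by rw [B_swap, hef]
  rw [uE_smul_vec w.2.1, hfe, w.2.2]
  module

/-- the form on two such images -/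
theorem B_img_img {e f : Vec} (hef : B e f = 1) (w w₂ : W0 e f) (c c₂ : F) :
    B (f - (w : Vec) - c • e) (f - (w₂ : Vec) - c₂ • e) = c₂ - c + B (w : Vec) (w₂ : Vec) := by
  have hfe : B f e = -1 := by rw [B_swap, hef]
  simp only [sympForm_sub_left, sympForm_sub_right, sympForm_smul_left, sympForm_smul_right,
    sympForm_self, hef, hfe, w.2.1, w.2.2, w₂.2.1, w₂.2.2, B_eq_zero_symm w.2.1,
    B_eq_zero_symm w.2.2, B_eq_zero_symm w₂.2.1, B_eq_zero_symm w₂.2.2]
  ring

theorem B_fst_img {e f : Vec} (hef : B e f = 1) (w : W0 e f) (c : F) :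
    B e (f - (w : Vec) - c • e) = 1 := by
  rw [sympForm_sub_right, sympForm_sub_right, sympForm_smul_right, sympForm_self, hef, w.2.1]
  ring

theorem img_ne_zero {e f : Vec} (hef : B e f = 1) (w : W0 e f) (c : F) :
    f - (w : Vec) - c • e ≠ 0 := by
  intro h
  have := B_fst_img hef w c
  rw [h, sympForm_zero_right] at this
  exact zero_ne_one this

theorem commute_map_iff {β : Cfsg.PSp m F ≃* Cfsg.PSp m F} (x y : Cfsg.PSp m F) :
    Commute (β x) (β y) ↔ Commute x y := by
  constructor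
  · intro h
    have := h.map β.symm
    rwa [β.symm_apply_apply, β.symm_apply_apply] at this
  · intro h
    exact h.map β

/-- comparison of the `X_e`-coordinates of the images of two elements of `Q_e` -/
theorem coord_compare (hm : 2 ≤ m) {e f : Vec} (hef : B e f = 1)
    {β : Cfsg.PSp m F ≃* Cfsg.PSp m F} {d : F} (hd : d ≠ 0)
    (hf : β (prj (tE f 1)) = prj (tE f d)) {w w₂ : W0 e f} {c c' c₂ c₂' : F}
    (h1 : β (prj (uE e (w : Vec) c)) = prj (uE e (w : Vec) c'))
    (h2 : β (prj (uE e (w₂ : Vec) c₂)) = prj (uE e (w₂ : Vec) c₂')) :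
    c₂ - c + B (w : Vec) (w₂ : Vec) = 0 ↔ c₂' - c' + B (w : Vec) (w₂ : Vec) = 0 := by
  have key : ∀ (w : W0 e f) (c c' : F), β (prj (uE e (w : Vec) c)) = prj (uE e (w : Vec) c') →
      β (prj (tE (f - (w : Vec) - c • e) 1)) = prj (tE (f - (w : Vec) - c' • e) d) := by
    intro w c c' h
    rw [← uE_smul_snd hef w c, ← conj_tE, map_mul, map_mul, map_mul, map_mul, map_inv, map_inv, h, hf,
      ← map_inv, ← map_mul, ← map_mul, conj_tE, uE_smul_snd hef w c']
  rw [← B_img_img hef w w₂ c c₂, ← B_img_img hef w w₂ c' c₂',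
    ← commute_tE_iff hm (img_ne_zero hef w c) (img_ne_zero hef w₂ c₂) one_ne_zero one_ne_zero,
    ← commute_tE_iff hm (img_ne_zero hef w c') (img_ne_zero hef w₂ c₂') hd hd,
    ← key w c c' h1, ← key w₂ c₂ c₂' h2, commute_map_iff]

/-- step 1: `β` fixes `Q_e` pointwise -/
theorem fix_Qb_of_coord (hm : 2 ≤ m) {e f : Vec} (hef : B e f = 1)
    {β : Cfsg.PSp m F ≃* Cfsg.PSp m F} (hXf : FixX β f)
    (hQ : ∀ (w : W0 e f) (c : F), ∃ c' : F, β (prj (uE e (w : Vec) c)) = prj (uE e (w : Vec) c'))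
    (w : W0 e f) (c : F) : β (prj (uE e (w : Vec) c)) = prj (uE e (w : Vec) c) := by
  have hm1 : 1 ≤ m := by omega
  have hf0 : f ≠ 0 := by
    rintro rfl
    rw [sympForm_zero_right] at hef
    exact zero_ne_one hef
  obtain ⟨d, hd⟩ := mem_Xb.1 ((hXf _).1 (mem_Xb.2 ⟨1, rfl⟩))
  have hd0 : d ≠ 0 := by
    rintro rfl
    rw [tE_zero, map_one] at hd
    have h3 : prj (tE f (1 : F)) = 1 := by
      apply β.injective
      rw [hd, map_one]
    exact prj_tE_ne_one hm1 hf0 one_ne_zero h3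
  -- the coordinate does not depend on `w`
  have stepA : ∀ (w₂ : W0 e f) (c a c₂' : F),
      β (prj (uE e ((0 : W0 e f) : Vec) c)) = prj (uE e ((0 : W0 e f) : Vec) a) →
      β (prj (uE e (w₂ : Vec) c)) = prj (uE e (w₂ : Vec) c₂') → c₂' = a := by
    intro w₂ c a c₂' h1 h2
    have h3 := (coord_compare hm hef hd0 hd h1 h2).1 (by
      show c - c + B (0 : Vec) (w₂ : Vec) = 0
      rw [sympForm_zero_left, sub_self, add_zero])
    have h4 : B ((0 : W0 e f) : Vec) (w₂ : Vec) = 0 := sympForm_zero_left _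
    rw [h4, add_zero] at h3
    exact sub_eq_zero.1 h3
  -- the coordinate of `1`
  have stepB : ∀ a : F, β (prj (uE e ((0 : W0 e f) : Vec) 0)) = prj (uE e ((0 : W0 e f) : Vec) a) →
      a = 0 := by
    intro a h
    have h1 : prj (uE e ((0 : W0 e f) : Vec) (0 : F)) = (1 : Cfsg.PSp m F) := by
      show prj (uE e (0 : Vec) (0 : F)) = 1
      rw [uE_zero_zero, map_one]
    rw [h1, map_one, ← h1] at h
    exact ((uE_W0_unique hm1 hef h).2).symm
  -- two vectors of `W0` with prescribed product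
  obtain ⟨v₁, -, hv₁, -⟩ := exists_indep_W0 hm hef
  obtain ⟨w₀, hw₀⟩ := exists_W0_pair hef hv₁
  obtain ⟨c', hc'⟩ := hQ w c
  obtain ⟨a, ha⟩ := hQ 0 c
  have e1 : c' = a := stepA w c a c' ha hc'
  obtain ⟨a₁, ha₁⟩ := hQ v₁ c
  have e2 : a₁ = a := stepA v₁ c a a₁ ha ha₁
  obtain ⟨a₀, ha₀⟩ := hQ 0 0
  have e3 : a₀ = 0 := stepB a₀ ha₀
  obtain ⟨a₂, ha₂⟩ := hQ (c • w₀) 0
  have e4 : a₂ = a₀ := stepA (c • w₀) 0 a₀ a₂ ha₀ ha₂
  have h5 := (coord_compare hm hef hd0 hd ha₁ ha₂).1 (by
    show 0 - c + B (v₁ : Vec) (c • (w₀ : Vec)) = 0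
    rw [sympForm_smul_right, hw₀]
    ring)
  have h6 : B (v₁ : Vec) ((c • w₀ : W0 e f) : Vec) = c := by
    show B (v₁ : Vec) (c • (w₀ : Vec)) = c
    rw [sympForm_smul_right, hw₀, mul_one]
  rw [h6, e4, e3, e2] at h5
  have e5 : a = c := by linear_combination -h5
  rw [hc', e1, e5]

/-- step 2: `β` fixes `X_f` pointwise -/
theorem fix_Xf_of_fix (hm : 2 ≤ m) {e f : Vec} (hef : B e f = 1)
    {β : Cfsg.PSp m F ≃* Cfsg.PSp m F} (hXf : FixX β f)
    (he : ∀ c : F, β (prj (tE e c)) = prj (tE e c)) (c : F) :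
    β (prj (tE f c)) = prj (tE f c) := by
  have hm1 : 1 ≤ m := by omega
  have hfe : B f e = -1 := by rw [B_swap, hef]
  have hf0 : f ≠ 0 := by
    rintro rfl
    rw [sympForm_zero_right] at hef
    exact zero_ne_one hef
  have he0 := ne_zero_of_pair hef
  by_cases hc : c = 0
  · rw [hc, tE_zero, map_one, map_one]
  obtain ⟨c', hc'⟩ := mem_Xb.1 ((hXf _).1 (mem_Xb.2 ⟨c, rfl⟩))
  -- the image of `e` under `tE e c⁻¹ * tE f k`
  have hg : ∀ k : F, (tE e c⁻¹ * tE f k) • e = (1 - k * c⁻¹) • e + k • f := by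
    intro k
    rw [mul_smul, tE_smul_vec, tE_smul_vec]
    simp only [sympForm_add_left, sympForm_smul_left, sympForm_self, hef, hfe]
    module
  have hgc : (tE e c⁻¹ * tE f c) • e = c • f := by
    rw [hg, mul_inv_cancel₀ hc, sub_self, zero_smul, zero_add]
  -- the transvection `tE f (c ^ 2)` as a conjugate
  have h1 : prj (tE f (c ^ 2)) = prj (tE e c⁻¹) * prj (tE f c) * prj (tE e 1) *
      (prj (tE e c⁻¹) * prj (tE f c))⁻¹ := by
    rw [← map_mul, ← map_mul, ← map_inv, ← map_mul, conj_tE, hgc, tE_smul, one_mul]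
  have h2 : β (prj (tE f (c ^ 2))) = prj (tE ((1 - c' * c⁻¹) • e + c' • f) 1) := by
    rw [h1, map_mul, map_mul, map_inv, map_mul, he, he, hc', ← map_mul, ← map_mul, ← map_inv,
      ← map_mul, conj_tE, hg]
  obtain ⟨d'', hd''⟩ := mem_Xb.1 ((hXf _).1 (mem_Xb.2 ⟨c ^ 2, rfl⟩))
  have h3 : Commute (prj (tE ((1 - c' * c⁻¹) • e + c' • f) (1 : F))) (prj (tE f (1 : F))) := by
    rw [← h2, hd'']
    show prj (tE f d'') * prj (tE f 1) = prj (tE f 1) * prj (tE f d'')
    rw [← map_mul, ← map_mul, tE_mul, tE_mul, add_comm]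
  have hc'0 : c' ≠ 0 := by
    rintro rfl
    rw [tE_zero] at hc'
    have h4 : prj (tE f c) = 1 := by
      apply β.injective
      rw [hc', map_one, map_one]
    exact prj_tE_ne_one hm1 hf0 hc h4
  have hne : (1 - c' * c⁻¹) • e + c' • f ≠ 0 := by
    intro h
    have h4 : B e ((1 - c' * c⁻¹) • e + c' • f) = c' := by
      rw [sympForm_add_right, sympForm_smul_right, sympForm_smul_right, sympForm_self, hef]
      ring
    rw [h, sympForm_zero_right] at h4
    exact hc'0 h4.symm
  rw [commute_tE_iff hm hne hf0 one_ne_zero one_ne_zero, sympForm_add_left, sympForm_smul_left,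
    sympForm_smul_left, sympForm_self, hef, mul_zero, add_zero, mul_one] at h3
  have h5 : c' = c := by
    have h6 : c' * c⁻¹ = 1 := by linear_combination -h3
    field_simp at h6
    exact h6
  rw [hc', h5]

/-- step 3: an automorphism fixing `Q_e` and `X_f` pointwise is the identity -/
theorem eq_self_of_fix {e f : Vec} (hef : B e f = 1)
    {β : Cfsg.PSp m F ≃* Cfsg.PSp m F}
    (hQ : ∀ (w : W0 e f) (c : F), β (prj (uE e (w : Vec) c)) = prj (uE e (w : Vec) c))
    (hf : ∀ c : F, β (prj (tE f c)) = prj (tE f c)) (x : Cfsg.PSp m F) : β x = x := by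
  have hfe : B f e = -1 := by rw [B_swap, hef]
  have he0 := ne_zero_of_pair hef
  -- the subgroup of fixed points
  let H : Subgroup (Cfsg.PSp m F) :=
    { carrier := {x | β x = x}
      mul_mem' := by
        intro a b ha hb
        show β (a * b) = a * b
        rw [map_mul, ha, hb]
      one_mem' := map_one β
      inv_mem' := by
        intro a ha
        show β a⁻¹ = a⁻¹
        rw [map_inv, ha] }
  have hH : ∀ y, y ∈ H ↔ β y = y := fun y => Iff.rfl
  -- centres with `B e a = 1`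
  have s1 : ∀ (a : Vec) (d : F), B e a = 1 → prj (tE a d) ∈ H := by
    intro a d ha
    have hae : B a e = -1 := by rw [B_swap, ha]
    have h1 : a = uE e ((-(P0' hef a) : W0 e f) : Vec) (-(B a f)) • f := by
      rw [uE_smul_snd hef]
      show a = f - (-(P0 e f a)) - (-(B a f)) • e
      conv_lhs => rw [decomp e f a, hae]
      module
    rw [h1, ← conj_tE, map_mul, map_mul, map_inv]
    exact H.mul_mem (H.mul_mem ((hH _).2 (hQ _ _)) ((hH _).2 (hf d))) (H.inv_mem ((hH _).2 (hQ _ _)))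
  -- centres not orthogonal to `e`
  have s2 : ∀ (a : Vec) (d : F), B e a ≠ 0 → prj (tE a d) ∈ H := by
    intro a d ha
    have h1 : a = B e a • ((B e a)⁻¹ • a) := by
      rw [smul_smul, mul_inv_cancel₀ ha, one_smul]
    rw [h1, tE_smul]
    apply s1
    rw [sympForm_smul_right, inv_mul_cancel₀ ha]
  -- all centres
  have s3 : ∀ (a : Vec) (d : F), prj (tE a d) ∈ H := by
    intro a d
    by_cases ha0 : a = 0
    · rw [ha0, tE_zero_vec, map_one]
      exact H.one_mem
    by_cases ha : B e a = 0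
    · obtain ⟨b, hbe, hba⟩ := exists_sympForm_ne_zero_both he0 ha0
      have hb : B e b ≠ 0 := by
        rw [B_swap]
        exact neg_ne_zero.2 hbe
      have hab : B a b ≠ 0 := by
        rw [B_swap]
        exact neg_ne_zero.2 hba
      have h1 : B e (tE b 1 • a) ≠ 0 := by
        rw [tE_smul_vec, sympForm_add_right, sympForm_smul_right, ha, zero_add, one_mul]
        exact mul_ne_zero hab hb
      have h2 : prj (tE a d) = (prj (tE b 1))⁻¹ * prj (tE (tE b 1 • a) d) * prj (tE b 1) := by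
        rw [← conj_tE, ← map_inv, ← map_mul, ← map_mul]
        congr 1
        group
      rw [h2]
      exact H.mul_mem (H.mul_mem (H.inv_mem (s2 b 1 hb)) (s2 _ d h1)) (s2 b 1 hb)
    · exact s2 a d ha
  have htop : H.comap prj = ⊤ := by
    rw [eq_top_iff, ← iSup_T_eq_top]
    apply iSup₂_le
    rintro A ⟨a, ha, rfl⟩
    intro g hg
    obtain ⟨c, rfl⟩ := mem_T_iff.1 hg
    exact s3 a c
  obtain ⟨g, rfl⟩ := prj_surjective x
  have : g ∈ H.comap prj := by
    rw [htop]
    exact Subgroup.mem_top g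
  exact this

end Cfsg.Agent.Helper5.AutSp
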