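import Mathlib
import Cfsg.Agent.Helper5.AutSpN

/-!
# Automorphisms of `PSp_{2m}(q)`, part O: every automorphism is induced by a semilinear similitude
-/

set_option autoImplicit false
set_option linter.unusedSectionVars false
set_option linter.unusedVariables false
set_option linter.unusedSimpArgs false

namespace Cfsg.Agent.Helper5.AutSp

open Matrix Cfsg.Agent.Helper13 Cfsg.Agent.Helper94.SpRoot Cfsg.Agent.Helper14.AutPSL

variable {F : Type*} [Field F] {m : ℕ}

local notation "Vec" => (Fin m ⊕ Fin m → F)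
local notation "Mat" => Matrix (Fin m ⊕ Fin m) (Fin m ⊕ Fin m) F
local notation "Sp" => Matrix.symplecticGroup (Fin m) F
local notation "B" => Cfsg.sympForm m F

/-- an isometry is a (linear) similitude with multiplier `1` -/
theorem semiSim_smul (h : Sp) : SemiSim (RingEquiv.refl F) (1 : F) (fun x : Vec => h • x) := by
  refine ⟨?_, ?_, ?_, one_ne_zero⟩
  · intro x y
    exact smul_add h x y
  · intro c x
    exact smul_comm h c x
  · intro x y
    show B (h • x) (h • y) = 1 * B x y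
    rw [B_smul, one_mul]

/-- inner automorphisms are induced by similitudes -/
theorem conj_mem_gamma [Finite F] (h : Sp) :
    MulAut.conj (prj h : Cfsg.PSp m F) ∈ Cfsg.gammaPSp m F := by
  have hS := semiSim_smul (F := F) (m := m) h
  have h1 : MulAut.conj (prj h : Cfsg.PSp m F) = semiAut hS.gl hS.gl_mem (RingEquiv.refl F) := by
    apply MulEquiv.ext
    intro x
    obtain ⟨s, rfl⟩ := prj_surjective x
    rw [semiAut_prj, MulAut.conj_apply, ← map_inv, ← map_mul, ← map_mul]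
    congr 1
    apply ext_smul
    intro y
    have h2 := hS.semi_smul s (h⁻¹ • y)
    simp only [smul_inv_smul] at h2
    rw [h2, mul_smul, mul_smul]
  rw [h1]
  exact semiAut_mem_gamma _ _ _

theorem exists_pair (hm : 1 ≤ m) : ∃ e f : Vec, B e f = 1 := by
  have he : (fun _ => 1 : Vec) ≠ 0 := by
    intro h
    have := congrFun h (Sum.inl ⟨0, by omega⟩)
    exact one_ne_zero this
  obtain ⟨x, hx⟩ := sympForm_nondeg_right he
  refine ⟨fun _ => 1, (B (fun _ => 1) x)⁻¹ • x, ?_⟩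
  rw [sympForm_smul_right, inv_mul_cancel₀ hx]

/-- an automorphism normalises `X_a` as soon as it maps one non-trivial element of it into it -/
theorem fixX_of_map (hm : 2 ≤ m) {β : Cfsg.PSp m F ≃* Cfsg.PSp m F} (hβ : TvPres β) {a : Vec}
    (ha : a ≠ 0) {c d : F} (hc : c ≠ 0) (hd : d ≠ 0) (h : β (prj (tE a c)) = prj (tE a d)) :
    FixX β a := by
  intro x
  constructor
  · intro hx
    obtain ⟨c', rfl⟩ := mem_Xb.1 hx
    obtain ⟨d', hd'⟩ := map_tE_line hm hβ ha ha hc hd h c'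
    exact mem_Xb.2 ⟨d', hd'⟩
  · intro hx
    obtain ⟨c', hc'⟩ := mem_Xb.1 hx
    have h' : β.symm (prj (tE a d)) = prj (tE a c) := by
      rw [← h, β.symm_apply_apply]
    obtain ⟨d', hd'⟩ := map_tE_line hm hβ.symm ha ha hd hc h' c'
    rw [← hc', β.symm_apply_apply] at hd'
    exact mem_Xb.2 ⟨d', hd'⟩

/-- every automorphism of `PSp_{2m}(q)` lies in the group generated by the automorphisms induced
by semilinear similitudes -/
theorem mem_gamma [Fintype F] {p : ℕ} [hp : Fact p.Prime] [CharP F p] (hm : 2 ≤ m)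
    (h4 : m = 2 → p ≠ 2) (β : Cfsg.PSp m F ≃* Cfsg.PSp m F) : β ∈ Cfsg.gammaPSp m F := by
  have hm1 : 1 ≤ m := by omega
  have hβ : TvPres β := tvPres_of_aut (p := p) hm h4 β
  obtain ⟨e, f, hef⟩ := exists_pair (F := F) hm1
  have hfe : B f e = -1 := by rw [B_swap, hef]
  have he0 := ne_zero_of_pair hef
  have hf0 : f ≠ 0 := by
    rintro rfl
    rw [sympForm_zero_right] at hef
    exact zero_ne_one hef
  -- the images of the two basic transvections
  obtain ⟨e', d, he', hd, h1⟩ := (hβ _).1 ⟨e, 1, he0, one_ne_zero, rfl⟩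
  obtain ⟨f', d', hf', hd', h2⟩ := (hβ _).1 ⟨f, 1, hf0, one_ne_zero, rfl⟩
  have hne : B e' f' ≠ 0 := by
    intro h
    have h3 : Commute (prj (tE e' d)) (prj (tE f' d')) :=
      (commute_tE_iff hm he' hf' hd hd').2 h
    rw [← h1, ← h2, commute_map_iff, commute_tE_iff hm he0 hf0 one_ne_zero one_ne_zero, hef] at h3
    exact one_ne_zero h3
  -- move the pair `(e', f')` to `(e, f)` (up to a scalar)
  have hpair : B e' ((B e' f')⁻¹ • f') = 1 := by
    rw [sympForm_smul_right, inv_mul_cancel₀ hne]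
  obtain ⟨A, -, hAe, hAf⟩ := exists_transvection_map_pair hpair hef
  have hAe' : A • e' = e := hAe
  have hAf' : A • f' = B e' f' • f := by
    have : A • ((B e' f')⁻¹ • f') = f := hAf
    rw [smul_comm] at this
    rw [← this, smul_smul, mul_inv_cancel₀ hne, one_smul]
  -- the corrected automorphism
  obtain ⟨β₁, hβ₁⟩ : ∃ β₁ : Cfsg.PSp m F ≃* Cfsg.PSp m F,
      β₁ = β.trans (MulAut.conj (prj A : Cfsg.PSp m F)) := ⟨_, rfl⟩
  have hβ₁a : ∀ x, β₁ x = prj A * β x * (prj A)⁻¹ := by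
    intro x
    rw [hβ₁]
    rfl
  have hβ₁T : TvPres β₁ := tvPres_of_aut (p := p) hm h4 β₁
  have h1' : β₁ (prj (tE e 1)) = prj (tE e d) := by
    rw [hβ₁a, h1, ← map_inv, ← map_mul, ← map_mul, conj_tE, hAe']
  have h2' : β₁ (prj (tE f 1)) = prj (tE f (d' * (B e' f') ^ 2)) := by
    rw [hβ₁a, h2, ← map_inv, ← map_mul, ← map_mul, conj_tE, hAf', tE_smul]
  have hXe : FixX β₁ e := fixX_of_map hm hβ₁T he0 one_ne_zero hd h1'
  have hXf : FixX β₁ f :=
    fixX_of_map hm hβ₁T hf0 one_ne_zero (mul_ne_zero hd' (pow_ne_zero 2 hne)) h2'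
  -- the semilinear correction
  obtain ⟨ψ, hψγ, hψT, hψe, hψf, hψ⟩ := exists_semi_correction (p := p) hm h4 hef hβ₁T hXe
  obtain ⟨β₂, hβ₂⟩ : ∃ β₂ : Cfsg.PSp m F ≃* Cfsg.PSp m F, β₂ = β₁.trans ψ.symm := ⟨_, rfl⟩
  have hβ₂a : ∀ x, β₂ x = ψ.symm (β₁ x) := by
    intro x
    rw [hβ₂]
    rfl
  have hXf₂ : FixX β₂ f := by
    rw [hβ₂]
    exact hXf.trans hψf.symm
  have hQ₂ : ∀ (w : W0 e f) (c : F), ∃ c' : F,
      β₂ (prj (uE e (w : Vec) c)) = prj (uE e (w : Vec) c') := by
    intro w c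
    obtain ⟨c', hc'⟩ := hψ w c
    exact ⟨c', by rw [hβ₂a, hc', ψ.symm_apply_apply]⟩
  have hfixQ := fix_Qb_of_coord hm hef hXf₂ hQ₂
  have hfixe : ∀ c : F, β₂ (prj (tE e c)) = prj (tE e c) := by
    intro c
    have := hfixQ 0 c
    rwa [show ((0 : W0 e f) : Vec) = 0 from rfl, uE_zero] at this
  have hfixf := fix_Xf_of_fix hm hef hXf₂ hfixe
  have hid := eq_self_of_fix hef hfixQ hfixf
  -- conclusion
  have h3 : ∀ x, β₁ x = ψ x := by
    intro x
    have := hid x
    rw [hβ₂a] at this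
    rw [← this, ψ.apply_symm_apply, this]
  have h4' : β = (MulAut.conj (prj A : Cfsg.PSp m F))⁻¹ * ψ := by
    apply MulEquiv.ext
    intro x
    rw [MulAut.mul_apply, ← h3, hβ₁a, MulAut.conj_inv_apply]
    group
  rw [h4']
  exact (Cfsg.gammaPSp m F).mul_mem ((Cfsg.gammaPSp m F).inv_mem (conj_mem_gamma A)) hψγ

end Cfsg.Agent.Helper5.AutSp
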