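import Mathlib
import Cfsg.Agent.Helper5.AutSpO

/-!
# Automorphisms of `PSp_{2m}(q)`, part P: normal form of an automorphism and the kernel of
`(M, σ) ↦ semiAut M σ`
-/

set_option autoImplicit false
set_option linter.unusedSectionVars false
set_option linter.unusedVariables false
set_option linter.unusedSimpArgs false

namespace Cfsg.Agent.Helper5.AutSp

open Matrix Cfsg.Agent.Helper13 Cfsg.Agent.Helper94.SpRoot Cfsg.Agent.Helper14.AutPSL

variable {F : Type*} [Field F] {m : ℕ}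

local notation "Vec" => (Fin m ⊕ Fin m → F)
local notation "Mat" => Matrix (Fin m ⊕ Fin m) (Fin m ⊕ Fin m) F
local notation "Sp" => Matrix.symplecticGroup (Fin m) F
local notation "B" => Cfsg.sympForm m F

/-- the automorphism of `Sp` attached to a semilinear similitude is determined by its
intertwining property -/
theorem SemiSim.semiSpEquiv_eq_of_smul [Finite F] {σ : F ≃+* F} {lam : F} {G : Vec → Vec}
    (hS : SemiSim σ lam G) {s t : Sp} (h : ∀ x, t • G x = G (s • x)) :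
    semiSpEquiv hS.gl hS.gl_mem σ s = t := by
  apply ext_smul
  intro y
  obtain ⟨x, rfl⟩ := hS.surj y
  rw [hS.semi_smul, h]

/-- a semilinear similitude followed by an isometry -/
theorem SemiSim.smul_comp {σ : F ≃+* F} {lam : F} {G : Vec → Vec} (hS : SemiSim σ lam G)
    (A : Sp) : SemiSim σ lam (fun x => A • G x) := by
  refine ⟨?_, ?_, ?_, hS.ne⟩
  · intro x y
    show A • G (x + y) = A • G x + A • G y
    rw [hS.add, smul_add]
  · intro c x
    show A • G (c • x) = σ c • A • G x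
    rw [hS.semi, smul_comm]
  · intro x y
    show B (A • G x) (A • G y) = lam * σ (B x y)
    rw [B_smul, hS.form]

theorem SemiSim.semiAut_smul_comp [Finite F] {σ : F ≃+* F} {lam : F} {G : Vec → Vec}
    (hS : SemiSim σ lam G) (A : Sp) (x : Cfsg.PSp m F) :
    semiAut (hS.smul_comp A).gl (hS.smul_comp A).gl_mem σ x
      = prj A * semiAut hS.gl hS.gl_mem σ x * (prj A)⁻¹ := by
  obtain ⟨s, rfl⟩ := prj_surjective x
  rw [semiAut_prj, semiAut_prj, ← map_inv, ← map_mul, ← map_mul]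
  congr 1
  apply (hS.smul_comp A).semiSpEquiv_eq_of_smul
  intro y
  show (A * semiSpEquiv hS.gl hS.gl_mem σ s * A⁻¹) • A • G y = A • G (s • y)
  rw [mul_smul, mul_smul, inv_smul_smul, hS.semi_smul]

/-- the semilinear correction, with its explicit form -/
theorem exists_semi_correction' [Fintype F] {p : ℕ} [hp : Fact p.Prime] [CharP F p] (hm : 2 ≤ m)
    (h4 : m = 2 → p ≠ 2) {e f : Vec} (hef : B e f = 1) {β : Cfsg.PSp m F ≃* Cfsg.PSp m F}
    (hβ : TvPres β) (hX : FixX β e) :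
    ∃ (σ : F ≃+* F) (lam : F) (G : Vec → Vec) (hS : SemiSim σ lam G),
      FixX (semiAut hS.gl hS.gl_mem σ) f ∧
      ∀ (w : W0 e f) (c : F), ∃ c' : F,
        β (prj (uE e (w : Vec) c)) = semiAut hS.gl hS.gl_mem σ (prj (uE e (w : Vec) c')) := by
  obtain ⟨σ, κ, hκ0, hsemi, hform⟩ := exists_sigma (p := p) hm hef hβ hX
  have hadd := gFun_add (p := p) hm hef hβ hX
  have hκ : κ * κ⁻¹ = 1 := mul_inv_cancel₀ hκ0
  have hlam : κ⁻¹ ≠ 0 := inv_ne_zero hκ0
  have hS := extG_semiSim hef σ (gFun e f β) hκ hadd hsemi hform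
  have hGe := extG_fst hef σ κ⁻¹ (gFun e f β) hadd
  have hGf := extG_snd hef σ κ⁻¹ (gFun e f β) hadd
  have hGw := extG_W0 hef σ κ⁻¹ (gFun e f β)
  refine ⟨σ, κ⁻¹, _, hS, ?_, ?_⟩
  · intro x
    constructor
    · intro hx
      obtain ⟨c, rfl⟩ := mem_Xb.1 hx
      rw [hS.semiAut_tE, hGf, tE_smul]
      exact mem_Xb.2 ⟨_, rfl⟩
    · intro hx
      obtain ⟨c, hc⟩ := mem_Xb.1 hx
      have h1 : semiAut hS.gl hS.gl_mem σ (prj (tE f (σ.symm (c * κ)))) = prj (tE f c) := by
        rw [hS.semiAut_tE, hGf, tE_smul, σ.apply_symm_apply]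
        congr 2
        field_simp
      rw [← h1] at hc
      rw [(semiAut hS.gl hS.gl_mem σ).injective hc]
      exact mem_Xb.2 ⟨_, rfl⟩
  · intro w c
    obtain ⟨c₁, hc₁⟩ := gFun_spec (p := p) hm hef hβ hX w c
    refine ⟨σ.symm (c₁ * κ⁻¹), ?_⟩
    rw [hc₁, semiAut_uE hS hGe (hGw w) (gFun e f β w).2.1, σ.apply_symm_apply, mul_div_assoc,
      div_self hlam, mul_one]

/-- **normal form**: every automorphism of `PSp_{2m}(q)` is induced by a semilinear similitude
of the underlying space -/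
theorem exists_semiSim_eq [Fintype F] {p : ℕ} [hp : Fact p.Prime] [CharP F p] (hm : 2 ≤ m)
    (h4 : m = 2 → p ≠ 2) (β : Cfsg.PSp m F ≃* Cfsg.PSp m F) :
    ∃ (σ : F ≃+* F) (lam : F) (G : Vec → Vec) (hS : SemiSim σ lam G),
      β = semiAut hS.gl hS.gl_mem σ := by
  have hm1 : 1 ≤ m := by omega
  have hβ : TvPres β := tvPres_of_aut (p := p) hm h4 β
  obtain ⟨e, f, hef⟩ := exists_pair (F := F) hm1
  have hfe : B f e = -1 := by rw [B_swap, hef]
  have he0 := ne_zero_of_pair hef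
  have hf0 : f ≠ 0 := by
    rintro rfl
    rw [sympForm_zero_right] at hef
    exact zero_ne_one hef
  obtain ⟨e', d, he', hd, h1⟩ := (hβ _).1 ⟨e, 1, he0, one_ne_zero, rfl⟩
  obtain ⟨f', d', hf', hd', h2⟩ := (hβ _).1 ⟨f, 1, hf0, one_ne_zero, rfl⟩
  have hne : B e' f' ≠ 0 := by
    intro h
    have h3 : Commute (prj (tE e' d)) (prj (tE f' d')) :=
      (commute_tE_iff hm he' hf' hd hd').2 h
    rw [← h1, ← h2, commute_map_iff, commute_tE_iff hm he0 hf0 one_ne_zero one_ne_zero, hef] at h3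
    exact one_ne_zero h3
  have hpair : B e' ((B e' f')⁻¹ • f') = 1 := by
    rw [sympForm_smul_right, inv_mul_cancel₀ hne]
  obtain ⟨A, -, hAe, hAf⟩ := exists_transvection_map_pair hpair hef
  have hAe' : A • e' = e := hAe
  have hAf' : A • f' = B e' f' • f := by
    have : A • ((B e' f')⁻¹ • f') = f := hAf
    rw [smul_comm] at this
    rw [← this, smul_smul, mul_inv_cancel₀ hne, one_smul]
  obtain ⟨β₁, hβ₁⟩ : ∃ β₁ : Cfsg.PSp m F ≃* Cfsg.PSp m F,
      β₁ = β.trans (MulAut.conj (prj A : Cfsg.PSp m F)) := ⟨_, rfl⟩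
  have hβ₁a : ∀ x, β₁ x = prj A * β x * (prj A)⁻¹ := by
    intro x
    rw [hβ₁]
    rfl
  have hβ₁T : TvPres β₁ := tvPres_of_aut (p := p) hm h4 β₁
  have h1' : β₁ (prj (tE e 1)) = prj (tE e d) := by
    rw [hβ₁a, h1, ← map_inv, ← map_mul, ← map_mul, conj_tE, hAe']
  have h2' : β₁ (prj (tE f 1)) = prj (tE f (d' * (B e' f') ^ 2)) := by
    rw [hβ₁a, h2, ← map_inv, ← map_mul, ← map_mul, conj_tE, hAf', tE_smul]
  have hXe : FixX β₁ e := fixX_of_map hm hβ₁T he0 one_ne_zero hd h1'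
  have hXf : FixX β₁ f :=
    fixX_of_map hm hβ₁T hf0 one_ne_zero (mul_ne_zero hd' (pow_ne_zero 2 hne)) h2'
  obtain ⟨σ, lam, G, hS, hψf, hψ⟩ := exists_semi_correction' (p := p) hm h4 hef hβ₁T hXe
  obtain ⟨ψ, hψdef⟩ : ∃ ψ : Cfsg.PSp m F ≃* Cfsg.PSp m F, ψ = semiAut hS.gl hS.gl_mem σ :=
    ⟨_, rfl⟩
  rw [← hψdef] at hψf hψ
  obtain ⟨β₂, hβ₂⟩ : ∃ β₂ : Cfsg.PSp m F ≃* Cfsg.PSp m F, β₂ = β₁.trans ψ.symm := ⟨_, rfl⟩
  have hβ₂a : ∀ x, β₂ x = ψ.symm (β₁ x) := by
    intro x
    rw [hβ₂]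
    rfl
  have hXf₂ : FixX β₂ f := by
    rw [hβ₂]
    exact hXf.trans hψf.symm
  have hQ₂ : ∀ (w : W0 e f) (c : F), ∃ c' : F,
      β₂ (prj (uE e (w : Vec) c)) = prj (uE e (w : Vec) c') := by
    intro w c
    obtain ⟨c', hc'⟩ := hψ w c
    exact ⟨c', by rw [hβ₂a, hc', ψ.symm_apply_apply]⟩
  have hfixQ := fix_Qb_of_coord hm hef hXf₂ hQ₂
  have hfixe : ∀ c : F, β₂ (prj (tE e c)) = prj (tE e c) := by
    intro c
    have := hfixQ 0 c
    rwa [show ((0 : W0 e f) : Vec) = 0 from rfl, uE_zero] at this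
  have hfixf := fix_Xf_of_fix hm hef hXf₂ hfixe
  have hid := eq_self_of_fix hef hfixQ hfixf
  have h3 : ∀ x, β₁ x = ψ x := by
    intro x
    have := hid x
    rw [hβ₂a] at this
    rw [← this, ψ.apply_symm_apply, this]
  refine ⟨σ, lam, _, hS.smul_comp A⁻¹, ?_⟩
  apply MulEquiv.ext
  intro x
  rw [hS.semiAut_smul_comp, ← hψdef, ← h3, hβ₁a, map_inv]
  group

/-- the semilinear similitude attached to a pair `(M, σ)` -/
theorem semiSim_of_mem {M : GL (Fin m ⊕ Fin m) F} (hM : M ∈ Cfsg.GSp m F) (σ : F ≃+* F) :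
    ∃ lam : F, SemiSim σ lam (fun x : Vec => (M : Mat) *ᵥ (fun i => σ (x i))) := by
  obtain ⟨c, hc⟩ := hM
  refine ⟨(c : F), ?_, ?_, ?_, c.ne_zero⟩
  · intro x y
    show (M : Mat) *ᵥ (fun i => σ ((x + y) i)) = _
    rw [← Matrix.mulVec_add]
    congr 1
    funext i
    simp
  · intro k x
    show (M : Mat) *ᵥ (fun i => σ ((k • x) i)) = σ k • ((M : Mat) *ᵥ (fun i => σ (x i)))
    rw [← Matrix.mulVec_smul]
    congr 1
    funext i
    simp
  · intro x y
    show B ((M : Mat) *ᵥ _) ((M : Mat) *ᵥ _) = _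
    rw [hc, B_map]

theorem SemiSim.gl_eq_of_mulVec {M : GL (Fin m ⊕ Fin m) F} {σ : F ≃+* F} {lam : F}
    (hS : SemiSim σ lam (fun x : Vec => (M : Mat) *ᵥ (fun i => σ (x i)))) : hS.gl = M := by
  apply Units.ext
  rw [hS.gl_coe]
  ext i j
  simp only [smat, Matrix.of_apply]
  have h1 : (fun k => σ ((Pi.single j 1 : Vec) k)) = (Pi.single j 1 : Vec) := by
    funext k
    by_cases hk : k = j
    · subst hk
      simp
    · simp [Pi.single_apply, hk]
  rw [h1, Matrix.mulVec_single_one]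
  rfl

/-- **kernel**: a semilinear similitude inducing the identity on `PSp` is a scalar -/
theorem SemiSim.scalar_of_semiAut_eq [Finite F] (hm : 2 ≤ m) {σ : F ≃+* F} {lam : F}
    {G : Vec → Vec} (hS : SemiSim σ lam G)
    (h : ∀ x, semiAut hS.gl hS.gl_mem σ x = x) :
    σ = RingEquiv.refl F ∧ ∃ μ : F, μ ≠ 0 ∧ ∀ x, G x = μ • x := by
  have hlam := hS.ne
  -- every line is preserved
  have hline : ∀ a : Vec, a ≠ 0 → ∃ l : F, G a = l • a := by
    intro a ha
    apply mem_span_of_perp_perp ha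
    intro x hx
    by_cases hx0 : x = 0
    · rw [hx0, sympForm_zero_right]
    have hGa : G a ≠ 0 := by
      intro h0
      rw [← hS.map_zero'] at h0
      exact ha (hS.inj h0)
    have h1 : Commute (prj (tE x 1)) (prj (tE a (1 : F))) :=
      (commute_tE_iff hm hx0 ha one_ne_zero one_ne_zero).2 (B_eq_zero_symm hx)
    have h2 := h (prj (tE a 1))
    rw [hS.semiAut_tE] at h2
    rw [← h2, commute_tE_iff hm hx0 hGa one_ne_zero
      (div_ne_zero ((map_ne_zero σ).2 one_ne_zero) hlam)] at h1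
    exact B_eq_zero_symm h1
  obtain ⟨e, f, hef⟩ := exists_pair (F := F) (m := m) (by omega)
  have he0 := ne_zero_of_pair hef
  obtain ⟨μ, hμ⟩ := hline e he0
  have hμ0 : μ ≠ 0 := by
    rintro rfl
    rw [zero_smul, ← hS.map_zero'] at hμ
    exact he0 (hS.inj hμ)
  -- the scalar is uniform
  have huni : ∀ a : Vec, a ≠ 0 → (∀ k : F, a ≠ k • e) → G a = μ • a := by
    intro a ha hae
    obtain ⟨l, hl⟩ := hline a ha
    have hea : e + a ≠ 0 := by
      intro h0
      apply hae (-1)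
      rw [neg_smul, one_smul]
      exact (eq_neg_of_add_eq_zero_right h0)
    obtain ⟨l', hl'⟩ := hline (e + a) hea
    rw [hS.add, hμ, hl, smul_add] at hl'
    have h3 : (μ - l') • e = (l' - l) • a := by
      rw [sub_smul, sub_smul]
      linear_combination (exp := 1) hl'
    by_cases h4 : l' - l = 0
    · rw [h4, zero_smul] at h3
      have h5 : μ - l' = 0 := by
        by_contra h5
        exact he0 ((smul_eq_zero.1 h3).resolve_left h5)
      have : l = μ := by
        rw [sub_eq_zero] at h4 h5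
        rw [← h4, ← h5]
      rw [hl, this]
    · exfalso
      apply hae ((l' - l)⁻¹ * (μ - l'))
      rw [mul_smul, h3, smul_smul, inv_mul_cancel₀ h4, one_smul]
  have hall : ∀ x : Vec, G x = μ • x := by
    intro x
    by_cases hx0 : x = 0
    · rw [hx0, hS.map_zero', smul_zero]
    by_cases hxe : ∀ k : F, x ≠ k • e
    · exact huni x hx0 hxe
    · push Not at hxe
      obtain ⟨k, rfl⟩ := hxe
      -- use `f`, which is independent of `e`
      have hf0 : f ≠ 0 := by
        rintro rfl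
        rw [sympForm_zero_right] at hef
        exact zero_ne_one hef
      have hfe : ∀ k' : F, f ≠ k' • e := by
        intro k' h0
        rw [h0, sympForm_smul_right, sympForm_self, mul_zero] at hef
        exact zero_ne_one hef
      have h1 := huni f hf0 hfe
      have h2 : ∀ k' : F, k • e + f ≠ k' • e := by
        intro k' h0
        have : f = (k' - k) • e := by
          rw [sub_smul]
          linear_combination (exp := 1) h0
        exact hfe _ this
      have h3 : k • e + f ≠ 0 := by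
        intro h0
        apply h2 0
        rw [h0, zero_smul]
      have h4 := huni _ h3 h2
      rw [hS.add, h1, smul_add] at h4
      exact add_right_cancel h4
  refine ⟨?_, μ, hμ0, hall⟩
  apply RingEquiv.ext
  intro c
  have h1 := hS.semi c e
  rw [hall, hall, smul_smul, smul_smul] at h1
  have h2 : μ * c = σ c * μ := by
    by_contra hne
    have h3 : (μ * c - σ c * μ) • e = 0 := by
      rw [sub_smul, h1, sub_self]
    exact he0 ((smul_eq_zero.1 h3).resolve_left (sub_ne_zero.2 hne))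
  show σ c = c
  have h3 : μ * (σ c - c) = 0 := by linear_combination -h2
  rcases mul_eq_zero.1 h3 with h4 | h4
  · exact absurd h4 hμ0
  · exact sub_eq_zero.1 h4

theorem semiAut_congr [Finite F] {M M' : GL (Fin m ⊕ Fin m) F} (h : M = M')
    (hM : M ∈ Cfsg.GSp m F) (hM' : M' ∈ Cfsg.GSp m F) (σ : F ≃+* F) :
    semiAut M hM σ = semiAut M' hM' σ := by
  subst h
  rfl

/-- normal form, matrix version -/
theorem exists_semiAut_eq [Fintype F] {p : ℕ} [hp : Fact p.Prime] [CharP F p] (hm : 2 ≤ m)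
    (h4 : m = 2 → p ≠ 2) (β : Cfsg.PSp m F ≃* Cfsg.PSp m F) :
    ∃ (M : GL (Fin m ⊕ Fin m) F) (hM : M ∈ Cfsg.GSp m F) (σ : F ≃+* F), β = semiAut M hM σ := by
  obtain ⟨σ, lam, G, hS, h⟩ := exists_semiSim_eq (p := p) hm h4 β
  exact ⟨hS.gl, hS.gl_mem, σ, h⟩

/-- kernel, matrix version: `semiAut M σ = 1` forces `σ = 1` and `M` scalar -/
theorem scalar_of_semiAut_eq [Finite F] (hm : 2 ≤ m) {M : GL (Fin m ⊕ Fin m) F}
    (hM : M ∈ Cfsg.GSp m F) {σ : F ≃+* F} (h : ∀ x, semiAut M hM σ x = x) :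
    σ = RingEquiv.refl F ∧ ∃ μ : F, μ ≠ 0 ∧ (M : Mat) = μ • (1 : Mat) := by
  obtain ⟨lam, hS⟩ := semiSim_of_mem hM σ
  have h1 : semiAut hS.gl hS.gl_mem σ = semiAut M hM σ :=
    semiAut_congr hS.gl_eq_of_mulVec _ _ σ
  obtain ⟨hσ, μ, hμ, hall⟩ := hS.scalar_of_semiAut_eq hm (fun x => by rw [h1]; exact h x)
  refine ⟨hσ, μ, hμ, ?_⟩
  ext i j
  have h2 := congrFun (hall (Pi.single j 1)) i
  simp only [hσ, RingEquiv.refl_apply, Matrix.mulVec_single_one, Matrix.col_apply] at h2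
  have h3 : (M : Mat) i j = μ * (if i = j then 1 else 0) := by
    rw [h2]
    by_cases hij : i = j
    · subst hij
      simp
    · simp [Pi.single_apply, hij]
  rw [Matrix.smul_apply, Matrix.one_apply, h3, smul_eq_mul]

end Cfsg.Agent.Helper5.AutSp
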