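import Mathlib
import Cfsg.Agent.Helper14.CharTwoRefl

/-!
# Local balance for graph involutions of `PΩ⁻`, part A: additive maps commuting with Eichler
transformations

Abstract lemmas on a quadratic space `(V, Q)` over a field of characteristic `≠ 2`.
* `smul_of_commute_eichler`: an additive map commuting with the transformations `E(u, c w)`
  (`Q w ≠ 0`) is linear on the line `F u`, with an eigenvalue.
* `smul_of_eigen`: an additive map which is linear with an eigenvalue on every singular line of a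
  subspace `S` containing a hyperbolic pair and a non-zero vector orthogonal to it is a scalar
  on `S`.
-/

set_option autoImplicit false

namespace Cfsg.Agent.Helper5.Bal

open QuadraticMap Cfsg.Agent.Helper14

variable {F V : Type*} [Field F] [AddCommGroup V] [Module F V]

/-- an additive map commuting with the Eichler transformations `E(u, c w)`, `Q w ≠ 0`, acts on
the line `F u` as a scalar -/
theorem smul_of_commute_eichler (Q : QuadraticForm F V) (h2 : (2 : F) ≠ 0) (G : V →+ V)
    {u w x₀ : V} (hw : Q w ≠ 0) (hx₀ : polar ⇑Q u x₀ ≠ 0)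
    (hG : ∀ c : F, ∀ x, G (eichler Q u (c • w) x) = eichler Q u (c • w) (G x)) :
    ∃ a : F, ∀ c : F, G (c • u) = (c * a) • u := by
  -- the sum of `E(u, c w)` and `E(u, - c w)`
  have hsum : ∀ (c : F) (x : V), eichler Q u (c • w) x + eichler Q u ((-c) • w) x
      = (2 : F) • x - (2 * c ^ 2 * Q w * polar ⇑Q u x) • u := by
    intro c x
    rw [eichler_apply, eichler_apply]
    simp only [polarBilin_apply_apply, polar_smul_left, QuadraticMap.map_smul, smul_eq_mul]
    module
  have key : ∀ c : F, G ((c ^ 2 * (2 * Q w * polar ⇑Q u x₀)) • u)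
      = (c ^ 2 * (2 * Q w * polar ⇑Q u (G x₀))) • u := by
    intro c
    have h1 := hG c x₀
    have h2' := hG (-c) x₀
    have h3 : G (eichler Q u (c • w) x₀ + eichler Q u ((-c) • w) x₀)
        = eichler Q u (c • w) (G x₀) + eichler Q u ((-c) • w) (G x₀) := by
      rw [map_add, h1, h2']
    rw [hsum, hsum, map_sub] at h3
    have h4 : G ((2 : F) • x₀) = (2 : F) • G x₀ := by
      rw [two_smul, two_smul, map_add]
    rw [h4] at h3
    have h5 : G ((2 * c ^ 2 * Q w * polar ⇑Q u x₀) • u)
        = (2 * c ^ 2 * Q w * polar ⇑Q u (G x₀)) • u := by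
      have := sub_right_injective h3
      exact this
    have e1 : c ^ 2 * (2 * Q w * polar ⇑Q u x₀) = 2 * c ^ 2 * Q w * polar ⇑Q u x₀ := by ring
    have e2 : c ^ 2 * (2 * Q w * polar ⇑Q u (G x₀)) = 2 * c ^ 2 * Q w * polar ⇑Q u (G x₀) := by
      ring
    rw [e1, e2]
    exact h5
  set t : F := 2 * Q w * polar ⇑Q u x₀ with ht
  set s : F := 2 * Q w * polar ⇑Q u (G x₀) with hs
  have ht0 : t ≠ 0 := mul_ne_zero (mul_ne_zero h2 hw) hx₀
  refine ⟨s / t, fun e => ?_⟩
  -- `e / t` is a difference of two squares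
  set c₁ : F := (e / t + 1) / 2 with hc₁
  set c₂ : F := (e / t - 1) / 2 with hc₂
  have hd : c₁ ^ 2 * t - c₂ ^ 2 * t = e := by
    rw [hc₁, hc₂]
    field_simp
    ring
  have hd' : c₁ ^ 2 * s - c₂ ^ 2 * s = e * (s / t) := by
    rw [hc₁, hc₂]
    field_simp
    ring
  calc G (e • u) = G ((c₁ ^ 2 * t) • u - (c₂ ^ 2 * t) • u) := by rw [← sub_smul, hd]
    _ = (c₁ ^ 2 * s) • u - (c₂ ^ 2 * s) • u := by rw [map_sub, key, key]
    _ = (e * (s / t)) • u := by rw [← sub_smul, hd']

/-- auxiliary step for `smul_of_eigen` -/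
theorem smul_of_eigen_aux (Q : QuadraticForm F V) (h2 : (2 : F) ≠ 0) (G : V →+ V)
    (S : Submodule F V) {u v : V} (hu : Q u = 0) (hv : Q v = 0) (huv : polar ⇑Q u v = 1)
    (huS : u ∈ S) (hvS : v ∈ S)
    (heig : ∀ s ∈ S, Q s = 0 → ∃ a : F, ∀ c : F, G (c • s) = (c * a) • s)
    {α β : F} (hα : ∀ c : F, G (c • u) = (c * α) • u) (hβ : ∀ c : F, G (c • v) = (c * β) • v)
    {w : V} (hwS : w ∈ S) (hwu : polar ⇑Q u w = 0) (hwv : polar ⇑Q v w = 0) :
    G w = α • w := by
  by_cases hw0 : w = 0
  · rw [hw0, map_zero, smul_zero]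
  have huu : polar ⇑Q u u = 0 := by rw [polar_self, hu, smul_zero]
  have hvv : polar ⇑Q v v = 0 := by rw [polar_self, hv, smul_zero]
  have hvu : polar ⇑Q v u = 1 := by rw [polar_comm, huv]
  set s : V := u - Q w • v + w with hs
  set s' : V := u - Q w • v - w with hs'
  have hsS : s ∈ S := S.add_mem (S.sub_mem huS (S.smul_mem _ hvS)) hwS
  have hs'S : s' ∈ S := S.sub_mem (S.sub_mem huS (S.smul_mem _ hvS)) hwS
  have hQuv : Q (u - Q w • v) = - Q w := by
    have : u - Q w • v = u + (-(Q w)) • v := by module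
    rw [this, QuadraticMap.map_add ⇑Q, QuadraticMap.map_smul, hu, hv, polar_smul_right, huv]
    simp
  have hpol : polar ⇑Q (u - Q w • v) w = 0 := by
    rw [polar_sub_left, polar_smul_left, hwu, hwv, smul_zero, sub_zero]
  have hQs : Q s = 0 := by
    rw [hs, QuadraticMap.map_add ⇑Q, hQuv, hpol]
    ring
  have hQs' : Q s' = 0 := by
    have : s' = (u - Q w • v) + (-w) := by rw [hs']; abel
    rw [this, QuadraticMap.map_add ⇑Q, hQuv, QuadraticMap.map_neg, polar_neg_right, hpol]
    ring
  obtain ⟨a, ha⟩ := heig s hsS hQs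
  obtain ⟨a', ha'⟩ := heig s' hs'S hQs'
  have ha1 : G s = a • s := by
    have := ha 1
    rwa [one_smul, one_mul] at this
  have ha1' : G s' = a' • s' := by
    have := ha' 1
    rwa [one_smul, one_mul] at this
  have hGu : G u = α • u := by
    have := hα 1
    rwa [one_smul, one_mul] at this
  have hGs : G s = α • u - (Q w * β) • v + G w := by
    rw [hs, map_add, map_sub, hβ, hGu]
  have hGs' : G s' = α • u - (Q w * β) • v - G w := by
    rw [hs', map_sub, map_sub, hβ, hGu]
  -- the sum
  have hsum : (a + a' - 2 * α) • u + (-(a + a') * Q w + 2 * (Q w * β)) • v + (a - a') • w = 0 := by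
    have h1 : G s + G s' = a • s + a' • s' := by rw [ha1, ha1']
    rw [hGs, hGs', hs, hs'] at h1
    have h3 : (a + a' - 2 * α) • u + (-(a + a') * Q w + 2 * (Q w * β)) • v + (a - a') • w
        = (a • (u - Q w • v + w) + a' • (u - Q w • v - w))
          - ((α • u - (Q w * β) • v + G w) + (α • u - (Q w * β) • v - G w)) := by
      module
    rw [h3, h1, sub_self]
  have hc1 : a + a' - 2 * α = 0 := by
    have := congrArg (fun y => polar ⇑Q y v) hsum
    simp only [polar_add_left, polar_smul_left, huv, hvv, polar_comm ⇑Q w v, hwv, smul_eq_mul,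
      mul_one, mul_zero, add_zero] at this
    rw [show polar ⇑Q 0 v = 0 from by rw [polar_comm]; exact polar_zero_right Q v] at this
    exact this
  have hc2 : -(a + a') * Q w + 2 * (Q w * β) = 0 := by
    have := congrArg (fun y => polar ⇑Q y u) hsum
    simp only [polar_add_left, polar_smul_left, huu, hvu, polar_comm ⇑Q w u, hwu, smul_eq_mul,
      mul_one, mul_zero, add_zero, zero_add] at this
    rw [show polar ⇑Q 0 u = 0 from by rw [polar_comm]; exact polar_zero_right Q u] at this
    exact this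
  have hc3 : a - a' = 0 := by
    rw [hc1, hc2, zero_smul, zero_smul, zero_add, zero_add] at hsum
    rcases smul_eq_zero.1 hsum with h | h
    · exact h
    · exact absurd h hw0
  have haa : a' = a := (sub_eq_zero.1 hc3).symm
  have haα : a = α := by
    rw [haa] at hc1
    have : 2 * (a - α) = 0 := by linear_combination hc1
    rcases mul_eq_zero.1 this with h | h
    · exact absurd h h2
    · exact sub_eq_zero.1 h
  -- the difference
  have hdiff : (2 : F) • G w = (2 : F) • (α • w) := by
    have h1 : G s - G s' = a • s - a' • s' := by rw [ha1, ha1']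
    rw [hGs, hGs', hs, hs', haa, haα] at h1
    have h3 : (2 : F) • G w = (α • u - (Q w * β) • v + G w) - (α • u - (Q w * β) • v - G w) := by
      module
    rw [h3, h1]
    module
  have := smul_right_injective V h2 hdiff
  exact this

/-- an additive map which acts as a scalar on every singular line of a subspace `S` containing a
hyperbolic pair `u, v` and a non-zero vector orthogonal to both is a scalar on `S` -/
theorem smul_of_eigen (Q : QuadraticForm F V) (h2 : (2 : F) ≠ 0) (G : V →+ V)
    (S : Submodule F V) {u v w₀ : V} (hu : Q u = 0) (hv : Q v = 0) (huv : polar ⇑Q u v = 1)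
    (huS : u ∈ S) (hvS : v ∈ S) (hw₀S : w₀ ∈ S) (hw₀u : polar ⇑Q u w₀ = 0)
    (hw₀v : polar ⇑Q v w₀ = 0) (hw₀ : w₀ ≠ 0)
    (heig : ∀ s ∈ S, Q s = 0 → ∃ a : F, ∀ c : F, G (c • s) = (c * a) • s) :
    ∃ a : F, ∀ x ∈ S, G x = a • x := by
  obtain ⟨α, hα⟩ := heig u huS hu
  obtain ⟨β, hβ⟩ := heig v hvS hv
  have hvu : polar ⇑Q v u = 1 := by rw [polar_comm, huv]
  have huu : polar ⇑Q u u = 0 := by rw [polar_self, hu, smul_zero]
  have hvv : polar ⇑Q v v = 0 := by rw [polar_self, hv, smul_zero]
  have h1 := smul_of_eigen_aux Q h2 G S hu hv huv huS hvS heig hα hβ hw₀S hw₀u hw₀v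
  have h1' := smul_of_eigen_aux Q h2 G S hv hu hvu hvS huS heig hβ hα hw₀S hw₀v hw₀u
  have hαβ : α = β := by
    have : (α - β) • w₀ = 0 := by rw [sub_smul, ← h1, ← h1', sub_self]
    rcases smul_eq_zero.1 this with h | h
    · exact sub_eq_zero.1 h
    · exact absurd h hw₀
  subst hαβ
  refine ⟨α, fun x hx => ?_⟩
  set w : V := x - polar ⇑Q v x • u - polar ⇑Q u x • v with hw
  have hwS : w ∈ S := S.sub_mem (S.sub_mem hx (S.smul_mem _ huS)) (S.smul_mem _ hvS)
  have hwu : polar ⇑Q u w = 0 := by
    rw [hw, polar_sub_right, polar_sub_right, polar_smul_right, polar_smul_right, huu, huv]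
    simp
  have hwv : polar ⇑Q v w = 0 := by
    rw [hw, polar_sub_right, polar_sub_right, polar_smul_right, polar_smul_right, hvu, hvv]
    simp
  have hGw := smul_of_eigen_aux Q h2 G S hu hv huv huS hvS heig hα hβ hwS hwu hwv
  have hx' : x = w + polar ⇑Q v x • u + polar ⇑Q u x • v := by rw [hw]; abel
  conv_lhs => rw [hx']
  rw [map_add, map_add, hGw, hα, hβ]
  conv_rhs => rw [hx']
  module

end Cfsg.Agent.Helper5.Bal
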