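import Mathlib
import Cfsg.Agent.Helper5.OrthPrim
import Cfsg.Agent.Helper5.AutOA
import Cfsg.Agent.Helper44.SingGeom

/-!
# Local balance for graph involutions of `PΩ⁻`, part B: primitivity on singular points in
dimension three

`Q : QuadraticForm F (ι → F)` with non-degenerate polar form, `card ι = 3`.  Any subgroup `H` of
the isometry group containing all Eichler transformations acts primitively on singular points.
-/

set_option autoImplicit false
set_option linter.unusedSectionVars false
set_option linter.unusedSimpArgs false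

namespace Cfsg.Agent.Helper5.Bal

open Matrix QuadraticMap Module MulAction Cfsg.Agent.Helper44 Cfsg.Agent.Helper45.OmegaParity
  Cfsg.Agent.Helper5
open scoped LinearAlgebra.Projectivization Pointwise

variable {F : Type*} [Field F] {ι : Type} [Fintype ι] [DecidableEq ι]
variable (Q : QuadraticForm F (ι → F))
variable (hQ : (QuadraticMap.polarBilin Q).Nondegenerate) (h3 : Fintype.card ι = 3)

include hQ h3 in
/-- in dimension three, orthogonal singular vectors are proportional -/
theorem smul_of_singular_perp_three {u v : ι → F} (hu0 : u ≠ 0) (hu : Q u = 0) (hv : Q v = 0)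
    (huv : polar ⇑Q u v = 0) : ∃ c : F, v = c • u := by
  set Bf : LinearMap.BilinForm F (ι → F) := QuadraticMap.polarBilin Q with hB
  set S := Submodule.span F {u, v} with hS
  have huu : polar ⇑Q u u = 0 := polar_self_of_singular Q hu
  have hvv : polar ⇑Q v v = 0 := polar_self_of_singular Q hv
  have hvu : polar ⇑Q v u = 0 := by rw [QuadraticMap.polar_comm]; exact huv
  have hle : S ≤ Bf.orthogonal S := by
    rw [hS, Submodule.span_le]
    intro x hx
    rw [SetLike.mem_coe, mem_orthogonal_span_pair]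
    rcases hx with rfl | rfl
    · exact ⟨huu, hvu⟩
    · exact ⟨huv, hvv⟩
  have h1 : finrank F (Bf.orthogonal S) = finrank F (ι → F) - finrank F S :=
    LinearMap.BilinForm.finrank_orthogonal hQ S
  have h2 := Submodule.finrank_mono hle
  have hV : finrank F (ι → F) = 3 := by rw [Module.finrank_fintype_fun_eq_card, h3]
  have hS1 : finrank F S ≤ 1 := by omega
  have hu1 : finrank F (Submodule.span F {u}) = 1 := finrank_span_singleton hu0
  have hle' : Submodule.span F {u} ≤ S := Submodule.span_mono (by simp)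
  have heq : Submodule.span F {u} = S := Submodule.eq_of_le_of_finrank_le hle' (by omega)
  have hv' : v ∈ Submodule.span F {u} := by
    rw [heq]
    exact Submodule.subset_span (by simp)
  obtain ⟨c, hc⟩ := Submodule.mem_span_singleton.1 hv'
  exact ⟨c, hc.symm⟩

include hQ h3 in
/-- a singular vector non-orthogonal to two given singular vectors -/
theorem exists_singular_nonperp_both_three {u v : ι → F} (hu0 : u ≠ 0) (hv0 : v ≠ 0)
    (hu : Q u = 0) (hv : Q v = 0) : ∃ z, Q z = 0 ∧ polar ⇑Q z u ≠ 0 ∧ polar ⇑Q z v ≠ 0 := by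
  by_cases huv : polar ⇑Q u v = 0
  · obtain ⟨c, hc⟩ := smul_of_singular_perp_three Q hQ h3 hu0 hu hv huv
    have hc0 : c ≠ 0 := by
      rintro rfl
      rw [zero_smul] at hc
      exact hv0 hc
    obtain ⟨z₀, hz1⟩ := exists_polar_ne_zero Q hQ hu0
    have hz1' : polar ⇑Q z₀ u ≠ 0 := by rw [QuadraticMap.polar_comm]; exact hz1
    obtain ⟨d, hd⟩ := exists_singular_add_smul Q hu hz1'
    have hzu : polar ⇑Q (z₀ + d • u) u ≠ 0 := by
      rw [QuadraticMap.polar_add_left, QuadraticMap.polar_smul_left, polar_self_of_singular Q hu,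
        smul_zero, add_zero]
      exact hz1'
    refine ⟨z₀ + d • u, hd, hzu, ?_⟩
    rw [hc, QuadraticMap.polar_smul_right, smul_eq_mul]
    exact mul_ne_zero hc0 hzu
  · obtain ⟨x, hx0, hxs⟩ := AutO.exists_ne_zero_orth Q (![u, v] : Fin 2 → (ι → F))
      (by rw [h3]; norm_num)
    have hxu : polar ⇑Q x u = 0 := hxs 0
    have hxv : polar ⇑Q x v = 0 := hxs 1
    have hx : Q x ≠ 0 := by
      intro hx
      have hux : polar ⇑Q u x = 0 := by rw [QuadraticMap.polar_comm]; exact hxu
      obtain ⟨c, hc⟩ := smul_of_singular_perp_three Q hQ h3 hu0 hu hx hux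
      have hc0 : c ≠ 0 := by
        rintro rfl
        rw [zero_smul] at hc
        exact hx0 hc
      rw [hc, QuadraticMap.polar_smul_left, smul_eq_mul] at hxv
      rcases mul_eq_zero.1 hxv with h | h
      · exact hc0 h
      · exact huv h
    set b : F := -(Q x) / polar ⇑Q u v with hb
    have hb0 : b ≠ 0 := div_ne_zero (neg_ne_zero.2 hx) huv
    refine ⟨x + (u + b • v), ?_, ?_, ?_⟩
    · have e1 : Q (u + b • v) = b * polar ⇑Q u v := by
        rw [QuadraticMap.map_add ⇑Q, QuadraticMap.map_smul, hu, hv, QuadraticMap.polar_smul_right]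
        simp
      have e2 : polar ⇑Q x (u + b • v) = 0 := by
        rw [QuadraticMap.polar_add_right, QuadraticMap.polar_smul_right, hxu, hxv]
        simp
      rw [QuadraticMap.map_add ⇑Q, e1, e2, hb]
      field_simp
      ring
    · rw [QuadraticMap.polar_add_left, QuadraticMap.polar_add_left, QuadraticMap.polar_smul_left,
        hxu, polar_self_of_singular Q hu, QuadraticMap.polar_comm ⇑Q v u]
      simp only [smul_eq_mul, zero_add]
      exact mul_ne_zero hb0 huv
    · rw [QuadraticMap.polar_add_left, QuadraticMap.polar_add_left, QuadraticMap.polar_smul_left,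
        hxv, polar_self_of_singular Q hv]
      simp only [smul_eq_mul, mul_zero, add_zero, zero_add]
      exact huv

variable (H : Subgroup (Cfsg.isometryGroup F ⇑Q))
variable (hE : ∀ u w : ι → F, eichlerO Q u w ∈ H)

include hQ h3 hE in
theorem isPretransitive_singPt_three : IsPretransitive H (SingPt Q) := by
  constructor
  intro p q
  obtain ⟨u, hu0, hu, rfl⟩ := exists_sp Q p
  obtain ⟨v, hv0, hv, rfl⟩ := exists_sp Q q
  obtain ⟨z, hz, hzu, hzv⟩ := exists_singular_nonperp_both_three Q hQ h3 hu0 hv0 hu hv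
  set c : F := polar ⇑Q z u / polar ⇑Q z v with hc
  have hc0 : c ≠ 0 := div_ne_zero hzu hzv
  have hcv : Q (c • v) = 0 := by rw [QuadraticMap.map_smul, hv, smul_zero]
  have h' : polar ⇑Q z (c • v) = polar ⇑Q z u := by
    rw [QuadraticMap.polar_smul_right, hc, smul_eq_mul, div_mul_cancel₀ _ hzv]
  obtain ⟨h1, h2⟩ := eichlerO_map Q hz hu hcv rfl h' hzu
  set w := (polar ⇑Q z u)⁻¹ • (u - c • v) with hw
  refine ⟨⟨eichlerO Q z w, hE z w⟩, ?_⟩
  obtain ⟨h0, h1', e⟩ := smul_sp Q H ⟨eichlerO Q z w, hE z w⟩ u hu0 hu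
  rw [e]
  exact sp_eq_sp_of_smul Q hv0 hv h0 h1' h2

include hQ h3 hE in
theorem isPreprimitive_singPt_three : IsPreprimitive H (SingPt Q) := by
  have := isPretransitive_singPt_three Q hQ h3 H hE
  refine ⟨fun {Δ} hΔ => ?_⟩
  by_cases hsub : Δ.Subsingleton
  · exact Or.inl hsub
  right
  rw [Set.not_subsingleton_iff] at hsub
  obtain ⟨p, hp, p', hp', hne⟩ := hsub
  obtain ⟨u, hu0, hu, rfl⟩ := exists_sp Q p
  obtain ⟨v, hv0, hv, rfl⟩ := exists_sp Q p'
  have huv : polar ⇑Q u v ≠ 0 := by
    intro huv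
    obtain ⟨c, hc⟩ := smul_of_singular_perp_three Q hQ h3 hu0 hu hv huv
    exact hne (sp_eq_sp_of_smul Q hu0 hu hv0 hv hc).symm
  rw [Set.eq_univ_iff_forall]
  intro q
  obtain ⟨y, hy0, hy, rfl⟩ := exists_sp Q q
  by_cases huy : polar ⇑Q u y = 0
  · obtain ⟨c, hc⟩ := smul_of_singular_perp_three Q hQ h3 hu0 hu hy huy
    rw [sp_eq_sp_of_smul Q hu0 hu hy0 hy hc]
    exact hp
  · exact block_claim1' Q H hE hΔ hu0 hv0 hy0 hu hv hy hp hp' huv huy

end Cfsg.Agent.Helper5.Bal
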