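import Mathlib
import Cfsg.Agent.Helper5.BalB
import Cfsg.Agent.Helper5.Count
import Cfsg.Agent.Helper44.OrthOddA

/-!
# Local balance for graph involutions of `PΩ⁻`, part C: the number of singular points of an
odd-dimensional quadric is even; a group transitive on an even number of points has an element all
of whose odd powers move a point
-/

set_option autoImplicit false
set_option linter.unusedSectionVars false
set_option linter.unusedSimpArgs false

namespace Cfsg.Agent.Helper5.Bal

open Matrix QuadraticMap Module MulAction Cfsg.Agent.Helper44 Cfsg.Agent.Helper45.OmegaParity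
  Cfsg.Agent.Helper5
open scoped LinearAlgebra.Projectivization Pointwise

section count

variable {F : Type*} [Field F] [Fintype F]

/-- the number of zeros of the standard odd-dimensional form -/
theorem card_zeros_quadFormOdd (m : ℕ) (hm : 1 ≤ m) :
    Nat.card {v : Unit ⊕ (Fin m ⊕ Fin m) → F // Cfsg.quadFormOdd m F v = 0}
      = Fintype.card F ^ (2 * m) := by
  classical
  set q := Fintype.card F with hq
  have e : {v : Unit ⊕ (Fin m ⊕ Fin m) → F // Cfsg.quadFormOdd m F v = 0}
      ≃ Σ t : F, {w : Fin m ⊕ Fin m → F // Cfsg.quadFormPlus m F w = -(t ^ 2)} :=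
    { toFun := fun v => ⟨v.1 (Sum.inl ()), ⟨v.1 ∘ Sum.inr, by
        have := v.2
        rw [quadFormOdd_eq] at this
        exact eq_neg_of_add_eq_zero_right this⟩⟩
      invFun := fun p => ⟨Sum.elim (fun _ => p.1) p.2.1, by
        rw [quadFormOdd_eq]
        have h1 : (Sum.elim (fun _ : Unit => p.1) p.2.1) ∘ Sum.inr = p.2.1 := by
          funext j
          simp
        rw [h1, p.2.2]
        simp⟩
      left_inv := by
        rintro ⟨v, hv⟩
        apply Subtype.ext
        funext j
        rcases j with j | j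
        · cases j
          rfl
        · rfl
      right_inv := by
        rintro ⟨t, w, hw⟩
        rfl }
  rw [Nat.card_congr e, Nat.card_sigma]
  have hf : ∀ t : F, Nat.card {w : Fin m ⊕ Fin m → F // Cfsg.quadFormPlus m F w = -(t ^ 2)}
      = (q ^ m - 1) * q ^ (m - 1) + (if t = 0 then q ^ m else 0) := by
    intro t
    by_cases ht : t = 0
    · rw [if_pos ht, ht]
      have : -((0 : F) ^ 2) = 0 := by simp
      rw [this, card_quadFormPlus_zero, add_comm]
    · rw [if_neg ht, add_zero]
      exact card_quadFormPlus_ne_zero m _ (neg_ne_zero.2 (pow_ne_zero 2 ht))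
  rw [Finset.sum_congr rfl (fun t _ => hf t), Finset.sum_add_distrib, Finset.sum_const,
    Finset.card_univ, Finset.sum_ite_eq' Finset.univ (0 : F) (fun _ => q ^ m), smul_eq_mul]
  simp only [Finset.mem_univ, if_true]
  have hq1 : 1 ≤ q ^ m := Nat.one_le_pow _ _ Fintype.card_pos
  obtain ⟨k, rfl⟩ : ∃ k, m = k + 1 := ⟨m - 1, by omega⟩
  have h1 : q * ((q ^ (k + 1) - 1) * q ^ (k + 1 - 1)) = (q ^ (k + 1) - 1) * q ^ (k + 1) := by
    rw [Nat.add_sub_cancel, pow_succ q k]
    ring
  have h2 : (q ^ (k + 1) - 1) * q ^ (k + 1) + q ^ (k + 1) = (q ^ (k + 1) - 1 + 1) * q ^ (k + 1) := by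
    ring
  rw [h1, h2, Nat.sub_add_cancel hq1, ← pow_add, two_mul]

variable {ι : Type} [Fintype ι] [DecidableEq ι] (Q : QuadraticForm F (ι → F))

/-- the number of zeros of a non-degenerate quadratic form in odd dimension `2m+1` -/
theorem card_zeros_of_odd (hQ : (QuadraticMap.polarBilin Q).Nondegenerate) {m : ℕ} (hm : 1 ≤ m)
    (hcard : Fintype.card ι = 2 * m + 1) :
    Nat.card {v : ι → F // Q v = 0} = Fintype.card F ^ (2 * m) := by
  obtain ⟨a, g, ha, hg⟩ := QType.exists_similarity_odd Q (m := m)
    (by rw [Module.finrank_fintype_fun_eq_card, hcard]) (fun x hx => hQ.1 x hx)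
  rw [← card_zeros_quadFormOdd m hm]
  refine Nat.card_congr (g.toEquiv.subtypeEquiv ?_)
  intro v
  show Q v = 0 ↔ Cfsg.quadFormOdd m F (g v) = 0
  rw [← hg v, mul_eq_zero]
  constructor
  · rintro (h | h)
    · exact absurd h ha
    · exact h
  · intro h
    exact Or.inr h

instance finite_singPt : Finite (SingPt Q) :=
  Finite.of_injective (fun p : SingPt Q => p.pt) (fun _ _ h => SingPt.ext' h)

/-- non-zero singular vectors are pairs (singular point, non-zero scalar) -/
theorem card_singPt_mul :
    Nat.card (SingPt Q) * (Fintype.card F - 1) + 1 = Nat.card {v : ι → F // Q v = 0} := by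
  classical
  -- the nonzero singular vectors
  have e : (SingPt Q × Fˣ) ≃ {v : {v : ι → F // Q v = 0} // v ≠ ⟨0, map_zero Q⟩} := by
    refine Equiv.ofBijective (fun pc => ⟨⟨(pc.2 : F) • pc.1.pt.rep, by
      rw [QuadraticMap.map_smul, pc.1.sing, smul_zero]⟩, ?_⟩) ⟨?_, ?_⟩
    · intro h
      have h1 : (pc.2 : F) • pc.1.pt.rep = 0 := congrArg Subtype.val h
      rcases smul_eq_zero.1 h1 with h2 | h2
      · exact pc.2.ne_zero h2
      · exact pc.1.pt.rep_nonzero h2
    · rintro ⟨p, c⟩ ⟨p', c'⟩ h
      have h1 : (c : F) • p.pt.rep = (c' : F) • p'.pt.rep := by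
        have := congrArg (fun x : {v : {v : ι → F // Q v = 0} // v ≠ ⟨0, map_zero Q⟩} => x.1.1) h
        exact this
      have hp : p = p' := by
        apply SingPt.ext'
        rw [← Projectivization.mk_rep p.pt, ← Projectivization.mk_rep p'.pt,
          Projectivization.mk_eq_mk_iff]
        refine ⟨c⁻¹ * c', ?_⟩
        show ((c⁻¹ * c' : Fˣ) : F) • p'.pt.rep = p.pt.rep
        rw [Units.val_mul, mul_smul, ← h1, smul_smul, Units.val_inv_eq_inv_val,
          inv_mul_cancel₀ c.ne_zero, one_smul]
      subst hp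
      have hc : (c : F) = c' := by
        have h2 : ((c : F) - c') • p.pt.rep = 0 := by rw [sub_smul, h1, sub_self]
        rcases smul_eq_zero.1 h2 with h3 | h3
        · exact sub_eq_zero.1 h3
        · exact absurd h3 p.pt.rep_nonzero
      rw [Units.ext hc]
    · rintro ⟨⟨v, hv⟩, hv0⟩
      have hv0' : v ≠ 0 := fun h => hv0 (Subtype.ext h)
      obtain ⟨a, ha⟩ := Projectivization.exists_smul_eq_mk_rep F v hv0'
      refine ⟨(sp Q v hv0' hv, a⁻¹), ?_⟩
      apply Subtype.ext
      apply Subtype.ext
      show ((a⁻¹ : Fˣ) : F) • (Projectivization.mk F v hv0').rep = v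
      rw [← ha]
      show ((a⁻¹ : Fˣ) : F) • ((a : F) • v) = v
      rw [smul_smul, Units.val_inv_eq_inv_val, inv_mul_cancel₀ a.ne_zero, one_smul]
  have h1 := Nat.card_congr e
  rw [Nat.card_prod, Nat.card_units, Nat.card_eq_fintype_card (α := F)] at h1
  rw [h1]
  have h2 : Nat.card {v : {v : ι → F // Q v = 0} // v ≠ ⟨0, map_zero Q⟩}
      = Nat.card {v : ι → F // Q v = 0} - 1 := by
    rw [Nat.card_eq_fintype_card, Nat.card_eq_fintype_card, Fintype.card_subtype_compl,
      Fintype.card_subtype_eq]
  rw [h2]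
  have h3 : 0 < Nat.card {v : ι → F // Q v = 0} := by
    rw [Nat.card_pos_iff]
    exact ⟨⟨⟨0, map_zero Q⟩⟩, inferInstance⟩
  omega

/-- the number of singular points of a non-degenerate quadric in odd dimension `≥ 3` over a field
of odd order is even -/
theorem even_card_singPt (hodd : Odd (Fintype.card F))
    (hQ : (QuadraticMap.polarBilin Q).Nondegenerate) {m : ℕ} (hm : 1 ≤ m)
    (hcard : Fintype.card ι = 2 * m + 1) : Even (Nat.card (SingPt Q)) := by
  have h1 := card_singPt_mul Q
  rw [card_zeros_of_odd Q hQ hm hcard] at h1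
  set q := Fintype.card F with hq
  set s := Nat.card (SingPt Q) with hs
  have hq2 : 2 ≤ q := Fintype.one_lt_card
  obtain ⟨G, hG⟩ : q - 1 ∣ q ^ m - 1 := by
    simpa only [one_pow] using Nat.sub_dvd_pow_sub_pow q 1 m
  have hqm : 1 ≤ q ^ m := Nat.one_le_pow _ _ (by omega)
  have h2 : q ^ (2 * m) = (q ^ m - 1) * (q ^ m + 1) + 1 := by
    rw [two_mul, pow_add]
    obtain ⟨t, ht⟩ : ∃ t, q ^ m = t + 1 := ⟨q ^ m - 1, by omega⟩
    rw [ht, Nat.add_sub_cancel]
    ring
  rw [h2, hG] at h1
  have h3 : s * (q - 1) = (q - 1) * (G * (q ^ m + 1)) := by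
    have : s * (q - 1) = (q - 1) * G * (q ^ m + 1) := by omega
    rw [this, mul_assoc]
  have h4 : s = G * (q ^ m + 1) := by
    have hpos : 0 < q - 1 := by omega
    rw [mul_comm s] at h3
    exact Nat.eq_of_mul_eq_mul_left hpos h3
  rw [h4]
  apply Even.mul_left
  have : Odd (q ^ m) := hodd.pow
  exact this.add_one

end count

section transitive

/-- a finite group acting transitively on a non-empty set of even size contains an element all of
whose odd powers move some point -/
theorem exists_odd_pow_moves {N X : Type*} [Group N] [Finite N] [MulAction N X] [Finite X]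
    [IsPretransitive N X] (hX : Even (Nat.card X)) (x₀ : X) :
    ∃ g : N, ∀ r : ℕ, Odd r → ∃ p : X, g ^ r • p ≠ p := by
  classical
  set φ : N →* Equiv.Perm X := MulAction.toPermHom N X with hφ
  set R : Subgroup (Equiv.Perm X) := φ.range with hR
  have : Finite R := Finite.of_surjective φ.rangeRestrict φ.rangeRestrict_surjective
  have : IsPretransitive R X := by
    constructor
    intro x y
    obtain ⟨g, hg⟩ := MulAction.exists_smul_eq N x y
    exact ⟨⟨φ g, ⟨g, rfl⟩⟩, hg⟩
  have h1 : Nat.card X ∣ Nat.card R := by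
    rw [← MulAction.index_stabilizer_of_transitive R x₀]
    exact Subgroup.index_dvd_card _
  have h2 : 2 ∣ Nat.card R := (even_iff_two_dvd.1 hX).trans h1
  have : Fact (Nat.Prime 2) := ⟨Nat.prime_two⟩
  obtain ⟨π, hπ⟩ := exists_prime_orderOf_dvd_card' 2 h2
  obtain ⟨g, hg⟩ := π.2
  refine ⟨g, fun r hr => ?_⟩
  by_contra hcon
  push Not at hcon
  have h3 : φ (g ^ r) = 1 := by
    ext p
    exact hcon p
  rw [map_pow, hg] at h3
  have h4 : π ^ r = 1 := Subtype.ext h3
  have h5 : orderOf π ∣ r := orderOf_dvd_of_pow_eq_one h4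
  rw [hπ] at h5
  exact (Nat.not_even_iff_odd.2 hr) (even_iff_two_dvd.2 h5)

end transitive

end Cfsg.Agent.Helper5.Bal
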