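import Mathlib
import Cfsg.Agent.Helper5.BalA
import Cfsg.Agent.Helper5.BalC
import Cfsg.Agent.Helper5.OrthSimple
import Cfsg.Agent.Helper44.Witt

/-!
# Local balance for graph involutions of `PΩ⁻`, part D: normal subgroups of "odd order" of a group
of isometries containing the Eichler transformations (odd dimension, odd characteristic) fix all
singular points, hence consist of scalars
-/

set_option autoImplicit false
set_option linter.unusedSectionVars false
set_option linter.unusedSimpArgs false

namespace Cfsg.Agent.Helper5.Bal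

open Matrix QuadraticMap Module MulAction Cfsg.Agent.Helper44 Cfsg.Agent.Helper45.OmegaParity
  Cfsg.Agent.Helper5
open scoped LinearAlgebra.Projectivization Pointwise

variable {F : Type*} [Field F] [Fintype F] {ι : Type} [Fintype ι] [DecidableEq ι]
variable (Q : QuadraticForm F (ι → F))

/-- an isometry fixing all singular points is a scalar (dimension at least three, odd
characteristic) -/
theorem exists_scalar_of_fixes_three (h2 : (2 : F) ≠ 0)
    (hQ : (QuadraticMap.polarBilin Q).Nondegenerate) (h3 : 3 ≤ Fintype.card ι)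
    (g : Cfsg.isometryGroup F ⇑Q) (hg : ∀ p : SingPt Q, g • p = p) :
    ∃ a : F, ∀ x, lin Q g x = a • x := by
  obtain ⟨u, hu0, hu⟩ := Cfsg.Agent.Helper44.exists_singular Q
    (by rw [Module.finrank_fintype_fun_eq_card]; exact h3)
  obtain ⟨f, hf, huf⟩ := exists_hyperbolic_partner Q (fun x hx => hQ.1 x hx) u hu0 hu
  obtain ⟨w₀, hw₀, hw₀s⟩ := AutO.exists_ne_zero_orth Q (![u, f] : Fin 2 → (ι → F)) (by omega)
  have hw₀u : polar ⇑Q u w₀ = 0 := by rw [QuadraticMap.polar_comm]; exact hw₀s 0
  have hw₀f : polar ⇑Q f w₀ = 0 := by rw [QuadraticMap.polar_comm]; exact hw₀s 1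
  obtain ⟨a, ha⟩ := smul_of_eigen Q h2 (lin Q g).toAddMonoidHom ⊤ hu hf huf
    Submodule.mem_top Submodule.mem_top Submodule.mem_top hw₀u hw₀f hw₀ (by
      intro s _ hs
      by_cases hs0 : s = 0
      · refine ⟨0, fun c => ?_⟩
        rw [hs0, smul_zero, smul_zero, map_zero]
      · obtain ⟨a, ha⟩ := exists_smul_of_fixes Q g hg hs0 hs
        refine ⟨a, fun c => ?_⟩
        show lin Q g (c • s) = (c * a) • s
        rw [map_smul, ha, smul_smul])
  exact ⟨a, fun x => ha x Submodule.mem_top⟩

/-- primitivity on singular points in odd dimension at least three -/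
theorem isPreprimitive_singPt_odd (hQ : (QuadraticMap.polarBilin Q).Nondegenerate) {m : ℕ}
    (hm : 1 ≤ m) (hcard : Fintype.card ι = 2 * m + 1)
    (H : Subgroup (Cfsg.isometryGroup F ⇑Q)) (hE : ∀ u w : ι → F, eichlerO Q u w ∈ H) :
    IsPreprimitive H (SingPt Q) := by
  rcases Nat.lt_or_ge m 2 with h | h
  · exact isPreprimitive_singPt_three Q hQ (by omega) H hE
  · exact isPreprimitive_singPt Q H hQ (by omega) hE

/-- **no normal subgroups of odd order**: a normal subgroup `N` of a group `H` of isometries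
containing the Eichler transformations, each element of which has an odd power fixing all singular
points, fixes all singular points -/
theorem smul_eq_of_normal_of_odd (hodd : Odd (Fintype.card F))
    (hQ : (QuadraticMap.polarBilin Q).Nondegenerate) {m : ℕ}
    (hm : 1 ≤ m) (hcard : Fintype.card ι = 2 * m + 1)
    (H : Subgroup (Cfsg.isometryGroup F ⇑Q)) (hE : ∀ u w : ι → F, eichlerO Q u w ∈ H)
    (N : Subgroup ↥H) [N.Normal]
    (hN : ∀ g ∈ N, ∃ r : ℕ, Odd r ∧ ∀ p : SingPt Q, (g ^ r) • p = p) :
    ∀ g ∈ N, ∀ p : SingPt Q, g • p = p := by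
  have hprim := isPreprimitive_singPt_odd Q hQ hm hcard H hE
  have hq := hprim.isQuasiPreprimitive
  by_contra hcon
  push Not at hcon
  obtain ⟨g₀, hg₀, p₀, hp₀⟩ := hcon
  have hfix : fixedPoints (↥N) (SingPt Q) ≠ Set.univ := by
    intro h
    have : p₀ ∈ fixedPoints (↥N) (SingPt Q) := by rw [h]; trivial
    exact hp₀ (this ⟨g₀, hg₀⟩)
  have htr : IsPretransitive (↥N) (SingPt Q) := hq.isPretransitive_of_normal hfix
  have heven := even_card_singPt Q hodd hQ hm hcard
  obtain ⟨g, hg⟩ := exists_odd_pow_moves (N := ↥N) (X := SingPt Q) heven p₀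
  obtain ⟨r, hr, hfixr⟩ := hN g.1 g.2
  obtain ⟨p, hp⟩ := hg r hr
  exact hp (hfixr p)

end Cfsg.Agent.Helper5.Bal
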