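import Mathlib
import Cfsg.Agent.Helper5.EichlerO
import Cfsg.Agent.Helper45.OmegaTrans2

/-!
# Local balance for graph involutions of `PΩ⁻`, part E: restriction of isometries to an invariant
subspace, read in coordinates

`S` a subspace of `ι → F`, `b : (κ → F) ≃ₗ S` coordinates, `Q₁ = Q ∘ b`.  The stabiliser of `S` in
the isometry group of `Q` maps to the isometry group of `Q₁`; Eichler transformations with
parameters in `S` restrict to Eichler transformations.
-/

set_option autoImplicit false
set_option linter.unusedSectionVars false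
set_option linter.unusedSimpArgs false

namespace Cfsg.Agent.Helper5.Bal

open Matrix QuadraticMap Module Cfsg.Agent.Helper44 Cfsg.Agent.Helper45.OmegaParity
  Cfsg.Agent.Helper5

variable {F : Type*} [Field F] {ι κ : Type} [Fintype ι] [DecidableEq ι] [Fintype κ]
  [DecidableEq κ]
variable (Q : QuadraticForm F (ι → F)) (S : Submodule F (ι → F))

/-- the isometries preserving the subspace `S` -/
def stab : Subgroup (Cfsg.isometryGroup F ⇑Q) where
  carrier := {g | ∀ x, lin Q g x ∈ S ↔ x ∈ S}
  mul_mem' := by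
    intro g h hg hh x
    rw [lin_mul_apply, hg, hh]
  one_mem' := by
    intro x
    rw [lin_one_apply]
  inv_mem' := by
    intro g hg x
    rw [← hg (lin Q g⁻¹ x), lin_apply_inv]

theorem mem_stab {g : Cfsg.isometryGroup F ⇑Q} :
    g ∈ stab Q S ↔ ∀ x, lin Q g x ∈ S ↔ x ∈ S := Iff.rfl

variable {Q S}

theorem lin_mem_of_mem_stab {g : Cfsg.isometryGroup F ⇑Q} (hg : g ∈ stab Q S) {x : ι → F}
    (hx : x ∈ S) : lin Q g x ∈ S := (hg x).2 hx

variable (Q₁ : QuadraticForm F (κ → F)) (b : (κ → F) ≃ₗ[F] ↥S)

/-- restriction of an element of the stabiliser, in coordinates, as a linear map -/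
noncomputable def resLin (g : ↥(stab Q S)) : (κ → F) →ₗ[F] (κ → F) :=
  b.symm.toLinearMap ∘ₗ ((lin Q g.1).restrict (fun _ hx => lin_mem_of_mem_stab g.2 hx))
    ∘ₗ b.toLinearMap

theorem coe_resLin (g : ↥(stab Q S)) (x : κ → F) :
    ((b (resLin b g x) : ↥S) : ι → F) = lin Q g.1 (b x) := by
  unfold resLin
  rw [LinearMap.comp_apply, LinearMap.comp_apply, LinearEquiv.coe_coe, LinearEquiv.coe_coe,
    LinearEquiv.apply_symm_apply]
  rfl

theorem resLin_mul (g h : ↥(stab Q S)) (x : κ → F) :
    resLin b (g * h) x = resLin b g (resLin b h x) := by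
  apply b.injective
  apply Subtype.ext
  rw [coe_resLin, coe_resLin, coe_resLin, Subgroup.coe_mul, lin_mul_apply]

theorem resLin_one (x : κ → F) : resLin b (1 : ↥(stab Q S)) x = x := by
  apply b.injective
  apply Subtype.ext
  rw [coe_resLin, Subgroup.coe_one, lin_one_apply]

/-- restriction of an element of the stabiliser, in coordinates, as a linear equivalence -/
noncomputable def resEquiv (g : ↥(stab Q S)) : (κ → F) ≃ₗ[F] (κ → F) :=
  LinearEquiv.ofLinearMap (resLin b g) (resLin b g⁻¹)
    (by
      apply LinearMap.ext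
      intro x
      rw [LinearMap.comp_apply, ← resLin_mul, mul_inv_cancel, resLin_one]
      rfl)
    (by
      apply LinearMap.ext
      intro x
      rw [LinearMap.comp_apply, ← resLin_mul, inv_mul_cancel, resLin_one]
      rfl)

theorem resEquiv_apply (g : ↥(stab Q S)) (x : κ → F) : resEquiv b g x = resLin b g x := rfl

variable (hb : ∀ x, Q₁ x = Q (b x : ι → F))

include hb in
theorem polar_coords (x y : κ → F) :
    polar ⇑Q₁ x y = polar ⇑Q ((b x : ↥S) : ι → F) ((b y : ↥S) : ι → F) := by
  unfold QuadraticMap.polar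
  rw [hb, hb, hb, map_add, Submodule.coe_add]

/-- **restriction homomorphism** from the stabiliser of `S` to the isometry group of the
restricted form in coordinates -/
noncomputable def resHom : ↥(stab Q S) →* Cfsg.isometryGroup F ⇑Q₁ where
  toFun g := isoOfLin Q₁ (resEquiv b g) (fun v => by
    rw [resEquiv_apply, hb, coe_resLin, lin_isometry, ← hb])
  map_one' := by
    apply isom_ext
    intro x
    rw [lin_isoOfLin, resEquiv_apply, resLin_one, lin_one_apply]
  map_mul' g h := by
    apply isom_ext
    intro x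
    rw [lin_isoOfLin, lin_mul_apply, lin_isoOfLin, lin_isoOfLin, resEquiv_apply, resEquiv_apply,
      resEquiv_apply, resLin_mul]

theorem lin_resHom (g : ↥(stab Q S)) (x : κ → F) :
    lin Q₁ (resHom Q₁ b hb g) x = resLin b g x := by
  unfold resHom
  rw [MonoidHom.coe_mk, OneHom.coe_mk, lin_isoOfLin, resEquiv_apply]

/-- the defining property of the restriction -/
theorem coe_lin_resHom (g : ↥(stab Q S)) (x : κ → F) :
    ((b (lin Q₁ (resHom Q₁ b hb g) x) : ↥S) : ι → F) = lin Q g.1 (b x) := by
  rw [lin_resHom, coe_resLin]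

/-- Eichler transformations with parameters in `S` preserve `S` -/
theorem eichlerO_mem_stab (u w : ι → F) (hu : u ∈ S) (hw : w ∈ S) :
    eichlerO Q u w ∈ stab Q S := by
  by_cases h : Q u = 0 ∧ polar ⇑Q u w = 0
  · have key : ∀ (w' : ι → F), w' ∈ S → polar ⇑Q u w' = 0 → ∀ x, x ∈ S →
        lin Q (eichlerO Q u w') x ∈ S := by
      intro w' hw' huw' x hx
      rw [lin_eichlerO Q h.1 huw']
      exact S.sub_mem (S.sub_mem (S.add_mem hx (S.smul_mem _ hu)) (S.smul_mem _ hw'))
        (S.smul_mem _ hu)
    intro x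
    constructor
    · intro hx
      have h1 := key (-w) (S.neg_mem hw) (by rw [QuadraticMap.polar_neg_right, h.2, neg_zero])
        _ hx
      rw [← eichlerO_inv Q h.1 h.2, lin_inv_apply] at h1
      exact h1
    · exact key w hw h.2 x
  · have : eichlerO Q u w = 1 := by
      unfold eichlerO
      rw [dif_neg h]
    rw [this]
    exact (stab Q S).one_mem

include hb in
/-- Eichler transformations with parameters in `S` restrict to Eichler transformations -/
theorem resHom_eichlerO (u w : κ → F) :
    resHom Q₁ b hb ⟨eichlerO Q (b u : ι → F) (b w : ι → F),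
      eichlerO_mem_stab _ _ (b u).2 (b w).2⟩ = eichlerO Q₁ u w := by
  by_cases h : Q₁ u = 0 ∧ polar ⇑Q₁ u w = 0
  · have h' : Q ((b u : ↥S) : ι → F) = 0 ∧ polar ⇑Q ((b u : ↥S) : ι → F) ((b w : ↥S) : ι → F) = 0 := by
      rw [← hb, ← polar_coords Q₁ b hb]
      exact h
    apply isom_ext
    intro x
    apply b.injective
    apply Subtype.ext
    rw [coe_lin_resHom, lin_eichlerO Q h'.1 h'.2, lin_eichlerO Q₁ h.1 h.2]
    simp only [map_add, map_sub, map_smul, Submodule.coe_add, Submodule.coe_sub,
      Submodule.coe_smul, polar_coords Q₁ b hb, hb]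
  · have h' : ¬ (Q ((b u : ↥S) : ι → F) = 0
        ∧ polar ⇑Q ((b u : ↥S) : ι → F) ((b w : ↥S) : ι → F) = 0) := by
      rw [← hb, ← polar_coords Q₁ b hb]
      exact h
    have e1 : eichlerO Q₁ u w = 1 := by
      unfold eichlerO
      rw [dif_neg h]
    have e2 : eichlerO Q ((b u : ↥S) : ι → F) ((b w : ↥S) : ι → F) = 1 := by
      unfold eichlerO
      rw [dif_neg h']
    rw [e1]
    have : (⟨eichlerO Q (b u : ι → F) (b w : ι → F),
        eichlerO_mem_stab _ _ (b u).2 (b w).2⟩ : ↥(stab Q S)) = 1 := Subtype.ext e2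
    rw [this, map_one]

end Cfsg.Agent.Helper5.Bal
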