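import Mathlib
import Cfsg.Agent.Helper5.BalE

/-!
# Local balance for graph involutions of `PΩ⁻`, part F: the eigenspaces of an involutory isometry
-/

set_option autoImplicit false
set_option linter.unusedSectionVars false
set_option linter.unusedSimpArgs false

namespace Cfsg.Agent.Helper5.Bal

open Matrix QuadraticMap Module Cfsg.Agent.Helper44 Cfsg.Agent.Helper45.OmegaParity
  Cfsg.Agent.Helper5

variable {F : Type*} [Field F] {ι : Type} [Fintype ι] [DecidableEq ι]
variable (Q : QuadraticForm F (ι → F)) (t : Cfsg.isometryGroup F ⇑Q)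

/-- the `ε`-eigenspace of the isometry `t` -/
noncomputable def eigS (ε : F) : Submodule F (ι → F) := LinearMap.ker (lin Q t - ε • LinearMap.id)

theorem mem_eigS {ε : F} {x : ι → F} : x ∈ eigS Q t ε ↔ lin Q t x = ε • x := by
  unfold eigS
  rw [LinearMap.mem_ker, LinearMap.sub_apply, LinearMap.smul_apply, LinearMap.id_apply,
    sub_eq_zero]

variable {Q t}

/-- an isometry commuting with `t` preserves the eigenspaces of `t` -/
theorem mem_stab_eigS {s : Cfsg.isometryGroup F ⇑Q} (hs : s * t = t * s) (ε : F) :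
    s ∈ stab Q (eigS Q t ε) := by
  have key : ∀ r : Cfsg.isometryGroup F ⇑Q, r * t = t * r → ∀ x, x ∈ eigS Q t ε →
      lin Q r x ∈ eigS Q t ε := by
    intro r hr x hx
    rw [mem_eigS] at hx ⊢
    rw [← lin_mul_apply, ← hr, lin_mul_apply, hx, map_smul]
  intro x
  constructor
  · intro hx
    have hs' : s⁻¹ * t = t * s⁻¹ := by
      calc s⁻¹ * t = s⁻¹ * (t * s) * s⁻¹ := by group
        _ = s⁻¹ * (s * t) * s⁻¹ := by rw [hs]
        _ = t * s⁻¹ := by group
    have := key s⁻¹ hs' _ hx
    rwa [lin_inv_apply] at this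
  · exact key s hs x

variable (ht : t * t = 1)

include ht in
theorem lin_lin_of_invol (x : ι → F) : lin Q t (lin Q t x) = x := by
  rw [← lin_mul_apply, ht, lin_one_apply]

variable (h2 : (2 : F) ≠ 0)

include ht in
theorem add_mem_eigS_one (x : ι → F) : x + lin Q t x ∈ eigS Q t 1 := by
  rw [mem_eigS, map_add, lin_lin_of_invol ht, one_smul, add_comm]

include ht in
theorem sub_mem_eigS_neg_one (x : ι → F) : x - lin Q t x ∈ eigS Q t (-1) := by
  rw [mem_eigS, map_sub, lin_lin_of_invol ht]
  module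

include ht h2 in
/-- the two eigenspaces are complementary -/
theorem isCompl_eigS : IsCompl (eigS Q t 1) (eigS Q t (-1)) := by
  constructor
  · rw [disjoint_iff, eq_bot_iff]
    intro x hx
    obtain ⟨h1, h1'⟩ := Submodule.mem_inf.1 hx
    rw [mem_eigS] at h1 h1'
    rw [Submodule.mem_bot]
    have : (2 : F) • x = 0 := by
      have : (1 : F) • x = (-1 : F) • x := by rw [← h1, ← h1']
      rw [two_smul]
      have h3 : x = -x := by simpa using this
      nth_rewrite 2 [h3]
      exact add_neg_cancel x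
    rcases smul_eq_zero.1 this with h | h
    · exact absurd h h2
    · exact h
  · rw [codisjoint_iff, eq_top_iff]
    intro x _
    have : x = (2 : F)⁻¹ • (x + lin Q t x) + (2 : F)⁻¹ • (x - lin Q t x) := by
      have h3 : (2 : F)⁻¹ • (x + lin Q t x) + (2 : F)⁻¹ • (x - lin Q t x)
          = ((2 : F)⁻¹ * 2) • x := by module
      rw [h3, inv_mul_cancel₀ h2, one_smul]
    rw [this]
    exact Submodule.add_mem_sup (Submodule.smul_mem _ _ (add_mem_eigS_one ht x))
      (Submodule.smul_mem _ _ (sub_mem_eigS_neg_one ht x))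

include h2 in
/-- the two eigenspaces are orthogonal -/
theorem polar_eigS {x y : ι → F} (hx : x ∈ eigS Q t 1) (hy : y ∈ eigS Q t (-1)) :
    polar ⇑Q x y = 0 := by
  rw [mem_eigS] at hx hy
  have h1 := polar_lin Q t x y
  rw [hx, hy, one_smul, QuadraticMap.polar_smul_right] at h1
  have h3 : (2 : F) * polar ⇑Q x y = 0 := by
    simp only [smul_eq_mul] at h1
    linear_combination -h1
  rcases mul_eq_zero.1 h3 with h | h
  · exact absurd h h2
  · exact h

include h2 in
theorem polar_eigS' {ε : F} (hε : ε = 1 ∨ ε = -1) {x y : ι → F} (hx : x ∈ eigS Q t ε)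
    (hy : y ∈ eigS Q t (-ε)) : polar ⇑Q x y = 0 := by
  rcases hε with rfl | rfl
  · exact polar_eigS h2 hx hy
  · rw [neg_neg] at hy
    rw [QuadraticMap.polar_comm]
    exact polar_eigS h2 hy hx

include ht h2 in
/-- every vector is the sum of its components in the `ε`- and `-ε`-eigenspaces -/
theorem exists_decomp {ε : F} (hε : ε = 1 ∨ ε = -1) (x : ι → F) :
    ∃ y ∈ eigS Q t ε, ∃ z ∈ eigS Q t (-ε), x = y + z := by
  have hc := isCompl_eigS ht h2
  have hx : x ∈ eigS Q t 1 ⊔ eigS Q t (-1) := by rw [hc.sup_eq_top]; trivial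
  obtain ⟨y, hy, z, hz, hyz⟩ := Submodule.mem_sup.1 hx
  rcases hε with rfl | rfl
  · exact ⟨y, hy, z, hz, hyz.symm⟩
  · refine ⟨z, hz, y, ?_, ?_⟩
    · rw [neg_neg]; exact hy
    · rw [← hyz, add_comm]

include ht h2 in
/-- the restriction of the form to an eigenspace is non-degenerate -/
theorem eq_zero_of_polar_eigS (hQ : (QuadraticMap.polarBilin Q).Nondegenerate) {ε : F}
    (hε : ε = 1 ∨ ε = -1) {x : ι → F} (hx : x ∈ eigS Q t ε)
    (h : ∀ y ∈ eigS Q t ε, polar ⇑Q x y = 0) : x = 0 := by
  apply hQ.1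
  intro v
  obtain ⟨y, hy, z, hz, rfl⟩ := exists_decomp ht h2 hε v
  rw [QuadraticMap.polarBilin_apply_apply, QuadraticMap.polar_add_right, h y hy,
    polar_eigS' h2 hε hx hz, add_zero]

include ht h2 in
theorem finrank_eigS_add :
    finrank F (eigS Q t 1) + finrank F (eigS Q t (-1)) = Fintype.card ι := by
  rw [Submodule.finrank_add_eq_of_isCompl (isCompl_eigS ht h2),
    Module.finrank_fintype_fun_eq_card]

include ht h2 in
/-- the determinant of an involutory isometry -/
theorem det_of_invol :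
    ((t.1 : GL ι F) : Matrix ι ι F).det = (-1) ^ finrank F (eigS Q t (-1)) := by
  have hc := isCompl_eigS ht h2
  set e := Submodule.prodEquivOfIsCompl _ _ hc with he
  have h1 : lin Q t = (e : _ →ₗ[F] (ι → F)) ∘ₗ
      (LinearMap.prodMap (LinearMap.id : ↥(eigS Q t 1) →ₗ[F] ↥(eigS Q t 1))
        ((-1 : F) • (LinearMap.id : ↥(eigS Q t (-1)) →ₗ[F] ↥(eigS Q t (-1)))))
      ∘ₗ (e.symm : (ι → F) →ₗ[F] _) := by
    apply LinearMap.ext
    intro x
    obtain ⟨p, rfl⟩ := e.surjective x
    rw [LinearMap.comp_apply, LinearMap.comp_apply, LinearEquiv.coe_coe, LinearEquiv.coe_coe,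
      LinearEquiv.symm_apply_apply, he, Submodule.coe_prodEquivOfIsCompl',
      Submodule.coe_prodEquivOfIsCompl', map_add, (mem_eigS Q t).1 p.1.2, (mem_eigS Q t).1 p.2.2]
    simp
  have h3 : ((t.1 : GL ι F) : Matrix ι ι F).det = LinearMap.det (lin Q t) := by
    rw [← LinearMap.det_toLin']
    rfl
  rw [h3, h1, LinearMap.det_conj, LinearMap.det_prodMap, LinearMap.det_id, LinearMap.det_smul,
    LinearMap.det_id, one_mul, mul_one]

end Cfsg.Agent.Helper5.Bal
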