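import Mathlib
import Cfsg.Agent.Helper5.BalD
import Cfsg.Agent.Helper5.BalF
import Cfsg.Agent.Helper44.MinusForm

/-!
# Local balance for graph involutions of `PΩ⁻`, part G: a normal subgroup of "odd order" of a group
`C ≤ Ω(Q)` stabilising a non-degenerate odd-dimensional subspace `S` and containing the Eichler
transformations with parameters in `S` acts on `S` by scalars
-/

set_option autoImplicit false
set_option linter.unusedSectionVars false
set_option linter.unusedSimpArgs false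

namespace Cfsg.Agent.Helper5.Bal

open Matrix QuadraticMap Module MulAction Cfsg.Agent.Helper44 Cfsg.Agent.Helper45.OmegaParity
  Cfsg.Agent.Helper5
open scoped LinearAlgebra.Projectivization Pointwise

variable {F : Type*} [Field F] [Fintype F] {ι : Type} [Fintype ι] [DecidableEq ι]
variable (Q : QuadraticForm F (ι → F))

/-- a scalar isometry fixes every singular point -/
theorem smul_singPt_of_scalar (g : Cfsg.isometryGroup F ⇑Q) {a : F}
    (ha : ∀ x, lin Q g x = a • x) (p : SingPt Q) : g • p = p := by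
  obtain ⟨v, hv0, hv, rfl⟩ := exists_sp Q p
  obtain ⟨h0, h1, e⟩ := smul_sp Q ⊤ ⟨g, Subgroup.mem_top g⟩ v hv0 hv
  have e' : g • sp Q v hv0 hv = sp Q (lin Q g v) h0 h1 := e
  rw [e']
  exact sp_eq_sp_of_smul Q hv0 hv h0 h1 (ha v)

variable {Q}

/-- **scalar action on an odd-dimensional subspace** -/
theorem scalar_on_of_normal (hodd : Odd (Fintype.card F))
    (S : Submodule F (ι → F))
    (hSnd : ∀ x ∈ S, (∀ y ∈ S, polar ⇑Q x y = 0) → x = 0)
    {m : ℕ} (hm : 1 ≤ m) (hS : finrank F S = 2 * m + 1)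
    (C : Subgroup ↥(Cfsg.Omega F ⇑Q)) (hstab : ∀ s ∈ C, s.1 ∈ stab Q S)
    (hE : ∀ u ∈ S, ∀ w ∈ S, ∃ s ∈ C, s.1 = eichlerO Q u w)
    (M : Subgroup ↥C) [M.Normal]
    (hM : ∀ s ∈ M, ∃ r : ℕ, Odd r ∧ ∃ a : F, ∀ v, lin Q ((s ^ r : ↥C).1.1) v = a • v) :
    ∀ s ∈ M, ∃ a : F, ∀ v ∈ S, lin Q (s : ↥C).1.1 v = a • v := by
  classical
  have h2 : (2 : F) ≠ 0 := Cfsg.Agent.Helper44.two_ne_zero_of_odd_card rfl hodd
  -- coordinates
  set d := 2 * m + 1 with hd
  let b : (Fin d → F) ≃ₗ[F] ↥S := (Module.finBasisOfFinrankEq F ↥S hS).equivFun.symm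
  let Q₁ : QuadraticForm F (Fin d → F) := Q.comp (S.subtype ∘ₗ b.toLinearMap)
  have hb : ∀ x, Q₁ x = Q ((b x : ↥S) : ι → F) := fun x => rfl
  have hcard : Fintype.card (Fin d) = 2 * m + 1 := Fintype.card_fin d
  -- non-degeneracy
  have hsep : ∀ x : Fin d → F, (∀ y, polar ⇑Q₁ x y = 0) → x = 0 := by
    intro x hx
    have h1 : ((b x : ↥S) : ι → F) = 0 := by
      apply hSnd _ (b x).2
      intro y hy
      have := hx (b.symm ⟨y, hy⟩)
      rw [polar_coords Q₁ b hb, LinearEquiv.apply_symm_apply] at this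
      exact this
    have h3 : b x = 0 := Subtype.ext h1
    exact b.injective (by rw [h3, map_zero])
  have hQ₁ : (QuadraticMap.polarBilin Q₁).Nondegenerate := by
    constructor
    · intro x hx
      exact hsep x hx
    · intro y hy
      apply hsep y
      intro x
      rw [QuadraticMap.polar_comm]
      exact hy x
  -- the restriction homomorphism
  let j : ↥C →* ↥(stab Q S) :=
    { toFun := fun s => ⟨s.1.1, hstab s.1 s.2⟩
      map_one' := rfl
      map_mul' := fun _ _ => rfl }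
  let ρ : ↥C →* Cfsg.isometryGroup F ⇑Q₁ := (resHom Q₁ b hb).comp j
  have hρ : ∀ (s : ↥C) (x : Fin d → F),
      ((b (lin Q₁ (ρ s) x) : ↥S) : ι → F) = lin Q s.1.1 (b x) := by
    intro s x
    exact coe_lin_resHom Q₁ b hb (j s) x
  have hρscalar : ∀ (s : ↥C) (a : F), (∀ v, lin Q s.1.1 v = a • v) →
      ∀ x, lin Q₁ (ρ s) x = a • x := by
    intro s a ha x
    apply b.injective
    apply Subtype.ext
    rw [hρ, ha, map_smul, Submodule.coe_smul]
  set H : Subgroup (Cfsg.isometryGroup F ⇑Q₁) := ρ.range with hH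
  have hEH : ∀ u w : Fin d → F, eichlerO Q₁ u w ∈ H := by
    intro u w
    obtain ⟨s, hsC, hs⟩ := hE _ (b u).2 _ (b w).2
    refine ⟨⟨s, hsC⟩, ?_⟩
    show resHom Q₁ b hb (j ⟨s, hsC⟩) = _
    rw [← resHom_eichlerO Q₁ b hb u w]
    congr 1
    exact Subtype.ext hs
  set N : Subgroup ↥H := M.map ρ.rangeRestrict with hN
  have : N.Normal := Subgroup.Normal.map inferInstance _ ρ.rangeRestrict_surjective
  have hNfix : ∀ g ∈ N, ∃ r : ℕ, Odd r ∧ ∀ p : SingPt Q₁, (g ^ r) • p = p := by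
    rintro g ⟨s, hs, rfl⟩
    obtain ⟨r, hr, a, ha⟩ := hM s hs
    refine ⟨r, hr, fun p => ?_⟩
    rw [← map_pow]
    show ((ρ.rangeRestrict (s ^ r) : ↥H) : Cfsg.isometryGroup F ⇑Q₁) • p = p
    exact smul_singPt_of_scalar Q₁ _ (hρscalar (s ^ r) a ha) p
  have key := smul_eq_of_normal_of_odd Q₁ hodd hQ₁ hm hcard H hEH N hNfix
  intro s hs
  have hfix : ∀ p : SingPt Q₁, ρ s • p = p := by
    intro p
    exact key (ρ.rangeRestrict s) ⟨s, hs, rfl⟩ p
  obtain ⟨a, ha⟩ := exists_scalar_of_fixes_three Q₁ h2 hQ₁ (by rw [hcard]; omega) (ρ s) hfix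
  refine ⟨a, fun v hv => ?_⟩
  have h1 := hρ s (b.symm ⟨v, hv⟩)
  rw [LinearEquiv.apply_symm_apply, ha, map_smul, LinearEquiv.apply_symm_apply] at h1
  exact h1.symm

end Cfsg.Agent.Helper5.Bal
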