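import Mathlib
import Cfsg.Agent.Helper5.BalG
import Cfsg.Agent.Helper44.EichlerOmega

/-!
# Local balance for graph involutions of `PΩ⁻`, part H: the centraliser in `Ω(Q)` of an involutory
isometry with odd-dimensional eigenspaces has no normal subgroup of "odd order"
-/

set_option autoImplicit false
set_option linter.unusedSectionVars false
set_option linter.unusedSimpArgs false

namespace Cfsg.Agent.Helper5.Bal

open Matrix QuadraticMap Module MulAction Cfsg.Agent.Helper44 Cfsg.Agent.Helper45.OmegaParity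
  Cfsg.Agent.Helper5

variable {F : Type*} [Field F] {ι : Type} [Fintype ι] [DecidableEq ι]
variable (Q : QuadraticForm F (ι → F)) (t : Cfsg.isometryGroup F ⇑Q)

/-- the centraliser of `t` in `Ω(Q)` -/
def centO : Subgroup ↥(Cfsg.Omega F ⇑Q) where
  carrier := {s | s.1 * t = t * s.1}
  mul_mem' := by
    intro a b ha hb
    show (a * b).1 * t = t * (a * b).1
    rw [Subgroup.coe_mul, mul_assoc, hb, ← mul_assoc, ha, mul_assoc]
  one_mem' := by
    show (1 : ↥(Cfsg.Omega F ⇑Q)).1 * t = t * (1 : ↥(Cfsg.Omega F ⇑Q)).1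
    rw [Subgroup.coe_one, one_mul, mul_one]
  inv_mem' := by
    intro a ha
    show (a⁻¹).1 * t = t * (a⁻¹).1
    rw [Subgroup.coe_inv]
    calc a.1⁻¹ * t = a.1⁻¹ * (t * a.1) * a.1⁻¹ := by group
      _ = a.1⁻¹ * (a.1 * t) * a.1⁻¹ := by rw [ha]
      _ = t * a.1⁻¹ := by group

theorem mem_centO {s : ↥(Cfsg.Omega F ⇑Q)} : s ∈ centO Q t ↔ s.1 * t = t * s.1 := Iff.rfl

variable {Q t}

/-- a non-degenerate non-zero subspace contains a non-singular vector -/
theorem exists_nonsingular_mem (S : Submodule F (ι → F))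
    (hSnd : ∀ x ∈ S, (∀ y ∈ S, polar ⇑Q x y = 0) → x = 0) {x : ι → F} (hx : x ∈ S)
    (hx0 : x ≠ 0) : ∃ v ∈ S, Q v ≠ 0 := by
  by_contra hcon
  push Not at hcon
  apply hx0
  apply hSnd x hx
  intro y hy
  rw [QuadraticMap.polar, hcon _ (S.add_mem hx hy), hcon x hx, hcon y hy]
  ring

/-- Eichler transformations with parameters in an eigenspace of `t` (eigenvalue `±1`) commute
with `t` -/
theorem eichlerO_comm_of_mem_eigS {ε : F} (hε : ε = 1 ∨ ε = -1) {u w : ι → F}
    (hu : u ∈ eigS Q t ε) (hw : w ∈ eigS Q t ε) :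
    eichlerO Q u w * t = t * eichlerO Q u w := by
  by_cases h : Q u = 0 ∧ polar ⇑Q u w = 0
  · have h1 := eichlerO_conj Q t h.1 h.2
    rw [(mem_eigS Q t).1 hu, (mem_eigS Q t).1 hw] at h1
    have h3 : eichlerO Q (ε • u) (ε • w) = eichlerO Q u w := by
      have hεε : ε * ε = 1 := by rcases hε with rfl | rfl <;> ring
      have hu' : Q (ε • u) = 0 := by rw [QuadraticMap.map_smul, h.1, smul_zero]
      have huw' : polar ⇑Q (ε • u) (ε • w) = 0 := by
        rw [QuadraticMap.polar_smul_left, QuadraticMap.polar_smul_right, h.2, smul_zero,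
          smul_zero]
      apply isom_ext
      intro x
      rw [lin_eichlerO Q hu' huw', lin_eichlerO Q h.1 h.2]
      simp only [QuadraticMap.polar_smul_left, QuadraticMap.map_smul, smul_eq_mul, smul_smul]
      have e1 : ε * polar ⇑Q w x * ε = polar ⇑Q w x := by
        calc ε * polar ⇑Q w x * ε = (ε * ε) * polar ⇑Q w x := by ring
          _ = polar ⇑Q w x := by rw [hεε, one_mul]
      have e2 : ε * polar ⇑Q u x * ε = polar ⇑Q u x := by
        calc ε * polar ⇑Q u x * ε = (ε * ε) * polar ⇑Q u x := by ring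
          _ = polar ⇑Q u x := by rw [hεε, one_mul]
      have e3 : ε * ε * Q w * (ε * polar ⇑Q u x) * ε = Q w * polar ⇑Q u x := by
        calc ε * ε * Q w * (ε * polar ⇑Q u x) * ε
            = (ε * ε) * (ε * ε) * (Q w * polar ⇑Q u x) := by ring
          _ = Q w * polar ⇑Q u x := by rw [hεε, one_mul, one_mul]
      rw [e1, e2, e3]
    rw [h3] at h1
    calc eichlerO Q u w * t = (t * eichlerO Q u w * t⁻¹) * t := by rw [h1]
      _ = t * eichlerO Q u w := by group
  · have : eichlerO Q u w = 1 := by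
      unfold eichlerO
      rw [dif_neg h]
    rw [this, one_mul, mul_one]

variable [Fintype F]

/-- **no normal subgroup of odd order in the centraliser**: every element of a normal subgroup of
`C_Ω(t)` each element of which has an odd power which is a scalar, has square one -/
theorem sq_eq_one_of_normal (hodd : Odd (Fintype.card F))
    (hQ : (QuadraticMap.polarBilin Q).Nondegenerate) (hn : 5 ≤ Fintype.card ι)
    (ht : t * t = 1) (h₁ : Odd (finrank F (eigS Q t 1))) (h₂ : Odd (finrank F (eigS Q t (-1))))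
    (M : Subgroup ↥(centO Q t)) [M.Normal]
    (hM : ∀ s ∈ M, ∃ r : ℕ, Odd r ∧ ∃ a : F,
      ∀ v, lin Q ((s ^ r : ↥(centO Q t)).1.1) v = a • v) :
    ∀ s ∈ M, (s * s : ↥(centO Q t)) = 1 := by
  have h2 : (2 : F) ≠ 0 := Cfsg.Agent.Helper44.two_ne_zero_of_odd_card rfl hodd
  -- scalar action on each eigenspace
  have key : ∀ ε : F, (ε = 1 ∨ ε = -1) → Odd (finrank F (eigS Q t ε)) →
      ∀ s ∈ M, ∃ a : F, a * a = 1 ∧ ∀ v ∈ eigS Q t ε, lin Q (s : ↥(centO Q t)).1.1 v = a • v := by
    intro ε hε hfin s hs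
    have hSnd : ∀ x ∈ eigS Q t ε, (∀ y ∈ eigS Q t ε, polar ⇑Q x y = 0) → x = 0 :=
      fun x hx h => eq_zero_of_polar_eigS ht h2 hQ hε hx h
    have hstab : ∀ s ∈ centO Q t, s.1 ∈ stab Q (eigS Q t ε) :=
      fun s hs => mem_stab_eigS hs ε
    obtain ⟨m, hm⟩ := hfin
    have hex : ∃ a : F, ∀ v ∈ eigS Q t ε, lin Q (s : ↥(centO Q t)).1.1 v = a • v := by
      rcases Nat.eq_zero_or_pos m with h0 | hpos
      · -- dimension one
        rw [h0, mul_zero, zero_add] at hm
        obtain ⟨v₀, hv₀, hall⟩ := finrank_eq_one_iff'.1 hm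
        have h1 : lin Q s.1.1 (v₀ : ι → F) ∈ eigS Q t ε :=
          lin_mem_of_mem_stab (hstab s.1 s.2) v₀.2
        obtain ⟨a, ha⟩ := hall ⟨_, h1⟩
        refine ⟨a, fun v hv => ?_⟩
        obtain ⟨c, hc⟩ := hall ⟨v, hv⟩
        have hc' : c • (v₀ : ι → F) = v := congrArg Subtype.val hc
        have ha' : a • (v₀ : ι → F) = lin Q s.1.1 (v₀ : ι → F) := congrArg Subtype.val ha
        rw [← hc', map_smul, ← ha', smul_comm]
      · exact scalar_on_of_normal hodd (eigS Q t ε) hSnd hpos hm (centO Q t) hstab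
          (fun u hu w hw => ⟨⟨eichlerO Q u w, eichlerO_mem_Omega Q hQ hn u w⟩,
            eichlerO_comm_of_mem_eigS hε hu hw, rfl⟩) M hM s hs
    obtain ⟨a, ha⟩ := hex
    refine ⟨a, ?_, ha⟩
    -- a non-zero vector of the eigenspace
    have hne : eigS Q t ε ≠ ⊥ := by
      intro h
      rw [h, finrank_bot] at hm
      omega
    obtain ⟨x, hx, hx0⟩ := Submodule.exists_mem_ne_zero_of_ne_bot hne
    obtain ⟨v, hv, hQv⟩ := exists_nonsingular_mem (eigS Q t ε) hSnd hx hx0
    have h1 := lin_isometry Q s.1.1 v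
    rw [ha v hv, QuadraticMap.map_smul, smul_eq_mul] at h1
    have h3 : (a * a - 1) * Q v = 0 := by linear_combination h1
    rcases mul_eq_zero.1 h3 with h | h
    · exact sub_eq_zero.1 h
    · exact absurd h hQv
  intro s hs
  obtain ⟨a, haa, ha⟩ := key 1 (Or.inl rfl) h₁ s hs
  obtain ⟨a', haa', ha'⟩ := key (-1) (Or.inr rfl) h₂ s hs
  apply Subtype.ext
  apply Subtype.ext
  apply isom_ext
  intro x
  show lin Q (s.1.1 * s.1.1) x = lin Q 1 x
  rw [lin_mul_apply, lin_one_apply]
  obtain ⟨y, hy, z, hz, rfl⟩ := exists_decomp ht h2 (Or.inl rfl) x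
  rw [map_add, map_add, ha y hy, ha' z hz, map_smul, map_smul, ha y hy, ha' z hz, smul_smul,
    smul_smul, haa, haa', one_smul, one_smul]

end Cfsg.Agent.Helper5.Bal
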