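import Mathlib
import Cfsg.Agent.Helper5.BalH
import Cfsg.Agent.Helper5.AutOB
import Cfsg.Agent.Helper44.PgoInn
import Cfsg.Agent.Helper37.BalA

/-!
# Local balance for graph involutions of `PΩ⁻`, part I: `Inn K ∩ C(x)` has no non-trivial normal
subgroup of odd order, for `x` induced by an involutory isometry with odd-dimensional eigenspaces
-/

set_option autoImplicit false
set_option linter.unusedSectionVars false
set_option linter.unusedSimpArgs false

namespace Cfsg.Agent.Helper5.Bal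

open Matrix QuadraticMap Module MulAction Cfsg.Agent.Helper44 Cfsg.Agent.Helper45.OmegaParity
  Cfsg.Agent.Helper5 Cfsg.Agent.Helper5.AutO Cfsg.Agent.Helper37.Bal

variable {F : Type*} [Field F] {ι : Type} [Fintype ι] [DecidableEq ι]
variable (Q : QuadraticForm F (ι → F)) (t : Cfsg.isometryGroup F ⇑Q)

/-- the automorphism of `PΩ(Q)` induced by the isometry `t` -/
noncomputable def autOf : MulAut (Cfsg.POmega F ⇑Q) := conjAut ⇑Q (toGO Q t)

theorem autOf_prj (s : ↥(Cfsg.Omega F ⇑Q)) :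
    ∃ s' : ↥(Cfsg.Omega F ⇑Q), s'.1 = t * s.1 * t⁻¹ ∧ autOf Q t (prj s) = prj s' := by
  refine ⟨MulAut.characteristic (Cfsg.Omega F ⇑Q) (simConj ⇑Q (toGO Q t)) s, ?_, ?_⟩
  · apply Subtype.ext
    rw [coe_conj_Omega]
    rfl
  · rfl

variable {Q t}

theorem autOf_prj_of_mem_centO {s : ↥(Cfsg.Omega F ⇑Q)} (hs : s ∈ centO Q t) :
    autOf Q t (prj s) = prj s := by
  obtain ⟨s', hs', e⟩ := autOf_prj Q t s
  rw [e]
  congr 1
  apply Subtype.ext
  rw [hs']
  calc t * s.1 * t⁻¹ = (s.1 * t) * t⁻¹ := by rw [(mem_centO Q t).1 hs]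
    _ = s.1 := by group

/-- `conj k` commutes with `φ` when `φ k = k` -/
theorem conj_mem_centralizer {K : Type*} [Group K] (φ : MulAut K) {k : K} (hk : φ k = k) :
    MulAut.conj k ∈ Subgroup.centralizer {φ} := by
  rw [Subgroup.mem_centralizer_singleton_iff]
  ext y
  simp only [MulAut.mul_apply, MulAut.conj_apply, map_mul, map_inv, hk]

/-- if the centre is trivial and `conj k` commutes with `φ` then `φ k = k` -/
theorem apply_eq_of_conj_mem_centralizer {K : Type*} [Group K] (hZ : Subgroup.center K = ⊥)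
    (φ : MulAut K) {k : K} (hk : MulAut.conj k ∈ Subgroup.centralizer {φ}) : φ k = k := by
  rw [Subgroup.mem_centralizer_singleton_iff] at hk
  have h1 : ∀ y, φ k * φ y * (φ k)⁻¹ = k * φ y * k⁻¹ := by
    intro y
    have := congrArg (fun ψ : MulAut K => ψ y) hk
    simp only [MulAut.mul_apply, MulAut.conj_apply, map_mul, map_inv] at this
    exact this.symm
  have h3 : k⁻¹ * φ k ∈ Subgroup.center K := by
    rw [Subgroup.mem_center_iff]
    intro g
    obtain ⟨y, rfl⟩ := φ.surjective g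
    have := h1 y
    calc φ y * (k⁻¹ * φ k) = k⁻¹ * (k * φ y * k⁻¹) * φ k := by group
      _ = k⁻¹ * (φ k * φ y * (φ k)⁻¹) * φ k := by rw [this]
      _ = k⁻¹ * φ k * φ y := by group
  rw [hZ, Subgroup.mem_bot] at h3
  calc φ k = k * (k⁻¹ * φ k) := by group
    _ = k := by rw [h3, mul_one]

/-- if the centre is trivial, `conj k = 1` forces `k = 1` -/
theorem eq_one_of_conj_eq_one {K : Type*} [Group K] (hZ : Subgroup.center K = ⊥) {k : K}
    (hk : MulAut.conj k = 1) : k = 1 := by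
  have : k ∈ Subgroup.center K := by
    rw [Subgroup.mem_center_iff]
    intro g
    have h1 := congrArg (fun ψ : MulAut K => ψ g) hk
    simp only [MulAut.conj_apply, MulAut.one_apply] at h1
    calc g * k = (k * g * k⁻¹) * k := by rw [h1]
      _ = k * g := by group
  rw [hZ, Subgroup.mem_bot] at this
  exact this

/-- the homomorphism `C_Ω(t) → Inn K ∩ C(x)` -/
noncomputable def kap : ↥(centO Q t) →* ↥(innCent (autOf Q t)) where
  toFun s := ⟨MulAut.conj (prj s.1), Subgroup.mem_inf.2 ⟨⟨prj s.1, rfl⟩,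
    conj_mem_centralizer _ (autOf_prj_of_mem_centO s.2)⟩⟩
  map_one' := by
    apply Subtype.ext
    show MulAut.conj (prj (1 : ↥(Cfsg.Omega F ⇑Q))) = 1
    rw [map_one, map_one]
  map_mul' a b := by
    apply Subtype.ext
    show MulAut.conj (prj (a.1 * b.1)) = MulAut.conj (prj a.1) * MulAut.conj (prj b.1)
    rw [map_mul, map_mul]

theorem coe_kap (s : ↥(centO Q t)) : ((kap s : ↥(innCent (autOf Q t))) : MulAut (Cfsg.POmega F ⇑Q))
    = MulAut.conj (prj s.1) := rfl

variable [Fintype F]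

set_option maxHeartbeats 1600000 in
/-- **(hb)**: `Inn K ∩ C(x)` has no non-trivial normal subgroup of odd order -/
theorem innCent_no_normal_odd (hodd : Odd (Fintype.card F)) (C : Ctx Q) (T : HypTriple Q)
    (hZ : Subgroup.center (Cfsg.POmega F ⇑Q) = ⊥)
    (ht : t * t = 1) (h₁ : Odd (finrank F (eigS Q t 1))) (h₂ : Odd (finrank F (eigS Q t (-1))))
    (M : Subgroup ↥(innCent (autOf Q t))) (hMn : M.Normal) (hMc : (Nat.card ↥M).Coprime 2) :
    M = ⊥ := by
  classical
  have hr : Odd (Nat.card ↥M) := by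
    rw [← Nat.not_even_iff_odd, even_iff_two_dvd]
    intro h
    have := Nat.dvd_gcd h (dvd_refl 2)
    rw [Nat.Coprime.gcd_eq_one hMc] at this
    omega
  set r := Nat.card ↥M with hrdef
  have hpow : ∀ z : ↥(innCent (autOf Q t)), z ∈ M → z ^ r = 1 := by
    intro z hz
    have h1 : (⟨z, hz⟩ : ↥M) ^ r = 1 := pow_card_eq_one'
    have h3 := congrArg Subtype.val h1
    exact h3
  set M' : Subgroup ↥(centO Q t) := M.comap kap with hM'
  have : M'.Normal := hMn.comap kap
  have hM'odd : ∀ s ∈ M', ∃ r : ℕ, Odd r ∧ ∃ a : F,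
      ∀ v, lin Q ((s ^ r : ↥(centO Q t)).1.1) v = a • v := by
    intro s hs
    refine ⟨r, hr, ?_⟩
    have h1 : kap (s ^ r) = 1 := by
      rw [map_pow]
      exact hpow _ hs
    have h3 : MulAut.conj (prj (s ^ r : ↥(centO Q t)).1) = 1 := by
      have := congrArg Subtype.val h1
      exact this
    have h4 := eq_one_of_conj_eq_one hZ h3
    rw [prj_eq_one_iff] at h4
    obtain ⟨a, -, ha⟩ := center_scalar C T h4
    exact ⟨a, ha⟩
  have hsq := sq_eq_one_of_normal hodd C.hQ (by have := C.hn; omega) ht h₁ h₂ M' hM'odd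
  rw [eq_bot_iff]
  intro z hz
  rw [Subgroup.mem_bot]
  obtain ⟨⟨k, hk⟩, hzc⟩ := Subgroup.mem_inf.1 z.2
  obtain ⟨s₀, rfl⟩ := prj_surjective k
  have hk' : MulAut.conj (prj s₀) = z.1 := hk
  -- `x k = k`
  have hfix : autOf Q t (prj s₀) = prj s₀ := by
    apply apply_eq_of_conj_mem_centralizer hZ
    rw [hk']
    exact hzc
  obtain ⟨s', hs', e⟩ := autOf_prj Q t s₀
  rw [e] at hfix
  have hcen := prj_eq_iff.1 hfix.symm
  obtain ⟨a, haa, ha⟩ := center_scalar C T hcen
  -- `ζ = s₀⁻¹ s'` has square one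
  set ζ : ↥(Cfsg.Omega F ⇑Q) := s₀⁻¹ * s' with hζ
  have hζ2 : ζ * ζ = 1 := by
    apply omega_ext
    intro x
    rw [lin_val_mul, ha, ha, smul_smul, haa, one_smul]
    exact (lin_one_apply Q x).symm
  have hs'eq : s' = s₀ * ζ := by rw [hζ]; group
  have hζc : ∀ g : ↥(Cfsg.Omega F ⇑Q), g * ζ = ζ * g := fun g =>
    (Subgroup.mem_center_iff.1 hcen g)
  -- `s₀²` commutes with `t`
  have hmem : s₀ * s₀ ∈ centO Q t := by
    rw [mem_centO]
    have h1 : t * (s₀ * s₀).1 * t⁻¹ = (s' * s').1 := by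
      rw [Subgroup.coe_mul, Subgroup.coe_mul, hs']
      group
    have h3 : s' * s' = s₀ * s₀ := by
      rw [hs'eq]
      calc s₀ * ζ * (s₀ * ζ) = s₀ * (ζ * s₀) * ζ := by group
        _ = s₀ * (s₀ * ζ) * ζ := by rw [hζc s₀]
        _ = s₀ * s₀ * (ζ * ζ) := by group
        _ = s₀ * s₀ := by rw [hζ2, mul_one]
    rw [h3] at h1
    calc (s₀ * s₀).1 * t = (t * (s₀ * s₀).1 * t⁻¹) * t := by rw [h1]
      _ = t * (s₀ * s₀).1 := by group
  set s₁ : ↥(centO Q t) := ⟨s₀ * s₀, hmem⟩ with hs₁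
  have hkap : kap s₁ = z * z := by
    apply Subtype.ext
    rw [coe_kap, Subgroup.coe_mul, ← hk']
    show MulAut.conj (prj (s₀ * s₀)) = _
    rw [map_mul, map_mul]
  have hs₁M : s₁ ∈ M' := by
    show kap s₁ ∈ M
    rw [hkap]
    exact M.mul_mem hz hz
  have h4 : (z * z) * (z * z) = 1 := by
    rw [← hkap, ← map_mul, hsq s₁ hs₁M, map_one]
  have h5 : z ^ 4 = 1 := by
    rw [← h4, pow_succ, pow_succ, pow_succ, pow_one, mul_assoc, mul_assoc]
  have h6 : z ^ r = 1 := hpow z hz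
  have h7 : orderOf z ∣ Nat.gcd 4 r :=
    Nat.dvd_gcd (orderOf_dvd_of_pow_eq_one h5) (orderOf_dvd_of_pow_eq_one h6)
  have h8 : Nat.gcd 4 r = 1 := by
    have : Nat.Coprime 4 r := by
      have h9 : Nat.Coprime (2 ^ 2) r := Nat.Coprime.pow_left 2 hMc.symm
      exact h9
    exact this
  rw [h8, Nat.dvd_one] at h7
  exact orderOf_eq_one_iff.1 h7

end Cfsg.Agent.Helper5.Bal
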