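import Mathlib
import Cfsg.Agent.Helper5.BalE
import Cfsg.Agent.Helper5.AutOA
import Cfsg.Agent.Helper44.Witt

/-!
# Local balance for graph involutions of `PΩ⁻`, part J: geometry of a non-degenerate subspace of
dimension at least three (hyperbolic pairs, non-singular vectors orthogonal to a singular one)
-/

set_option autoImplicit false
set_option linter.unusedSectionVars false
set_option linter.unusedSimpArgs false

namespace Cfsg.Agent.Helper5.Bal

open Matrix QuadraticMap Module Cfsg.Agent.Helper44 Cfsg.Agent.Helper45.OmegaParity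
  Cfsg.Agent.Helper5

variable {F : Type*} [Field F] {ι : Type} [Fintype ι] [DecidableEq ι]
variable {Q : QuadraticForm F (ι → F)}

/-- coordinates on a non-degenerate subspace -/
theorem exists_coords (S : Submodule F (ι → F))
    (hSnd : ∀ x ∈ S, (∀ y ∈ S, polar ⇑Q x y = 0) → x = 0) {d : ℕ} (hS : finrank F S = d) :
    ∃ (b : (Fin d → F) ≃ₗ[F] ↥S) (Q₁ : QuadraticForm F (Fin d → F)),
      (∀ x, Q₁ x = Q ((b x : ↥S) : ι → F)) ∧ (QuadraticMap.polarBilin Q₁).Nondegenerate := by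
  let b : (Fin d → F) ≃ₗ[F] ↥S := (Module.finBasisOfFinrankEq F ↥S hS).equivFun.symm
  let Q₁ : QuadraticForm F (Fin d → F) := Q.comp (S.subtype ∘ₗ b.toLinearMap)
  have hb : ∀ x, Q₁ x = Q ((b x : ↥S) : ι → F) := fun x => rfl
  refine ⟨b, Q₁, hb, ?_⟩
  have hsep : ∀ x : Fin d → F, (∀ y, polar ⇑Q₁ x y = 0) → x = 0 := by
    intro x hx
    have h1 : ((b x : ↥S) : ι → F) = 0 := by
      apply hSnd _ (b x).2
      intro y hy
      have := hx (b.symm ⟨y, hy⟩)
      rw [polar_coords Q₁ b hb, LinearEquiv.apply_symm_apply] at this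
      exact this
    have h3 : b x = 0 := Subtype.ext h1
    exact b.injective (by rw [h3, map_zero])
  constructor
  · intro x hx
    exact hsep x hx
  · intro y hy
    apply hsep y
    intro x
    rw [QuadraticMap.polar_comm]
    exact hy x

/-- in a non-degenerate space of dimension at least three, a non-zero singular vector is
orthogonal to some non-singular vector -/
theorem exists_perp_nonsingular_of_singular {κ : Type} [Fintype κ] [DecidableEq κ]
    (Q₁ : QuadraticForm F (κ → F)) (hQ₁ : (QuadraticMap.polarBilin Q₁).Nondegenerate)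
    (h3 : 3 ≤ Fintype.card κ) {s : κ → F} (hs0 : s ≠ 0) (hs : Q₁ s = 0) :
    ∃ w, polar ⇑Q₁ s w = 0 ∧ Q₁ w ≠ 0 := by
  obtain ⟨v, hv, hsv⟩ := exists_hyperbolic_partner Q₁ (fun x hx => hQ₁.1 x hx) s hs0 hs
  obtain ⟨w₀, hw₀, hw₀s⟩ := AutO.exists_ne_zero_orth Q₁ (![s, v] : Fin 2 → (κ → F)) (by omega)
  have hw₀s' : polar ⇑Q₁ s w₀ = 0 := by rw [QuadraticMap.polar_comm]; exact hw₀s 0
  have hw₀v' : polar ⇑Q₁ v w₀ = 0 := by rw [QuadraticMap.polar_comm]; exact hw₀s 1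
  by_cases hq : Q₁ w₀ = 0
  swap
  · exact ⟨w₀, hw₀s', hq⟩
  obtain ⟨y, hy⟩ : ∃ y, polar ⇑Q₁ w₀ y ≠ 0 := by
    by_contra h
    push Not at h
    exact hw₀ (hQ₁.1 w₀ h)
  have hss : polar ⇑Q₁ s s = 0 := by rw [QuadraticMap.polar_self, hs, smul_zero]
  have hvv : polar ⇑Q₁ v v = 0 := by rw [QuadraticMap.polar_self, hv, smul_zero]
  set y' := y - polar ⇑Q₁ v y • s - polar ⇑Q₁ s y • v with hy'
  have h1 : polar ⇑Q₁ s y' = 0 := by
    rw [hy', QuadraticMap.polar_sub_right, QuadraticMap.polar_sub_right,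
      QuadraticMap.polar_smul_right, QuadraticMap.polar_smul_right, hss, hsv]
    simp
  have hw₀s0 : polar ⇑Q₁ w₀ s = 0 := hw₀s 0
  have hw₀s1 : polar ⇑Q₁ w₀ v = 0 := hw₀s 1
  have h4 : polar ⇑Q₁ w₀ y' = polar ⇑Q₁ w₀ y := by
    rw [hy', QuadraticMap.polar_sub_right, QuadraticMap.polar_sub_right,
      QuadraticMap.polar_smul_right, QuadraticMap.polar_smul_right, hw₀s0, hw₀s1]
    simp
  by_cases hq' : Q₁ y' = 0
  · refine ⟨w₀ + y', ?_, ?_⟩
    · rw [QuadraticMap.polar_add_right, hw₀s', h1, add_zero]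
    · rw [QuadraticMap.map_add ⇑Q₁, hq, hq', h4]
      simpa using hy
  · exact ⟨y', h1, hq'⟩

variable [Fintype F]

/-- a hyperbolic pair and a non-zero vector orthogonal to it, inside a non-degenerate subspace of
dimension at least three -/
theorem exists_hyp_in (S : Submodule F (ι → F))
    (hSnd : ∀ x ∈ S, (∀ y ∈ S, polar ⇑Q x y = 0) → x = 0) (h3 : 3 ≤ finrank F S) :
    ∃ u ∈ S, ∃ v ∈ S, ∃ w₀ ∈ S, Q u = 0 ∧ Q v = 0 ∧ polar ⇑Q u v = 1 ∧ polar ⇑Q u w₀ = 0 ∧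
      polar ⇑Q v w₀ = 0 ∧ w₀ ≠ 0 := by
  obtain ⟨b, Q₁, hb, hQ₁⟩ := exists_coords S hSnd rfl
  have hcard : Fintype.card (Fin (finrank F S)) = finrank F S := Fintype.card_fin _
  obtain ⟨u, hu0, hu⟩ := Cfsg.Agent.Helper44.exists_singular Q₁
    (by rw [Module.finrank_fintype_fun_eq_card, hcard]; exact h3)
  obtain ⟨f, hf, huf⟩ := exists_hyperbolic_partner Q₁ (fun x hx => hQ₁.1 x hx) u hu0 hu
  obtain ⟨w₀, hw₀, hw₀s⟩ := AutO.exists_ne_zero_orth Q₁
    (![u, f] : Fin 2 → (Fin (finrank F S) → F)) (by rw [hcard]; omega)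
  have hw₀u : polar ⇑Q₁ u w₀ = 0 := by rw [QuadraticMap.polar_comm]; exact hw₀s 0
  have hw₀f : polar ⇑Q₁ f w₀ = 0 := by rw [QuadraticMap.polar_comm]; exact hw₀s 1
  refine ⟨b u, (b u).2, b f, (b f).2, b w₀, (b w₀).2, ?_, ?_, ?_, ?_, ?_, ?_⟩
  · rw [← hb, hu]
  · rw [← hb, hf]
  · rw [← polar_coords Q₁ b hb, huf]
  · rw [← polar_coords Q₁ b hb, hw₀u]
  · rw [← polar_coords Q₁ b hb, hw₀f]
  · intro h
    apply hw₀
    apply b.injective
    rw [map_zero]
    exact Subtype.ext h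

/-- inside a non-degenerate subspace of dimension at least three, a non-zero singular vector is
orthogonal to some non-singular vector of the subspace -/
theorem exists_perp_nonsingular_in (S : Submodule F (ι → F))
    (hSnd : ∀ x ∈ S, (∀ y ∈ S, polar ⇑Q x y = 0) → x = 0) (h3 : 3 ≤ finrank F S)
    {s : ι → F} (hsS : s ∈ S) (hs0 : s ≠ 0) (hs : Q s = 0) :
    ∃ w ∈ S, polar ⇑Q s w = 0 ∧ Q w ≠ 0 := by
  obtain ⟨b, Q₁, hb, hQ₁⟩ := exists_coords S hSnd rfl
  have hcard : Fintype.card (Fin (finrank F S)) = finrank F S := Fintype.card_fin _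
  set s₁ := b.symm ⟨s, hsS⟩ with hs₁
  have hbs : ((b s₁ : ↥S) : ι → F) = s := by rw [hs₁, LinearEquiv.apply_symm_apply]
  have hs₁0 : s₁ ≠ 0 := by
    intro h
    apply hs0
    rw [← hbs, h, map_zero]
    rfl
  have hs₁Q : Q₁ s₁ = 0 := by rw [hb, hbs, hs]
  obtain ⟨w, hw1, hw2⟩ := exists_perp_nonsingular_of_singular Q₁ hQ₁ (by rw [hcard]; exact h3)
    hs₁0 hs₁Q
  refine ⟨b w, (b w).2, ?_, ?_⟩
  · rw [← hbs, ← polar_coords Q₁ b hb, hw1]
  · rw [← hb]
    exact hw2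

end Cfsg.Agent.Helper5.Bal
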