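import Mathlib
import Cfsg.Agent.Helper5.BalI
import Cfsg.Agent.Helper5.BalJ
import Cfsg.Agent.Helper12.GammaOC

/-!
# Local balance for graph involutions of `PΩ⁻`, part K: an automorphism centralising
`Inn K ∩ C(x)` is a power of `x` (`x` induced by an involutory isometry with odd-dimensional
eigenspaces)
-/

set_option autoImplicit false
set_option linter.unusedSectionVars false
set_option linter.unusedSimpArgs false

namespace Cfsg.Agent.Helper5.Bal

open Matrix QuadraticMap Module MulAction Cfsg.Agent.Helper44 Cfsg.Agent.Helper45.OmegaParity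
  Cfsg.Agent.Helper5 Cfsg.Agent.Helper5.AutO Cfsg.Agent.Helper37.Bal Cfsg.Agent.Helper12.GammaO

variable {F : Type*} [Field F] [Fintype F] {ι : Type} [Fintype ι] [DecidableEq ι]
variable {Q : QuadraticForm F (ι → F)} {t : Cfsg.isometryGroup F ⇑Q}

/-- elements of `Ω(Q)` with the same image in `PΩ(Q)` have the same square -/
theorem sq_eq_of_prj_eq (C : Ctx Q) (T : HypTriple Q) {s s' : ↥(Cfsg.Omega F ⇑Q)}
    (h : prj s' = prj s) : s' * s' = s * s := by
  have hcen := prj_eq_iff.1 h.symm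
  obtain ⟨a, haa, ha⟩ := center_scalar C T hcen
  set ζ : ↥(Cfsg.Omega F ⇑Q) := s⁻¹ * s' with hζ
  have hζ2 : ζ * ζ = 1 := by
    apply omega_ext
    intro x
    rw [lin_val_mul, ha, ha, smul_smul, haa, one_smul]
    exact (lin_one_apply Q x).symm
  have hs'eq : s' = s * ζ := by rw [hζ]; group
  have hζc : ∀ g : ↥(Cfsg.Omega F ⇑Q), g * ζ = ζ * g := fun g =>
    (Subgroup.mem_center_iff.1 hcen g)
  rw [hs'eq]
  calc s * ζ * (s * ζ) = s * (ζ * s) * ζ := by group
    _ = s * (s * ζ) * ζ := by rw [hζc s]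
    _ = s * s * (ζ * ζ) := by group
    _ = s * s := by rw [hζ2, mul_one]

/-- the semilinear map of a pair, as an additive map -/
noncomputable def semiAdd (X : Gam ι F) : (ι → F) →+ (ι → F) :=
  AddMonoidHom.mk' (semiLin X.left X.right) (semiLin_add X.left X.right)

theorem semiAdd_apply (X : Gam ι F) (v : ι → F) : semiAdd X v = semiLin X.left X.right v := rfl

/-- **Step A**: an automorphism `psi X` centralising `Inn K ∩ C(x)` commutes with the Eichler
transformations with parameters in an eigenspace of `t` -/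
theorem semiLin_comm_eichler (hodd : Odd (Fintype.card F)) (C : Ctx Q) (T : HypTriple Q)
    (hZ : Subgroup.center (Cfsg.POmega F ⇑Q) = ⊥) (X : ↥(GamO ⇑Q))
    (hy : ∀ z ∈ innCent (autOf Q t), psi ⇑Q X * z = z * psi ⇑Q X)
    {ε : F} (hε : ε = 1 ∨ ε = -1) {u w : ι → F} (hu : u ∈ eigS Q t ε) (hw : w ∈ eigS Q t ε)
    (hQu : Q u = 0) (huw : polar ⇑Q u w = 0) (v : ι → F) :
    semiAdd X.1 (Helper14.eichler Q u w v) = Helper14.eichler Q u w (semiAdd X.1 v) := by
  have h2 : (2 : F) ≠ 0 := Cfsg.Agent.Helper44.two_ne_zero_of_odd_card rfl hodd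
  have hn5 : 5 ≤ Fintype.card ι := by have := C.hn; omega
  set w' : ι → F := (2 : F)⁻¹ • w with hw'
  have hw'S : w' ∈ eigS Q t ε := Submodule.smul_mem _ _ hw
  have huw' : polar ⇑Q u w' = 0 := by
    rw [hw', QuadraticMap.polar_smul_right, huw, smul_zero]
  have hww : w' + w' = w := by
    rw [hw', ← add_smul]
    have : (2 : F)⁻¹ + (2 : F)⁻¹ = 1 := by
      field_simp
      norm_num
    rw [this, one_smul]
  set s₁ : ↥(Cfsg.Omega F ⇑Q) := ⟨eichlerO Q u w', eichlerO_mem_Omega Q C.hQ hn5 u w'⟩ with hs₁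
  have hs₁c : s₁ ∈ centO Q t := eichlerO_comm_of_mem_eigS hε hu hw'S
  -- `psi X` fixes `prj s₁`
  have hfix : psi ⇑Q X (prj s₁) = prj s₁ := by
    apply apply_eq_of_conj_mem_centralizer hZ
    rw [Subgroup.mem_centralizer_singleton_iff]
    have := hy (kap ⟨s₁, hs₁c⟩).1 (kap ⟨s₁, hs₁c⟩).2
    rw [coe_kap] at this
    exact this.symm
  set s₁' : ↥(Cfsg.Omega F ⇑Q) :=
    MulAut.characteristic (Cfsg.Omega F ⇑Q) (psi0 ⇑Q X) s₁ with hs₁'
  have hfix' : prj s₁' = prj s₁ := hfix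
  have hsq := sq_eq_of_prj_eq C T hfix'
  -- the matrix identity
  have hE : conjLeft X.1 ((eichlerO Q u w).1 : GL ι F) = ((eichlerO Q u w).1 : GL ι F) := by
    have h1 : (((s₁' * s₁' : ↥(Cfsg.Omega F ⇑Q)) : ↥(Cfsg.isometryGroup F ⇑Q)) : GL ι F)
        = conjLeft X.1 ((eichlerO Q u w').1 : GL ι F) * conjLeft X.1 ((eichlerO Q u w').1 : GL ι F) := by
      rw [Subgroup.coe_mul, Subgroup.coe_mul, hs₁', coe_psi0_Omega]
    have h3 : (((s₁ * s₁ : ↥(Cfsg.Omega F ⇑Q)) : ↥(Cfsg.isometryGroup F ⇑Q)) : GL ι F)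
        = ((eichlerO Q u w).1 : GL ι F) := by
      rw [Subgroup.coe_mul, hs₁]
      show ((eichlerO Q u w' * eichlerO Q u w' : ↥(Cfsg.isometryGroup F ⇑Q)) : GL ι F) = _
      rw [eichlerO_mul Q hQu huw' huw', hww]
    rw [hsq, h3, ← conjLeft_mul_right] at h1
    have h4 : ((eichlerO Q u w').1 : GL ι F) * ((eichlerO Q u w').1 : GL ι F)
        = ((eichlerO Q u w).1 : GL ι F) := by
      rw [← Subgroup.coe_mul, eichlerO_mul Q hQu huw' huw', hww]
    rw [h4] at h1
    exact h1.symm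
  have e : ∀ y, Helper14.eichler Q u w y = ((eichlerO Q u w).1 : Matrix ι ι F) *ᵥ y := by
    intro y
    rw [← lin_apply, lin_eichlerO Q hQu huw, Helper14.eichler_apply]
    simp only [polarBilin_apply_apply]
  rw [e, e, semiAdd_apply, semiAdd_apply]
  have h5 := conjLeft_mulVec X.1 ((eichlerO Q u w).1 : GL ι F) (semiLin X.1.left X.1.right v)
  rw [hE, semiLin_inv_apply] at h5
  exact h5.symm

/-- **Step B**: the semilinear map is a scalar on an eigenspace of dimension at least three -/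
theorem semiLin_scalar_on (hodd : Odd (Fintype.card F)) (C : Ctx Q) (T : HypTriple Q)
    (hZ : Subgroup.center (Cfsg.POmega F ⇑Q) = ⊥) (ht : t * t = 1) (X : ↥(GamO ⇑Q))
    (hy : ∀ z ∈ innCent (autOf Q t), psi ⇑Q X * z = z * psi ⇑Q X)
    {ε : F} (hε : ε = 1 ∨ ε = -1) (h3 : 3 ≤ finrank F (eigS Q t ε)) :
    ∃ a : F, ∀ x ∈ eigS Q t ε, semiAdd X.1 x = a • x := by
  have h2 : (2 : F) ≠ 0 := Cfsg.Agent.Helper44.two_ne_zero_of_odd_card rfl hodd
  have hSnd : ∀ x ∈ eigS Q t ε, (∀ y ∈ eigS Q t ε, polar ⇑Q x y = 0) → x = 0 :=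
    fun x hx h => eq_zero_of_polar_eigS ht h2 C.hQ hε hx h
  obtain ⟨u, hu, v, hv, w₀, hw₀, hQu, hQv, huv, huw₀, hvw₀, hw₀0⟩ :=
    exists_hyp_in (eigS Q t ε) hSnd h3
  apply smul_of_eigen Q h2 (semiAdd X.1) (eigS Q t ε) hQu hQv huv hu hv hw₀ huw₀ hvw₀ hw₀0
  intro s hs hQs
  by_cases hs0 : s = 0
  · refine ⟨0, fun c => ?_⟩
    rw [hs0, smul_zero, smul_zero, map_zero]
  obtain ⟨w, hw, hsw, hQw⟩ := exists_perp_nonsingular_in (eigS Q t ε) hSnd h3 hs hs0 hQs
  obtain ⟨x₀, hx₀⟩ := exists_polar_ne_zero Q C.hQ hs0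
  apply smul_of_commute_eichler Q h2 (semiAdd X.1) hQw hx₀
  intro c x
  apply semiLin_comm_eichler hodd C T hZ X hy hε hs (Submodule.smul_mem _ _ hw) hQs
  rw [QuadraticMap.polar_smul_right, hsw, smul_zero]

/-- semisimilarities scale the polar form -/
theorem polar_semiAdd (X : ↥(GamO ⇑Q)) : ∃ c : Fˣ, ∀ x y : ι → F,
    polar ⇑Q (semiAdd X.1 x) (semiAdd X.1 y) = (c : F) * X.1.right (polar ⇑Q x y) := by
  obtain ⟨c, hc⟩ := X.2
  refine ⟨c, fun x y => ?_⟩
  have h1 : ∀ v, Q (semiAdd X.1 v) = (c : F) * X.1.right (Q v) := hc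
  unfold QuadraticMap.polar
  rw [← map_add, h1, h1, h1, map_sub, map_sub]
  ring

/-- **(ha)**: an automorphism centralising `Inn K ∩ C(x)` is a power of `x` -/
theorem mem_zpowers_of_centralizes (hodd : Odd (Fintype.card F)) (C : Ctx Q) (T : HypTriple Q)
    (hZ : Subgroup.center (Cfsg.POmega F ⇑Q) = ⊥) (hAut : Cfsg.gammaPOmega F ⇑Q = ⊤)
    (ht : t * t = 1) (h₁ : Odd (finrank F (eigS Q t 1))) (h₂ : Odd (finrank F (eigS Q t (-1))))
    (y : MulAut (Cfsg.POmega F ⇑Q))
    (hy : ∀ z ∈ innCent (autOf Q t), y * z = z * y) :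
    y ∈ Subgroup.zpowers (autOf Q t) := by
  have h2 : (2 : F) ≠ 0 := Cfsg.Agent.Helper44.two_ne_zero_of_odd_card rfl hodd
  have hy' : y ∈ Cfsg.gammaPOmega F ⇑Q := by rw [hAut]; trivial
  rw [gammaPOmega_eq_range] at hy'
  obtain ⟨X, rfl⟩ := hy'
  set G := semiAdd X.1 with hG
  have hsum := finrank_eigS_add (Q := Q) (t := t) ht h2
  have hn := C.hn
  -- an eigenspace of dimension at least three
  obtain ⟨ε, hε, hodd1, hodd2, h3⟩ : ∃ ε : F, (ε = 1 ∨ ε = -1) ∧ Odd (finrank F (eigS Q t ε)) ∧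
      Odd (finrank F (eigS Q t (-ε))) ∧ 3 ≤ finrank F (eigS Q t ε) := by
    by_cases h : 3 ≤ finrank F (eigS Q t 1)
    · exact ⟨1, Or.inl rfl, h₁, h₂, h⟩
    · refine ⟨-1, Or.inr rfl, h₂, ?_, by omega⟩
      rw [neg_neg]
      exact h₁
  have hSnd : ∀ ε' : F, (ε' = 1 ∨ ε' = -1) → ∀ x ∈ eigS Q t ε',
      (∀ y ∈ eigS Q t ε', polar ⇑Q x y = 0) → x = 0 :=
    fun ε' hε' x hx h => eq_zero_of_polar_eigS ht h2 C.hQ hε' hx h
  have hε' : -ε = 1 ∨ -ε = -1 := by
    rcases hε with rfl | rfl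
    · exact Or.inr rfl
    · exact Or.inl (neg_neg 1)
  obtain ⟨α, hα⟩ := semiLin_scalar_on hodd C T hZ ht X hy hε h3
  -- a non-zero vector of the big eigenspace
  have hne : eigS Q t ε ≠ ⊥ := by
    intro h
    rw [h, finrank_bot] at h3
    omega
  obtain ⟨x₁, hx₁, hx₁0⟩ := Submodule.exists_mem_ne_zero_of_ne_bot hne
  have hα0 : α ≠ 0 := by
    rintro rfl
    have h1 := hα x₁ hx₁
    rw [zero_smul] at h1
    have h4 : semiLin X.1⁻¹.left X.1⁻¹.right (semiLin X.1.left X.1.right x₁) = x₁ :=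
      semiLin_inv_apply X.1 x₁
    have h5 : semiLin X.1.left X.1.right x₁ = 0 := h1
    rw [h5] at h4
    apply hx₁0
    rw [← h4]
    exact map_zero (semiAdd X.1⁻¹)
  -- the field automorphism is trivial
  have hσ : X.1.right = RingEquiv.refl F := by
    ext c
    have h1 : G (c • x₁) = X.1.right c • G x₁ := semiLin_smul X.1.left X.1.right c x₁
    rw [hα x₁ hx₁, hα _ (Submodule.smul_mem _ c hx₁), smul_smul, smul_smul] at h1
    have h4 : (α * c - X.1.right c * α) • x₁ = 0 := by rw [sub_smul, h1, sub_self]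
    rcases smul_eq_zero.1 h4 with h5 | h5
    · have h6 : (c - X.1.right c) * α = 0 := by linear_combination h5
      rcases mul_eq_zero.1 h6 with h7 | h7
      · exact (sub_eq_zero.1 h7).symm
      · exact absurd h7 hα0
    · exact absurd h5 hx₁0
  have hGlin : ∀ (c : F) (v : ι → F), G (c • v) = c • G v := by
    intro c v
    have h1 : G (c • v) = X.1.right c • G v := semiLin_smul X.1.left X.1.right c v
    rw [h1, hσ]
    rfl
  obtain ⟨μ, hμ⟩ := polar_semiAdd X
  have hμ' : ∀ x y : ι → F, polar ⇑Q (G x) (G y) = (μ : F) * polar ⇑Q x y := by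
    intro x y
    rw [hμ, hσ]
    rfl
  -- the other eigenspace is preserved
  have hpres : ∀ d ∈ eigS Q t (-ε), G d ∈ eigS Q t (-ε) := by
    intro d hd
    have h1 : ∀ x ∈ eigS Q t ε, polar ⇑Q (G d) x = 0 := by
      intro x hx
      have h4 := hμ' d x
      rw [hα x hx, QuadraticMap.polar_smul_right, QuadraticMap.polar_comm ⇑Q d x,
        polar_eigS' h2 hε hx hd, mul_zero, smul_eq_mul] at h4
      rcases mul_eq_zero.1 h4 with h5 | h5
      · exact absurd h5 hα0
      · exact h5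
    obtain ⟨y, hy1, z, hz, hyz⟩ := exists_decomp ht h2 hε (G d)
    have hy0 : y = 0 := by
      apply hSnd ε hε y hy1
      intro x hx
      have h4 := h1 x hx
      rw [hyz, QuadraticMap.polar_add_left, QuadraticMap.polar_comm ⇑Q z x,
        polar_eigS' h2 hε hx hz, add_zero] at h4
      exact h4
    rw [hyz, hy0, zero_add]
    exact hz
  -- scalar on the other eigenspace
  obtain ⟨β, hβ⟩ : ∃ β : F, ∀ x ∈ eigS Q t (-ε), G x = β • x := by
    obtain ⟨m, hm⟩ := hodd2
    rcases Nat.eq_zero_or_pos m with h0 | hpos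
    · rw [h0, mul_zero, zero_add] at hm
      obtain ⟨v₀, hv₀, hall⟩ := finrank_eq_one_iff'.1 hm
      obtain ⟨a, ha⟩ := hall ⟨_, hpres _ v₀.2⟩
      refine ⟨a, fun v hv => ?_⟩
      obtain ⟨c, hc⟩ := hall ⟨v, hv⟩
      have hc' : c • (v₀ : ι → F) = v := congrArg Subtype.val hc
      have ha' : a • (v₀ : ι → F) = G (v₀ : ι → F) := congrArg Subtype.val ha
      rw [← hc', hGlin, ← ha', smul_comm]
    · exact semiLin_scalar_on hodd C T hZ ht X hy hε' (by omega)
  -- the multiplier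
  have hmult : ∀ ε' : F, (ε' = 1 ∨ ε' = -1) → Odd (finrank F (eigS Q t ε')) → ∀ a : F,
      (∀ x ∈ eigS Q t ε', G x = a • x) → a * a = μ := by
    intro ε' hε'' hfin a ha
    have hne' : eigS Q t ε' ≠ ⊥ := by
      intro h
      rw [h, finrank_bot] at hfin
      exact absurd hfin (by decide)
    obtain ⟨x, hx, hx0⟩ := Submodule.exists_mem_ne_zero_of_ne_bot hne'
    obtain ⟨v, hv, hQv⟩ := exists_nonsingular_mem (eigS Q t ε') (hSnd ε' hε'') hx hx0
    have h1 := hμ' v v
    rw [ha v hv, QuadraticMap.polar_smul_left, QuadraticMap.polar_smul_right,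
      QuadraticMap.polar_self] at h1
    simp only [smul_eq_mul, nsmul_eq_mul, Nat.cast_ofNat] at h1
    have h4 : (a * a - μ) * (2 * Q v) = 0 := by linear_combination h1
    rcases mul_eq_zero.1 h4 with h5 | h5
    · exact sub_eq_zero.1 h5
    · exact absurd h5 (mul_ne_zero h2 hQv)
  have hαμ := hmult ε hε hodd1 α hα
  have hβμ := hmult (-ε) hε' hodd2 β hβ
  have hαβ : β = α ∨ β = -α := by
    have : (β - α) * (β + α) = 0 := by linear_combination hβμ - hαμ
    rcases mul_eq_zero.1 this with h | h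
    · exact Or.inl (sub_eq_zero.1 h)
    · exact Or.inr (eq_neg_of_add_eq_zero_left h)
  -- `psi X = conjAut g`
  rw [psi_eq_conjAut Q X hσ]
  set g : ↥(Cfsg.Geo.quadSimilarityGroup (F := F) ⇑Q) :=
    ⟨X.1.left, left_mem_quadSimilarityGroup Q X hσ⟩ with hg
  have hgv : ∀ v, ((g.1 : GL ι F) : Matrix ι ι F) *ᵥ v = G v := by
    intro v
    show (X.1.left : Matrix ι ι F) *ᵥ v = semiLin X.1.left X.1.right v
    unfold semiLin
    rw [hσ]
    rfl
  have hεε : ε * ε = 1 := by rcases hε with rfl | rfl <;> ring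
  rcases hαβ with hβα | hβα
  · -- scalar
    have hker : g ∈ (conjAut ⇑Q).ker := by
      apply mem_ker_of_mem_scalars
      rw [Cfsg.Geo.mem_scalars_iff]
      refine ⟨Units.mk0 α hα0, ?_⟩
      apply Matrix.mulVec_injective
      funext v
      rw [Units.val_mk0, Matrix.smul_mulVec, Matrix.one_mulVec, hgv]
      obtain ⟨y, hy1, z, hz, rfl⟩ := exists_decomp ht h2 hε v
      rw [map_add, hα y hy1, hβ z hz, hβα, ← smul_add]
    rw [MonoidHom.mem_ker.1 hker]
    exact Subgroup.one_mem _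
  · -- scalar times `t`
    have hker : g * (toGO Q t)⁻¹ ∈ (conjAut ⇑Q).ker := by
      apply mem_ker_of_mem_scalars
      rw [Cfsg.Geo.mem_scalars_iff]
      refine ⟨Units.mk0 (α * ε) (mul_ne_zero hα0 (by
        rcases hε with rfl | rfl
        · exact one_ne_zero
        · exact neg_ne_zero.2 one_ne_zero)), ?_⟩
      apply Matrix.mulVec_injective
      funext v
      rw [Units.val_mk0, Matrix.smul_mulVec, Matrix.one_mulVec]
      show ((g.1 * (t.1)⁻¹ : GL ι F) : Matrix ι ι F) *ᵥ v = _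
      rw [Units.val_mul, ← Matrix.mulVec_mulVec, hgv]
      -- `t⁻¹ = t`
      have htinv : ((t.1)⁻¹ : GL ι F) = t.1 := by
        have : t⁻¹ = t := inv_eq_of_mul_eq_one_left ht
        have h4 := congrArg Subtype.val this
        exact h4
      rw [htinv]
      have htv : ((t.1 : GL ι F) : Matrix ι ι F) *ᵥ v = lin Q t v := rfl
      rw [htv]
      obtain ⟨y, hy1, z, hz, rfl⟩ := exists_decomp ht h2 hε v
      rw [map_add, (mem_eigS Q t).1 hy1, (mem_eigS Q t).1 hz, map_add, hGlin, hGlin,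
        hα y hy1, hβ z hz, hβα]
      have e1 : ε • α • y + -ε • -α • z = (α * ε) • (y + z) := by
        rw [smul_smul, smul_smul, smul_add]
        congr 1
        · rw [mul_comm]
        · congr 1
          ring
      rw [e1]
    have h4 : conjAut ⇑Q g = conjAut ⇑Q (toGO Q t) := by
      have h5 := MonoidHom.mem_ker.1 hker
      rw [map_mul, map_inv, mul_inv_eq_one] at h5
      exact h5
    rw [h4]
    exact Subgroup.mem_zpowers _

end Cfsg.Agent.Helper5.Bal
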