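import Mathlib
import Cfsg.Agent.Helper5.BalK

/-!
# Local balance for graph involutions of `PΩ⁻`, part M: the centraliser in `Ω(Q)` of a similarity
`δ`, and the reduction of "`Inn K ∩ C(x)` has no normal subgroup of odd order" to a statement on
that centraliser
-/

set_option autoImplicit false
set_option linter.unusedSectionVars false
set_option linter.unusedSimpArgs false

namespace Cfsg.Agent.Helper5.Bal

open Matrix QuadraticMap Module MulAction Cfsg.Agent.Helper44 Cfsg.Agent.Helper45.OmegaParity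
  Cfsg.Agent.Helper5 Cfsg.Agent.Helper5.AutO Cfsg.Agent.Helper37.Bal Cfsg.Agent.Helper12.GammaO

variable {F : Type*} [Field F] {ι : Type} [Fintype ι] [DecidableEq ι]
variable (Q : QuadraticForm F (ι → F)) (δ : ↥(Cfsg.Geo.quadSimilarityGroup (F := F) ⇑Q))

/-- the centraliser of the similarity `δ` in `Ω(Q)` -/
def centG : Subgroup ↥(Cfsg.Omega F ⇑Q) where
  carrier := {s | (s.1.1 : GL ι F) * δ.1 = δ.1 * s.1.1}
  mul_mem' := by
    intro a b ha hb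
    show ((a * b).1.1 : GL ι F) * δ.1 = δ.1 * (a * b).1.1
    have ha' : (a.1.1 : GL ι F) * δ.1 = δ.1 * a.1.1 := ha
    have hb' : (b.1.1 : GL ι F) * δ.1 = δ.1 * b.1.1 := hb
    rw [Subgroup.coe_mul, Subgroup.coe_mul, mul_assoc, hb', ← mul_assoc, ha', mul_assoc]
  one_mem' := by
    show ((1 : ↥(Cfsg.Omega F ⇑Q)).1.1 : GL ι F) * δ.1 = δ.1 * (1 : ↥(Cfsg.Omega F ⇑Q)).1.1
    rw [Subgroup.coe_one, Subgroup.coe_one, one_mul, mul_one]
  inv_mem' := by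
    intro a ha
    have ha' : (a.1.1 : GL ι F) * δ.1 = δ.1 * a.1.1 := ha
    show ((a⁻¹).1.1 : GL ι F) * δ.1 = δ.1 * (a⁻¹).1.1
    rw [Subgroup.coe_inv, Subgroup.coe_inv]
    calc (a.1.1 : GL ι F)⁻¹ * δ.1 = (a.1.1 : GL ι F)⁻¹ * (δ.1 * a.1.1) * (a.1.1 : GL ι F)⁻¹ := by
          group
      _ = (a.1.1 : GL ι F)⁻¹ * (a.1.1 * δ.1) * (a.1.1 : GL ι F)⁻¹ := by rw [ha']
      _ = δ.1 * (a.1.1 : GL ι F)⁻¹ := by group

theorem mem_centG {s : ↥(Cfsg.Omega F ⇑Q)} :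
    s ∈ centG Q δ ↔ (s.1.1 : GL ι F) * δ.1 = δ.1 * s.1.1 := Iff.rfl

theorem conjAut_prj (s : ↥(Cfsg.Omega F ⇑Q)) :
    ∃ s' : ↥(Cfsg.Omega F ⇑Q), (s'.1.1 : GL ι F) = δ.1 * s.1.1 * δ.1⁻¹ ∧
      conjAut ⇑Q δ (prj s) = prj s' := by
  refine ⟨MulAut.characteristic (Cfsg.Omega F ⇑Q) (simConj ⇑Q δ) s, ?_, ?_⟩
  · rw [coe_conj_Omega]
  · rfl

variable {Q δ}

theorem conjAut_prj_of_mem_centG {s : ↥(Cfsg.Omega F ⇑Q)} (hs : s ∈ centG Q δ) :
    conjAut ⇑Q δ (prj s) = prj s := by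
  obtain ⟨s', hs', e⟩ := conjAut_prj Q δ s
  rw [e]
  congr 1
  apply Subtype.ext
  apply Subtype.ext
  rw [hs']
  calc δ.1 * s.1.1 * δ.1⁻¹ = (s.1.1 * δ.1) * δ.1⁻¹ := by rw [(mem_centG Q δ).1 hs]
    _ = s.1.1 := by group

/-- the homomorphism `C_Ω(δ) → Inn K ∩ C(x)` -/
noncomputable def kapG : ↥(centG Q δ) →* ↥(innCent (conjAut ⇑Q δ)) where
  toFun s := ⟨MulAut.conj (prj s.1), Subgroup.mem_inf.2 ⟨⟨prj s.1, rfl⟩,
    conj_mem_centralizer _ (conjAut_prj_of_mem_centG s.2)⟩⟩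
  map_one' := by
    apply Subtype.ext
    show MulAut.conj (prj (1 : ↥(Cfsg.Omega F ⇑Q))) = 1
    rw [map_one, map_one]
  map_mul' a b := by
    apply Subtype.ext
    show MulAut.conj (prj (a.1 * b.1)) = MulAut.conj (prj a.1) * MulAut.conj (prj b.1)
    rw [map_mul, map_mul]

theorem coe_kapG (s : ↥(centG Q δ)) :
    ((kapG s : ↥(innCent (conjAut ⇑Q δ))) : MulAut (Cfsg.POmega F ⇑Q)) = MulAut.conj (prj s.1) :=
  rfl

variable [Fintype F]

set_option maxHeartbeats 1600000 in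
/-- **(hb), reduction**: if every normal subgroup of `C_Ω(δ)` all of whose elements have an odd
power which is a scalar consists of elements of square one, then `Inn K ∩ C(x)` has no non-trivial
normal subgroup of odd order -/
theorem innCent_no_normal_odd_of (C : Ctx Q) (T : HypTriple Q)
    (hZ : Subgroup.center (Cfsg.POmega F ⇑Q) = ⊥)
    (hsq : ∀ M' : Subgroup ↥(centG Q δ), M'.Normal →
      (∀ s ∈ M', ∃ r : ℕ, Odd r ∧ ∃ a : F,
        ∀ v, lin Q ((s ^ r : ↥(centG Q δ)).1.1) v = a • v) →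
      ∀ s ∈ M', (s * s : ↥(centG Q δ)) = 1)
    (M : Subgroup ↥(innCent (conjAut ⇑Q δ))) (hMn : M.Normal)
    (hMc : (Nat.card ↥M).Coprime 2) : M = ⊥ := by
  classical
  have hr : Odd (Nat.card ↥M) := by
    rw [← Nat.not_even_iff_odd, even_iff_two_dvd]
    intro h
    have := Nat.dvd_gcd h (dvd_refl 2)
    rw [Nat.Coprime.gcd_eq_one hMc] at this
    omega
  set r := Nat.card ↥M with hrdef
  have hpow : ∀ z : ↥(innCent (conjAut ⇑Q δ)), z ∈ M → z ^ r = 1 := by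
    intro z hz
    have h1 : (⟨z, hz⟩ : ↥M) ^ r = 1 := pow_card_eq_one'
    have h3 := congrArg Subtype.val h1
    exact h3
  set M' : Subgroup ↥(centG Q δ) := M.comap kapG with hM'
  have hM'n : M'.Normal := hMn.comap kapG
  have hM'odd : ∀ s ∈ M', ∃ r : ℕ, Odd r ∧ ∃ a : F,
      ∀ v, lin Q ((s ^ r : ↥(centG Q δ)).1.1) v = a • v := by
    intro s hs
    refine ⟨r, hr, ?_⟩
    have h1 : kapG (s ^ r) = 1 := by
      rw [map_pow]
      exact hpow _ hs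
    have h3 : MulAut.conj (prj (s ^ r : ↥(centG Q δ)).1) = 1 := by
      have := congrArg Subtype.val h1
      exact this
    have h4 := eq_one_of_conj_eq_one hZ h3
    rw [prj_eq_one_iff] at h4
    obtain ⟨a, -, ha⟩ := center_scalar C T h4
    exact ⟨a, ha⟩
  have hsq' := hsq M' hM'n hM'odd
  rw [eq_bot_iff]
  intro z hz
  rw [Subgroup.mem_bot]
  obtain ⟨⟨k, hk⟩, hzc⟩ := Subgroup.mem_inf.1 z.2
  obtain ⟨s₀, rfl⟩ := prj_surjective k
  have hk' : MulAut.conj (prj s₀) = z.1 := hk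
  -- `x k = k`
  have hfix : conjAut ⇑Q δ (prj s₀) = prj s₀ := by
    apply apply_eq_of_conj_mem_centralizer hZ
    rw [hk']
    exact hzc
  obtain ⟨s', hs', e⟩ := conjAut_prj Q δ s₀
  rw [e] at hfix
  have hss := sq_eq_of_prj_eq C T hfix
  -- `s₀²` commutes with `δ`
  have hmem : s₀ * s₀ ∈ centG Q δ := by
    rw [mem_centG]
    have h1 : δ.1 * ((s₀ * s₀).1.1 : GL ι F) * δ.1⁻¹ = ((s' * s').1.1 : GL ι F) := by
      rw [Subgroup.coe_mul, Subgroup.coe_mul, Subgroup.coe_mul, Subgroup.coe_mul, hs']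
      group
    rw [hss] at h1
    calc ((s₀ * s₀).1.1 : GL ι F) * δ.1 = (δ.1 * ((s₀ * s₀).1.1 : GL ι F) * δ.1⁻¹) * δ.1 := by
          rw [h1]
      _ = δ.1 * (s₀ * s₀).1.1 := by group
  set s₁ : ↥(centG Q δ) := ⟨s₀ * s₀, hmem⟩ with hs₁
  have hkap : kapG s₁ = z * z := by
    apply Subtype.ext
    rw [coe_kapG, Subgroup.coe_mul, ← hk']
    show MulAut.conj (prj (s₀ * s₀)) = _
    rw [map_mul, map_mul]
  have hs₁M : s₁ ∈ M' := by
    show kapG s₁ ∈ M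
    rw [hkap]
    exact M.mul_mem hz hz
  have h4 : (z * z) * (z * z) = 1 := by
    rw [← hkap, ← map_mul, hsq' s₁ hs₁M, map_one]
  have h5 : z ^ 4 = 1 := by
    rw [← h4, pow_succ, pow_succ, pow_succ, pow_one, mul_assoc, mul_assoc]
  have h6 : z ^ r = 1 := hpow z hz
  have h7 : orderOf z ∣ Nat.gcd 4 r :=
    Nat.dvd_gcd (orderOf_dvd_of_pow_eq_one h5) (orderOf_dvd_of_pow_eq_one h6)
  have h8 : Nat.gcd 4 r = 1 := by
    have : Nat.Coprime 4 r := by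
      have h9 : Nat.Coprime (2 ^ 2) r := Nat.Coprime.pow_left 2 hMc.symm
      exact h9
    exact this
  rw [h8, Nat.dvd_one] at h7
  exact orderOf_eq_one_iff.1 h7

/-- **Step A, general form**: an automorphism `psi X` centralising `Inn K ∩ C(x)` commutes (as an
additive map) with the squares of the elements of `C_Ω(δ)` -/
theorem semiAdd_comm_sq (C : Ctx Q) (T : HypTriple Q)
    (hZ : Subgroup.center (Cfsg.POmega F ⇑Q) = ⊥) (X : ↥(GamO ⇑Q))
    (hy : ∀ z ∈ innCent (conjAut ⇑Q δ), psi ⇑Q X * z = z * psi ⇑Q X)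
    (s₁ : ↥(centG Q δ)) (v : ι → F) :
    semiAdd X.1 (lin Q (s₁.1 * s₁.1).1 v) = lin Q (s₁.1 * s₁.1).1 (semiAdd X.1 v) := by
  -- `psi X` fixes `prj s₁`
  have hfix : psi ⇑Q X (prj s₁.1) = prj s₁.1 := by
    apply apply_eq_of_conj_mem_centralizer hZ
    rw [Subgroup.mem_centralizer_singleton_iff]
    have := hy (kapG s₁).1 (kapG s₁).2
    rw [coe_kapG] at this
    exact this.symm
  set s₁' : ↥(Cfsg.Omega F ⇑Q) :=
    MulAut.characteristic (Cfsg.Omega F ⇑Q) (psi0 ⇑Q X) s₁.1 with hs₁'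
  have hfix' : prj s₁' = prj s₁.1 := hfix
  have hsq := sq_eq_of_prj_eq C T hfix'
  have hE : conjLeft X.1 (((s₁.1 * s₁.1 : ↥(Cfsg.Omega F ⇑Q)).1 : GL ι F))
      = (((s₁.1 * s₁.1 : ↥(Cfsg.Omega F ⇑Q)).1 : GL ι F)) := by
    have h1 : (((s₁' * s₁' : ↥(Cfsg.Omega F ⇑Q)) : ↥(Cfsg.isometryGroup F ⇑Q)) : GL ι F)
        = conjLeft X.1 ((s₁.1.1 : GL ι F)) * conjLeft X.1 ((s₁.1.1 : GL ι F)) := by
      rw [Subgroup.coe_mul, Subgroup.coe_mul, hs₁', coe_psi0_Omega]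
    rw [hsq, ← conjLeft_mul_right] at h1
    rw [Subgroup.coe_mul, Subgroup.coe_mul]
    rw [Subgroup.coe_mul, Subgroup.coe_mul] at h1
    exact h1.symm
  rw [lin_apply, lin_apply, semiAdd_apply, semiAdd_apply]
  have h5 := conjLeft_mulVec X.1 (((s₁.1 * s₁.1 : ↥(Cfsg.Omega F ⇑Q)).1 : GL ι F))
    (semiLin X.1.left X.1.right v)
  rw [hE, semiLin_inv_apply] at h5
  exact h5.symm

end Cfsg.Agent.Helper5.Bal
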