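import Mathlib
import Cfsg.Agent.Helper5.BalE
import Cfsg.Agent.Helper44.StdForms
import Cfsg.Agent.Helper44.OmegaIndex

/-!
# Local balance for graph involutions of `PΩ⁻`, part N: restriction of scalars

`E = F(√lam)` (as `QuadraticAlgebra F lam 0`), `C : E^(2k+1) ≃ₗ[F] F^ι` coordinates in which
`Q = re (c · Q_E)` and `δ` is multiplication by `ω = √lam`.  The isometry group of `Q_E` maps
isomorphically onto the centraliser of `δ` in the isometry group of `Q`.
-/

set_option autoImplicit false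
set_option linter.unusedSectionVars false
set_option linter.unusedSimpArgs false

namespace Cfsg.Agent.Helper5.Bal

open Matrix QuadraticMap Module Cfsg.Agent.Helper44 Cfsg.Agent.Helper45.OmegaParity
  Cfsg.Agent.Helper5

section algebra

variable {F : Type*} [Field F] {lam : F}

/-- an element of `E` is determined by the real parts of `z` and `ω z` -/
theorem qa_eq_zero_of_re (hlam : lam ≠ 0) (z : QuadraticAlgebra F lam 0) (h1 : z.re = 0)
    (h2 : ((⟨0, 1⟩ : QuadraticAlgebra F lam 0) * z).re = 0) : z = 0 := by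
  rw [QuadraticAlgebra.re_mul] at h2
  simp only [zero_mul, zero_add, mul_one] at h2
  apply QuadraticAlgebra.ext
  · exact h1
  · rcases mul_eq_zero.1 h2 with h | h
    · exact absurd h hlam
    · exact h

/-- decomposition of the multiplication by an element of `E` -/
theorem qa_mul_decomp (e z : QuadraticAlgebra F lam 0) :
    e * z = e.re • z + e.im • ((⟨0, 1⟩ : QuadraticAlgebra F lam 0) * z) := by
  apply QuadraticAlgebra.ext
  · simp only [QuadraticAlgebra.re_mul, QuadraticAlgebra.re_add, QuadraticAlgebra.re_smul,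
      smul_eq_mul]
    ring
  · simp only [QuadraticAlgebra.im_mul, QuadraticAlgebra.im_add, QuadraticAlgebra.im_smul,
      smul_eq_mul]
    ring

theorem qa_smul_decomp {κ : Type*} (e : QuadraticAlgebra F lam 0)
    (v : κ → QuadraticAlgebra F lam 0) :
    e • v = e.re • v + e.im • ((⟨0, 1⟩ : QuadraticAlgebra F lam 0) • v) := by
  funext i
  simp only [Pi.smul_apply, Pi.add_apply, smul_eq_mul]
  exact qa_mul_decomp e (v i)

/-- an element `D` of `E` with `re (c e² D) = 0` for all `e` vanishes (`c ≠ 0`) -/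
theorem qa_eq_zero_of_re_sq [Fact (∀ r : F, r ^ 2 ≠ lam + 0 * r)] (h2 : (2 : F) ≠ 0)
    (hlam : lam ≠ 0) {c : QuadraticAlgebra F lam 0}
    (hc : c ≠ 0) (D : QuadraticAlgebra F lam 0)
    (h : ∀ e : QuadraticAlgebra F lam 0, (c * (e * e * D)).re = 0) : D = 0 := by
  have hz : c * D = 0 := by
    apply qa_eq_zero_of_re hlam
    · have := h 1
      rw [one_mul, one_mul] at this
      exact this
    · have h1 := h 1
      have h3 := h ⟨1, 1⟩
      rw [one_mul, one_mul] at h1
      have e1 : c * ((⟨1, 1⟩ : QuadraticAlgebra F lam 0) * ⟨1, 1⟩ * D)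
          = (1 + lam) • (c * D) + (2 : F) • ((⟨0, 1⟩ : QuadraticAlgebra F lam 0) * (c * D)) := by
        apply QuadraticAlgebra.ext
        · simp only [QuadraticAlgebra.re_mul, QuadraticAlgebra.im_mul, QuadraticAlgebra.re_add,
            QuadraticAlgebra.re_smul, smul_eq_mul]
          ring
        · simp only [QuadraticAlgebra.re_mul, QuadraticAlgebra.im_mul, QuadraticAlgebra.im_add,
            QuadraticAlgebra.im_smul, smul_eq_mul]
          ring
      rw [e1, QuadraticAlgebra.re_add, QuadraticAlgebra.re_smul, QuadraticAlgebra.re_smul, h1,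
        smul_zero, zero_add, smul_eq_mul] at h3
      rcases mul_eq_zero.1 h3 with h4 | h4
      · exact absurd h4 h2
      · exact h4
  rcases mul_eq_zero.1 hz with h1 | h1
  · exact absurd h1 hc
  · exact h1

end algebra

variable {F : Type*} [Field F] {ι : Type} [Fintype ι] [DecidableEq ι]

/-- the data of GR-B: coordinates over `E = F(√lam)` -/
structure ExtData (Q : QuadraticForm F (ι → F)) (lam : F) [Fact (∀ r : F, r ^ 2 ≠ lam + 0 * r)]
    (k : ℕ) (δ : Matrix ι ι F) where
  c : QuadraticAlgebra F lam 0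
  C : ((Unit ⊕ (Fin k ⊕ Fin k)) → QuadraticAlgebra F lam 0) ≃ₗ[F] (ι → F)
  hc : c ≠ 0
  hQ : ∀ v, Q (C v) = (c * Cfsg.quadFormOdd k (QuadraticAlgebra F lam 0) v).re
  hδ : ∀ v, δ *ᵥ (C v) = C ((⟨0, 1⟩ : QuadraticAlgebra F lam 0) • v)

variable {Q : QuadraticForm F (ι → F)} {lam : F} [Fact (∀ r : F, r ^ 2 ≠ lam + 0 * r)] {k : ℕ}
  {δ : Matrix ι ι F} (D : ExtData Q lam k δ)

theorem ExtData.hQ' (v : (Unit ⊕ (Fin k ⊕ Fin k)) → QuadraticAlgebra F lam 0) :
    Q (D.C v) = (D.c * oddForm k (QuadraticAlgebra F lam 0) v).re := D.hQ v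

theorem ExtData.lam_ne_zero (_D : ExtData Q lam k δ) : lam ≠ 0 := by
  intro h
  apply (Fact.out : ∀ r : F, r ^ 2 ≠ lam + 0 * r) 0
  rw [h]
  ring

/-- restriction of scalars of an `E`-isometry, as an `F`-linear map -/
noncomputable def PsiLin
    (g : Cfsg.isometryGroup (QuadraticAlgebra F lam 0) ⇑(oddForm k (QuadraticAlgebra F lam 0))) :
    (ι → F) →ₗ[F] (ι → F) :=
  D.C.toLinearMap ∘ₗ ((lin (oddForm k (QuadraticAlgebra F lam 0)) g).restrictScalars F)
    ∘ₗ D.C.symm.toLinearMap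

theorem PsiLin_apply
    (g : Cfsg.isometryGroup (QuadraticAlgebra F lam 0) ⇑(oddForm k (QuadraticAlgebra F lam 0)))
    (v : (Unit ⊕ (Fin k ⊕ Fin k)) → QuadraticAlgebra F lam 0) :
    PsiLin D g (D.C v) = D.C (lin (oddForm k (QuadraticAlgebra F lam 0)) g v) := by
  unfold PsiLin
  rw [LinearMap.comp_apply, LinearMap.comp_apply, LinearEquiv.coe_coe, LinearEquiv.coe_coe,
    LinearEquiv.symm_apply_apply]
  rfl

theorem PsiLin_mul
    (g h : Cfsg.isometryGroup (QuadraticAlgebra F lam 0) ⇑(oddForm k (QuadraticAlgebra F lam 0)))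
    (x : ι → F) : PsiLin D (g * h) x = PsiLin D g (PsiLin D h x) := by
  obtain ⟨v, rfl⟩ := D.C.surjective x
  rw [PsiLin_apply, PsiLin_apply, PsiLin_apply, lin_mul_apply]

theorem PsiLin_one (x : ι → F) :
    PsiLin D (1 : Cfsg.isometryGroup (QuadraticAlgebra F lam 0)
      ⇑(oddForm k (QuadraticAlgebra F lam 0))) x = x := by
  obtain ⟨v, rfl⟩ := D.C.surjective x
  rw [PsiLin_apply, lin_one_apply]

/-- restriction of scalars of an `E`-isometry, as an `F`-linear equivalence -/
noncomputable def PsiEquiv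
    (g : Cfsg.isometryGroup (QuadraticAlgebra F lam 0) ⇑(oddForm k (QuadraticAlgebra F lam 0))) :
    (ι → F) ≃ₗ[F] (ι → F) :=
  LinearEquiv.ofLinearMap (PsiLin D g) (PsiLin D g⁻¹)
    (by
      apply LinearMap.ext
      intro x
      rw [LinearMap.comp_apply, ← PsiLin_mul, mul_inv_cancel, PsiLin_one]
      rfl)
    (by
      apply LinearMap.ext
      intro x
      rw [LinearMap.comp_apply, ← PsiLin_mul, inv_mul_cancel, PsiLin_one]
      rfl)

theorem PsiEquiv_apply
    (g : Cfsg.isometryGroup (QuadraticAlgebra F lam 0) ⇑(oddForm k (QuadraticAlgebra F lam 0)))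
    (x : ι → F) : PsiEquiv D g x = PsiLin D g x := rfl

/-- **restriction of scalars** `O(Q_E) → O(Q)` -/
noncomputable def Psi :
    Cfsg.isometryGroup (QuadraticAlgebra F lam 0) ⇑(oddForm k (QuadraticAlgebra F lam 0))
      →* Cfsg.isometryGroup F ⇑Q where
  toFun g := isoOfLin Q (PsiEquiv D g) (fun x => by
    obtain ⟨v, rfl⟩ := D.C.surjective x
    rw [PsiEquiv_apply, PsiLin_apply, D.hQ', D.hQ', lin_isometry])
  map_one' := by
    apply isom_ext
    intro x
    rw [lin_isoOfLin, PsiEquiv_apply, PsiLin_one, lin_one_apply]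
  map_mul' g h := by
    apply isom_ext
    intro x
    rw [lin_isoOfLin, lin_mul_apply, lin_isoOfLin, lin_isoOfLin, PsiEquiv_apply, PsiEquiv_apply,
      PsiEquiv_apply, PsiLin_mul]

theorem lin_Psi
    (g : Cfsg.isometryGroup (QuadraticAlgebra F lam 0) ⇑(oddForm k (QuadraticAlgebra F lam 0)))
    (v : (Unit ⊕ (Fin k ⊕ Fin k)) → QuadraticAlgebra F lam 0) :
    lin Q (Psi D g) (D.C v) = D.C (lin (oddForm k (QuadraticAlgebra F lam 0)) g v) := by
  unfold Psi
  rw [MonoidHom.coe_mk, OneHom.coe_mk, lin_isoOfLin, PsiEquiv_apply, PsiLin_apply]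

theorem Psi_injective : Function.Injective (Psi D) := by
  intro g h hgh
  apply isom_ext
  intro v
  apply D.C.injective
  rw [← lin_Psi, ← lin_Psi, hgh]

/-- the image of `Psi` commutes with `δ` -/
theorem Psi_comm
    (g : Cfsg.isometryGroup (QuadraticAlgebra F lam 0) ⇑(oddForm k (QuadraticAlgebra F lam 0)))
    (x : ι → F) : lin Q (Psi D g) (δ *ᵥ x) = δ *ᵥ (lin Q (Psi D g) x) := by
  obtain ⟨v, rfl⟩ := D.C.surjective x
  rw [D.hδ, lin_Psi, lin_Psi, D.hδ, map_smul]

/-- an `F`-linear map commuting with `ω` is `E`-linear -/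
theorem map_smul_of_comm_omega {κ : Type*}
    (f : (κ → QuadraticAlgebra F lam 0) →ₗ[F] (κ → QuadraticAlgebra F lam 0))
    (hf : ∀ v, f ((⟨0, 1⟩ : QuadraticAlgebra F lam 0) • v)
      = (⟨0, 1⟩ : QuadraticAlgebra F lam 0) • f v)
    (e : QuadraticAlgebra F lam 0) (v : κ → QuadraticAlgebra F lam 0) : f (e • v) = e • f v := by
  rw [qa_smul_decomp e v, qa_smul_decomp e (f v), map_add, map_smul, map_smul, hf]

/-- **every isometry of `Q` commuting with `δ` comes from an `E`-isometry** -/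
theorem exists_Psi_eq (h2 : (2 : F) ≠ 0) (s : Cfsg.isometryGroup F ⇑Q)
    (hs : ∀ x, lin Q s (δ *ᵥ x) = δ *ᵥ (lin Q s x)) : ∃ g, Psi D g = s := by
  have hlam := D.lam_ne_zero
  -- the `E`-linear maps
  have key : ∀ s : Cfsg.isometryGroup F ⇑Q, (∀ x, lin Q s (δ *ᵥ x) = δ *ᵥ (lin Q s x)) →
      ∃ f : ((Unit ⊕ (Fin k ⊕ Fin k)) → QuadraticAlgebra F lam 0)
        →ₗ[QuadraticAlgebra F lam 0] ((Unit ⊕ (Fin k ⊕ Fin k)) → QuadraticAlgebra F lam 0),
        ∀ v, D.C (f v) = lin Q s (D.C v) := by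
    intro s hs
    set f₀ : ((Unit ⊕ (Fin k ⊕ Fin k)) → QuadraticAlgebra F lam 0) →ₗ[F]
        ((Unit ⊕ (Fin k ⊕ Fin k)) → QuadraticAlgebra F lam 0) :=
      D.C.symm.toLinearMap ∘ₗ (lin Q s) ∘ₗ D.C.toLinearMap with hf₀
    have hf₀a : ∀ v, D.C (f₀ v) = lin Q s (D.C v) := by
      intro v
      rw [hf₀, LinearMap.comp_apply, LinearMap.comp_apply, LinearEquiv.coe_coe,
        LinearEquiv.coe_coe, LinearEquiv.apply_symm_apply]
    have hf₀c : ∀ v, f₀ ((⟨0, 1⟩ : QuadraticAlgebra F lam 0) • v)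
        = (⟨0, 1⟩ : QuadraticAlgebra F lam 0) • f₀ v := by
      intro v
      apply D.C.injective
      rw [hf₀a, ← D.hδ, hs, ← hf₀a, D.hδ]
    refine ⟨{ toFun := f₀, map_add' := f₀.map_add,
              map_smul' := fun e v => map_smul_of_comm_omega f₀ hf₀c e v }, hf₀a⟩
  obtain ⟨f, hf⟩ := key s hs
  have hs' : ∀ x, lin Q s⁻¹ (δ *ᵥ x) = δ *ᵥ (lin Q s⁻¹ x) := by
    intro x
    have h1 := hs (lin Q s⁻¹ x)
    rw [lin_apply_inv] at h1
    rw [← h1, lin_inv_apply]
  obtain ⟨f', hf'⟩ := key s⁻¹ hs'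
  set fe : ((Unit ⊕ (Fin k ⊕ Fin k)) → QuadraticAlgebra F lam 0)
      ≃ₗ[QuadraticAlgebra F lam 0] ((Unit ⊕ (Fin k ⊕ Fin k)) → QuadraticAlgebra F lam 0) :=
    LinearEquiv.ofLinearMap f f'
      (by
        apply LinearMap.ext
        intro v
        apply D.C.injective
        rw [LinearMap.comp_apply, hf, hf', lin_apply_inv]
        rfl)
      (by
        apply LinearMap.ext
        intro v
        apply D.C.injective
        rw [LinearMap.comp_apply, hf', hf, lin_inv_apply]
        rfl) with hfe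
  have hfe_apply : ∀ v, fe v = f v := fun v => rfl
  -- `f` is an isometry of `Q_E`
  have hiso : ∀ v, oddForm k (QuadraticAlgebra F lam 0) (fe v)
      = oddForm k (QuadraticAlgebra F lam 0) v := by
    intro v
    rw [← sub_eq_zero]
    apply qa_eq_zero_of_re_sq h2 hlam D.hc
    intro e
    have h1 : D.c * (e * e * (oddForm k (QuadraticAlgebra F lam 0) (fe v)
        - oddForm k (QuadraticAlgebra F lam 0) v))
        = D.c * oddForm k (QuadraticAlgebra F lam 0) (f (e • v))
          - D.c * oddForm k (QuadraticAlgebra F lam 0) (e • v) := by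
      rw [map_smul, QuadraticMap.map_smul, QuadraticMap.map_smul, hfe_apply]
      simp only [smul_eq_mul]
      ring
    rw [h1, QuadraticAlgebra.re_sub, ← D.hQ', ← D.hQ', hf, lin_isometry, sub_self]
  refine ⟨isoOfLin (oddForm k (QuadraticAlgebra F lam 0)) fe hiso, ?_⟩
  apply isom_ext
  intro x
  obtain ⟨v, rfl⟩ := D.C.surjective x
  rw [lin_Psi, lin_isoOfLin, hfe_apply, hf]

end Cfsg.Agent.Helper5.Bal
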