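import Mathlib
import Cfsg.Agent.Helper5.BalM
import Cfsg.Agent.Helper5.BalN
import Cfsg.Agent.Helper5.OrthSimpleStd

/-!
# Local balance for graph involutions of `PΩ⁻`, part O: case (ii) — the centraliser in `Ω(Q)` of a
similarity `δ` with `δ² = lam` a non-square has no normal subgroup of "odd order"
-/

set_option autoImplicit false
set_option linter.unusedSectionVars false
set_option linter.unusedSimpArgs false

namespace Cfsg.Agent.Helper5.Bal

open Matrix QuadraticMap Module MulAction Cfsg.Agent.Helper44 Cfsg.Agent.Helper45.OmegaParity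
  Cfsg.Agent.Helper5 Cfsg.Agent.Helper5.AutO Cfsg.Agent.Helper37.Bal Cfsg.Agent.Helper12.GammaO

section generalities

variable {F : Type*} [Field F] {ι : Type} [Fintype ι] [DecidableEq ι]
variable (Q : QuadraticForm F (ι → F))

/-- isometries of odd order lie in `Ω` -/
theorem mem_Omega_of_odd_pow [Fintype F] (h2 : (2 : F) ≠ 0)
    (hQ : (QuadraticMap.polarBilin Q).Nondegenerate) {c : F} (hc : ¬ IsSquare c)
    (g : Cfsg.isometryGroup F ⇑Q) {r : ℕ} (hr : Odd r) (hg : g ^ r = 1) :
    g ∈ Cfsg.Omega F ⇑Q := by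
  rw [← ker_omegaChar Q h2 hQ hc, MonoidHom.mem_ker]
  have h1 : (omegaChar Q c g) ^ r = 1 := by rw [← map_pow, hg, map_one]
  have h3 : ∀ x : ℤˣ × ℤˣ, x ^ 2 = 1 := by
    intro x
    apply Prod.ext
    · exact Int.units_sq _
    · exact Int.units_sq _
  obtain ⟨j, hj⟩ := hr
  rw [hj, pow_succ, pow_mul, h3, one_pow, one_mul] at h1
  exact h1

theorem eichlerO_pow {u w : ι → F} (hu : Q u = 0) (huw : polar ⇑Q u w = 0) (n : ℕ) :
    eichlerO Q u w ^ n = eichlerO Q u (n • w) := by
  induction n with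
  | zero => rw [pow_zero, zero_smul, eichlerO_zero]
  | succ n ih =>
    have h1 : polar ⇑Q u (n • w) = 0 := by
      rw [← Nat.cast_smul_eq_nsmul F, QuadraticMap.polar_smul_right, huw, smul_zero]
    rw [pow_succ, ih, eichlerO_mul Q hu h1 huw, succ_nsmul]

/-- Eichler transformations have odd order over a finite field of odd order -/
theorem eichlerO_pow_card [Fintype F] (u w : ι → F) :
    eichlerO Q u w ^ Fintype.card F = 1 := by
  by_cases h : Q u = 0 ∧ polar ⇑Q u w = 0
  · rw [eichlerO_pow Q h.1 h.2, ← Nat.cast_smul_eq_nsmul F, Nat.cast_card_eq_zero, zero_smul,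
      eichlerO_zero]
  · have : eichlerO Q u w = 1 := by
      unfold eichlerO
      rw [dif_neg h]
    rw [this, one_pow]

/-- commutation with a matrix, in terms of the linear maps -/
theorem comm_iff_lin (s : Cfsg.isometryGroup F ⇑Q) (d : GL ι F) :
    (s.1 : GL ι F) * d = d * s.1 ↔
      ∀ x, lin Q s ((d : Matrix ι ι F) *ᵥ x) = (d : Matrix ι ι F) *ᵥ (lin Q s x) := by
  constructor
  · intro h x
    rw [lin_apply, lin_apply, Matrix.mulVec_mulVec, Matrix.mulVec_mulVec, ← Units.val_mul,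
      ← Units.val_mul, h]
  · intro h
    apply Units.ext
    apply Matrix.toLin'.injective
    apply LinearMap.ext
    intro x
    rw [Matrix.toLin'_apply, Matrix.toLin'_apply, Units.val_mul, Units.val_mul,
      ← Matrix.mulVec_mulVec, ← Matrix.mulVec_mulVec]
    exact h x

end generalities

variable {F : Type*} [Field F] [Fintype F] {ι : Type} [Fintype ι] [DecidableEq ι]
variable {Q : QuadraticForm F (ι → F)} {lam : F} [Fact (∀ r : F, r ^ 2 ≠ lam + 0 * r)] {k : ℕ}

/-- the finiteness of `E` -/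
@[instance_reducible]
noncomputable def fintypeQA (lam : F) : Fintype (QuadraticAlgebra F lam 0) :=
  Fintype.ofEquiv (F × F) (QuadraticAlgebra.equivProd lam 0).symm

theorem card_QA (lam : F) :
    @Fintype.card (QuadraticAlgebra F lam 0) (fintypeQA lam) = Fintype.card F * Fintype.card F := by
  rw [← Fintype.card_prod]
  exact @Fintype.card_congr _ _ (fintypeQA lam) _ (QuadraticAlgebra.equivProd lam 0)

theorem not_isSquare_of_fact (lam : F) [Fact (∀ r : F, r ^ 2 ≠ lam + 0 * r)] : ¬ IsSquare lam := by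
  rintro ⟨r, hr⟩
  apply (Fact.out : ∀ r : F, r ^ 2 ≠ lam + 0 * r) r
  rw [hr]
  ring

theorem two_ne_zero_QA (h2 : (2 : F) ≠ 0) : (2 : QuadraticAlgebra F lam 0) ≠ 0 := by
  intro h
  apply h2
  have := congrArg QuadraticAlgebra.re h
  exact this

theorem card_kappa (k : ℕ) : Fintype.card (Unit ⊕ (Fin k ⊕ Fin k)) = 2 * k + 1 := by
  rw [Fintype.card_sum, Fintype.card_sum, Fintype.card_fin, Fintype.card_unit]
  ring

variable (δ : ↥(Cfsg.Geo.quadSimilarityGroup (F := F) ⇑Q))
  (D : ExtData Q lam k ((δ.1 : GL ι F) : Matrix ι ι F))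

/-- the transported `E`-Eichler elements lie in `Ω(Q)` -/
theorem Psi_eichlerO_mem_Omega (hodd : Odd (Fintype.card F))
    (hQ : (QuadraticMap.polarBilin Q).Nondegenerate)
    (u w : (Unit ⊕ (Fin k ⊕ Fin k)) → QuadraticAlgebra F lam 0) :
    Psi D (eichlerO (oddForm k (QuadraticAlgebra F lam 0)) u w) ∈ Cfsg.Omega F ⇑Q := by
  have h2 : (2 : F) ≠ 0 := Cfsg.Agent.Helper44.two_ne_zero_of_odd_card rfl hodd
  let _ := fintypeQA lam
  apply mem_Omega_of_odd_pow Q h2 hQ (not_isSquare_of_fact lam) _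
    (r := Fintype.card (QuadraticAlgebra F lam 0))
  · rw [card_QA]
    exact hodd.mul hodd
  · rw [← map_pow, eichlerO_pow_card, map_one]

/-- the preimage of `Ω(Q)` under restriction of scalars -/
noncomputable def HE :
    Subgroup (Cfsg.isometryGroup (QuadraticAlgebra F lam 0)
      ⇑(oddForm k (QuadraticAlgebra F lam 0))) :=
  (Cfsg.Omega F ⇑Q).comap (Psi D)

/-- restriction of scalars, from the preimage of `Ω(Q)` to `C_Ω(δ)` -/
noncomputable def Theta : ↥(HE δ D) →* ↥(centG Q δ) where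
  toFun h := ⟨⟨Psi D h.1, h.2⟩, (comm_iff_lin Q _ _).2 (Psi_comm D h.1)⟩
  map_one' := by
    apply Subtype.ext
    apply Subtype.ext
    show Psi D (1 : ↥(HE δ D)).1 = 1
    rw [Subgroup.coe_one, map_one]
  map_mul' a b := by
    apply Subtype.ext
    apply Subtype.ext
    show Psi D (a * b).1 = Psi D a.1 * Psi D b.1
    rw [Subgroup.coe_mul, map_mul]

theorem coe_Theta (h : ↥(HE δ D)) : ((Theta δ D h : ↥(centG Q δ)).1.1) = Psi D h.1 := rfl

theorem Theta_surjective (hodd : Odd (Fintype.card F)) : Function.Surjective (Theta δ D) := by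
  have h2 : (2 : F) ≠ 0 := Cfsg.Agent.Helper44.two_ne_zero_of_odd_card rfl hodd
  intro s
  obtain ⟨g, hg⟩ := exists_Psi_eq D h2 s.1.1 ((comm_iff_lin Q _ _).1 s.2)
  have hgH : g ∈ HE δ D := by
    show Psi D g ∈ Cfsg.Omega F ⇑Q
    rw [hg]
    exact s.1.2
  refine ⟨⟨g, hgH⟩, ?_⟩
  apply Subtype.ext
  apply Subtype.ext
  exact hg

include D in
set_option maxHeartbeats 1600000 in
/-- **no normal subgroup of odd order in the centraliser, case (ii)** -/
theorem sq_eq_one_of_normal_ext (hodd : Odd (Fintype.card F))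
    (hQ : (QuadraticMap.polarBilin Q).Nondegenerate) (hk : 1 ≤ k)
    (M : Subgroup ↥(centG Q δ)) (hMn : M.Normal)
    (hM : ∀ s ∈ M, ∃ r : ℕ, Odd r ∧ ∃ a : F,
      ∀ v, lin Q ((s ^ r : ↥(centG Q δ)).1.1) v = a • v) :
    ∀ s ∈ M, (s * s : ↥(centG Q δ)) = 1 := by
  have h2 : (2 : F) ≠ 0 := Cfsg.Agent.Helper44.two_ne_zero_of_odd_card rfl hodd
  let _ := fintypeQA lam
  have h2E : (2 : QuadraticAlgebra F lam 0) ≠ 0 := two_ne_zero_QA h2
  have hoddE : Odd (Fintype.card (QuadraticAlgebra F lam 0)) := by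
    rw [card_QA]
    exact hodd.mul hodd
  have hQE := nondegenerate_oddForm (F := QuadraticAlgebra F lam 0) h2E k
  have hE : ∀ u w, eichlerO (oddForm k (QuadraticAlgebra F lam 0)) u w ∈ HE δ D :=
    fun u w => Psi_eichlerO_mem_Omega δ D hodd hQ u w
  set N : Subgroup ↥(HE δ D) := M.comap (Theta δ D) with hN
  have hNn : N.Normal := hMn.comap (Theta δ D)
  have hNodd : ∀ g ∈ N, ∃ r : ℕ, Odd r ∧
      ∀ p : SingPt (oddForm k (QuadraticAlgebra F lam 0)), (g ^ r) • p = p := by
    intro g hg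
    obtain ⟨r, hr, a, ha⟩ := hM (Theta δ D g) hg
    refine ⟨r, hr, fun p => ?_⟩
    have h1 : ∀ x, lin (oddForm k (QuadraticAlgebra F lam 0)) (g ^ r).1 x
        = (algebraMap F (QuadraticAlgebra F lam 0) a) • x := by
      intro x
      apply D.C.injective
      rw [← lin_Psi, algebraMap_smul, map_smul, ← ha]
      rw [← map_pow, coe_Theta]
    exact smul_singPt_of_scalar (oddForm k (QuadraticAlgebra F lam 0)) (g ^ r).1 h1 p
  have hfix := smul_eq_of_normal_of_odd (oddForm k (QuadraticAlgebra F lam 0)) hoddE hQE hk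
    (card_kappa k) (HE δ D) hE N hNodd
  intro s hs
  obtain ⟨g, rfl⟩ := Theta_surjective δ D hodd s
  have hgN : g ∈ N := hs
  obtain ⟨e, he⟩ := exists_scalar_of_fixes_three (oddForm k (QuadraticAlgebra F lam 0)) h2E hQE
    (by rw [card_kappa]; omega) g.1 (fun p => hfix g hgN p)
  -- `e² = 1`
  have hee : e * e = 1 := by
    set v₁ : (Unit ⊕ (Fin k ⊕ Fin k)) → QuadraticAlgebra F lam 0 :=
      Pi.single (Sum.inl ()) 1 with hv₁
    have hQv : oddForm k (QuadraticAlgebra F lam 0) v₁ = 1 := by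
      rw [oddForm_coe]
      unfold Cfsg.quadFormOdd
      simp [hv₁]
    have h1 := lin_isometry (oddForm k (QuadraticAlgebra F lam 0)) g.1 v₁
    rw [he, QuadraticMap.map_smul, hQv, smul_eq_mul, mul_one] at h1
    exact h1
  have hgg : g * g = 1 := by
    apply Subtype.ext
    apply isom_ext
    intro x
    rw [Subgroup.coe_mul, Subgroup.coe_one, lin_mul_apply, he, he, smul_smul, hee, one_smul,
      lin_one_apply]
  rw [← map_mul, hgg, map_one]

end Cfsg.Agent.Helper5.Bal
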