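import Mathlib
import Cfsg.Agent.Helper5.SpPrimitive
import Cfsg.Agent.S0246
import Cfsg.Prelude.Def_Classical

set_option autoImplicit false
set_option linter.unusedSimpArgs false

namespace Cfsg.Agent.Helper5

open Matrix Cfsg.Agent.Helper13 MulAction
open scoped LinearAlgebra.Projectivization Pointwise

section psp
variable {F : Type*} [Field F] {m : ℕ}

local notation "Vec" => (Fin m ⊕ Fin m → F)
local notation "Mat" => Matrix (Fin m ⊕ Fin m) (Fin m ⊕ Fin m) F
local notation "Sp" => Matrix.symplecticGroup (Fin m) F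

/-- the root subgroup `{T_v(c)}` -/
def rootSubgroup (v : Vec) : Subgroup Sp where
  carrier := {A | ∃ c : F, A = sympTransvectionElt v c}
  mul_mem' := by
    rintro _ _ ⟨c, rfl⟩ ⟨d, rfl⟩
    exact ⟨c + d, sympTransvectionElt_mul v c d⟩
  one_mem' := ⟨0, (sympTransvectionElt_zero v).symm⟩
  inv_mem' := by
    rintro _ ⟨c, rfl⟩
    exact ⟨-c, sympTransvectionElt_inv v c⟩

theorem mem_rootSubgroup {v : Vec} {A : Sp} :
    A ∈ rootSubgroup v ↔ ∃ c : F, A = sympTransvectionElt v c := Iff.rfl

theorem rootSubgroup_smul (v : Vec) {a : F} (ha : a ≠ 0) :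
    rootSubgroup (a • v) = rootSubgroup v := by
  ext A
  simp only [mem_rootSubgroup]
  constructor
  · rintro ⟨c, rfl⟩
    exact ⟨c * a ^ 2, sympTransvectionElt_smul v a c⟩
  · rintro ⟨c, rfl⟩
    refine ⟨c / a ^ 2, ?_⟩
    rw [sympTransvectionElt_smul]
    congr 1
    field_simp

theorem rootSubgroup_conj (A : Sp) (v : Vec) :
    rootSubgroup ((A : Mat) *ᵥ v) = MulAut.conj A • rootSubgroup v := by
  ext B
  rw [Subgroup.mem_pointwise_smul_iff_inv_smul_mem]
  simp only [mem_rootSubgroup, MulAut.smul_def, MulAut.inv_apply, MulAut.conj_symm_apply]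
  constructor
  · rintro ⟨c, rfl⟩
    refine ⟨c, ?_⟩
    rw [← sympTransvectionElt_conj]
    group
  · rintro ⟨c, hc⟩
    refine ⟨c, ?_⟩
    rw [← sympTransvectionElt_conj, ← hc]
    group

theorem rootSubgroup_rep {v : Vec} (hv : v ≠ 0) :
    rootSubgroup (Projectivization.mk F v hv).rep = rootSubgroup v := by
  obtain ⟨a, ha⟩ := Projectivization.exists_smul_eq_mk_rep F v hv
  rw [← ha]
  exact rootSubgroup_smul v a.ne_zero

/-- The Iwasawa structure on `Sp_{2m}(F)` acting on projective space -/
noncomputable def spIwasawa : IwasawaStructure Sp (ℙ F Vec) where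
  T p := rootSubgroup p.rep
  is_comm p := by
    refine ⟨⟨?_⟩⟩
    rintro ⟨_, ⟨c, rfl⟩⟩ ⟨_, ⟨d, rfl⟩⟩
    apply Subtype.ext
    change sympTransvectionElt p.rep c * sympTransvectionElt p.rep d =
      sympTransvectionElt p.rep d * sympTransvectionElt p.rep c
    rw [sympTransvectionElt_mul, sympTransvectionElt_mul, add_comm]
  is_conj g p := by
    conv_lhs => rw [← Projectivization.mk_rep p]
    obtain ⟨h, e⟩ := sp_smul_mk g p.rep_nonzero
    rw [e, rootSubgroup_rep, rootSubgroup_conj]
  is_generator := by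
    rw [eq_top_iff, ← sympTransvectionSubgroup_eq_top, sympTransvectionSubgroup, Subgroup.closure_le]
    rintro A ⟨w, c, hA⟩
    have hA' : A = sympTransvectionElt w c := Subtype.ext hA
    by_cases hw : w = 0
    · have : A = 1 := by
        rw [hA']
        apply Subtype.ext
        change Cfsg.sympTransvection m w c = 1
        rw [hw]
        apply matrix_eq_of_mulVec
        intro x
        rw [sympTransvection_mulVec]
        simp
      rw [this]
      exact one_mem _
    · apply Subgroup.mem_iSup_of_mem (Projectivization.mk F w hw)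
      rw [rootSubgroup_rep]
      exact ⟨c, hA'⟩


/-- an element of `Sp` fixing every point of projective space is `±1` -/
theorem eq_one_or_negOne_of_fixes (hm : 1 ≤ m) (Z : Sp)
    (h : ∀ p : ℙ F Vec, Z • p = p) : Z = 1 ∨ Z = Cfsg.Agent.S0246.negOne m F := by
  have heig : ∀ v : Vec, ∃ a : F, (Z : Mat) *ᵥ v = a • v := by
    intro v
    by_cases hv : v = 0
    · exact ⟨0, by simp [hv]⟩
    have := h (Projectivization.mk F v hv)
    obtain ⟨h', e⟩ := sp_smul_mk Z hv
    rw [e, Projectivization.mk_eq_mk_iff] at this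
    obtain ⟨a, ha⟩ := this
    have ha' : (a : F) • v = (Z : Mat) *ᵥ v := ha
    exact ⟨(a : F), ha'.symm⟩
  obtain ⟨a, ha⟩ := LinearMap.exists_eq_smul_id_of_forall_notLinearIndependent
    (f := Matrix.toLin' (Z : Mat)) (by
      intro v
      obtain ⟨a, ha⟩ := heig v
      rw [LinearIndependent.pair_iff]
      intro h
      have := h a (-1) (by rw [Matrix.toLin'_apply, ha]; simp)
      exact one_ne_zero (neg_eq_zero.1 this.2))
  have hZ : (Z : Mat) = a • (1 : Mat) := by
    have := congrArg LinearMap.toMatrix' ha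
    rw [LinearMap.toMatrix'_toLin'] at this
    rw [this]
    simp [LinearMap.toMatrix'_one]
  have hpres := (mem_symplecticGroup_iff_preserves (Z : Mat)).1 Z.2
  let i0 : Fin m := ⟨0, hm⟩
  have hv : (Pi.single (Sum.inl i0) 1 : Vec) ≠ 0 := by
    intro h
    have := congrFun h (Sum.inl i0)
    simp at this
  obtain ⟨x, hx⟩ := sympForm_nondeg_left hv
  have h1 := hpres x (Pi.single (Sum.inl i0) 1)
  rw [hZ] at h1
  simp only [Matrix.smul_mulVec, Matrix.one_mulVec, sympForm_smul_left, sympForm_smul_right] at h1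
  have h2 : a * a = 1 := by
    have : (a * a - 1) * Cfsg.sympForm m F x (Pi.single (Sum.inl i0) 1) = 0 := by
      linear_combination h1
    rcases mul_eq_zero.1 this with h | h
    · linear_combination h
    · exact absurd h hx
  have h3 : (a - 1) * (a + 1) = 0 := by linear_combination h2
  rcases mul_eq_zero.1 h3 with h | h
  · left
    apply Subtype.ext
    rw [hZ, show a = 1 by linear_combination h]
    simp
  · right
    apply Subtype.ext
    rw [hZ, show a = -1 by linear_combination h]
    simp [Cfsg.Agent.S0246.negOne]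

theorem sympTransvectionElt_ne_one (hm : 1 ≤ m) :
    ∃ A : Sp, A ≠ 1 := by
  let i0 : Fin m := ⟨0, hm⟩
  have hv : (Pi.single (Sum.inl i0) 1 : Vec) ≠ 0 := by
    intro h
    have := congrFun h (Sum.inl i0)
    simp at this
  obtain ⟨x, hx⟩ := sympForm_nondeg_left hv
  refine ⟨sympTransvectionElt (Pi.single (Sum.inl i0) 1) 1, fun h => ?_⟩
  have h1 := congrArg (fun A : Sp => (A : Mat) *ᵥ x) h
  change Cfsg.sympTransvection m _ 1 *ᵥ x = (1 : Mat) *ᵥ x at h1
  rw [sympTransvection_mulVec, Matrix.one_mulVec, one_mul, add_eq_left] at h1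
  rcases smul_eq_zero.1 h1 with h2 | h2
  · exact hx h2
  · exact hv h2

/-- `PSp_{2m}(F)` is simple as soon as `Sp_{2m}(F)` is perfect (`m ≥ 1`). -/
theorem isSimpleGroup_PSp_of_perfect (hm : 1 ≤ m) (hperf : commutator Sp = ⊤) :
    IsSimpleGroup (Cfsg.PSp m F) := by
  have hnt : Nontrivial (Cfsg.PSp m F) := by
    by_contra hcon
    rw [not_nontrivial_iff_subsingleton] at hcon
    have hc : Subgroup.center Sp = ⊤ := by
      rw [eq_top_iff]
      intro g _
      have : (QuotientGroup.mk g : Cfsg.PSp m F) = 1 := Subsingleton.elim _ _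
      exact (QuotientGroup.eq_one_iff g).1 this
    have hcomm : commutator Sp = ⊥ := by
      rw [commutator_def, Subgroup.commutator_eq_bot_iff_le_centralizer]
      intro g _
      rw [Subgroup.mem_centralizer_iff]
      intro h _
      have : g ∈ Subgroup.center Sp := by rw [hc]; trivial
      exact ((Subgroup.mem_center_iff.1 this) h)
    rw [hperf] at hcomm
    obtain ⟨A, hA⟩ := sympTransvectionElt_ne_one (F := F) hm
    apply hA
    have : A ∈ (⊥ : Subgroup Sp) := by rw [← hcomm]; trivial
    exact (Subgroup.mem_bot.1 this)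
  refine ⟨fun N hN => ?_⟩
  set N' : Subgroup Sp := N.comap (QuotientGroup.mk' (Subgroup.center Sp)) with hN'
  have hN'normal : N'.Normal := hN.comap _
  have hmap : N'.map (QuotientGroup.mk' (Subgroup.center Sp)) = N :=
    Subgroup.map_comap_eq_self_of_surjective (QuotientGroup.mk'_surjective _) N
  by_cases hfix : fixedPoints N' (ℙ F Vec) = Set.univ
  · left
    have hle : N' ≤ Subgroup.center Sp := by
      intro g hg
      have hg' : ∀ p : ℙ F Vec, g • p = p := by
        intro p
        have hp : p ∈ fixedPoints N' (ℙ F Vec) := by rw [hfix]; trivial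
        exact hp ⟨g, hg⟩
      rcases eq_one_or_negOne_of_fixes hm g hg' with h | h
      · rw [h]; exact one_mem _
      · rw [h]; exact Cfsg.Agent.S0246.negOne_mem_center
    rw [← hmap, eq_bot_iff]
    calc N'.map (QuotientGroup.mk' (Subgroup.center Sp))
        ≤ (Subgroup.center Sp).map (QuotientGroup.mk' (Subgroup.center Sp)) := Subgroup.map_mono hle
      _ = ⊥ := by rw [QuotientGroup.map_mk'_self]
  · right
    have := spIwasawa.commutator_le N' hfix
    rw [hperf, top_le_iff] at this
    rw [← hmap, this]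
    exact Subgroup.map_top_of_surjective _ (QuotientGroup.mk'_surjective _)

end psp

end Cfsg.Agent.Helper5
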