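import Mathlib
import Cfsg.Agent.Helper12.GammaOI
import Cfsg.Agent.Helper12.GammaOF
import Cfsg.Agent.Helper12.GammaOC
import Cfsg.Agent.Helper37.OutPslA

/-!
# `Out(PΩ⁺_{2m}(2^f)) ≅ C₂ × C_f` for `m ≥ 5`, conditional on `gammaPOmega = ⊤`
-/

set_option autoImplicit false
set_option linter.unusedSectionVars false

namespace Cfsg.Agent.Helper5.OutPlus

open Matrix Module QuadraticMap Cfsg.Agent.Helper44 Cfsg.Agent.Helper12.GammaO

variable {F : Type*} [Field F]

theorem isSemisimilarityPair_plusForm (m : ℕ) (σ : F ≃+* F) :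
    Cfsg.IsSemisimilarityPair (Cfsg.quadFormPlus m F) (1 : GL (Fin m ⊕ Fin m) F) σ := by
  refine ⟨1, fun v => ?_⟩
  rw [Units.val_one, Units.val_one, Matrix.one_mulVec, one_mul]
  unfold Cfsg.quadFormPlus
  simp only [map_sum, map_mul]

theorem card_index_plus (m : ℕ) : Fintype.card (Fin m ⊕ Fin m) = 2 * m := by
  rw [Fintype.card_sum, Fintype.card_fin]
  omega

/-- `Out(PΩ⁺_{2m}(2^f)) ≅ C₂ × C_f`, if all automorphisms come from semisimilarities -/
theorem out_plusForm_two [Fintype F] {f m : ℕ} (hf : 1 ≤ f)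
    (hF : Fintype.card F = 2 ^ f) (hm : 4 ≤ m)
    (htop : Cfsg.gammaPOmega F (Cfsg.quadFormPlus m F) = ⊤) :
    Nonempty (Cfsg.Out (Cfsg.POmega F (Cfsg.quadFormPlus m F))
      ≃* Multiplicative (ZMod 2 × ZMod f)) := by
  have : Fact (Nat.Prime 2) := ⟨Nat.prime_two⟩
  have hchar : CharP F 2 := charP_of_card_eq_prime_pow hF
  have hQ := nondegenerate_plusForm (F := F) m
  have hn : 7 ≤ Fintype.card (Fin m ⊕ Fin m) := by
    rw [card_index_plus]
    omega
  have htop' : Cfsg.gammaPOmega F ⇑(plusForm m F) = ⊤ := htop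
  have hstd : ∀ σ : F ≃+* F, Cfsg.IsSemisimilarityPair ⇑(plusForm m F)
      (1 : GL (Fin m ⊕ Fin m) F) σ := fun σ => isSemisimilarityPair_plusForm m σ
  obtain ⟨hcardF, hcyc⟩ := Cfsg.Agent.Helper37.OutPsl.card_ringAut hF hf
  have h1 := card_mulAut_of_gamma_eq_top (plusForm m F) hQ hn (fun σ => ⟨1, hstd σ⟩) htop'
  rw [card_pgoAut_two' (plusForm m F) hQ hn] at h1
  have h3 := card_mulAut_eq_out_mul (plusForm m F) hQ hn
  have hfinA : Finite (MulAut (Cfsg.POmega F ⇑(plusForm m F))) := by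
    apply Nat.finite_of_card_ne_zero
    rw [h1, hcardF]
    have hpos : 0 < Nat.card (Cfsg.POmega F ⇑(plusForm m F)) := Nat.card_pos
    have : 0 < f * (2 * Nat.card (Cfsg.POmega F ⇑(plusForm m F))) := by positivity
    exact this.ne'
  have hcard : Nat.card (Cfsg.Out (Cfsg.POmega F ⇑(plusForm m F)))
      = 2 * Nat.card (F ≃+* F) := by
    have hpos : 0 < Nat.card (Cfsg.POmega F ⇑(plusForm m F)) := Nat.card_pos
    apply Nat.eq_of_mul_eq_mul_right hpos
    rw [← h3, h1]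
    ring
  obtain ⟨e⟩ := nonempty_mulEquiv_two_prod (tauOut (plusForm m F) hQ hn htop')
    (secOut (plusForm m F) hstd) (tauOut_secOut (plusForm m F) hQ hn htop' hstd) hcard
  obtain ⟨g⟩ := Cfsg.Agent.Helper37.OutPsl.nonempty_galIso hF hf
  exact ⟨(e.trans (MulEquiv.prodCongr (MulEquiv.refl _) g)).trans
    (MulEquiv.prodMultiplicative (ZMod 2) (ZMod f)).symm⟩

end Cfsg.Agent.Helper5.OutPlus
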