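import Mathlib
import Cfsg.Agent.Helper12.GammaOQ

/-!
# The image of the isometry group in `Out(PΩ(Q))`
-/

set_option autoImplicit false
set_option linter.unusedSectionVars false

namespace Cfsg.Agent.Helper5.OutPlus

open Matrix Module QuadraticMap Cfsg.Agent.Helper44 Cfsg.Agent.Helper12.GammaO

variable {F : Type*} [Field F] {ι : Type} [Fintype ι] [DecidableEq ι]
variable (Q : QuadraticForm F (ι → F))

/-- the image in `Out(PΩ(Q))` of conjugation by an isometry -/
noncomputable def isoOut : ↥(Cfsg.isometryGroup F ⇑Q) →* Cfsg.Out (Cfsg.POmega F ⇑Q) :=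
  (QuotientGroup.mk' (Cfsg.Inn (Cfsg.POmega F ⇑Q))).comp ((conjAut ⇑Q).comp (toGO Q))

theorem isoOut_apply (x : ↥(Cfsg.isometryGroup F ⇑Q)) :
    isoOut Q x = QuotientGroup.mk (conjAut ⇑Q (toGO Q x)) := rfl

end Cfsg.Agent.Helper5.OutPlus
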