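import Mathlib
import Cfsg.Agent.Helper14.DiscrIso

/-!
# Lang's theorem for the conformal orthogonal group, part A: symmetric matrices over a finite field
of odd characteristic in odd dimension are similar; descent to the fixed field of an automorphism
-/

set_option autoImplicit false
set_option linter.unusedSectionVars false
set_option linter.unusedVariables false

namespace Cfsg.Agent.Helper5.LangO

open Matrix Module

/-- over a finite field of odd characteristic, two invertible symmetric matrices of the same odd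
size are congruent up to a scalar -/
theorem exists_similar_odd {K : Type*} [Field K] [Fintype K] (h2 : (2 : K) ≠ 0) {ι : Type*}
    [Fintype ι] [DecidableEq ι] {n : ℕ} (hn : Fintype.card ι = 2 * n + 1) (A A' : Matrix ι ι K)
    (hA : A.IsSymm) (hA' : A'.IsSymm) (hd : A.det ≠ 0) (hd' : A'.det ≠ 0) :
    ∃ (c : K) (P : Matrix ι ι K), c ≠ 0 ∧ P.det ≠ 0 ∧ Pᵀ * A * P = c • A' := by
  obtain ⟨c, hc⟩ : ∃ c : K, c = A.det * A'.det := ⟨_, rfl⟩
  have hc0 : c ≠ 0 := by rw [hc]; exact mul_ne_zero hd hd'
  have hdet' : (c • A').det = c ^ (2 * n + 1) * A'.det := by rw [Matrix.det_smul, hn]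
  have hd'' : (c • A').det ≠ 0 := by
    rw [hdet']
    exact mul_ne_zero (pow_ne_zero _ hc0) hd'
  have hS : (Matrix.toBilin' A).IsSymm := Matrix.isSymm_toBilin'_iff_isSymm.2 hA
  have hS' : (Matrix.toBilin' (c • A')).IsSymm := by
    apply Matrix.isSymm_toBilin'_iff_isSymm.2
    unfold Matrix.IsSymm
    rw [Matrix.transpose_smul, hA'.eq]
  have hnd : (Matrix.toBilin' A).Nondegenerate :=
    LinearMap.BilinForm.nondegenerate_toBilin'_iff_det_ne_zero.2 hd
  have hnd' : (Matrix.toBilin' (c • A')).Nondegenerate :=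
    LinearMap.BilinForm.nondegenerate_toBilin'_iff_det_ne_zero.2 hd''
  have hV : finrank K (ι → K) = 2 * n + 1 := by rw [Module.finrank_fintype_fun_eq_card, hn]
  have hsq : IsSquare ((LinearMap.BilinForm.toMatrix (Pi.basisFun K ι) (Matrix.toBilin' A)).det *
      (LinearMap.BilinForm.toMatrix (Pi.basisFun K ι) (Matrix.toBilin' (c • A'))).det) := by
    rw [LinearMap.BilinForm.toMatrix_basisFun, LinearMap.BilinForm.toMatrix'_toBilin',
      LinearMap.BilinForm.toMatrix'_toBilin', hdet']
    refine ⟨c ^ (n + 1), ?_⟩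
    rw [hc]
    ring
  obtain ⟨g, hg⟩ := Cfsg.Agent.Helper14.exists_isometry_of_disc h2 (Matrix.toBilin' A)
    (Matrix.toBilin' (c • A')) hS hS' hnd hnd' (2 * n) hV hV (Pi.basisFun K ι) (Pi.basisFun K ι) hsq
  obtain ⟨P, hP⟩ : ∃ P : Matrix ι ι K, P = LinearMap.toMatrix' (g : (ι → K) →ₗ[K] (ι → K)) :=
    ⟨_, rfl⟩
  have hPg : Matrix.toLin' P = (g : (ι → K) →ₗ[K] (ι → K)) := by rw [hP, Matrix.toLin'_toMatrix']
  refine ⟨c, P, hc0, ?_, ?_⟩
  · intro h0
    have h1 : LinearMap.det (g : (ι → K) →ₗ[K] (ι → K)) = 0 := by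
      rw [← LinearMap.det_toMatrix', ← hP, h0]
    have h3 := LinearEquiv.isUnit_det' g
    rw [h1] at h3
    exact not_isUnit_zero h3
  · have h1 : (Matrix.toBilin' A).comp (Matrix.toLin' P) (Matrix.toLin' P)
        = Matrix.toBilin' (c • A') := by
      rw [hPg]
      apply LinearMap.ext₂
      intro x y
      exact hg x y
    rw [Matrix.toBilin'_comp] at h1
    exact Matrix.toBilin'.injective h1

/-- the fixed field of a field automorphism -/
def fixF {F : Type*} [Field F] (σ : F ≃+* F) : Subfield F :=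
  (σ : F →+* F).eqLocusField (RingHom.id F)

theorem mem_fixF {F : Type*} [Field F] (σ : F ≃+* F) (x : F) : x ∈ fixF σ ↔ σ x = x := Iff.rfl

/-- a matrix with fixed entries comes from the fixed field -/
theorem exists_descent {F : Type*} [Field F] (σ : F ≃+* F) {ι : Type*} (M : Matrix ι ι F)
    (hM : M.map σ = M) : ∃ M₀ : Matrix ι ι (fixF σ), M₀.map (fixF σ).subtype = M := by
  refine ⟨fun i j => ⟨M i j, ?_⟩, ?_⟩
  · have := congrFun (congrFun hM i) j
    rw [Matrix.map_apply] at this
    exact this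
  · ext i j
    rfl

theorem map_subtype_map {F : Type*} [Field F] (σ : F ≃+* F) {ι : Type*}
    (M₀ : Matrix ι ι (fixF σ)) : (M₀.map (fixF σ).subtype).map σ = M₀.map (fixF σ).subtype := by
  ext i j
  rw [Matrix.map_apply, Matrix.map_apply]
  exact (M₀ i j).2

/-- **similarity over the fixed field**: two invertible symmetric matrices of odd size with entries
fixed by `σ` are congruent up to a scalar by a matrix fixed by `σ` -/
theorem exists_similar_fixed {F : Type*} [Field F] [Fintype F] (h2 : (2 : F) ≠ 0) (σ : F ≃+* F)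
    {ι : Type*} [Fintype ι] [DecidableEq ι] {n : ℕ} (hn : Fintype.card ι = 2 * n + 1)
    (A A' : Matrix ι ι F) (hA : A.IsSymm) (hA' : A'.IsSymm) (hd : A.det ≠ 0) (hd' : A'.det ≠ 0)
    (hAσ : A.map σ = A) (hA'σ : A'.map σ = A') :
    ∃ (c : F) (P : Matrix ι ι F), c ≠ 0 ∧ σ c = c ∧ P.det ≠ 0 ∧ P.map σ = P ∧
      Pᵀ * A * P = c • A' := by
  classical
  obtain ⟨A₀, hA₀⟩ := exists_descent σ A hAσ
  obtain ⟨A₀', hA₀'⟩ := exists_descent σ A' hA'σ
  haveI : Fintype (fixF σ) := Fintype.ofFinite _
  have hinj : Function.Injective (fixF σ).subtype := Subtype.val_injective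
  have h2' : (2 : fixF σ) ≠ 0 := by
    intro h
    apply h2
    have := congrArg (fixF σ).subtype h
    rwa [map_ofNat, map_zero] at this
  have hS : A₀.IsSymm := by
    unfold Matrix.IsSymm
    ext i j
    have := congrFun (congrFun hA.eq i) j
    rw [← hA₀] at this
    exact this
  have hS' : A₀'.IsSymm := by
    unfold Matrix.IsSymm
    ext i j
    have := congrFun (congrFun hA'.eq i) j
    rw [← hA₀'] at this
    exact this
  have hdet : A₀.det ≠ 0 := by
    intro h
    apply hd
    rw [← hA₀]
    have := RingHom.map_det (fixF σ).subtype A₀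
    rw [RingHom.mapMatrix_apply] at this
    rw [← this, h, map_zero]
  have hdet' : A₀'.det ≠ 0 := by
    intro h
    apply hd'
    rw [← hA₀']
    have := RingHom.map_det (fixF σ).subtype A₀'
    rw [RingHom.mapMatrix_apply] at this
    rw [← this, h, map_zero]
  obtain ⟨c, P, hc, hP, hPA⟩ := exists_similar_odd h2' hn A₀ A₀' hS hS' hdet hdet'
  refine ⟨(c : F), P.map (fixF σ).subtype, ?_, c.2, ?_, map_subtype_map σ P, ?_⟩
  · intro h
    exact hc (Subtype.ext h)
  · have := RingHom.map_det (fixF σ).subtype P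
    rw [RingHom.mapMatrix_apply] at this
    rw [← this]
    intro h
    exact hP (hinj (by rw [h, map_zero]))
  · have := congrArg (fun M : Matrix ι ι (fixF σ) => M.map (fixF σ).subtype) hPA
    simp only [Matrix.map_mul, Matrix.transpose_map] at this
    rw [hA₀] at this
    rw [this, ← hA₀']
    ext i j
    simp [Matrix.map_apply, Matrix.smul_apply]

end Cfsg.Agent.Helper5.LangO
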