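import Mathlib
import Cfsg.Agent.Helper5.LangOA
import Cfsg.Agent.Helper14.SpF7

/-!
# Lang's theorem for the conformal orthogonal group, part B: odd dimension, odd characteristic
-/

set_option autoImplicit false
set_option linter.unusedSectionVars false
set_option linter.unusedVariables false

namespace Cfsg.Agent.Helper5.LangO

open Matrix Module QuadraticMap

variable {F : Type*} [Field F] {ι : Type*} [Fintype ι] [DecidableEq ι]

/-- the Gram matrix of the polar form -/
noncomputable def gram (Q : QuadraticForm F (ι → F)) : Matrix ι ι F :=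
  LinearMap.BilinForm.toMatrix' (QuadraticMap.polarBilin Q)

theorem toBilin'_gram (Q : QuadraticForm F (ι → F)) :
    Matrix.toBilin' (gram Q) = QuadraticMap.polarBilin Q := by
  unfold gram
  exact Matrix.toBilin'_toMatrix' _

theorem gram_apply (Q : QuadraticForm F (ι → F)) (i j : ι) :
    gram Q i j = polar ⇑Q (Pi.single i 1) (Pi.single j 1) := by
  unfold gram
  rw [LinearMap.BilinForm.toMatrix'_apply, QuadraticMap.polarBilin_apply_apply]

theorem gram_isSymm (Q : QuadraticForm F (ι → F)) : (gram Q).IsSymm := by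
  unfold Matrix.IsSymm
  ext i j
  rw [Matrix.transpose_apply, gram_apply, gram_apply, QuadraticMap.polar_comm]

theorem gram_det_ne_zero (Q : QuadraticForm F (ι → F))
    (hQ : (QuadraticMap.polarBilin Q).Nondegenerate) : (gram Q).det ≠ 0 := by
  rw [← toBilin'_gram] at hQ
  exact LinearMap.BilinForm.nondegenerate_toBilin'_iff_det_ne_zero.1 hQ

theorem two_smul_Q (Q : QuadraticForm F (ι → F)) (v : ι → F) :
    (2 : F) * Q v = Matrix.toBilin' (gram Q) v v := by
  rw [toBilin'_gram, QuadraticMap.polarBilin_apply_apply, QuadraticMap.polar_self, two_mul, two_nsmul]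

/-- the form `v ↦ Q (P v)` -/
noncomputable def compMat (Q : QuadraticForm F (ι → F)) (P : Matrix ι ι F) :
    QuadraticForm F (ι → F) := Q.comp (Matrix.toLin' P)

theorem compMat_apply (Q : QuadraticForm F (ι → F)) (P : Matrix ι ι F) (v : ι → F) :
    compMat Q P v = Q (P *ᵥ v) := rfl

theorem gram_compMat (Q : QuadraticForm F (ι → F)) (P : Matrix ι ι F) :
    gram (compMat Q P) = Pᵀ * gram Q * P := by
  have h1 : QuadraticMap.polarBilin (compMat Q P)
      = LinearMap.BilinForm.comp (QuadraticMap.polarBilin Q) (Matrix.toLin' P) (Matrix.toLin' P) := by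
    apply LinearMap.ext₂
    intro x y
    rw [QuadraticMap.polarBilin_apply_apply]
    show polar (fun v => Q (Matrix.toLin' P v)) x y = _
    unfold QuadraticMap.polar
    simp only [map_add]
    rfl
  unfold gram
  rw [h1, LinearMap.BilinForm.toMatrix'_comp, LinearMap.toMatrix'_toLin']

/-- polar form of a form compatible with `σ` up to a scalar -/
theorem polar_semi {Q : QuadraticForm F (ι → F)} {σ : F ≃+* F} {c : F}
    (h : ∀ v : ι → F, Q (fun i => σ (v i)) = c * σ (Q v)) (v w : ι → F) :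
    polar ⇑Q (fun i => σ (v i)) (fun i => σ (w i)) = c * σ (polar ⇑Q v w) := by
  unfold QuadraticMap.polar
  have e : (fun i => σ (v i)) + (fun i => σ (w i)) = fun i => σ ((v + w) i) := by
    funext i
    simp
  rw [e, h, h, h, map_sub, map_sub]
  ring

theorem gram_semi {Q : QuadraticForm F (ι → F)} {σ : F ≃+* F} {c : F}
    (h : ∀ v : ι → F, Q (fun i => σ (v i)) = c * σ (Q v)) (i j : ι) :
    gram Q i j = c * σ (gram Q i j) := by
  rw [gram_apply, ← polar_semi h]
  congr 1
  · funext k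
    by_cases hk : k = i
    · subst hk; simp
    · simp [Pi.single_apply, hk]
  · funext k
    by_cases hk : k = j
    · subst hk; simp
    · simp [Pi.single_apply, hk]

open Cfsg.Agent.Helper14.AutPSL Cfsg.Agent.Helper14.AutPSp Cfsg.Agent.Helper37.Lang in
/-- **Lang's theorem for the conformal orthogonal group** in odd dimension and odd
characteristic -/
theorem lang_GO_odd {ι : Type} [Fintype ι] [DecidableEq ι] [Fintype F] (h2 : (2 : F) ≠ 0)
    (Q : QuadraticForm F (ι → F))
    (hQ : (QuadraticMap.polarBilin Q).Nondegenerate) {n : ℕ} (hn : Fintype.card ι = 2 * n + 1)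
    (σ : F ≃+* F) (hQσ : ∀ v : ι → F, Q (fun i => σ (v i)) = σ (Q v)) {r : ℕ}
    (hr : orderOf σ = r) (hr0 : 0 < r) (g : GL ι F) (c : F)
    (hg : ∀ v : ι → F, Q ((g : Matrix ι ι F) *ᵥ v) = c * Q v)
    (hiter : ∀ v, ((semiK (g : Matrix ι ι F) σ)^[r]) v = v) :
    ∃ (h : GL ι F) (d : F), d ≠ 0 ∧ (∀ v : ι → F, Q ((h : Matrix ι ι F) *ᵥ v) = d * Q v) ∧
      (g : Matrix ι ι F) * (h : Matrix ι ι F).map σ = (h : Matrix ι ι F) := by
  obtain ⟨h₁, hh₁⟩ := lang_GLK σ hr hr0 g hiter
  have hh₁' : (g : Matrix ι ι F) * (h₁ : Matrix ι ι F).map σ = (h₁ : Matrix ι ι F) := by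
    have := congrArg Units.val hh₁
    rw [Units.val_mul, glMap_coe] at this
    exact this
  -- the transported form
  obtain ⟨Q', hQ'⟩ : ∃ Q' : QuadraticForm F (ι → F), Q' = compMat Q (h₁ : Matrix ι ι F) :=
    ⟨_, rfl⟩
  have hQ'σ : ∀ v : ι → F, Q' (fun i => σ (v i)) = c * σ (Q' v) := by
    intro v
    rw [hQ', compMat_apply, compMat_apply]
    have e : (h₁ : Matrix ι ι F) *ᵥ (fun i => σ (v i))
        = (g : Matrix ι ι F) *ᵥ (fun i => σ (((h₁ : Matrix ι ι F) *ᵥ v) i)) := by
      conv_lhs => rw [← hh₁']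
      rw [← Matrix.mulVec_mulVec]
      congr 1
      funext i
      exact (RingHom.map_mulVec (σ : F →+* F) _ v i).symm
    rw [e, hg, hQσ]
  have hdet₁ : (h₁ : Matrix ι ι F).det ≠ 0 := by
    have := (Matrix.isUnits_det_units h₁).ne_zero
    exact this
  have hA'det : (gram Q').det ≠ 0 := by
    rw [hQ', gram_compMat, Matrix.det_mul, Matrix.det_mul, Matrix.det_transpose]
    exact mul_ne_zero (mul_ne_zero hdet₁ (gram_det_ne_zero Q hQ)) hdet₁
  -- a non-zero entry
  obtain ⟨i₀, j₀, hij⟩ : ∃ i j, gram Q' i j ≠ 0 := by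
    by_contra hcon
    push Not at hcon
    apply hA'det
    have : gram Q' = 0 := by
      ext i j
      exact hcon i j
    rw [this]
    haveI : Nonempty ι := by
      rw [← Fintype.card_pos_iff, hn]
      omega
    exact Matrix.det_zero
  obtain ⟨lam, hlam⟩ : ∃ lam : F, lam = gram Q' i₀ j₀ := ⟨_, rfl⟩
  have hlam0 : lam ≠ 0 := by rw [hlam]; exact hij
  have hlamσ : lam = c * σ lam := by
    rw [hlam]
    exact gram_semi hQ'σ i₀ j₀
  have hσlam0 : σ lam ≠ 0 := (map_ne_zero_iff σ σ.injective).2 hlam0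
  -- the normalised Gram matrix
  obtain ⟨A, hAdef⟩ : ∃ A : Matrix ι ι F, A = lam⁻¹ • gram Q' := ⟨_, rfl⟩
  have hAσ : A.map σ = A := by
    ext i j
    rw [Matrix.map_apply, hAdef, Matrix.smul_apply, smul_eq_mul, map_mul, map_inv₀]
    have e := gram_semi hQ'σ i j
    have : lam⁻¹ * gram Q' i j = lam⁻¹ * (c * σ (gram Q' i j)) := by rw [← e]
    rw [this]
    have e2 : lam⁻¹ * c = (σ lam)⁻¹ := by
      apply eq_inv_of_mul_eq_one_left
      rw [mul_assoc, ← hlamσ, inv_mul_cancel₀ hlam0]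
    rw [← mul_assoc, e2]
  have hAsymm : A.IsSymm := by
    unfold Matrix.IsSymm
    rw [hAdef, Matrix.transpose_smul, (gram_isSymm Q').eq]
  have hAdet : A.det ≠ 0 := by
    rw [hAdef, Matrix.det_smul]
    exact mul_ne_zero (pow_ne_zero _ (inv_ne_zero hlam0)) hA'det
  have hGσ : (gram Q).map σ = gram Q := by
    ext i j
    rw [Matrix.map_apply]
    have := gram_semi (Q := Q) (σ := σ) (c := 1) (by intro v; rw [hQσ, one_mul]) i j
    rw [one_mul] at this
    exact this.symm
  obtain ⟨c₀, P, hc₀, hc₀σ, hPdet, hPσ, hPA⟩ := exists_similar_fixed h2 σ hn A (gram Q) hAsymm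
    (gram_isSymm Q) hAdet (gram_det_ne_zero Q hQ) hAσ hGσ
  -- the element of `GO`
  have hPunit : IsUnit P := (Matrix.isUnit_iff_isUnit_det P).2 (isUnit_iff_ne_zero.2 hPdet)
  obtain ⟨PU, hPU⟩ := hPunit
  refine ⟨h₁ * PU, lam * c₀, mul_ne_zero hlam0 hc₀, ?_, ?_⟩
  · intro v
    have e1 : Q (((h₁ * PU : GL ι F) : Matrix ι ι F) *ᵥ v) = Q' (P *ᵥ v) := by
      rw [hQ', compMat_apply, Units.val_mul, hPU, Matrix.mulVec_mulVec]
    have e2 : (2 : F) * Q' (P *ᵥ v) = (2 : F) * (lam * c₀ * Q v) := by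
      rw [two_smul_Q]
      have e3 : Matrix.toBilin' (gram Q') (P *ᵥ v) (P *ᵥ v)
          = (LinearMap.BilinForm.comp (Matrix.toBilin' (gram Q')) (Matrix.toLin' P) (Matrix.toLin' P)) v v := rfl
      rw [e3, Matrix.toBilin'_comp]
      have e4 : Pᵀ * gram Q' * P = (lam * c₀) • gram Q := by
        have : gram Q' = lam • A := by
          rw [hAdef, smul_smul, mul_inv_cancel₀ hlam0, one_smul]
        rw [this, Matrix.mul_smul, Matrix.smul_mul, hPA, smul_smul]
      rw [e4, map_smul, LinearMap.smul_apply, LinearMap.smul_apply, ← two_smul_Q, smul_eq_mul]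
      ring
    rw [e1]
    exact mul_left_cancel₀ h2 e2
  · rw [Units.val_mul, hPU, Matrix.map_mul, hPσ, ← Matrix.mul_assoc, hh₁']

end Cfsg.Agent.Helper5.LangO
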