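import Mathlib
import Cfsg.Agent.Helper5.LangOB
import Cfsg.Agent.Helper12.GammaOB

/-!
# Lang's theorem for the conformal orthogonal group, part C: elements of prime order in the coset
`PGO · x` of a field automorphism `x` of `PΩ(Q)`
-/

set_option autoImplicit false
set_option linter.unusedSectionVars false
set_option linter.unusedVariables false

namespace Cfsg.Agent.Helper5.LangO

open Matrix Module QuadraticMap Cfsg.Agent.Helper12.GammaO Cfsg.Agent.Helper44
open Cfsg.Agent.Helper14.AutPSp Cfsg.Agent.Helper37.Lang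

variable {F : Type*} [Field F] {ι : Type} [Fintype ι] [DecidableEq ι]
variable (Q : QuadraticForm F (ι → F))

/-- an element of `ΓO(Q)` -/
def mkG (g : GL ι F) (σ : F ≃+* F) (h : Cfsg.IsSemisimilarityPair ⇑Q g σ) : ↥(GamO ⇑Q) :=
  ⟨⟨g, σ⟩, h⟩

theorem mkG_left (g : GL ι F) (σ : F ≃+* F) (h : Cfsg.IsSemisimilarityPair ⇑Q g σ) :
    (mkG Q g σ h).1.left = g := rfl

theorem mkG_right (g : GL ι F) (σ : F ≃+* F) (h : Cfsg.IsSemisimilarityPair ⇑Q g σ) :
    (mkG Q g σ h).1.right = σ := rfl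

theorem semiK_eq_semiLin (g : GL ι F) (σ : F ≃+* F) (v : ι → F) :
    semiK (g : Matrix ι ι F) σ v = semiLin g σ v := rfl

/-- iterating the semilinear map of a pair -/
theorem iterate_semiLin (z : Gam ι F) (k : ℕ) (v : ι → F) :
    ((semiK (z.left : Matrix ι ι F) z.right)^[k]) v = semiLin (z ^ k).left (z ^ k).right v := by
  induction k with
  | zero =>
    rw [Function.iterate_zero_apply, pow_zero, semiLin_one]
  | succ k ih =>
    rw [Function.iterate_succ_apply', ih, pow_succ', semiLin_mul, semiK_eq_semiLin]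

/-- pairs with trivial field automorphism act as elements of `PGO` -/
theorem psi_mem_pgoAut (a : ↥(GamO ⇑Q)) (ha : a.1.right = RingEquiv.refl F) :
    psi ⇑Q a ∈ Cfsg.pgoAut F ⇑Q := by
  rw [psi_eq_conjAut Q a ha, pgoAut_eq_map]
  exact ⟨_, rfl⟩

/-- elements of `PGO` come from pairs with trivial field automorphism -/
theorem exists_of_mem_pgoAut {δ : MulAut (Cfsg.POmega F ⇑Q)} (hδ : δ ∈ Cfsg.pgoAut F ⇑Q) :
    ∃ d : ↥(GamO ⇑Q), d.1.right = RingEquiv.refl F ∧ psi ⇑Q d = δ := by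
  rw [pgoAut_eq_map] at hδ
  obtain ⟨g, rfl⟩ := hδ
  obtain ⟨c, hc⟩ := g.2
  have hmem : Cfsg.IsSemisimilarityPair ⇑Q g.1 (RingEquiv.refl F) := ⟨c, fun v => hc v⟩
  refine ⟨mkG Q g.1 (RingEquiv.refl F) hmem, rfl, ?_⟩
  rw [psi_eq_conjAut Q _ rfl]
  rfl

/-- scalar pairs act trivially -/
theorem psi_scalar (μ : Fˣ) (h : Cfsg.IsSemisimilarityPair ⇑Q
    (Matrix.GeneralLinearGroup.scalar ι μ) (RingEquiv.refl F)) :
    psi ⇑Q (mkG Q (Matrix.GeneralLinearGroup.scalar ι μ) (RingEquiv.refl F) h) = 1 := by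
  rw [psi_eq_conjAut Q _ rfl]
  have := mem_ker_of_mem_scalars ⇑Q ⟨Matrix.GeneralLinearGroup.scalar ι μ,
    left_mem_quadSimilarityGroup Q (mkG Q _ _ h) rfl⟩ ⟨μ, rfl⟩
  exact MonoidHom.mem_ker.1 this

theorem scalar_mulVec (μ : Fˣ) (v : ι → F) :
    ((Matrix.GeneralLinearGroup.scalar ι μ : GL ι F) : Matrix ι ι F) *ᵥ v = (μ : F) • v := by
  rw [Matrix.GeneralLinearGroup.coe_scalar]
  ext i
  simp [Matrix.mulVec_diagonal]

theorem scalar_isSemisimilarityPair (μ : Fˣ) : Cfsg.IsSemisimilarityPair ⇑Q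
    (Matrix.GeneralLinearGroup.scalar ι μ) (RingEquiv.refl F) := by
  refine ⟨μ * μ, fun v => ?_⟩
  have e : (fun i => (RingEquiv.refl F) (v i)) = v := rfl
  rw [e, scalar_mulVec, QuadraticMap.map_smul, Units.val_mul, smul_eq_mul]
  rfl

/-- **the core**: a pair `(g, σ)` whose image in `Aut(PΩ)` has order dividing `r = |σ|` is
conjugate to `(1, σ)` by a similarity, granted Lang's theorem for `GO(Q)` -/
theorem exists_conj_of_pow_eq_one [Fintype F]
    (hQ : (QuadraticMap.polarBilin Q).Nondegenerate) (hn : 7 ≤ Fintype.card ι)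
    (σ : F ≃+* F) {r : ℕ} (hr : orderOf σ = r) (hr0 : 0 < r)
    (hlang : ∀ (g : GL ι F) (c : F), (∀ v : ι → F, Q ((g : Matrix ι ι F) *ᵥ v) = c * Q v) →
      (∀ v, ((semiK (g : Matrix ι ι F) σ)^[r]) v = v) →
      ∃ (h : GL ι F) (d : F), d ≠ 0 ∧ (∀ v : ι → F, Q ((h : Matrix ι ι F) *ᵥ v) = d * Q v) ∧
        (g : Matrix ι ι F) * (h : Matrix ι ι F).map σ = (h : Matrix ι ι F))
    (hσQ : ∀ v : ι → F, Q (fun i => σ (v i)) = σ (Q v))
    (y : ↥(GamO ⇑Q)) (hyr : y.1.right = σ)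
    (hyg : ∃ c : F, ∀ v : ι → F, Q ((y.1.left : Matrix ι ι F) *ᵥ v) = c * Q v)
    (hpow : (psi ⇑Q y) ^ r = 1) :
    ∃ (H s : ↥(GamO ⇑Q)), H.1.right = RingEquiv.refl F ∧ s.1.left = 1 ∧ s.1.right = σ ∧
      psi ⇑Q y = psi ⇑Q H * psi ⇑Q s * (psi ⇑Q H)⁻¹ := by
  obtain ⟨g, hg⟩ : ∃ g : GL ι F, g = y.1.left := ⟨_, rfl⟩
  obtain ⟨c, hc⟩ := hyg
  rw [← hg] at hc
  have hσr : σ ^ r = 1 := by rw [← hr]; exact pow_orderOf_eq_one σ
  -- the `r`-th power is a scalar
  have hker : y ^ r ∈ (psi ⇑Q).ker := by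
    rw [MonoidHom.mem_ker, map_pow]
    exact hpow
  obtain ⟨hker1, hker2⟩ := mem_ker_psi Q hQ hn _ hker
  obtain ⟨ν, hν⟩ := (Cfsg.Geo.mem_scalars_iff _).1 hker2
  have hiter : ∀ v, ((semiK (g : Matrix ι ι F) σ)^[r]) v = (ν : F) • v := by
    intro v
    have := iterate_semiLin y.1 r v
    rw [← hg, hyr] at this
    rw [this]
    have e1 : (y.1 ^ r) = (y ^ r).1 := rfl
    rw [e1]
    unfold semiLin
    rw [hν, hker1, Matrix.smul_mulVec, Matrix.one_mulVec]
    rfl
  have hν0 : (ν : F) ≠ 0 := ν.ne_zero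
  -- `ν` is fixed by `σ`
  have hσν : σ (ν : F) = (ν : F) := by
    obtain ⟨v₀, hv₀⟩ : ∃ v₀ : ι → F, v₀ ≠ 0 := by
      haveI : Nonempty ι := by
        rw [← Fintype.card_pos_iff]
        omega
      obtain ⟨i⟩ := ‹Nonempty ι›
      refine ⟨Pi.single i 1, ?_⟩
      intro h0
      have := congrFun h0 i
      rw [Pi.single_eq_same] at this
      exact one_ne_zero this
    have hTv : semiK (g : Matrix ι ι F) σ v₀ ≠ 0 := by
      intro h0
      exact hv₀ (semiLin_eq_zero (g := g) (σ := σ) h0)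
    have h1 : ((semiK (g : Matrix ι ι F) σ)^[r]) (semiK (g : Matrix ι ι F) σ v₀)
        = semiK (g : Matrix ι ι F) σ (((semiK (g : Matrix ι ι F) σ)^[r]) v₀) := by
      rw [← Function.iterate_succ_apply, Function.iterate_succ_apply']
    rw [hiter, hiter, semiK_smul] at h1
    have h3 : ((ν : F) - σ (ν : F)) • semiK (g : Matrix ι ι F) σ v₀ = 0 := by
      rw [sub_smul, h1, sub_self]
    rcases smul_eq_zero.1 h3 with h | h
    · exact (sub_eq_zero.1 h).symm
    · exact absurd h hTv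
  obtain ⟨μ, hμ0, hμ⟩ := exists_nrm_eq σ hr hr0 (inv_ne_zero hν0) (by rw [map_inv₀, hσν])
  -- the corrected matrix
  obtain ⟨g', hg'⟩ : ∃ g' : GL ι F, g' = Matrix.GeneralLinearGroup.scalar ι (Units.mk0 μ hμ0) * g :=
    ⟨_, rfl⟩
  have hg'c : (g' : Matrix ι ι F) = μ • (g : Matrix ι ι F) := by
    rw [hg', Units.val_mul]
    apply Matrix.mulVec_injective
    funext v
    rw [← Matrix.mulVec_mulVec, scalar_mulVec, Units.val_mk0, Matrix.smul_mulVec]
  have hg'Q : ∀ v : ι → F, Q ((g' : Matrix ι ι F) *ᵥ v) = (μ * μ * c) * Q v := by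
    intro v
    rw [hg'c, Matrix.smul_mulVec, QuadraticMap.map_smul, hc, smul_eq_mul]
    ring
  have hg'iter : ∀ v, ((semiK (g' : Matrix ι ι F) σ)^[r]) v = v := by
    intro v
    rw [hg'c, semiK_smul_iterate, hiter, hμ, smul_smul, inv_mul_cancel₀ hν0, one_smul]
  obtain ⟨h, d, hd0, hhQ, hh⟩ := hlang g' _ hg'Q hg'iter
  -- the elements of `ΓO`
  have hHmem : Cfsg.IsSemisimilarityPair ⇑Q h (RingEquiv.refl F) :=
    ⟨Units.mk0 d hd0, fun v => hhQ v⟩
  have hsmem : Cfsg.IsSemisimilarityPair ⇑Q (1 : GL ι F) σ := by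
    refine ⟨1, fun v => ?_⟩
    rw [Units.val_one, Matrix.one_mulVec, Units.val_one, one_mul]
    exact hσQ v
  refine ⟨mkG Q h (RingEquiv.refl F) hHmem, mkG Q 1 σ hsmem, rfl, rfl, rfl, ?_⟩
  have hz := psi_scalar Q (Units.mk0 μ hμ0) (scalar_isSemisimilarityPair Q _)
  -- `z * y * H = H * s` in `ΓO`
  have key : mkG Q _ _ (scalar_isSemisimilarityPair Q (Units.mk0 μ hμ0)) * y
      * mkG Q h (RingEquiv.refl F) hHmem = mkG Q h (RingEquiv.refl F) hHmem * mkG Q 1 σ hsmem := by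
    apply Subtype.ext
    apply SemidirectProduct.ext
    · show ((mkG Q _ _ (scalar_isSemisimilarityPair Q (Units.mk0 μ hμ0))).1 * y.1
        * (mkG Q h (RingEquiv.refl F) hHmem).1).left
        = ((mkG Q h (RingEquiv.refl F) hHmem).1 * (mkG Q 1 σ hsmem).1).left
      rw [SemidirectProduct.mul_left, SemidirectProduct.mul_left, SemidirectProduct.mul_left,
        SemidirectProduct.mul_right, mkG_left, mkG_left, mkG_left, mkG_right, mkG_right, hyr, ← hg]
      apply Units.ext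
      have e1 : (fieldAct (RingEquiv.refl F)) g = g := by
        apply Units.ext
        ext i j
        rfl
      have e2 : (fieldAct (RingEquiv.refl F)) (1 : GL ι F) = 1 := map_one _
      have e3 : (RingEquiv.refl F) * σ = σ := one_mul σ
      rw [e1, e2, e3, mul_one, ← hg', Units.val_mul, fieldAct_apply, coe_glMap]
      exact hh
    · show ((mkG Q _ _ (scalar_isSemisimilarityPair Q (Units.mk0 μ hμ0))).1 * y.1
        * (mkG Q h (RingEquiv.refl F) hHmem).1).right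
        = ((mkG Q h (RingEquiv.refl F) hHmem).1 * (mkG Q 1 σ hsmem).1).right
      rw [SemidirectProduct.mul_right, SemidirectProduct.mul_right, SemidirectProduct.mul_right,
        mkG_right, mkG_right, mkG_right, hyr]
      show (1 : F ≃+* F) * σ * 1 = 1 * σ
      rw [mul_one]
  have key2 := congrArg (psi ⇑Q) key
  rw [map_mul, map_mul, map_mul, hz, one_mul] at key2
  rw [← key2, mul_inv_cancel_right]

end Cfsg.Agent.Helper5.LangO
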