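import Mathlib
import Cfsg.Agent.Helper5.LangOC

/-!
# Lang's theorem for the conformal orthogonal group, part D: the coset theorem
-/

set_option autoImplicit false
set_option linter.unusedSectionVars false
set_option linter.unusedVariables false

namespace Cfsg.Agent.Helper5.LangO

open Matrix Module QuadraticMap Cfsg.Agent.Helper12.GammaO Cfsg.Agent.Helper44
open Cfsg.Agent.Helper14.AutPSp Cfsg.Agent.Helper37.Lang

variable {F : Type*} [Field F] {ι : Type} [Fintype ι] [DecidableEq ι]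
variable (Q : QuadraticForm F (ι → F))

theorem pow_conj_eq_one' {G : Type*} [Group G] (α y : G) {r : ℕ} (h : orderOf y = r) :
    (α * y * α⁻¹) ^ r = 1 := by
  rw [conj_pow, ← h, pow_orderOf_eq_one, mul_one, mul_inv_cancel]

theorem right_pow (z : Gam ι F) (k : ℕ) : (z ^ k).right = z.right ^ k :=
  map_pow (SemidirectProduct.rightHom : Gam ι F →* (F ≃+* F)) z k

/-- **elements of prime order in the coset `PGO · x` of a field automorphism** -/
theorem coset_conj [Fintype F] (hQ : (QuadraticMap.polarBilin Q).Nondegenerate)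
    (hn : 7 ≤ Fintype.card ι) (htop : Cfsg.gammaPOmega F ⇑Q = ⊤)
    (hfield : ∀ (σ : F ≃+* F) (v : ι → F), Q (fun i => σ (v i)) = σ (Q v))
    (hlang : ∀ (σ : F ≃+* F) (r : ℕ), orderOf σ = r → 0 < r →
      ∀ (g : GL ι F) (c : F), (∀ v : ι → F, Q ((g : Matrix ι ι F) *ᵥ v) = c * Q v) →
      (∀ v, ((semiK (g : Matrix ι ι F) σ)^[r]) v = v) →
      ∃ (h : GL ι F) (d : F), d ≠ 0 ∧ (∀ v : ι → F, Q ((h : Matrix ι ι F) *ᵥ v) = d * Q v) ∧
        (g : Matrix ι ι F) * (h : Matrix ι ι F).map σ = (h : Matrix ι ι F))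
    (x δ : MulAut (Cfsg.POmega F ⇑Q)) (hx : Cfsg.IsFieldAutClassPOmega ⇑Q x) {r : ℕ}
    (hr : r.Prime) (hxr : orderOf x = r) (hδ : δ ∈ Cfsg.pgoAut F ⇑Q) :
    orderOf (δ * x) = r ↔ Cfsg.IsConjUnder (Cfsg.pgoAut F ⇑Q) x (δ * x) := by
  constructor
  · intro hord
    obtain ⟨α, φ, σ, hσ1, hφ, hαx⟩ := hx
    have hsmem : Cfsg.IsSemisimilarityPair ⇑Q (1 : GL ι F) σ := by
      refine ⟨1, fun v => ?_⟩
      rw [Units.val_one, Matrix.one_mulVec, Units.val_one, one_mul]
      exact hfield σ v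
    obtain ⟨s, hs⟩ : ∃ s : ↥(GamO ⇑Q), s = mkG Q 1 σ hsmem := ⟨_, rfl⟩
    have hsl : s.1.left = 1 := by rw [hs]; rfl
    have hsr : s.1.right = σ := by rw [hs]; rfl
    have hφs : φ = psi ⇑Q s := by
      apply (isInduced_iff ⇑Q s φ).1
      intro t t' htt'
      apply hφ
      rw [hsl, hsr, inv_one, Units.val_one, Matrix.one_mul, Matrix.mul_one] at htt'
      exact htt'
    have hsurj : ∀ β : MulAut (Cfsg.POmega F ⇑Q), ∃ a : ↥(GamO ⇑Q), psi ⇑Q a = β := by
      intro β
      have : β ∈ (psi ⇑Q).range := by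
        rw [← gammaPOmega_eq_range, htop]
        exact Subgroup.mem_top β
      exact this
    obtain ⟨a, ha⟩ := hsurj α
    obtain ⟨d, hdr, hd⟩ := exists_of_mem_pgoAut Q hδ
    -- the conjugated pair
    obtain ⟨d', hd'⟩ : ∃ d' : ↥(GamO ⇑Q), d' = a * d * a⁻¹ := ⟨_, rfl⟩
    have hd'r : d'.1.right = RingEquiv.refl F := by
      rw [hd']
      show (a.1 * d.1 * a.1⁻¹).right = _
      rw [SemidirectProduct.mul_right, SemidirectProduct.mul_right, hdr,
        SemidirectProduct.inv_right]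
      show a.1.right * 1 * a.1.right⁻¹ = 1
      rw [mul_one, mul_inv_cancel]
    obtain ⟨y, hy⟩ : ∃ y : ↥(GamO ⇑Q), y = d' * s := ⟨_, rfl⟩
    have hyr : y.1.right = σ := by
      rw [hy]
      show (d'.1 * s.1).right = _
      rw [SemidirectProduct.mul_right, hd'r, hsr]
      exact one_mul σ
    have hyl : y.1.left = d'.1.left := by
      rw [hy]
      show (d'.1 * s.1).left = _
      rw [SemidirectProduct.mul_left, hsl, map_one, mul_one]
    have hyg : ∃ c : F, ∀ v : ι → F, Q ((y.1.left : Matrix ι ι F) *ᵥ v) = c * Q v := by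
      obtain ⟨c, hc⟩ := left_mem_quadSimilarityGroup Q d' hd'r
      rw [hyl]
      exact ⟨c, hc⟩
    have hpsiy : psi ⇑Q y = α * (δ * x) * α⁻¹ := by
      rw [hy, map_mul, hd', map_mul, map_mul, map_inv, ha, hd, ← hφs, ← hαx]
      group
    have hpow : (psi ⇑Q y) ^ r = 1 := by
      rw [hpsiy]
      exact pow_conj_eq_one' α (δ * x) hord
    -- the order of `σ`
    have hσr : σ ^ r = 1 := by
      have h1 : (psi ⇑Q s) ^ r = 1 := by
        rw [← hφs, ← hαx]
        exact pow_conj_eq_one' α x hxr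
      have h2 : s ^ r ∈ (psi ⇑Q).ker := by
        rw [MonoidHom.mem_ker, map_pow]
        exact h1
      have h3 := (mem_ker_psi Q hQ hn _ h2).1
      have h4 : (s ^ r).1.right = s.1.right ^ r := right_pow s.1 r
      rw [h4, hsr] at h3
      exact h3
    have hσ : orderOf σ = r := by
      haveI := Fact.mk hr
      exact orderOf_eq_prime hσr hσ1
    obtain ⟨H, s', hHr, hs'l, hs'r, hconj⟩ := exists_conj_of_pow_eq_one Q hQ hn σ hσ hr.pos
      (hlang σ r hσ hr.pos) (hfield σ) y hyr hyg hpow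
    have hss' : s' = s := by
      apply Subtype.ext
      apply SemidirectProduct.ext
      · rw [hs'l, hsl]
      · rw [hs'r, hsr]
    rw [hss', ← hφs] at hconj
    -- the conjugating element
    refine ⟨α⁻¹ * psi ⇑Q H * α, ?_, ?_⟩
    · have h1 : α⁻¹ * psi ⇑Q H * α = psi ⇑Q (a⁻¹ * H * a) := by
        rw [map_mul, map_mul, map_inv, ha]
      rw [h1]
      apply psi_mem_pgoAut
      show (a.1⁻¹ * H.1 * a.1).right = _
      rw [SemidirectProduct.mul_right, SemidirectProduct.mul_right, hHr,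
        SemidirectProduct.inv_right]
      show a.1.right⁻¹ * 1 * a.1.right = 1
      rw [mul_one, inv_mul_cancel]
    · have h1 : δ * x = α⁻¹ * (psi ⇑Q y) * α := by
        rw [hpsiy]
        group
      have h2 : x = α⁻¹ * φ * α := by
        rw [← hαx]
        group
      rw [h1, hconj, h2]
      group
  · rintro ⟨h, -, heq⟩
    rw [heq, ← hxr]
    exact (MulAut.conj h).orderOf_eq x

end Cfsg.Agent.Helper5.LangO
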