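import Mathlib
import Cfsg.Agent.Helper44.MaxSingTrans

/-!
# Parity of intersections of maximal totally singular subspaces (any characteristic)

In a non-degenerate quadratic space of dimension `2m`, for totally singular subspaces `U, W, X`
of dimension `m`, `dim (U ∩ W) + dim (W ∩ X) + dim (U ∩ X) + m` is even.  Consequences for
linear maps preserving total singularity (similarities): the parity of `dim (A ∩ g A)` does not
depend on `A`, is additive in `g`, and is odd (relative to `m`) for reflections.
-/

set_option autoImplicit false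

namespace Cfsg.Agent.Helper5.Coset

open Module QuadraticMap Cfsg.Agent.Helper14 Cfsg.Agent.Helper44

variable {F V : Type*} [Field F] [AddCommGroup V] [Module F V]
variable (Q : QuadraticForm F V)

/-- three maximal totally singular subspaces -/
theorem three_parity [FiniteDimensional F V] (hQ : (QuadraticMap.polarBilin Q).Nondegenerate)
    {m : ℕ} (hV : finrank F V = 2 * m) {U W X : Submodule F V}
    (hU : IsTotSing Q U) (hW : IsTotSing Q W) (hX : IsTotSing Q X)
    (hUm : finrank F ↥U = m) (hWm : finrank F ↥W = m) (hXm : finrank F ↥X = m) :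
    Even (finrank F ↥(U ⊓ W) + finrank F ↥(W ⊓ X) + finrank F ↥(U ⊓ X) + m) := by
  obtain ⟨vs, hvs, -, hmap⟩ := exists_list_qRefl_map_eq Q hQ hX hXm hV _ W hW hWm rfl
  obtain ⟨-, -, h1⟩ := even_finrank_inf_map_prod_aux Q hQ hU hUm hV vs hvs W hW hWm
  obtain ⟨-, -, h2⟩ := even_finrank_inf_map_prod_aux Q hQ hW hWm hV vs hvs W hW hWm
  rw [hmap] at h1 h2
  rw [inf_idem, hWm] at h2
  rw [Nat.even_iff] at h1 h2 ⊢
  omega

/-- the dimension of the intersection of the images under an injective linear map -/
theorem finrank_map_inf_map {g : V →ₗ[F] V} (hg : Function.Injective g) (A B : Submodule F V) :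
    finrank F ↥(A.map g ⊓ B.map g) = finrank F ↥(A ⊓ B) := by
  rw [← Submodule.map_inf g hg]
  exact (Submodule.equivMapOfInjective g hg (A ⊓ B)).finrank_eq.symm

theorem finrank_map_of_injective {g : V →ₗ[F] V} (hg : Function.Injective g) (A : Submodule F V) :
    finrank F ↥(A.map g) = finrank F ↥A :=
  (Submodule.equivMapOfInjective g hg A).finrank_eq.symm

/-- the parity of `dim (A ∩ g A)` does not depend on `A` -/
theorem parity_indep [FiniteDimensional F V] (hQ : (QuadraticMap.polarBilin Q).Nondegenerate)
    {m : ℕ} (hV : finrank F V = 2 * m) {g : V →ₗ[F] V} (hg : Function.Injective g)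
    (hgts : ∀ U : Submodule F V, IsTotSing Q U → IsTotSing Q (U.map g))
    {A B : Submodule F V} (hA : IsTotSing Q A) (hB : IsTotSing Q B)
    (hAm : finrank F ↥A = m) (hBm : finrank F ↥B = m) :
    Even (finrank F ↥(A ⊓ A.map g) + finrank F ↥(B ⊓ B.map g)) := by
  have hgA := hgts A hA
  have hgB := hgts B hB
  have hgAm : finrank F ↥(A.map g) = m := by rw [finrank_map_of_injective hg, hAm]
  have hgBm : finrank F ↥(B.map g) = m := by rw [finrank_map_of_injective hg, hBm]
  -- (A, gA, gB) and (A, gB, B)
  have h1 := three_parity Q hQ hV hA hgA hgB hAm hgAm hgBm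
  have h2 := three_parity Q hQ hV hA hgB hB hAm hgBm hBm
  rw [finrank_map_inf_map hg] at h1
  have e : finrank F ↥(B.map g ⊓ B) = finrank F ↥(B ⊓ B.map g) := by rw [inf_comm]
  rw [e] at h2
  rw [Nat.even_iff] at h1 h2 ⊢
  omega

/-- additivity of the parity -/
theorem parity_comp [FiniteDimensional F V] (hQ : (QuadraticMap.polarBilin Q).Nondegenerate)
    {m : ℕ} (hV : finrank F V = 2 * m) {g h : V →ₗ[F] V} (hg : Function.Injective g)
    (hh : Function.Injective h)
    (hgts : ∀ U : Submodule F V, IsTotSing Q U → IsTotSing Q (U.map g))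
    (hhts : ∀ U : Submodule F V, IsTotSing Q U → IsTotSing Q (U.map h))
    {A : Submodule F V} (hA : IsTotSing Q A) (hAm : finrank F ↥A = m) :
    Even (finrank F ↥(A ⊓ A.map (g ∘ₗ h)) + finrank F ↥(A ⊓ A.map g) + finrank F ↥(A ⊓ A.map h)
      + m) := by
  have hgA := hgts A hA
  have hhA := hhts A hA
  have hghA := hgts _ hhA
  have hgAm : finrank F ↥(A.map g) = m := by rw [finrank_map_of_injective hg, hAm]
  have hhAm : finrank F ↥(A.map h) = m := by rw [finrank_map_of_injective hh, hAm]
  have hghAm : finrank F ↥((A.map h).map g) = m := by rw [finrank_map_of_injective hg, hhAm]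
  have h1 := three_parity Q hQ hV hA hgA hghA hAm hgAm hghAm
  rw [finrank_map_inf_map hg] at h1
  rw [Submodule.map_comp]
  rw [Nat.even_iff] at h1 ⊢
  omega

/-- reflections change the parity -/
theorem parity_qRefl [FiniteDimensional F V] (hQ : (QuadraticMap.polarBilin Q).Nondegenerate)
    {m : ℕ} (hV : finrank F V = 2 * m) {A : Submodule F V} (hA : IsTotSing Q A)
    (hAm : finrank F ↥A = m) (v : V) (hv : Q v ≠ 0) :
    Odd (finrank F ↥(A ⊓ A.map (qRefl Q v)) + m) := by
  have h := odd_finrank_inf_map_qRefl Q hQ hA hA hAm hAm hV v hv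
  rw [inf_idem, hAm] at h
  exact h

end Cfsg.Agent.Helper5.Coset
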