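import Mathlib
import Cfsg.Prelude.Def_LieTypeDatum
import Cfsg.Agent.Helper5.CosetA
import Cfsg.Agent.Helper44.PlusClasses

/-!
# Class-preserving similarities of the plus form, in every characteristic

For a similarity `g` of `quadFormPlus m K`: `g` preserves the two classes of maximal totally
singular subspaces iff `dim (U₀ ∩ g U₀) ≡ m (mod 2)` for the standard subspace `U₀`.  This
condition is additive in `g`, fails for reflections, and is invariant under field automorphisms
applied entrywise (finite fields).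
-/

set_option autoImplicit false

namespace Cfsg.Agent.Helper5.Coset

open Module QuadraticMap Matrix Cfsg.Agent.Helper14 Cfsg.Agent.Helper44

variable {K : Type*} [Field K] {m : ℕ}

/-- the parity condition at the standard subspace -/
def EvenAt (m : ℕ) (M : Matrix (Fin m ⊕ Fin m) (Fin m ⊕ Fin m) K) : Prop :=
  Even (finrank K ↥(stdSing m K ⊓ (stdSing m K).map (Matrix.toLin' M)) + m)

theorem sim_injective {g : GL (Fin m ⊕ Fin m) K} :
    Function.Injective (Matrix.toLin' (g : Matrix (Fin m ⊕ Fin m) (Fin m ⊕ Fin m) K)) :=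
  toLin'_injective_of_GL g

theorem sim_totSing {g : GL (Fin m ⊕ Fin m) K}
    (hg : g ∈ Cfsg.Geo.quadSimilarityGroup (F := K) (Cfsg.quadFormPlus m K))
    (U : Submodule K (Fin m ⊕ Fin m → K)) (hU : IsTotSing (plusForm m K) U) :
    IsTotSing (plusForm m K)
      (U.map (Matrix.toLin' (g : Matrix (Fin m ⊕ Fin m) (Fin m ⊕ Fin m) K))) :=
  isTotSing_map_sim ⟨g, hg⟩ hU

theorem finrank_inf_le (A B : Submodule K (Fin m ⊕ Fin m → K)) (hA : finrank K ↥A = m) :
    finrank K ↥(A ⊓ B) ≤ m := by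
  have h := Submodule.finrank_mono (inf_le_left : A ⊓ B ≤ A)
  omega

/-- **class preservation is decided at the standard subspace** -/
theorem pres_iff {g : GL (Fin m ⊕ Fin m) K}
    (hg : g ∈ Cfsg.Geo.quadSimilarityGroup (F := K) (Cfsg.quadFormPlus m K)) :
    Cfsg.PreservesSingularClasses (Cfsg.quadFormPlus m K)
        (g : Matrix (Fin m ⊕ Fin m) (Fin m ⊕ Fin m) K)
      ↔ EvenAt m (g : Matrix (Fin m ⊕ Fin m) (Fin m ⊕ Fin m) K) := by
  unfold EvenAt
  constructor
  · intro h
    have h1 := h (stdSing m K)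
      (isMaxTotallySingular_of_finrank (isTotSing_stdSing m) (finrank_stdSing m))
    unfold Cfsg.SameParityClass Cfsg.imageSubmodule at h1
    rw [finrank_stdSing] at h1
    have h2 := finrank_inf_le (stdSing m K)
      ((stdSing m K).map (Matrix.toLin' (g : Matrix (Fin m ⊕ Fin m) (Fin m ⊕ Fin m) K)))
      (finrank_stdSing m)
    rw [Nat.even_iff] at h1 ⊢
    omega
  · intro h U hU
    have hts : IsTotSing (plusForm m K) U := hU.1
    have hUm : finrank K ↥U = m := finrank_of_isMaxTotallySingular hU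
    have h1 := parity_indep (plusForm m K) (nondegenerate_plusForm m) (finrank_plus_space m)
      (sim_injective (g := g)) (sim_totSing hg) hts (isTotSing_stdSing m) hUm (finrank_stdSing m)
    unfold Cfsg.SameParityClass Cfsg.imageSubmodule
    rw [hUm]
    have h2 := finrank_inf_le U
      (U.map (Matrix.toLin' (g : Matrix (Fin m ⊕ Fin m) (Fin m ⊕ Fin m) K))) hUm
    rw [Nat.even_iff] at h h1 ⊢
    omega

/-- additivity -/
theorem evenAt_mul {g h : GL (Fin m ⊕ Fin m) K}
    (hg : g ∈ Cfsg.Geo.quadSimilarityGroup (F := K) (Cfsg.quadFormPlus m K))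
    (hh : h ∈ Cfsg.Geo.quadSimilarityGroup (F := K) (Cfsg.quadFormPlus m K)) :
    EvenAt m ((g * h : GL (Fin m ⊕ Fin m) K) : Matrix (Fin m ⊕ Fin m) (Fin m ⊕ Fin m) K)
      ↔ (EvenAt m (g : Matrix (Fin m ⊕ Fin m) (Fin m ⊕ Fin m) K)
        ↔ EvenAt m (h : Matrix (Fin m ⊕ Fin m) (Fin m ⊕ Fin m) K)) := by
  unfold EvenAt
  have h1 := parity_comp (plusForm m K) (nondegenerate_plusForm m) (finrank_plus_space m)
    (sim_injective (g := g)) (sim_injective (g := h)) (sim_totSing hg) (sim_totSing hh)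
    (isTotSing_stdSing m) (finrank_stdSing m)
  rw [Units.val_mul, Matrix.toLin'_mul]
  rw [Nat.even_iff] at h1
  rw [Nat.even_iff, Nat.even_iff, Nat.even_iff]
  omega

theorem evenAt_one : EvenAt m (1 : Matrix (Fin m ⊕ Fin m) (Fin m ⊕ Fin m) K) := by
  unfold EvenAt
  rw [Matrix.toLin'_one, Submodule.map_id, inf_idem, finrank_stdSing]
  exact ⟨m, rfl⟩

/-- class preservation is multiplicative -/
theorem pres_mul {g h : GL (Fin m ⊕ Fin m) K}
    (hg : g ∈ Cfsg.Geo.quadSimilarityGroup (F := K) (Cfsg.quadFormPlus m K))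
    (hh : h ∈ Cfsg.Geo.quadSimilarityGroup (F := K) (Cfsg.quadFormPlus m K)) :
    Cfsg.PreservesSingularClasses (Cfsg.quadFormPlus m K)
        ((g * h : GL (Fin m ⊕ Fin m) K) : Matrix (Fin m ⊕ Fin m) (Fin m ⊕ Fin m) K)
      ↔ (Cfsg.PreservesSingularClasses (Cfsg.quadFormPlus m K)
          (g : Matrix (Fin m ⊕ Fin m) (Fin m ⊕ Fin m) K)
        ↔ Cfsg.PreservesSingularClasses (Cfsg.quadFormPlus m K)
          (h : Matrix (Fin m ⊕ Fin m) (Fin m ⊕ Fin m) K)) := by
  rw [pres_iff hg, pres_iff hh, pres_iff (Subgroup.mul_mem _ hg hh)]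
  exact evenAt_mul hg hh

theorem pres_one :
    Cfsg.PreservesSingularClasses (Cfsg.quadFormPlus m K)
      ((1 : GL (Fin m ⊕ Fin m) K) : Matrix (Fin m ⊕ Fin m) (Fin m ⊕ Fin m) K) := by
  rw [pres_iff (Subgroup.one_mem _), Units.val_one]
  exact evenAt_one

theorem pres_inv {g : GL (Fin m ⊕ Fin m) K}
    (hg : g ∈ Cfsg.Geo.quadSimilarityGroup (F := K) (Cfsg.quadFormPlus m K)) :
    Cfsg.PreservesSingularClasses (Cfsg.quadFormPlus m K)
        ((g⁻¹ : GL (Fin m ⊕ Fin m) K) : Matrix (Fin m ⊕ Fin m) (Fin m ⊕ Fin m) K)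
      ↔ Cfsg.PreservesSingularClasses (Cfsg.quadFormPlus m K)
          (g : Matrix (Fin m ⊕ Fin m) (Fin m ⊕ Fin m) K) := by
  have h1 := pres_mul hg (Subgroup.inv_mem _ hg)
  rw [mul_inv_cancel] at h1
  have h2 := (h1.1 pres_one)
  exact h2.symm

/-- reflections interchange the two classes -/
theorem not_pres_refl (w : Fin m ⊕ Fin m → K) (hw : plusForm m K w ≠ 0) :
    ¬ Cfsg.PreservesSingularClasses (Cfsg.quadFormPlus m K)
      ((Helper13.reflectionGL (plusForm m K) w hw : GL (Fin m ⊕ Fin m) K) :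
        Matrix (Fin m ⊕ Fin m) (Fin m ⊕ Fin m) K) := by
  have hmem : Helper13.reflectionGL (plusForm m K) w hw
      ∈ Cfsg.Geo.quadSimilarityGroup (F := K) (Cfsg.quadFormPlus m K) := by
    refine ⟨1, fun v => ?_⟩
    have := (Helper13.mem_isometryGroup_iff _ _).1 (Helper13.reflectionGL_mem (plusForm m K) w hw) v
    rw [Units.val_one, one_mul]
    exact this
  rw [pres_iff hmem]
  unfold EvenAt
  have h1 := parity_qRefl (plusForm m K) (nondegenerate_plusForm m) (finrank_plus_space m)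
    (isTotSing_stdSing m) (finrank_stdSing m) w hw
  have e : Matrix.toLin' ((Helper13.reflectionGL (plusForm m K) w hw : GL (Fin m ⊕ Fin m) K) :
      Matrix (Fin m ⊕ Fin m) (Fin m ⊕ Fin m) K) = qRefl (plusForm m K) w := by
    rw [Helper13.coe_reflectionGL]
    exact mulVecLin_reflectionMatrix_eq_qRefl' (plusForm m K) w
  rw [e]
  intro h2
  rw [Nat.odd_iff] at h1
  rw [Nat.even_iff] at h2
  omega

end Cfsg.Agent.Helper5.Coset
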