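import Mathlib
import Cfsg.Agent.Helper5.CosetB
import Cfsg.Agent.Helper12.GammaOA

/-!
# Field automorphisms applied entrywise preserve the classes (finite fields)
-/

set_option autoImplicit false
set_option linter.unusedSectionVars false

namespace Cfsg.Agent.Helper5.Coset

open Module QuadraticMap Matrix Cfsg.Agent.Helper14 Cfsg.Agent.Helper44

variable {K : Type*} [Field K] {ι : Type} [Fintype ι] [DecidableEq ι]

/-- the image of a subspace under a field automorphism applied to the coordinates -/
def mapField (τ : K ≃+* K) (U : Submodule K (ι → K)) : Submodule K (ι → K) where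
  carrier := {v | (fun i => τ.symm (v i)) ∈ U}
  add_mem' := by
    intro a b ha hb
    have e : (fun i => τ.symm ((a + b) i)) = (fun i => τ.symm (a i)) + (fun i => τ.symm (b i)) := by
      funext i
      simp
    show (fun i => τ.symm ((a + b) i)) ∈ U
    rw [e]
    exact U.add_mem ha hb
  zero_mem' := by
    have e : (fun i => τ.symm ((0 : ι → K) i)) = 0 := by
      funext i
      simp
    show (fun i => τ.symm ((0 : ι → K) i)) ∈ U
    rw [e]
    exact U.zero_mem
  smul_mem' := by
    intro c v hv
    have e : (fun i => τ.symm ((c • v) i)) = τ.symm c • (fun i => τ.symm (v i)) := by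
      funext i
      simp
    show (fun i => τ.symm ((c • v) i)) ∈ U
    rw [e]
    exact U.smul_mem _ hv

theorem mem_mapField (τ : K ≃+* K) (U : Submodule K (ι → K)) (v : ι → K) :
    v ∈ mapField τ U ↔ (fun i => τ.symm (v i)) ∈ U := Iff.rfl

theorem apply_mem_mapField (τ : K ≃+* K) (U : Submodule K (ι → K)) {u : ι → K} (hu : u ∈ U) :
    (fun i => τ (u i)) ∈ mapField τ U := by
  rw [mem_mapField]
  have e : (fun i => τ.symm (τ (u i))) = u := by
    funext i
    simp
  rw [e]
  exact hu

theorem mapField_inf (τ : K ≃+* K) (A B : Submodule K (ι → K)) :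
    mapField τ (A ⊓ B) = mapField τ A ⊓ mapField τ B := by
  ext v
  rfl

theorem mapField_map (τ : K ≃+* K) (U : Submodule K (ι → K)) (M : Matrix ι ι K) :
    mapField τ (U.map (Matrix.toLin' M)) = (mapField τ U).map (Matrix.toLin' (M.map τ)) := by
  ext v
  rw [mem_mapField, Submodule.mem_map, Submodule.mem_map]
  constructor
  · rintro ⟨u, hu, huv⟩
    refine ⟨fun i => τ (u i), apply_mem_mapField τ U hu, ?_⟩
    rw [Matrix.toLin'_apply] at huv ⊢
    have h1 := Cfsg.Agent.Helper12.GammaO.map_mulVec τ M u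
    rw [← h1, huv]
    funext i
    simp
  · rintro ⟨u, hu, huv⟩
    rw [mem_mapField] at hu
    refine ⟨_, hu, ?_⟩
    rw [Matrix.toLin'_apply] at huv ⊢
    rw [← huv]
    have h1 := Cfsg.Agent.Helper12.GammaO.map_mulVec τ.symm (M.map τ) u
    rw [h1]
    congr 1
    ext i j
    simp

/-- the coordinatewise bijection between a subspace and its image -/
def mapFieldEquiv (τ : K ≃+* K) (U : Submodule K (ι → K)) : ↥(mapField τ U) ≃ ↥U where
  toFun v := ⟨fun i => τ.symm (v.1 i), v.2⟩
  invFun u := ⟨fun i => τ (u.1 i), apply_mem_mapField τ U u.2⟩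
  left_inv v := by
    apply Subtype.ext
    funext i
    simp
  right_inv u := by
    apply Subtype.ext
    funext i
    simp

theorem finrank_eq_of_card_eq [Finite K] {V W : Type*} [AddCommGroup V] [Module K V]
    [AddCommGroup W] [Module K W] [Module.Finite K V] [Module.Finite K W]
    (h : Nat.card V = Nat.card W) : finrank K V = finrank K W := by
  rw [Module.natCard_eq_pow_finrank (K := K) (V := V),
    Module.natCard_eq_pow_finrank (K := K) (V := W)] at h
  have hK : 1 < Nat.card K := Finite.one_lt_card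
  exact Nat.pow_right_injective hK h

theorem finrank_mapField [Finite K] (τ : K ≃+* K) (U : Submodule K (ι → K)) :
    finrank K ↥(mapField τ U) = finrank K ↥U :=
  finrank_eq_of_card_eq (Nat.card_congr (mapFieldEquiv τ U))

theorem mapField_stdSing (τ : K ≃+* K) (m : ℕ) : mapField τ (stdSing m K) = stdSing m K := by
  ext v
  rw [mem_mapField, mem_stdSing, mem_stdSing]
  constructor
  · intro h i
    have := h i
    simpa using this
  · intro h i
    rw [h i, map_zero]

theorem evenAt_map [Finite K] (τ : K ≃+* K) {m : ℕ}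
    (M : Matrix (Fin m ⊕ Fin m) (Fin m ⊕ Fin m) K) : EvenAt m (M.map τ) ↔ EvenAt m M := by
  unfold EvenAt
  have h1 := mapField_map τ (stdSing m K) M
  rw [mapField_stdSing] at h1
  have h2 := finrank_mapField τ (stdSing m K ⊓ (stdSing m K).map (Matrix.toLin' M))
  rw [mapField_inf, mapField_stdSing, h1] at h2
  rw [h2]

theorem quadFormPlus_map (τ : K ≃+* K) {m : ℕ} (v : Fin m ⊕ Fin m → K) :
    Cfsg.quadFormPlus m K (fun i => τ (v i)) = τ (Cfsg.quadFormPlus m K v) := by
  unfold Cfsg.quadFormPlus
  simp only [map_sum, map_mul]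

theorem glMap_mem_sim (τ : K ≃+* K) {m : ℕ} {g : GL (Fin m ⊕ Fin m) K}
    (hg : g ∈ Cfsg.Geo.quadSimilarityGroup (F := K) (Cfsg.quadFormPlus m K)) :
    Cfsg.Agent.Helper12.GammaO.glMap τ g
      ∈ Cfsg.Geo.quadSimilarityGroup (F := K) (Cfsg.quadFormPlus m K) := by
  obtain ⟨c, hc⟩ := hg
  refine ⟨Units.map (τ : K →+* K).toMonoidHom c, fun v => ?_⟩
  have e : v = fun i => τ (τ.symm (v i)) := by
    funext i
    simp
  rw [Cfsg.Agent.Helper12.GammaO.coe_glMap]
  conv_lhs => rw [e]
  rw [← Cfsg.Agent.Helper12.GammaO.map_mulVec, quadFormPlus_map, hc, map_mul,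
    ← quadFormPlus_map, ← e]
  rfl

/-- **class preservation is invariant under field automorphisms** -/
theorem pres_glMap [Finite K] (τ : K ≃+* K) {m : ℕ} {g : GL (Fin m ⊕ Fin m) K}
    (hg : g ∈ Cfsg.Geo.quadSimilarityGroup (F := K) (Cfsg.quadFormPlus m K)) :
    Cfsg.PreservesSingularClasses (Cfsg.quadFormPlus m K)
        ((Cfsg.Agent.Helper12.GammaO.glMap τ g : GL (Fin m ⊕ Fin m) K) :
          Matrix (Fin m ⊕ Fin m) (Fin m ⊕ Fin m) K)
      ↔ Cfsg.PreservesSingularClasses (Cfsg.quadFormPlus m K)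
          (g : Matrix (Fin m ⊕ Fin m) (Fin m ⊕ Fin m) K) := by
  rw [pres_iff hg, pres_iff (glMap_mem_sim τ hg), Cfsg.Agent.Helper12.GammaO.coe_glMap]
  exact evenAt_map τ _

end Cfsg.Agent.Helper5.Coset
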