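import Mathlib
import Cfsg.Agent.Helper5.LangOC

/-!
# Descent of a quadratic form along a semilinear map of finite order (any characteristic)

For a semisimilarity `T = g σ` of `Q` with `T ^ r = 1` (`r` the order of `σ`), Lang's theorem for
`GL` gives a basis of `T`-fixed vectors; in this basis `Q` is a scalar multiple of a form with
coefficients in the fixed field `F₀` of `σ`.
-/

set_option autoImplicit false
set_option linter.unusedSectionVars false

namespace Cfsg.Agent.Helper5.Coset

open Module QuadraticMap Matrix Cfsg.Agent.Helper5.LangO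
open Cfsg.Agent.Helper14.AutPSp Cfsg.Agent.Helper14.AutPSL Cfsg.Agent.Helper37.Lang

variable {F : Type*} [Field F] {ι : Type} [Fintype ι] [DecidableEq ι]

/-- a quadratic form vanishing on the `e_i` and with polar form vanishing on the pairs `(e_i, e_j)`
is zero -/
theorem quadForm_eq_zero (D : QuadraticForm F (ι → F)) (h1 : ∀ i, D (Pi.single i 1) = 0)
    (h2 : ∀ i j, polar ⇑D (Pi.single i 1) (Pi.single j 1) = 0) : D = 0 := by
  have hB : QuadraticMap.polarBilin D = 0 := by
    apply LinearMap.BilinForm.ext_basis (Pi.basisFun F ι)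
    intro i j
    rw [Pi.basisFun_apply, Pi.basisFun_apply, QuadraticMap.polarBilin_apply_apply]
    exact h2 i j
  have hadd : ∀ x y : ι → F, D (x + y) = D x + D y := by
    intro x y
    have h := QuadraticMap.polarBilin_apply_apply D x y
    rw [hB] at h
    have h' : polar ⇑D x y = 0 := h.symm
    unfold polar at h'
    linear_combination h'
  let φ : (ι → F) →+ F := AddMonoidHom.mk' (fun v => D v) hadd
  ext v
  show φ v = 0
  have hv : v = ∑ i, v i • (Pi.single i (1 : F) : ι → F) := by
    funext j
    simp [Finset.sum_apply, Pi.single_apply]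
  rw [hv, map_sum]
  apply Finset.sum_eq_zero
  intro i _
  show D (v i • (Pi.single i (1 : F) : ι → F)) = 0
  rw [QuadraticMap.map_smul, h1, smul_zero]

/-- two quadratic forms agreeing on the vectors `e_i` and `e_i + e_j` are equal -/
theorem quadForm_ext {A B : QuadraticForm F (ι → F)}
    (h1 : ∀ i, A (Pi.single i 1) = B (Pi.single i 1))
    (h2 : ∀ i j, A (Pi.single i 1 + Pi.single j 1) = B (Pi.single i 1 + Pi.single j 1)) :
    A = B := by
  have h : A - B = 0 := by
    apply quadForm_eq_zero
    · intro i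
      rw [_root_.sub_apply, h1, sub_self]
    · intro i j
      unfold polar
      rw [_root_.sub_apply, _root_.sub_apply, _root_.sub_apply, h1, h1, h2]
      ring
  exact sub_eq_zero.1 h

/-- the coordinatewise inclusion of `F₀ ^ ι` into `F ^ ι` -/
def up (σ : F ≃+* F) (v : ι → fixF σ) : ι → F := fun i => (v i : F)

theorem up_apply (σ : F ≃+* F) (v : ι → fixF σ) (i : ι) : up σ v i = (v i : F) := rfl

theorem up_add (σ : F ≃+* F) (v w : ι → fixF σ) : up σ (v + w) = up σ v + up σ w := by
  funext i
  simp [up]

theorem up_smul (σ : F ≃+* F) (c : fixF σ) (v : ι → fixF σ) :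
    up σ (c • v) = (c : F) • up σ v := by
  funext i
  simp [up]

theorem up_zero (σ : F ≃+* F) : up σ (0 : ι → fixF σ) = 0 := by
  funext i
  simp [up]

theorem up_injective (σ : F ≃+* F) : Function.Injective (up σ : (ι → fixF σ) → (ι → F)) := by
  intro v w h
  funext i
  exact Subtype.ext (congrFun h i)

theorem map_up (σ : F ≃+* F) (v : ι → fixF σ) : (fun i => σ (up σ v i)) = up σ v := by
  funext i
  exact (v i).2

theorem up_single (σ : F ≃+* F) (i : ι) :
    up σ (Pi.single i (1 : fixF σ)) = Pi.single i (1 : F) := by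
  funext j
  by_cases h : j = i
  · subst h
    simp [up]
  · simp [up, h]

theorem forms_eq_of_up (σ : F ≃+* F) {A B : QuadraticForm F (ι → F)}
    (h : ∀ v : ι → fixF σ, A (up σ v) = B (up σ v)) : A = B := by
  apply quadForm_ext
  · intro i
    rw [← up_single σ i]
    exact h _
  · intro i j
    rw [← up_single σ i, ← up_single σ j, ← up_add]
    exact h _

/-- restriction to the fixed field of a form commuting with `σ` -/
noncomputable def descend (σ : F ≃+* F) (Q : QuadraticForm F (ι → F))
    (hQ : ∀ v : ι → F, Q (fun i => σ (v i)) = σ (Q v)) : QuadraticForm (fixF σ) (ι → fixF σ) where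
  toFun v := ⟨Q (up σ v), by
    rw [mem_fixF, ← hQ, map_up]⟩
  toFun_smul c v := by
    apply Subtype.ext
    show Q (up σ (c • v)) = (c : F) * (c : F) * Q (up σ v)
    rw [up_smul, QuadraticMap.map_smul, smul_eq_mul]
  exists_companion' := by
    refine ⟨LinearMap.mk₂ (fixF σ) (fun x y => ⟨polar ⇑Q (up σ x) (up σ y), ?_⟩) ?_ ?_ ?_ ?_, ?_⟩
    · rw [mem_fixF]
      have h1 := polar_semi (Q := Q) (σ := σ) (c := 1) (fun v => by rw [hQ, one_mul])
        (up σ x) (up σ y)
      rw [map_up, map_up, one_mul] at h1
      exact h1.symm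
    · intro x x' y
      apply Subtype.ext
      show polar ⇑Q (up σ (x + x')) (up σ y) = polar ⇑Q (up σ x) (up σ y) + polar ⇑Q (up σ x') (up σ y)
      rw [up_add, polar_add_left]
    · intro c x y
      apply Subtype.ext
      show polar ⇑Q (up σ (c • x)) (up σ y) = (c : F) * polar ⇑Q (up σ x) (up σ y)
      rw [up_smul, polar_smul_left, smul_eq_mul]
    · intro x y y'
      apply Subtype.ext
      show polar ⇑Q (up σ x) (up σ (y + y')) = polar ⇑Q (up σ x) (up σ y) + polar ⇑Q (up σ x) (up σ y')
      rw [up_add, polar_add_right]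
    · intro c x y
      apply Subtype.ext
      show polar ⇑Q (up σ x) (up σ (c • y)) = (c : F) * polar ⇑Q (up σ x) (up σ y)
      rw [up_smul, polar_smul_right, smul_eq_mul]
    · intro x y
      apply Subtype.ext
      show Q (up σ (x + y)) = Q (up σ x) + Q (up σ y) + polar ⇑Q (up σ x) (up σ y)
      rw [up_add]
      unfold polar
      ring

theorem descend_coe (σ : F ≃+* F) (Q : QuadraticForm F (ι → F))
    (hQ : ∀ v : ι → F, Q (fun i => σ (v i)) = σ (Q v)) (v : ι → fixF σ) :
    ((descend σ Q hQ v : fixF σ) : F) = Q (up σ v) := rfl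

theorem polar_descend_coe (σ : F ≃+* F) (Q : QuadraticForm F (ι → F))
    (hQ : ∀ v : ι → F, Q (fun i => σ (v i)) = σ (Q v)) (v w : ι → fixF σ) :
    ((polar ⇑(descend σ Q hQ) v w : fixF σ) : F) = polar ⇑Q (up σ v) (up σ w) := by
  unfold polar
  push_cast
  rw [descend_coe, descend_coe, descend_coe, up_add]

/-- nondegeneracy descends -/
theorem descend_nondeg (σ : F ≃+* F) (Q : QuadraticForm F (ι → F))
    (hQ : ∀ v : ι → F, Q (fun i => σ (v i)) = σ (Q v))
    (hnd : ∀ x : ι → F, (∀ y, polar ⇑Q x y = 0) → x = 0) (x : ι → fixF σ)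
    (hx : ∀ y, polar ⇑(descend σ Q hQ) x y = 0) : x = 0 := by
  apply up_injective σ
  rw [up_zero]
  apply hnd (up σ x)
  intro y
  have h0 : QuadraticMap.polarBilin Q (up σ x) = 0 := by
    apply (Pi.basisFun F ι).ext
    intro j
    rw [Pi.basisFun_apply, QuadraticMap.polarBilin_apply_apply, ← up_single σ j,
      ← polar_descend_coe σ Q hQ, hx]
    rfl
  rw [← QuadraticMap.polarBilin_apply_apply, h0]
  rfl

end Cfsg.Agent.Helper5.Coset
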