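import Mathlib
import Cfsg.Agent.Helper5.CosetD

/-!
# Descent data of a semisimilarity of finite order, and their comparison
-/

set_option autoImplicit false
set_option linter.unusedSectionVars false

namespace Cfsg.Agent.Helper5.Coset

open Module QuadraticMap Matrix Cfsg.Agent.Helper5.LangO
open Cfsg.Agent.Helper14.AutPSp Cfsg.Agent.Helper14.AutPSL Cfsg.Agent.Helper37.Lang

variable {F : Type*} [Field F] {ι : Type} [Fintype ι] [DecidableEq ι]

/-- descent data of the semilinear map `v ↦ g σ(v)`: a basis of fixed vectors (the columns of `h`)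
in which `Q` is `lam` times a form `Q₀` over the fixed field -/
structure Descent (Q : QuadraticForm F (ι → F)) (σ : F ≃+* F) (g : GL ι F) where
  h : GL ι F
  lam : F
  lam_ne : lam ≠ 0
  Q₀ : QuadraticForm (fixF σ) (ι → fixF σ)
  twist : (g : Matrix ι ι F) * (h : Matrix ι ι F).map σ = (h : Matrix ι ι F)
  val : ∀ v : ι → fixF σ, Q ((h : Matrix ι ι F) *ᵥ up σ v) = lam * ((Q₀ v : fixF σ) : F)
  nondeg : ∀ x : ι → fixF σ, (∀ y, polar ⇑Q₀ x y = 0) → x = 0

/-- **existence of descent data** -/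
theorem exists_descent_data [Fintype F] (Q : QuadraticForm F (ι → F))
    (hQ : (QuadraticMap.polarBilin Q).Nondegenerate) [Nonempty ι] (σ : F ≃+* F) {r : ℕ}
    (hr : orderOf σ = r) (hr0 : 0 < r) (g : GL ι F) (c : F)
    (hsemi : ∀ v : ι → F, Q ((g : Matrix ι ι F) *ᵥ (fun i => σ (v i))) = c * σ (Q v))
    (hiter : ∀ v, ((semiK (g : Matrix ι ι F) σ)^[r]) v = v) :
    Nonempty (Descent Q σ g) := by
  obtain ⟨h₁, hh₁⟩ := lang_GLK σ hr hr0 g hiter
  have hh₁' : (g : Matrix ι ι F) * (h₁ : Matrix ι ι F).map σ = (h₁ : Matrix ι ι F) := by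
    have := congrArg Units.val hh₁
    rw [Units.val_mul, glMap_coe] at this
    exact this
  obtain ⟨Q', hQ'⟩ : ∃ Q' : QuadraticForm F (ι → F), Q' = compMat Q (h₁ : Matrix ι ι F) :=
    ⟨_, rfl⟩
  have hQ'σ : ∀ v : ι → F, Q' (fun i => σ (v i)) = c * σ (Q' v) := by
    intro v
    rw [hQ', compMat_apply, compMat_apply]
    have e : (h₁ : Matrix ι ι F) *ᵥ (fun i => σ (v i))
        = (g : Matrix ι ι F) *ᵥ (fun i => σ (((h₁ : Matrix ι ι F) *ᵥ v) i)) := by
      conv_lhs => rw [← hh₁']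
      rw [← Matrix.mulVec_mulVec]
      congr 1
      funext i
      exact (RingHom.map_mulVec (σ : F →+* F) _ v i).symm
    rw [e, hsemi]
  have hdet₁ : (h₁ : Matrix ι ι F).det ≠ 0 := by
    have := (Matrix.isUnits_det_units h₁).ne_zero
    exact this
  have hA'det : (gram Q').det ≠ 0 := by
    rw [hQ', gram_compMat, Matrix.det_mul, Matrix.det_mul, Matrix.det_transpose]
    exact mul_ne_zero (mul_ne_zero hdet₁ (gram_det_ne_zero Q hQ)) hdet₁
  obtain ⟨i₀, j₀, hij⟩ : ∃ i j, gram Q' i j ≠ 0 := by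
    by_contra hcon
    push Not at hcon
    apply hA'det
    have : gram Q' = 0 := by
      ext i j
      exact hcon i j
    rw [this]
    exact Matrix.det_zero
  obtain ⟨lam, hlam⟩ : ∃ lam : F, lam = gram Q' i₀ j₀ := ⟨_, rfl⟩
  have hlam0 : lam ≠ 0 := by rw [hlam]; exact hij
  have hlamσ : lam = c * σ lam := by
    rw [hlam]
    exact gram_semi hQ'σ i₀ j₀
  have hσlam0 : σ lam ≠ 0 := (map_ne_zero_iff σ σ.injective).2 hlam0
  obtain ⟨Q'', hQ''⟩ : ∃ Q'' : QuadraticForm F (ι → F), Q'' = lam⁻¹ • Q' := ⟨_, rfl⟩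
  have hQ''v : ∀ v, Q'' v = lam⁻¹ * Q' v := by
    intro v
    rw [hQ'']
    rfl
  have hQ''σ : ∀ v : ι → F, Q'' (fun i => σ (v i)) = σ (Q'' v) := by
    intro v
    rw [hQ''v, hQ''v, hQ'σ, map_mul, map_inv₀]
    have e2 : lam⁻¹ * c = (σ lam)⁻¹ := by
      apply eq_inv_of_mul_eq_one_left
      rw [mul_assoc, ← hlamσ, inv_mul_cancel₀ hlam0]
    rw [← mul_assoc, e2]
  have hnd'' : ∀ x : ι → F, (∀ y, polar ⇑Q'' x y = 0) → x = 0 := by
    intro x hx
    have h0 : (h₁ : Matrix ι ι F) *ᵥ x = 0 := by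
      apply hQ.1
      intro z
      have hz : z = (h₁ : Matrix ι ι F) *ᵥ (((h₁⁻¹ : GL ι F) : Matrix ι ι F) *ᵥ z) := by
        rw [Matrix.mulVec_mulVec, ← Units.val_mul, mul_inv_cancel, Units.val_one,
          Matrix.one_mulVec]
      have h1 := hx (((h₁⁻¹ : GL ι F) : Matrix ι ι F) *ᵥ z)
      unfold polar at h1
      rw [hQ''v, hQ''v, hQ''v, hQ', compMat_apply, compMat_apply, compMat_apply,
        Matrix.mulVec_add, ← hz] at h1
      rw [QuadraticMap.polarBilin_apply_apply]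
      unfold polar
      have h2 : lam⁻¹ * (Q ((h₁ : Matrix ι ι F) *ᵥ x + z) - Q ((h₁ : Matrix ι ι F) *ᵥ x) - Q z)
          = 0 := by
        linear_combination h1
      rcases mul_eq_zero.1 h2 with h3 | h3
      · exact absurd h3 (inv_ne_zero hlam0)
      · exact h3
    have h5 : x = ((h₁⁻¹ : GL ι F) : Matrix ι ι F) *ᵥ ((h₁ : Matrix ι ι F) *ᵥ x) := by
      rw [Matrix.mulVec_mulVec, ← Units.val_mul, inv_mul_cancel, Units.val_one,
        Matrix.one_mulVec]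
    rw [h5, h0, Matrix.mulVec_zero]
  refine ⟨⟨h₁, lam, hlam0, descend σ Q'' hQ''σ, hh₁', ?_, descend_nondeg σ Q'' hQ''σ hnd''⟩⟩
  intro v
  rw [descend_coe, hQ''v, hQ', compMat_apply, mul_inv_cancel_left₀ hlam0]

/-- extension of an `F₀`-linear equivalence to `F` -/
theorem exists_extension (σ : F ≃+* F) {ι' : Type} [Fintype ι'] [DecidableEq ι']
    (P₀ : (ι' → fixF σ) ≃ₗ[fixF σ] (ι → fixF σ)) :
    ∃ (M : Matrix ι ι' F) (N : Matrix ι' ι F), M * N = 1 ∧ N * M = 1 ∧ M.map σ = M ∧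
      N.map σ = N ∧ ∀ w : ι' → fixF σ, M *ᵥ up σ w = up σ (P₀ w) := by
  refine ⟨(LinearMap.toMatrix' (P₀ : (ι' → fixF σ) →ₗ[fixF σ] (ι → fixF σ))).map (fixF σ).subtype,
    (LinearMap.toMatrix' (P₀.symm : (ι → fixF σ) →ₗ[fixF σ] (ι' → fixF σ))).map (fixF σ).subtype,
    ?_, ?_, ?_, ?_, ?_⟩
  · rw [← Matrix.map_mul, ← LinearMap.toMatrix'_comp]
    have : (P₀ : (ι' → fixF σ) →ₗ[fixF σ] (ι → fixF σ)) ∘ₗ
        (P₀.symm : (ι → fixF σ) →ₗ[fixF σ] (ι' → fixF σ)) = LinearMap.id :=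
      LinearMap.ext fun w => by simp
    rw [this, LinearMap.toMatrix'_id, Matrix.map_one _ (map_zero _) (map_one _)]
  · rw [← Matrix.map_mul, ← LinearMap.toMatrix'_comp]
    have : (P₀.symm : (ι → fixF σ) →ₗ[fixF σ] (ι' → fixF σ)) ∘ₗ
        (P₀ : (ι' → fixF σ) →ₗ[fixF σ] (ι → fixF σ)) = LinearMap.id :=
      LinearMap.ext fun w => by simp
    rw [this, LinearMap.toMatrix'_id, Matrix.map_one _ (map_zero _) (map_one _)]
  · ext i j
    rw [Matrix.map_apply, Matrix.map_apply]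
    exact (LinearMap.toMatrix' (P₀ : (ι' → fixF σ) →ₗ[fixF σ] (ι → fixF σ)) i j).2
  · ext i j
    rw [Matrix.map_apply, Matrix.map_apply]
    exact (LinearMap.toMatrix' (P₀.symm : (ι → fixF σ) →ₗ[fixF σ] (ι' → fixF σ)) i j).2
  · intro w
    funext i
    have h1 := RingHom.map_mulVec ((fixF σ).subtype)
      (LinearMap.toMatrix' (P₀ : (ι' → fixF σ) →ₗ[fixF σ] (ι → fixF σ))) w i
    rw [LinearMap.toMatrix'_mulVec] at h1
    exact h1.symm

/-- transfer of a form along an extended equivalence -/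
theorem form_extension (σ : F ≃+* F) {ι' : Type} [Fintype ι'] [DecidableEq ι']
    (A : QuadraticForm F (ι → F)) (B : QuadraticForm F (ι' → F)) (M : Matrix ι ι' F)
    (P₀ : (ι' → fixF σ) → (ι → fixF σ))
    (hM : ∀ w : ι' → fixF σ, M *ᵥ up σ w = up σ (P₀ w))
    (hAB : ∀ w : ι' → fixF σ, A (up σ (P₀ w)) = B (up σ w)) (w : ι' → F) :
    A (M *ᵥ w) = B w := by
  have h : A.comp (Matrix.toLin' M) = B := by
    apply forms_eq_of_up σ
    intro w
    rw [QuadraticMap.comp_apply, Matrix.toLin'_apply, hM, hAB]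
  rw [← h]
  rfl

/-- **comparison of descent data**: isometric forms over the fixed field give a similarity
conjugating one semilinear map to the other -/
theorem Descent.compare {Q : QuadraticForm F (ι → F)} {σ : F ≃+* F} {g₁ g₂ : GL ι F}
    (D₁ : Descent Q σ g₁) (D₂ : Descent Q σ g₂)
    (P₀ : (ι → fixF σ) ≃ₗ[fixF σ] (ι → fixF σ)) (hP : ∀ v, D₁.Q₀ (P₀ v) = D₂.Q₀ v) :
    ∃ (h : GL ι F) (d : F), d ≠ 0 ∧ (∀ v : ι → F, Q ((h : Matrix ι ι F) *ᵥ v) = d * Q v) ∧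
      (g₁ : Matrix ι ι F) * (h : Matrix ι ι F).map σ = (h : Matrix ι ι F) * (g₂ : Matrix ι ι F) := by
  obtain ⟨M, N, hMN, hNM, hMσ, hNσ, hMup⟩ := exists_extension σ P₀
  obtain ⟨PU, hPU⟩ : ∃ PU : GL ι F, (PU : Matrix ι ι F) = M := ⟨⟨M, N, hMN, hNM⟩, rfl⟩
  refine ⟨D₁.h * PU * D₂.h⁻¹, D₁.lam * D₂.lam⁻¹, mul_ne_zero D₁.lam_ne (inv_ne_zero D₂.lam_ne),
    ?_, ?_⟩
  · -- the forms `w ↦ Q (h₁ M w)` and `w ↦ d Q (h₂ w)` agree
    have key : ∀ w : ι → F, (compMat Q ((D₁.h : Matrix ι ι F) * M)) w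
        = ((D₁.lam * D₂.lam⁻¹) • compMat Q (D₂.h : Matrix ι ι F)) w := by
      have h : compMat Q ((D₁.h : Matrix ι ι F) * M)
          = (D₁.lam * D₂.lam⁻¹) • compMat Q (D₂.h : Matrix ι ι F) := by
        apply forms_eq_of_up σ
        intro w
        rw [compMat_apply, ← Matrix.mulVec_mulVec, hMup, D₁.val, hP]
        show _ = (D₁.lam * D₂.lam⁻¹) * compMat Q (D₂.h : Matrix ι ι F) (up σ w)
        rw [compMat_apply, D₂.val]
        field_simp [D₂.lam_ne]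
      intro w
      rw [h]
    intro v
    have h1 := key (((D₂.h⁻¹ : GL ι F) : Matrix ι ι F) *ᵥ v)
    rw [compMat_apply] at h1
    have h2 : ((D₁.lam * D₂.lam⁻¹) • compMat Q (D₂.h : Matrix ι ι F))
        (((D₂.h⁻¹ : GL ι F) : Matrix ι ι F) *ᵥ v) = (D₁.lam * D₂.lam⁻¹) * Q v := by
      show (D₁.lam * D₂.lam⁻¹) * compMat Q (D₂.h : Matrix ι ι F) _ = _
      rw [compMat_apply, Matrix.mulVec_mulVec, ← Units.val_mul, mul_inv_cancel, Units.val_one,
        Matrix.one_mulVec]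
    rw [h2] at h1
    rw [← h1, Units.val_mul, Units.val_mul, hPU, Matrix.mulVec_mulVec, Matrix.mul_assoc]
  · rw [Units.val_mul, Units.val_mul, hPU, Matrix.map_mul, Matrix.map_mul, hMσ]
    -- `σ (h₂⁻¹) = h₂⁻¹ g₂`
    have h3 : ((D₂.h⁻¹ : GL ι F) : Matrix ι ι F).map σ
        = ((D₂.h⁻¹ : GL ι F) : Matrix ι ι F) * (g₂ : Matrix ι ι F) := by
      have e1 : ((D₂.h⁻¹ : GL ι F) : Matrix ι ι F).map σ * (D₂.h : Matrix ι ι F).map σ = 1 := by
        rw [← Matrix.map_mul, ← Units.val_mul, inv_mul_cancel, Units.val_one,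
          Matrix.map_one _ (map_zero _) (map_one _)]
      have e2 : (D₂.h : Matrix ι ι F).map σ
          = ((g₂⁻¹ * D₂.h : GL ι F) : Matrix ι ι F) := by
        rw [Units.val_mul]
        conv_rhs => rw [← D₂.twist]
        rw [← Matrix.mul_assoc, ← Units.val_mul, inv_mul_cancel, Units.val_one, Matrix.one_mul]
      rw [e2] at e1
      calc ((D₂.h⁻¹ : GL ι F) : Matrix ι ι F).map σ
          = ((D₂.h⁻¹ : GL ι F) : Matrix ι ι F).map σ
              * (((g₂⁻¹ * D₂.h) * (g₂⁻¹ * D₂.h)⁻¹ : GL ι F) : Matrix ι ι F) := by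
            rw [mul_inv_cancel, Units.val_one, Matrix.mul_one]
        _ = (((D₂.h⁻¹ : GL ι F) : Matrix ι ι F).map σ * ((g₂⁻¹ * D₂.h : GL ι F) : Matrix ι ι F))
              * (((g₂⁻¹ * D₂.h)⁻¹ : GL ι F) : Matrix ι ι F) := by
            rw [Units.val_mul (g₂⁻¹ * D₂.h), Matrix.mul_assoc]
        _ = (((g₂⁻¹ * D₂.h)⁻¹ : GL ι F) : Matrix ι ι F) := by rw [e1, Matrix.one_mul]
        _ = ((D₂.h⁻¹ * g₂ : GL ι F) : Matrix ι ι F) := by rw [_root_.mul_inv_rev, inv_inv]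
        _ = _ := Units.val_mul _ _
    rw [h3]
    simp only [Matrix.mul_assoc]
    rw [← Matrix.mul_assoc (g₁ : Matrix ι ι F), D₁.twist]

end Cfsg.Agent.Helper5.Coset
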