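import Mathlib
import Cfsg.Agent.Helper5.CosetE
import Cfsg.Agent.Helper44.QTypeSim
import Cfsg.Agent.Helper5.OrthSimpleStd

/-!
# Types of descent data (any characteristic)
-/

set_option autoImplicit false
set_option linter.unusedSectionVars false

namespace Cfsg.Agent.Helper5.Coset

open Module QuadraticMap Matrix Cfsg.Agent.Helper5.LangO Cfsg.Agent.Helper44 Cfsg.Agent.Helper44.QType

variable {F : Type*} [Field F] [Fintype F] {ι : Type} [Fintype ι] [DecidableEq ι]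

theorem finrank_fix_fun (σ : F ≃+* F) {m : ℕ} (hcard : Fintype.card ι = m) :
    Module.finrank (fixF σ) (ι → fixF σ) = m := by
  rw [Module.finrank_fintype_fun_eq_card, hcard]

/-- descent data have a type -/
theorem Descent.exists_type {Q : QuadraticForm F (ι → F)} {σ : F ≃+* F} {g : GL ι F}
    (D : Descent Q σ g) {m : ℕ} (hcard : Fintype.card ι = 2 * m) :
    ∃ ε : ℤ, (ε = 1 ∨ ε = -1) ∧ HasType (⇑D.Q₀) m ε := by
  haveI : Fintype (fixF σ) := Fintype.ofFinite _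
  exact exists_hasType D.Q₀ (finrank_fix_fun σ hcard) D.nondeg

/-- descent data of the same type are comparable -/
theorem Descent.compare_of_type {Q : QuadraticForm F (ι → F)} {σ : F ≃+* F} {g₁ g₂ : GL ι F}
    (D₁ : Descent Q σ g₁) (D₂ : Descent Q σ g₂) {m : ℕ} (hcard : Fintype.card ι = 2 * m) {ε : ℤ}
    (h₁ : HasType (⇑D₁.Q₀) m ε) (h₂ : HasType (⇑D₂.Q₀) m ε) :
    ∃ (h : GL ι F) (d : F), d ≠ 0 ∧ (∀ v : ι → F, Q ((h : Matrix ι ι F) *ᵥ v) = d * Q v) ∧
      (g₁ : Matrix ι ι F) * (h : Matrix ι ι F).map σ = (h : Matrix ι ι F) * (g₂ : Matrix ι ι F) := by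
  haveI : Fintype (fixF σ) := Fintype.ofFinite _
  obtain ⟨P₀, hP⟩ := exists_isometry_of_hasType D₂.Q₀ D₁.Q₀ (finrank_fix_fun σ hcard)
    (finrank_fix_fun σ hcard) D₂.nondeg D₁.nondeg h₂ h₁
  exact D₁.compare D₂ P₀ hP

/-- the zero count of `Q` equals that of a model of the descended form, extended to `F` -/
theorem Descent.fc_zero_eq {Q : QuadraticForm F (ι → F)} {σ : F ≃+* F} {g : GL ι F}
    (D : Descent Q σ g) {ι' : Type} [Fintype ι'] [DecidableEq ι']
    (S₀ : QuadraticForm (fixF σ) (ι' → fixF σ)) (S : QuadraticForm F (ι' → F))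
    (hS : ∀ w, S (up σ w) = ((S₀ w : fixF σ) : F))
    (P₀ : (ι' → fixF σ) ≃ₗ[fixF σ] (ι → fixF σ)) (hP : ∀ w, D.Q₀ (P₀ w) = S₀ w) :
    fc (⇑Q) 0 = fc (⇑S) 0 := by
  obtain ⟨M, N, hMN, hNM, -, -, hMup⟩ := exists_extension σ P₀
  have key : ∀ w : ι' → F, (compMat Q (D.h : Matrix ι ι F)) (M *ᵥ w) = (D.lam • S) w := by
    intro w
    apply form_extension σ (compMat Q (D.h : Matrix ι ι F)) (D.lam • S) M (fun w => P₀ w) hMup
    intro w
    rw [compMat_apply, D.val, hP]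
    show _ = D.lam * S (up σ w)
    rw [hS]
  symm
  let φ : (ι' → F) ≃ (ι → F) :=
    { toFun := fun w => (D.h : Matrix ι ι F) *ᵥ (M *ᵥ w)
      invFun := fun v => N *ᵥ (((D.h⁻¹ : GL ι F) : Matrix ι ι F) *ᵥ v)
      left_inv := fun w => by
        show N *ᵥ (((D.h⁻¹ : GL ι F) : Matrix ι ι F) *ᵥ ((D.h : Matrix ι ι F) *ᵥ (M *ᵥ w))) = w
        rw [Matrix.mulVec_mulVec (M *ᵥ w), ← Units.val_mul, inv_mul_cancel, Units.val_one,
          Matrix.one_mulVec, Matrix.mulVec_mulVec, hNM, Matrix.one_mulVec]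
      right_inv := fun v => by
        show (D.h : Matrix ι ι F) *ᵥ (M *ᵥ (N *ᵥ (((D.h⁻¹ : GL ι F) : Matrix ι ι F) *ᵥ v))) = v
        rw [Matrix.mulVec_mulVec _ M N, hMN, Matrix.one_mulVec, Matrix.mulVec_mulVec,
          ← Units.val_mul, mul_inv_cancel, Units.val_one, Matrix.one_mulVec] }
  unfold fc
  apply Nat.card_congr
  refine φ.subtypeEquiv ?_
  intro w
  have h1 := key w
  rw [compMat_apply] at h1
  show S w = 0 ↔ Q ((D.h : Matrix ι ι F) *ᵥ (M *ᵥ w)) = 0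
  rw [h1]
  show S w = 0 ↔ D.lam * S w = 0
  constructor
  · intro h
    rw [h, mul_zero]
  · intro h
    rcases mul_eq_zero.1 h with h | h
    · exact absurd h D.lam_ne
    · exact h

theorem hasType_of_fc_eq {V W : Type*} {Q : V → F} {S : W → F} (h : fc Q 0 = fc S 0) {m : ℕ}
    {ε : ℤ} (hS : HasType S m ε) : HasType Q m ε := by
  unfold HasType at hS ⊢
  rw [h]
  exact hS

/-! ### the standard models over the fixed field -/

theorem quadFormPlus_up (σ : F ≃+* F) (m : ℕ) (w : Fin m ⊕ Fin m → fixF σ) :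
    Cfsg.quadFormPlus m F (up σ w) = ((Cfsg.quadFormPlus m (fixF σ) w : fixF σ) : F) := by
  unfold Cfsg.quadFormPlus
  push_cast
  rfl

theorem quadFormMinus_up (σ : F ≃+* F) (k : ℕ) (a b : fixF σ)
    (w : (Fin k ⊕ Fin k) ⊕ Fin 2 → fixF σ) :
    Cfsg.quadFormMinus k F (a : F) (b : F) (up σ w)
      = ((Cfsg.quadFormMinus k (fixF σ) a b w : fixF σ) : F) := by
  unfold Cfsg.quadFormMinus
  push_cast
  rfl

/-- a descent of plus type shows that `Q` has plus type over `F` -/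
theorem Descent.hasType_of_plus {Q : QuadraticForm F (ι → F)} {σ : F ≃+* F} {g : GL ι F}
    (D : Descent Q σ g) {m : ℕ} (hcard : Fintype.card ι = 2 * m)
    (hD : HasType (⇑D.Q₀) m 1) : HasType (⇑Q) m 1 := by
  haveI : Fintype (fixF σ) := Fintype.ofFinite _
  have h1 : HasType (⇑(plusForm m (fixF σ))) m 1 := hasType_plus m
  obtain ⟨P₀, hP⟩ := exists_isometry_of_hasType (plusForm m (fixF σ)) D.Q₀
    (finrank_plus_idx m) (finrank_fix_fun σ hcard)
    (nondegenerate_plusForm m).1 D.nondeg h1 hD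
  have h2 := D.fc_zero_eq (plusForm m (fixF σ)) (plusForm m F) (quadFormPlus_up σ m) P₀ hP
  exact hasType_of_fc_eq h2 (hasType_plus m)

/-- an irreducible polynomial `t² + t + ζ` over a finite field -/
theorem exists_irreducible_quadratic (K : Type*) [Field K] [Fintype K] :
    ∃ ζ : K, ∀ t : K, t ^ 2 + t + ζ ≠ 0 := by
  classical
  by_contra hcon
  push Not at hcon
  have hsurj : Function.Surjective (fun t : K => t ^ 2 + t) := by
    intro y
    obtain ⟨t, ht⟩ := hcon (-y)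
    exact ⟨t, by show t ^ 2 + t = y; linear_combination ht⟩
  have hinj : Function.Injective (fun t : K => t ^ 2 + t) :=
    Finite.injective_iff_surjective.2 hsurj
  have h0 : (fun t : K => t ^ 2 + t) 0 = (fun t : K => t ^ 2 + t) (-1) := by
    show (0 : K) ^ 2 + 0 = (-1) ^ 2 + -1
    ring
  have := hinj h0
  exact one_ne_zero (neg_eq_zero.1 this.symm)

theorem aniso_of_irreducible {K : Type*} [Field K] (ζ : K) (h : ∀ t : K, t ^ 2 + t + ζ ≠ 0) :
    ∀ z₁ z₂ : K, z₁ ^ 2 + 1 * z₁ * z₂ + ζ * z₂ ^ 2 = 0 → z₁ = 0 ∧ z₂ = 0 := by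
  intro z₁ z₂ hz
  by_cases h2 : z₂ = 0
  · subst h2
    have : z₁ ^ 2 = 0 := by simpa using hz
    exact ⟨pow_eq_zero_iff (two_ne_zero) |>.mp this, rfl⟩
  · exfalso
    apply h (z₁ / z₂)
    have : (z₁ / z₂) ^ 2 + z₁ / z₂ + ζ = (z₁ ^ 2 + 1 * z₁ * z₂ + ζ * z₂ ^ 2) / z₂ ^ 2 := by
      field_simp
    rw [this, hz, zero_div]

/-- a descent of minus type: `Q` has the zero count of a minus form `z₁² + z₁ z₂ + ζ z₂²` with `ζ`
in the fixed field and `t² + t + ζ` irreducible there -/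
theorem Descent.exists_minus_model {Q : QuadraticForm F (ι → F)} {σ : F ≃+* F} {g : GL ι F}
    (D : Descent Q σ g) {k : ℕ} (hcard : Fintype.card ι = 2 * (k + 1))
    (hD : HasType (⇑D.Q₀) (k + 1) (-1)) :
    ∃ ζ : fixF σ, (∀ t : fixF σ, t ^ 2 + t + ζ ≠ 0) ∧
      fc (⇑Q) 0 = fc (Cfsg.quadFormMinus k F 1 (ζ : F)) 0 := by
  haveI : Fintype (fixF σ) := Fintype.ofFinite _
  obtain ⟨ζ, hζ⟩ := exists_irreducible_quadratic (fixF σ)
  have han := aniso_of_irreducible ζ hζ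
  have h1 : HasType (⇑(minusForm k (fixF σ) 1 ζ)) (k + 1) (-1) := hasType_minus k 1 ζ han
  obtain ⟨P₀, hP⟩ := exists_isometry_of_hasType (minusForm k (fixF σ) 1 ζ) D.Q₀
    (by rw [finrank_minus_idx]; ring) (finrank_fix_fun σ hcard)
    (nondegenerate_minusForm_of_aniso k 1 ζ han).1 D.nondeg h1 hD
  have h2 := D.fc_zero_eq (minusForm k (fixF σ) 1 ζ) (minusForm k F ((1 : fixF σ) : F) (ζ : F))
    (quadFormMinus_up σ k 1 ζ) P₀ hP
  refine ⟨ζ, hζ, ?_⟩
  rw [h2]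
  have e : ((1 : fixF σ) : F) = 1 := rfl
  rw [e]
  rfl

end Cfsg.Agent.Helper5.Coset
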