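import Mathlib
import Cfsg.Agent.Helper5.CosetF
import Cfsg.Agent.Helper5.CosetC

/-!
# Reflections commuting with a semisimilarity; type versus class preservation for the plus form
-/

set_option autoImplicit false
set_option linter.unusedSectionVars false

namespace Cfsg.Agent.Helper5.Coset

open Module QuadraticMap Matrix Cfsg.Agent.Helper5.LangO Cfsg.Agent.Helper44 Cfsg.Agent.Helper44.QType
open Cfsg.Agent.Helper12.GammaO Cfsg.Agent.Helper14.AutPSp

section general

variable {F : Type*} [Field F] {ι : Type} [Fintype ι] [DecidableEq ι]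

/-- the polar form under a semisimilarity -/
theorem polar_semisim {Q : QuadraticForm F (ι → F)} {g : Matrix ι ι F} {σ : F ≃+* F} {c : F}
    (h : ∀ v : ι → F, Q (g *ᵥ (fun i => σ (v i))) = c * σ (Q v)) (v w : ι → F) :
    polar ⇑Q (g *ᵥ (fun i => σ (v i))) (g *ᵥ (fun i => σ (w i))) = c * σ (polar ⇑Q v w) := by
  unfold QuadraticMap.polar
  have e : g *ᵥ (fun i => σ (v i)) + g *ᵥ (fun i => σ (w i)) = g *ᵥ (fun i => σ ((v + w) i)) := by
    rw [← Matrix.mulVec_add]
    congr 1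
    funext i
    simp
  rw [e, h, h, h, map_sub, map_sub]
  ring

/-- **a reflection in a fixed vector commutes with the semisimilarity** -/
theorem reflection_comm {Q : QuadraticForm F (ι → F)} {g : Matrix ι ι F} {σ : F ≃+* F} {c : F}
    (h : ∀ v : ι → F, Q (g *ᵥ (fun i => σ (v i))) = c * σ (Q v)) (w : ι → F)
    (hw : g *ᵥ (fun i => σ (w i)) = w) (hQw : Q w ≠ 0) :
    g * (Cfsg.reflectionMatrix (⇑Q) w).map σ = Cfsg.reflectionMatrix (⇑Q) w * g := by
  have hc : Q w = c * σ (Q w) := by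
    have := h w
    rw [hw] at this
    exact this
  have hc0 : c ≠ 0 := by
    intro h0
    rw [h0, zero_mul] at hc
    exact hQw hc
  have hσw : σ (Q w) ≠ 0 := (map_ne_zero_iff σ σ.injective).2 hQw
  apply Matrix.mulVec_injective
  funext v
  obtain ⟨x, rfl⟩ : ∃ x : ι → F, v = fun i => σ (x i) :=
    ⟨fun i => σ.symm (v i), by funext i; simp⟩
  rw [← Matrix.mulVec_mulVec, ← Matrix.mulVec_mulVec, ← map_mulVec,
    Helper13.reflectionMatrix_mulVec, Helper13.reflectionMatrix_mulVec]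
  have e1 : (fun i => σ ((x - ((Q w)⁻¹ * polar (⇑Q) w x) • w) i))
      = (fun i => σ (x i)) - σ ((Q w)⁻¹ * polar (⇑Q) w x) • (fun i => σ (w i)) := by
    funext i
    simp
  rw [e1, Matrix.mulVec_sub, Matrix.mulVec_smul, hw]
  congr 2
  have h2 := polar_semisim h w x
  rw [hw] at h2
  rw [h2, map_mul, map_inv₀]
  have h3 : (Q w)⁻¹ = (c * σ (Q w))⁻¹ := by rw [← hc]
  rw [h3, mul_inv]
  field_simp

theorem exists_nonsingular_fixed [Fintype F] {Q : QuadraticForm F (ι → F)} {σ : F ≃+* F}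
    {g : GL ι F} (D : Descent Q σ g) [Nonempty ι] :
    ∃ w : ι → F, (g : Matrix ι ι F) *ᵥ (fun i => σ (w i)) = w ∧ Q w ≠ 0 := by
  obtain ⟨v₀, hv₀⟩ : ∃ v₀ : ι → fixF σ, D.Q₀ v₀ ≠ 0 := by
    by_contra hcon
    push Not at hcon
    obtain ⟨i⟩ := ‹Nonempty ι›
    have h1 : (Pi.single i 1 : ι → fixF σ) = 0 := by
      apply D.nondeg
      intro y
      unfold polar
      rw [hcon, hcon, hcon]
      ring
    have := congrFun h1 i
    rw [Pi.single_eq_same] at this
    exact one_ne_zero this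
  refine ⟨(D.h : Matrix ι ι F) *ᵥ up σ v₀, ?_, ?_⟩
  · rw [map_mulVec, Matrix.mulVec_mulVec, D.twist, map_up]
  · rw [D.val]
    apply mul_ne_zero D.lam_ne
    intro h0
    apply hv₀
    exact Subtype.ext h0

/-- the trivial descent data of `(1, σ)` for a form with `σ`-fixed coefficients -/
noncomputable def Descent.triv (Q : QuadraticForm F (ι → F))
    (hnd : (QuadraticMap.polarBilin Q).Nondegenerate) (σ : F ≃+* F)
    (hQσ : ∀ v : ι → F, Q (fun i => σ (v i)) = σ (Q v)) : Descent Q σ (1 : GL ι F) where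
  h := 1
  lam := 1
  lam_ne := one_ne_zero
  Q₀ := descend σ Q hQσ
  twist := by
    rw [Units.val_one, Matrix.map_one _ (map_zero _) (map_one _), Matrix.one_mul]
  val := by
    intro v
    rw [Units.val_one, Matrix.one_mulVec, one_mul, descend_coe]
  nondeg := descend_nondeg σ Q hQσ (fun x hx => hnd.1 x hx)

end general

section plus

variable {F : Type*} [Field F] [Fintype F] {m : ℕ}

theorem mem_sim_of {g : GL (Fin m ⊕ Fin m) F} {d : F} (hd : d ≠ 0)
    (h : ∀ v : Fin m ⊕ Fin m → F,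
      (plusForm m F) ((g : Matrix (Fin m ⊕ Fin m) (Fin m ⊕ Fin m) F) *ᵥ v) = d * plusForm m F v) :
    g ∈ Cfsg.Geo.quadSimilarityGroup (F := F) (Cfsg.quadFormPlus m F) :=
  ⟨Units.mk0 d hd, fun v => h v⟩

theorem iff_aux {X A H' H B : Prop} (h1 : X ↔ (A ↔ H')) (h2 : H' ↔ H) (h3 : X ↔ (H ↔ B)) :
    A ↔ B := by tauto

/-- twisted conjugacy preserves the class behaviour -/
theorem sgn_eq (σ : F ≃+* F) {g₁ g₂ h : GL (Fin m ⊕ Fin m) F}
    (hg₁ : g₁ ∈ Cfsg.Geo.quadSimilarityGroup (F := F) (Cfsg.quadFormPlus m F))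
    (hg₂ : g₂ ∈ Cfsg.Geo.quadSimilarityGroup (F := F) (Cfsg.quadFormPlus m F))
    (hh : h ∈ Cfsg.Geo.quadSimilarityGroup (F := F) (Cfsg.quadFormPlus m F))
    (heq : (g₁ : Matrix (Fin m ⊕ Fin m) (Fin m ⊕ Fin m) F)
        * (h : Matrix (Fin m ⊕ Fin m) (Fin m ⊕ Fin m) F).map σ
      = (h : Matrix (Fin m ⊕ Fin m) (Fin m ⊕ Fin m) F)
        * (g₂ : Matrix (Fin m ⊕ Fin m) (Fin m ⊕ Fin m) F)) :
    Cfsg.PreservesSingularClasses (Cfsg.quadFormPlus m F)
        (g₁ : Matrix (Fin m ⊕ Fin m) (Fin m ⊕ Fin m) F)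
      ↔ Cfsg.PreservesSingularClasses (Cfsg.quadFormPlus m F)
        (g₂ : Matrix (Fin m ⊕ Fin m) (Fin m ⊕ Fin m) F) := by
  have e : g₁ * glMap σ h = h * g₂ := by
    apply Units.ext
    rw [Units.val_mul, Units.val_mul, coe_glMap]
    exact heq
  have h1 := pres_mul hg₁ (glMap_mem_sim σ hh)
  have h2 := pres_glMap σ hh
  have h3 := pres_mul hh hg₂
  rw [e] at h1
  exact iff_aux h1 h2 h3

theorem quadFormPlus_sigma (σ : F ≃+* F) (v : Fin m ⊕ Fin m → F) :
    plusForm m F (fun i => σ (v i)) = σ (plusForm m F v) :=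
  quadFormPlus_map σ v

theorem hasType_triv_plus (σ : F ≃+* F) :
    HasType (⇑(Descent.triv (plusForm m F) (nondegenerate_plusForm m) σ (quadFormPlus_sigma σ)).Q₀)
      m 1 := by
  haveI : Fintype (fixF σ) := Fintype.ofFinite _
  have h1 : HasType (Cfsg.quadFormPlus m (fixF σ)) m 1 := hasType_plus m
  refine h1.congr (Equiv.refl _) ?_
  intro v
  apply Subtype.ext
  show ((descend σ (plusForm m F) (quadFormPlus_sigma σ) v : fixF σ) : F) = _
  rw [descend_coe]
  exact quadFormPlus_up σ m v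

/-- (i) descent data of plus type belong to class-preserving similarities -/
theorem pres_of_type_plus (σ : F ≃+* F) {g : GL (Fin m ⊕ Fin m) F}
    (hg : g ∈ Cfsg.Geo.quadSimilarityGroup (F := F) (Cfsg.quadFormPlus m F))
    (D : Descent (plusForm m F) σ g) (hD : HasType (⇑D.Q₀) m 1) :
    Cfsg.PreservesSingularClasses (Cfsg.quadFormPlus m F)
      (g : Matrix (Fin m ⊕ Fin m) (Fin m ⊕ Fin m) F) := by
  obtain ⟨h, d, hd, hh, heq⟩ := D.compare_of_type
    (Descent.triv (plusForm m F) (nondegenerate_plusForm m) σ (quadFormPlus_sigma σ))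
    (by simp; ring) hD (hasType_triv_plus σ)
  have := sgn_eq σ hg (Subgroup.one_mem _) (mem_sim_of hd hh) heq
  rw [this]
  exact pres_one

end plus

end Cfsg.Agent.Helper5.Coset
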