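import Mathlib
import Cfsg.Agent.Helper5.CosetG

/-!
# Lang's theorem for the class-preserving similarities of the plus form, twisted by a field
automorphism of prime order (any characteristic)
-/

set_option autoImplicit false
set_option linter.unusedSectionVars false
set_option linter.style.haveILetI false

namespace Cfsg.Agent.Helper5.Coset

open Module QuadraticMap Matrix Cfsg.Agent.Helper5.LangO Cfsg.Agent.Helper44 Cfsg.Agent.Helper44.QType
open Cfsg.Agent.Helper12.GammaO Cfsg.Agent.Helper14.AutPSp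

section std

variable {F : Type*} [Field F] {k : ℕ}

/-- a standard non-singular vector -/
def w₀ (k : ℕ) (F : Type*) [Field F] : Fin (k + 1) ⊕ Fin (k + 1) → F :=
  Pi.single (Sum.inl 0) 1 + Pi.single (Sum.inr 0) 1

theorem plusForm_w₀ : plusForm (k + 1) F (w₀ k F) = 1 := by
  show Cfsg.quadFormPlus (k + 1) F (w₀ k F) = 1
  unfold Cfsg.quadFormPlus w₀
  simp [Pi.single_apply]

theorem plusForm_w₀_ne : plusForm (k + 1) F (w₀ k F) ≠ 0 := by
  rw [plusForm_w₀]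
  exact one_ne_zero

theorem sigma_w₀ (σ : F ≃+* F) : (fun i => σ (w₀ k F i)) = w₀ k F := by
  funext i
  unfold w₀
  rcases i with i | i <;> simp [Pi.single_apply, apply_ite σ]

/-- the standard reflection -/
noncomputable def ρ₀ (k : ℕ) (F : Type*) [Field F] : GL (Fin (k + 1) ⊕ Fin (k + 1)) F :=
  Helper13.reflectionGL (plusForm (k + 1) F) (w₀ k F) plusForm_w₀_ne

theorem ρ₀_mem : ρ₀ k F ∈ Cfsg.Geo.quadSimilarityGroup (F := F) (Cfsg.quadFormPlus (k + 1) F) := by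
  refine ⟨1, fun v => ?_⟩
  rw [Units.val_one, one_mul]
  exact (Helper13.mem_isometryGroup_iff _ _).1
    (Helper13.reflectionGL_mem (plusForm (k + 1) F) (w₀ k F) plusForm_w₀_ne) v

theorem not_pres_ρ₀ : ¬ Cfsg.PreservesSingularClasses (Cfsg.quadFormPlus (k + 1) F)
    ((ρ₀ k F : GL (Fin (k + 1) ⊕ Fin (k + 1)) F) :
      Matrix (Fin (k + 1) ⊕ Fin (k + 1)) (Fin (k + 1) ⊕ Fin (k + 1)) F) :=
  not_pres_refl (w₀ k F) plusForm_w₀_ne

theorem ρ₀_map (σ : F ≃+* F) :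
    ((ρ₀ k F : GL (Fin (k + 1) ⊕ Fin (k + 1)) F) :
      Matrix (Fin (k + 1) ⊕ Fin (k + 1)) (Fin (k + 1) ⊕ Fin (k + 1)) F).map σ
      = (ρ₀ k F : Matrix (Fin (k + 1) ⊕ Fin (k + 1)) (Fin (k + 1) ⊕ Fin (k + 1)) F) := by
  have h := reflection_comm (Q := plusForm (k + 1) F)
    (g := (1 : Matrix (Fin (k + 1) ⊕ Fin (k + 1)) (Fin (k + 1) ⊕ Fin (k + 1)) F)) (σ := σ) (c := 1)
    (fun v => by rw [Matrix.one_mulVec, one_mul]; exact quadFormPlus_map σ v) (w₀ k F)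
    (by rw [Matrix.one_mulVec]; exact sigma_w₀ σ) plusForm_w₀_ne
  rw [Matrix.one_mul, Matrix.mul_one] at h
  unfold ρ₀
  rw [Helper13.coe_reflectionGL]
  exact h

theorem ρ₀_mul_self :
    (ρ₀ k F : Matrix (Fin (k + 1) ⊕ Fin (k + 1)) (Fin (k + 1) ⊕ Fin (k + 1)) F)
      * (ρ₀ k F : Matrix (Fin (k + 1) ⊕ Fin (k + 1)) (Fin (k + 1) ⊕ Fin (k + 1)) F) = 1 := by
  have h := refl_mul_self (plusForm (k + 1) F) (w₀ k F) plusForm_w₀_ne
  have h2 := congrArg (fun x : ↥(Cfsg.isometryGroup F ⇑(plusForm (k + 1) F)) =>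
    ((x : GL (Fin (k + 1) ⊕ Fin (k + 1)) F) :
      Matrix (Fin (k + 1) ⊕ Fin (k + 1)) (Fin (k + 1) ⊕ Fin (k + 1)) F)) h
  exact h2

end std

variable {F : Type*} [Field F] [Fintype F] {k : ℕ}

/-- (iv) for `σ` of odd order all descent data of the plus form have plus type -/
theorem type_plus_of_odd (σ : F ≃+* F) {r : ℕ} (hr : orderOf σ = r) (hodd : Odd r)
    {g : GL (Fin (k + 1) ⊕ Fin (k + 1)) F} (D : Descent (plusForm (k + 1) F) σ g) :
    HasType (⇑D.Q₀) (k + 1) 1 := by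
  have hcard : Fintype.card (Fin (k + 1) ⊕ Fin (k + 1)) = 2 * (k + 1) := by simp; ring
  obtain ⟨ε, hε, hD⟩ := D.exists_type hcard
  rcases hε with rfl | rfl
  · exact hD
  exfalso
  obtain ⟨ζ, hζ, hfc⟩ := D.exists_minus_model hcard hD
  have h1 : HasType (Cfsg.quadFormMinus k F 1 (ζ : F)) (k + 1) 1 :=
    hasType_of_fc_eq hfc.symm (hasType_plus (k + 1))
  -- a root in `F`
  obtain ⟨t, ht⟩ : ∃ t : F, t ^ 2 + t + (ζ : F) = 0 := by
    by_contra hcon
    push Not at hcon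
    have h2 := hasType_minus k 1 (ζ : F) (aniso_of_irreducible (ζ : F) hcon)
    have := h1.unique h2
    norm_num at this
  have hσζ : σ (ζ : F) = (ζ : F) := ζ.2
  have ht' : (σ t) ^ 2 + σ t + (ζ : F) = 0 := by
    have := congrArg σ ht
    rw [map_add, map_add, map_pow, hσζ, map_zero] at this
    exact this
  have hprod : (σ t - t) * (σ t + t + 1) = 0 := by linear_combination ht' - ht
  have hfix : σ t = t := by
    rcases mul_eq_zero.1 hprod with h | h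
    · exact sub_eq_zero.1 h
    · have hσt : σ t = -1 - t := by linear_combination h
      have hpow : ∀ n : ℕ, (σ ^ (2 * n + 1)) t = -1 - t := by
        intro n
        induction n with
        | zero => simpa using hσt
        | succ n ih =>
          have e : 2 * (n + 1) + 1 = (2 * n + 1) + 2 := by ring
          have h2 : (σ ^ 2) t = t := by
            rw [pow_two]
            show σ (σ t) = t
            rw [hσt, map_sub, map_neg, map_one, hσt]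
            ring
          rw [e, pow_add]
          show (σ ^ (2 * n + 1)) ((σ ^ 2) t) = -1 - t
          rw [h2, ih]
      obtain ⟨n, hn⟩ := hodd
      have h3 := hpow n
      rw [← hn, ← hr, pow_orderOf_eq_one] at h3
      rw [hσt, ← h3]
      rfl
  exact hζ ⟨t, hfix⟩ (Subtype.ext (by push_cast; exact ht))

/-- (iii) for `σ` of order two, descent data of minus type belong to class-interchanging
similarities -/
theorem not_pres_of_type_minus (σ : F ≃+* F) (hr : orderOf σ = 2)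
    {g : GL (Fin (k + 1) ⊕ Fin (k + 1)) F}
    (hg : g ∈ Cfsg.Geo.quadSimilarityGroup (F := F) (Cfsg.quadFormPlus (k + 1) F))
    (D : Descent (plusForm (k + 1) F) σ g) (hD : HasType (⇑D.Q₀) (k + 1) (-1)) :
    ¬ Cfsg.PreservesSingularClasses (Cfsg.quadFormPlus (k + 1) F)
      (g : Matrix (Fin (k + 1) ⊕ Fin (k + 1)) (Fin (k + 1) ⊕ Fin (k + 1)) F) := by
  have hcard : Fintype.card (Fin (k + 1) ⊕ Fin (k + 1)) = 2 * (k + 1) := by simp; ring
  have hσ2 : ∀ x : F, σ (σ x) = x := by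
    intro x
    have h1 : σ ^ 2 = 1 := by rw [← hr]; exact pow_orderOf_eq_one σ
    have h2 : (σ ^ 2) x = x := by rw [h1]; rfl
    rw [pow_two] at h2
    exact h2
  have hsemi : ∀ v : Fin (k + 1) ⊕ Fin (k + 1) → F,
      plusForm (k + 1) F ((ρ₀ k F : Matrix (Fin (k + 1) ⊕ Fin (k + 1)) (Fin (k + 1) ⊕ Fin (k + 1)) F)
        *ᵥ (fun i => σ (v i))) = 1 * σ (plusForm (k + 1) F v) := by
    intro v
    rw [one_mul, ← quadFormPlus_sigma σ v]
    exact (Helper13.mem_isometryGroup_iff _ _).1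
      (Helper13.reflectionGL_mem (plusForm (k + 1) F) (w₀ k F) plusForm_w₀_ne) _
  have hiter : ∀ v, ((semiK ((ρ₀ k F : GL (Fin (k + 1) ⊕ Fin (k + 1)) F) :
      Matrix (Fin (k + 1) ⊕ Fin (k + 1)) (Fin (k + 1) ⊕ Fin (k + 1)) F) σ)^[2]) v = v := by
    intro v
    rw [Function.iterate_succ_apply, Function.iterate_succ_apply, Function.iterate_zero_apply,
      semiK_apply, semiK_apply, map_mulVec, ρ₀_map, Matrix.mulVec_mulVec, ρ₀_mul_self,
      Matrix.one_mulVec]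
    funext i
    exact hσ2 (v i)
  obtain ⟨Dρ⟩ := exists_descent_data (plusForm (k + 1) F) (nondegenerate_plusForm (k + 1)) σ hr
    (by norm_num) (ρ₀ k F) 1 hsemi hiter
  have hDρ : HasType (⇑Dρ.Q₀) (k + 1) (-1) := by
    obtain ⟨ε, hε, hDε⟩ := Dρ.exists_type hcard
    rcases hε with rfl | rfl
    · exact absurd (pres_of_type_plus σ ρ₀_mem Dρ hDε) not_pres_ρ₀
    · exact hDε
  obtain ⟨h, d, hd, hh, heq⟩ := D.compare_of_type Dρ hcard hD hDρ
  have := sgn_eq σ hg ρ₀_mem (mem_sim_of hd hh) heq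
  rw [this]
  exact not_pres_ρ₀

/-- for `σ` of prime order the type of descent data is read off from the class behaviour -/
theorem type_iff_pres (σ : F ≃+* F) {r : ℕ} (hr : orderOf σ = r) (hp : r.Prime)
    {g : GL (Fin (k + 1) ⊕ Fin (k + 1)) F}
    (hg : g ∈ Cfsg.Geo.quadSimilarityGroup (F := F) (Cfsg.quadFormPlus (k + 1) F))
    (D : Descent (plusForm (k + 1) F) σ g) :
    HasType (⇑D.Q₀) (k + 1) 1 ↔ Cfsg.PreservesSingularClasses (Cfsg.quadFormPlus (k + 1) F)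
      (g : Matrix (Fin (k + 1) ⊕ Fin (k + 1)) (Fin (k + 1) ⊕ Fin (k + 1)) F) := by
  have hcard : Fintype.card (Fin (k + 1) ⊕ Fin (k + 1)) = 2 * (k + 1) := by simp; ring
  constructor
  · exact pres_of_type_plus σ hg D
  · intro hpres
    rcases hp.eq_two_or_odd' with h2 | hodd
    · obtain ⟨ε, hε, hDε⟩ := D.exists_type hcard
      rcases hε with rfl | rfl
      · exact hDε
      · exact absurd hpres (not_pres_of_type_minus σ (by rw [hr, h2]) hg D hDε)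
    · exact type_plus_of_odd σ hr hodd D

/-- **Lang's theorem**: two semisimilarities `g₁ σ`, `g₃ σ` of order `r` with the same class
behaviour are conjugate under a class-preserving similarity -/
theorem lang_plus (σ : F ≃+* F) {r : ℕ} (hr : orderOf σ = r) (hp : r.Prime)
    {g₁ g₃ ρ' : GL (Fin (k + 1) ⊕ Fin (k + 1)) F}
    (hg₁ : g₁ ∈ Cfsg.Geo.quadSimilarityGroup (F := F) (Cfsg.quadFormPlus (k + 1) F))
    (hg₃ : g₃ ∈ Cfsg.Geo.quadSimilarityGroup (F := F) (Cfsg.quadFormPlus (k + 1) F))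
    (hρ' : ρ' ∈ Cfsg.Geo.quadSimilarityGroup (F := F) (Cfsg.quadFormPlus (k + 1) F))
    (hiter₁ : ∀ v, ((semiK (g₁ : Matrix (Fin (k + 1) ⊕ Fin (k + 1)) (Fin (k + 1) ⊕ Fin (k + 1)) F)
      σ)^[r]) v = v)
    (hiter₃ : ∀ v, ((semiK (g₃ : Matrix (Fin (k + 1) ⊕ Fin (k + 1)) (Fin (k + 1) ⊕ Fin (k + 1)) F)
      σ)^[r]) v = v)
    (hsame : Cfsg.PreservesSingularClasses (Cfsg.quadFormPlus (k + 1) F)
        (g₁ : Matrix (Fin (k + 1) ⊕ Fin (k + 1)) (Fin (k + 1) ⊕ Fin (k + 1)) F)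
      ↔ Cfsg.PreservesSingularClasses (Cfsg.quadFormPlus (k + 1) F)
        (g₃ : Matrix (Fin (k + 1) ⊕ Fin (k + 1)) (Fin (k + 1) ⊕ Fin (k + 1)) F))
    (hρ'n : ¬ Cfsg.PreservesSingularClasses (Cfsg.quadFormPlus (k + 1) F)
        (ρ' : Matrix (Fin (k + 1) ⊕ Fin (k + 1)) (Fin (k + 1) ⊕ Fin (k + 1)) F))
    (hρ'c : (g₃ : Matrix (Fin (k + 1) ⊕ Fin (k + 1)) (Fin (k + 1) ⊕ Fin (k + 1)) F)
        * (ρ' : Matrix (Fin (k + 1) ⊕ Fin (k + 1)) (Fin (k + 1) ⊕ Fin (k + 1)) F).map σ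
      = (ρ' : Matrix (Fin (k + 1) ⊕ Fin (k + 1)) (Fin (k + 1) ⊕ Fin (k + 1)) F)
        * (g₃ : Matrix (Fin (k + 1) ⊕ Fin (k + 1)) (Fin (k + 1) ⊕ Fin (k + 1)) F)) :
    ∃ h : GL (Fin (k + 1) ⊕ Fin (k + 1)) F,
      h ∈ Cfsg.Geo.quadSimilarityGroup (F := F) (Cfsg.quadFormPlus (k + 1) F) ∧
      Cfsg.PreservesSingularClasses (Cfsg.quadFormPlus (k + 1) F)
        (h : Matrix (Fin (k + 1) ⊕ Fin (k + 1)) (Fin (k + 1) ⊕ Fin (k + 1)) F) ∧
      (g₁ : Matrix (Fin (k + 1) ⊕ Fin (k + 1)) (Fin (k + 1) ⊕ Fin (k + 1)) F)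
        * (h : Matrix (Fin (k + 1) ⊕ Fin (k + 1)) (Fin (k + 1) ⊕ Fin (k + 1)) F).map σ
      = (h : Matrix (Fin (k + 1) ⊕ Fin (k + 1)) (Fin (k + 1) ⊕ Fin (k + 1)) F)
        * (g₃ : Matrix (Fin (k + 1) ⊕ Fin (k + 1)) (Fin (k + 1) ⊕ Fin (k + 1)) F) := by
  have hcard : Fintype.card (Fin (k + 1) ⊕ Fin (k + 1)) = 2 * (k + 1) := by simp; ring
  have hsemi : ∀ {g : GL (Fin (k + 1) ⊕ Fin (k + 1)) F},
      g ∈ Cfsg.Geo.quadSimilarityGroup (F := F) (Cfsg.quadFormPlus (k + 1) F) →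
      ∃ c : F, ∀ v : Fin (k + 1) ⊕ Fin (k + 1) → F,
        plusForm (k + 1) F ((g : Matrix (Fin (k + 1) ⊕ Fin (k + 1)) (Fin (k + 1) ⊕ Fin (k + 1)) F)
          *ᵥ (fun i => σ (v i))) = c * σ (plusForm (k + 1) F v) := by
    rintro g ⟨c, hc⟩
    refine ⟨c, fun v => ?_⟩
    rw [← quadFormPlus_sigma σ v]
    exact hc _
  obtain ⟨c₁, hc₁⟩ := hsemi hg₁
  obtain ⟨c₃, hc₃⟩ := hsemi hg₃
  obtain ⟨D₁⟩ := exists_descent_data (plusForm (k + 1) F) (nondegenerate_plusForm (k + 1)) σ hr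
    hp.pos g₁ c₁ hc₁ hiter₁
  obtain ⟨D₃⟩ := exists_descent_data (plusForm (k + 1) F) (nondegenerate_plusForm (k + 1)) σ hr
    hp.pos g₃ c₃ hc₃ hiter₃
  have ht₁ := type_iff_pres σ hr hp hg₁ D₁
  have ht₃ := type_iff_pres σ hr hp hg₃ D₃
  -- the two types agree
  obtain ⟨ε, h₁, h₃⟩ : ∃ ε : ℤ, HasType (⇑D₁.Q₀) (k + 1) ε ∧ HasType (⇑D₃.Q₀) (k + 1) ε := by
    by_cases hpres : Cfsg.PreservesSingularClasses (Cfsg.quadFormPlus (k + 1) F)
        (g₁ : Matrix (Fin (k + 1) ⊕ Fin (k + 1)) (Fin (k + 1) ⊕ Fin (k + 1)) F)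
    · exact ⟨1, ht₁.2 hpres, ht₃.2 (hsame.1 hpres)⟩
    · refine ⟨-1, ?_, ?_⟩
      · obtain ⟨ε, hε, hDε⟩ := D₁.exists_type hcard
        rcases hε with rfl | rfl
        · exact absurd (ht₁.1 hDε) hpres
        · exact hDε
      · obtain ⟨ε, hε, hDε⟩ := D₃.exists_type hcard
        rcases hε with rfl | rfl
        · exact absurd (hsame.2 (ht₃.1 hDε)) hpres
        · exact hDε
  obtain ⟨h, d, hd, hh, heq⟩ := D₁.compare_of_type D₃ hcard h₁ h₃
  have hhmem := mem_sim_of hd hh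
  by_cases hph : Cfsg.PreservesSingularClasses (Cfsg.quadFormPlus (k + 1) F)
      (h : Matrix (Fin (k + 1) ⊕ Fin (k + 1)) (Fin (k + 1) ⊕ Fin (k + 1)) F)
  · exact ⟨h, hhmem, hph, heq⟩
  · refine ⟨h * ρ', Subgroup.mul_mem _ hhmem hρ', ?_, ?_⟩
    · rw [pres_mul hhmem hρ']
      exact ⟨fun a => absurd a hph, fun a => absurd a hρ'n⟩
    · rw [Units.val_mul, Matrix.map_mul, ← Matrix.mul_assoc, heq, Matrix.mul_assoc, hρ'c,
        Matrix.mul_assoc]

end Cfsg.Agent.Helper5.Coset
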