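import Mathlib
import Cfsg.Agent.Helper5.LangOD

/-!
# The core of the coset argument for a general standard element
-/

set_option autoImplicit false
set_option linter.unusedSectionVars false

namespace Cfsg.Agent.Helper5.Coset

open Matrix Module QuadraticMap Cfsg.Agent.Helper12.GammaO Cfsg.Agent.Helper44
open Cfsg.Agent.Helper14.AutPSp Cfsg.Agent.Helper37.Lang Cfsg.Agent.Helper5.LangO

variable {F : Type*} [Field F] {ι : Type} [Fintype ι] [DecidableEq ι]
variable (Q : QuadraticForm F (ι → F))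

/-- **the core**: a pair `y` with field automorphism `σ` whose image in `Aut(PΩ)` has order dividing
`r = |σ|` is conjugate to a given pair `s₃` with the same `σ` by a similarity, granted a
Lang-type statement relating the (rescaled) matrix of `y` to that of `s₃` -/
theorem exists_conj_core [Fintype F]
    (hQ : (QuadraticMap.polarBilin Q).Nondegenerate) (hn : 7 ≤ Fintype.card ι)
    (σ : F ≃+* F) {r : ℕ} (hr : orderOf σ = r) (hr0 : 0 < r)
    (y s₃ : ↥(GamO ⇑Q)) (hyr : y.1.right = σ) (hsr : s₃.1.right = σ)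
    (hpow : (psi ⇑Q y) ^ r = 1) (Good : GL ι F → Prop)
    (hlang : ∀ μ : Fˣ,
      (∀ v, ((semiK ((Matrix.GeneralLinearGroup.scalar ι μ * y.1.left : GL ι F) : Matrix ι ι F)
        σ)^[r]) v = v) →
      ∃ h : GL ι F, (∃ d : F, d ≠ 0 ∧ ∀ v : ι → F, Q ((h : Matrix ι ι F) *ᵥ v) = d * Q v) ∧ Good h ∧
        ((Matrix.GeneralLinearGroup.scalar ι μ * y.1.left : GL ι F) : Matrix ι ι F)
            * (h : Matrix ι ι F).map σ
          = (h : Matrix ι ι F) * (s₃.1.left : Matrix ι ι F)) :
    ∃ H : ↥(GamO ⇑Q), H.1.right = RingEquiv.refl F ∧ Good H.1.left ∧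
      psi ⇑Q y = psi ⇑Q H * psi ⇑Q s₃ * (psi ⇑Q H)⁻¹ := by
  obtain ⟨g, hg⟩ : ∃ g : GL ι F, g = y.1.left := ⟨_, rfl⟩
  have hσr : σ ^ r = 1 := by rw [← hr]; exact pow_orderOf_eq_one σ
  -- the `r`-th power is a scalar
  have hker : y ^ r ∈ (psi ⇑Q).ker := by
    rw [MonoidHom.mem_ker, map_pow]
    exact hpow
  obtain ⟨hker1, hker2⟩ := mem_ker_psi Q hQ hn _ hker
  obtain ⟨ν, hν⟩ := (Cfsg.Geo.mem_scalars_iff _).1 hker2
  have hiter : ∀ v, ((semiK (g : Matrix ι ι F) σ)^[r]) v = (ν : F) • v := by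
    intro v
    have := iterate_semiLin y.1 r v
    rw [← hg, hyr] at this
    rw [this]
    have e1 : (y.1 ^ r) = (y ^ r).1 := rfl
    rw [e1]
    unfold semiLin
    rw [hν, hker1, Matrix.smul_mulVec, Matrix.one_mulVec]
    rfl
  have hν0 : (ν : F) ≠ 0 := ν.ne_zero
  -- `ν` is fixed by `σ`
  have hσν : σ (ν : F) = (ν : F) := by
    obtain ⟨v₀, hv₀⟩ : ∃ v₀ : ι → F, v₀ ≠ 0 := by
      haveI : Nonempty ι := by
        rw [← Fintype.card_pos_iff]
        omega
      obtain ⟨i⟩ := ‹Nonempty ι›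
      refine ⟨Pi.single i 1, ?_⟩
      intro h0
      have := congrFun h0 i
      rw [Pi.single_eq_same] at this
      exact one_ne_zero this
    have hTv : semiK (g : Matrix ι ι F) σ v₀ ≠ 0 := by
      intro h0
      exact hv₀ (semiLin_eq_zero (g := g) (σ := σ) h0)
    have h1 : ((semiK (g : Matrix ι ι F) σ)^[r]) (semiK (g : Matrix ι ι F) σ v₀)
        = semiK (g : Matrix ι ι F) σ (((semiK (g : Matrix ι ι F) σ)^[r]) v₀) := by
      rw [← Function.iterate_succ_apply, Function.iterate_succ_apply']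
    rw [hiter, hiter, semiK_smul] at h1
    have h3 : ((ν : F) - σ (ν : F)) • semiK (g : Matrix ι ι F) σ v₀ = 0 := by
      rw [sub_smul, h1, sub_self]
    rcases smul_eq_zero.1 h3 with h | h
    · exact (sub_eq_zero.1 h).symm
    · exact absurd h hTv
  obtain ⟨μ, hμ0, hμ⟩ := exists_nrm_eq σ hr hr0 (inv_ne_zero hν0) (by rw [map_inv₀, hσν])
  -- the corrected matrix
  obtain ⟨g', hg'⟩ : ∃ g' : GL ι F, g' = Matrix.GeneralLinearGroup.scalar ι (Units.mk0 μ hμ0) * g :=
    ⟨_, rfl⟩
  have hg'c : (g' : Matrix ι ι F) = μ • (g : Matrix ι ι F) := by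
    rw [hg', Units.val_mul]
    apply Matrix.mulVec_injective
    funext v
    rw [← Matrix.mulVec_mulVec, scalar_mulVec, Units.val_mk0, Matrix.smul_mulVec]
  have hg'iter : ∀ v, ((semiK (g' : Matrix ι ι F) σ)^[r]) v = v := by
    intro v
    rw [hg'c, semiK_smul_iterate, hiter, hμ, smul_smul, inv_mul_cancel₀ hν0, one_smul]
  rw [hg', hg] at hg'iter
  obtain ⟨h, ⟨d, hd0, hhQ⟩, hgood, hh⟩ := hlang (Units.mk0 μ hμ0) hg'iter
  -- the elements of `ΓO`
  have hHmem : Cfsg.IsSemisimilarityPair ⇑Q h (RingEquiv.refl F) :=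
    ⟨Units.mk0 d hd0, fun v => hhQ v⟩
  refine ⟨mkG Q h (RingEquiv.refl F) hHmem, rfl, hgood, ?_⟩
  have hz := psi_scalar Q (Units.mk0 μ hμ0) (scalar_isSemisimilarityPair Q _)
  -- `z * y * H = H * s₃` in `ΓO`
  have key : mkG Q _ _ (scalar_isSemisimilarityPair Q (Units.mk0 μ hμ0)) * y
      * mkG Q h (RingEquiv.refl F) hHmem = mkG Q h (RingEquiv.refl F) hHmem * s₃ := by
    apply Subtype.ext
    apply SemidirectProduct.ext
    · show ((mkG Q _ _ (scalar_isSemisimilarityPair Q (Units.mk0 μ hμ0))).1 * y.1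
        * (mkG Q h (RingEquiv.refl F) hHmem).1).left
        = ((mkG Q h (RingEquiv.refl F) hHmem).1 * s₃.1).left
      rw [SemidirectProduct.mul_left, SemidirectProduct.mul_left, SemidirectProduct.mul_left,
        SemidirectProduct.mul_right, mkG_left, mkG_left, mkG_right, mkG_right, hyr]
      apply Units.ext
      have e1 : (fieldAct (RingEquiv.refl F)) y.1.left = y.1.left := by
        apply Units.ext
        ext i j
        rfl
      have e2 : (fieldAct (RingEquiv.refl F)) s₃.1.left = s₃.1.left := by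
        apply Units.ext
        ext i j
        rfl
      have e3 : (RingEquiv.refl F) * σ = σ := one_mul σ
      rw [e1, e2, e3, Units.val_mul _ ((fieldAct σ) h), fieldAct_apply, coe_glMap, Units.val_mul h]
      exact hh
    · show ((mkG Q _ _ (scalar_isSemisimilarityPair Q (Units.mk0 μ hμ0))).1 * y.1
        * (mkG Q h (RingEquiv.refl F) hHmem).1).right
        = ((mkG Q h (RingEquiv.refl F) hHmem).1 * s₃.1).right
      rw [SemidirectProduct.mul_right, SemidirectProduct.mul_right, SemidirectProduct.mul_right,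
        mkG_right, mkG_right, hyr, hsr]
      show (1 : F ≃+* F) * σ * 1 = 1 * σ
      rw [mul_one]
  have key2 := congrArg (psi ⇑Q) key
  rw [map_mul, map_mul, map_mul, hz, one_mul] at key2
  rw [← key2, mul_inv_cancel_right]

/-- the iterate of the semilinear map of a pair of finite order -/
theorem iter_of_pow_eq_one (s : Gam ι F) {r : ℕ} (hs : s ^ r = 1) (v : ι → F) :
    ((semiK (s.left : Matrix ι ι F) s.right)^[r]) v = v := by
  rw [iterate_semiLin, hs, semiLin_one]

end Cfsg.Agent.Helper5.Coset
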