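import Mathlib
import Cfsg.Agent.Helper5.CosetH
import Cfsg.Agent.Helper5.CosetI

/-!
# The coset theorem for the plus form, relative to a standard element of `ΓO`
-/

set_option autoImplicit false
set_option linter.unusedSectionVars false
set_option linter.style.haveILetI false

namespace Cfsg.Agent.Helper5.Coset

open Matrix Module QuadraticMap Cfsg.Agent.Helper12.GammaO Cfsg.Agent.Helper44
open Cfsg.Agent.Helper14.AutPSp Cfsg.Agent.Helper37.Lang Cfsg.Agent.Helper5.LangO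

variable {F : Type*} [Field F] {m : ℕ}

/-- scalar matrices preserve the classes -/
theorem pres_scalar (μ : Fˣ) :
    Cfsg.PreservesSingularClasses (Cfsg.quadFormPlus m F)
      ((Matrix.GeneralLinearGroup.scalar (Fin m ⊕ Fin m) μ : GL (Fin m ⊕ Fin m) F) :
        Matrix (Fin m ⊕ Fin m) (Fin m ⊕ Fin m) F) := by
  have hmem : Matrix.GeneralLinearGroup.scalar (Fin m ⊕ Fin m) μ
      ∈ Cfsg.Geo.quadSimilarityGroup (F := F) (Cfsg.quadFormPlus m F) := by
    obtain ⟨c, hc⟩ := scalar_isSemisimilarityPair (plusForm m F) μ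
    exact ⟨c, fun v => hc v⟩
  rw [pres_iff hmem]
  unfold EvenAt
  have e : (stdSing m F).map (Matrix.toLin'
      ((Matrix.GeneralLinearGroup.scalar (Fin m ⊕ Fin m) μ : GL (Fin m ⊕ Fin m) F) :
        Matrix (Fin m ⊕ Fin m) (Fin m ⊕ Fin m) F)) = stdSing m F := by
    ext x
    rw [Submodule.mem_map]
    constructor
    · rintro ⟨u, hu, rfl⟩
      rw [Matrix.toLin'_apply, scalar_mulVec]
      exact Submodule.smul_mem _ _ hu
    · intro hx
      refine ⟨((μ⁻¹ : Fˣ) : F) • x, Submodule.smul_mem _ _ hx, ?_⟩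
      rw [Matrix.toLin'_apply, scalar_mulVec, smul_smul, ← Units.val_mul, mul_inv_cancel,
        Units.val_one, one_smul]
  rw [e, inf_idem, finrank_stdSing]
  exact ⟨m, rfl⟩

theorem fieldAct_refl {ι : Type} [Fintype ι] [DecidableEq ι] (g : GL ι F) :
    (fieldAct (RingEquiv.refl F)) g = g := by
  apply Units.ext
  ext i j
  rfl

variable [Fintype F]

/-- left components of pairs of `ΓO` of the plus form are similarities -/
theorem left_mem_sim (d : ↥(GamO ⇑(plusForm m F))) :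
    d.1.left ∈ Cfsg.Geo.quadSimilarityGroup (F := F) (Cfsg.quadFormPlus m F) := by
  obtain ⟨c, hc⟩ := d.2
  refine ⟨c, fun v => ?_⟩
  have h := hc (fun i => d.1.right.symm (v i))
  have e : (fun i => d.1.right (d.1.right.symm (v i))) = v := by
    funext i
    simp
  rw [e] at h
  have h2 := quadFormPlus_map d.1.right (fun i => d.1.right.symm (v i))
  rw [e] at h2
  show plusForm m F _ = (c : F) * plusForm m F v
  rw [h]
  congr 1
  exact h2.symm

theorem coe_mul_left (a b : ↥(GamO ⇑(plusForm m F))) (ha : a.1.right = RingEquiv.refl F) :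
    (a * b).1.left = a.1.left * b.1.left := by
  show (a.1 * b.1).left = _
  rw [SemidirectProduct.mul_left, ha, fieldAct_refl]

theorem coe_mul_right (a b : ↥(GamO ⇑(plusForm m F))) :
    (a * b).1.right = a.1.right * b.1.right := rfl

theorem coe_inv_left (a : ↥(GamO ⇑(plusForm m F))) (ha : a.1.right = RingEquiv.refl F) :
    (a⁻¹).1.left = (a.1.left)⁻¹ := by
  show (a.1⁻¹).left = _
  rw [SemidirectProduct.inv_left, ha]
  have e : ((RingEquiv.refl F)⁻¹ : F ≃+* F) = RingEquiv.refl F := rfl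
  rw [e, fieldAct_refl]

theorem coe_inv_right (a : ↥(GamO ⇑(plusForm m F))) :
    (a⁻¹).1.right = (a.1.right)⁻¹ := rfl

/-- the pairs with trivial field automorphism and class-preserving matrix -/
def presSub (m : ℕ) (F : Type*) [Field F] [Fintype F] : Subgroup ↥(GamO ⇑(plusForm m F)) where
  carrier := {d | d.1.right = RingEquiv.refl F ∧
    Cfsg.PreservesSingularClasses (Cfsg.quadFormPlus m F)
      (d.1.left : Matrix (Fin m ⊕ Fin m) (Fin m ⊕ Fin m) F)}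
  mul_mem' := by
    rintro a b ⟨ha1, ha2⟩ ⟨hb1, hb2⟩
    refine ⟨?_, ?_⟩
    · rw [coe_mul_right, ha1, hb1]
      rfl
    · rw [coe_mul_left a b ha1, pres_mul (left_mem_sim a) (left_mem_sim b)]
      exact ⟨fun _ => hb2, fun _ => ha2⟩
  one_mem' := ⟨rfl, pres_one⟩
  inv_mem' := by
    rintro a ⟨ha1, ha2⟩
    refine ⟨?_, ?_⟩
    · rw [coe_inv_right, ha1]
      rfl
    · rw [coe_inv_left a ha1, pres_inv (left_mem_sim a)]
      exact ha2

/-- elements of `Inndiag` come from class-preserving similarities -/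
theorem exists_of_mem_inndiagPlus {δ : MulAut (Cfsg.POmega F (Cfsg.quadFormPlus m F))}
    (hδ : δ ∈ Cfsg.inndiagPOmegaPlus m F) :
    ∃ d : ↥(GamO ⇑(plusForm m F)), d.1.right = RingEquiv.refl F ∧
      Cfsg.PreservesSingularClasses (Cfsg.quadFormPlus m F)
        (d.1.left : Matrix (Fin m ⊕ Fin m) (Fin m ⊕ Fin m) F) ∧
      psi ⇑(plusForm m F) d = δ := by
  have hle : Cfsg.inndiagPOmegaPlus m F ≤ (presSub m F).map (psi ⇑(plusForm m F)) := by
    unfold Cfsg.inndiagPOmegaPlus Cfsg.autSubgroupOf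
    refine (Subgroup.closure_le _).2 ?_
    rintro β ⟨g, hg, hpres, hind⟩
    obtain ⟨c, hc⟩ := hg
    have hmem : Cfsg.IsSemisimilarityPair ⇑(plusForm m F) g (RingEquiv.refl F) :=
      ⟨c, fun v => hc v⟩
    refine ⟨mkG (plusForm m F) g (RingEquiv.refl F) hmem, ⟨rfl, hpres⟩, ?_⟩
    exact ((isInduced_iff ⇑(plusForm m F) (mkG (plusForm m F) g (RingEquiv.refl F) hmem) β).1
      hind).symm
  obtain ⟨d, ⟨hd1, hd2⟩, hd3⟩ := hle hδ
  exact ⟨d, hd1, hd2, hd3⟩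

/-- class-preserving similarities induce elements of `Inndiag` -/
theorem psi_mem_inndiagPlus (H : ↥(GamO ⇑(plusForm m F))) (hH : H.1.right = RingEquiv.refl F)
    (hpres : Cfsg.PreservesSingularClasses (Cfsg.quadFormPlus m F)
      (H.1.left : Matrix (Fin m ⊕ Fin m) (Fin m ⊕ Fin m) F)) :
    psi ⇑(plusForm m F) H ∈ Cfsg.inndiagPOmegaPlus m F := by
  unfold Cfsg.inndiagPOmegaPlus Cfsg.autSubgroupOf
  apply Subgroup.subset_closure
  refine ⟨H.1.left, left_mem_sim H, hpres, ?_⟩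
  have h := (isInduced_iff ⇑(plusForm m F) H (psi ⇑(plusForm m F) H)).2 rfl
  rw [hH] at h
  exact h

set_option maxHeartbeats 1600000 in
/-- **the coset theorem for the plus form, relative to a standard element** -/
theorem coset_conj_plus {k : ℕ} (hk : 7 ≤ 2 * (k + 1))
    (x δ : MulAut (Cfsg.POmega F ⇑(plusForm (k + 1) F))) {r : ℕ} (hr : r.Prime)
    (s₃ : ↥(GamO ⇑(plusForm (k + 1) F))) (hs₃ : psi ⇑(plusForm (k + 1) F) s₃ = x)
    (hs₃r : s₃ ^ r = 1) (hσ : orderOf s₃.1.right = r)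
    (d : ↥(GamO ⇑(plusForm (k + 1) F))) (hdr : d.1.right = RingEquiv.refl F)
    (hdp : Cfsg.PreservesSingularClasses (Cfsg.quadFormPlus (k + 1) F)
        (d.1.left : Matrix (Fin (k + 1) ⊕ Fin (k + 1)) (Fin (k + 1) ⊕ Fin (k + 1)) F))
    (hd : psi ⇑(plusForm (k + 1) F) d = δ) (hord : (δ * x) ^ r = 1) :
    ∃ H : ↥(GamO ⇑(plusForm (k + 1) F)), H.1.right = RingEquiv.refl F ∧
      Cfsg.PreservesSingularClasses (Cfsg.quadFormPlus (k + 1) F)
        (H.1.left : Matrix (Fin (k + 1) ⊕ Fin (k + 1)) (Fin (k + 1) ⊕ Fin (k + 1)) F) ∧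
      δ * x = psi ⇑(plusForm (k + 1) F) H * x * (psi ⇑(plusForm (k + 1) F) H)⁻¹ := by
  have hQ := nondegenerate_plusForm (F := F) (k + 1)
  have hcard : Fintype.card (Fin (k + 1) ⊕ Fin (k + 1)) = 2 * (k + 1) := by simp; ring
  have hn : 7 ≤ Fintype.card (Fin (k + 1) ⊕ Fin (k + 1)) := by rw [hcard]; exact hk
  obtain ⟨σ, hσdef⟩ : ∃ σ : F ≃+* F, σ = s₃.1.right := ⟨_, rfl⟩
  rw [← hσdef] at hσ
  obtain ⟨y, hy⟩ : ∃ y : ↥(GamO ⇑(plusForm (k + 1) F)), y = d * s₃ := ⟨_, rfl⟩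
  have hyr : y.1.right = σ := by
    rw [hy]
    show (d.1 * s₃.1).right = _
    rw [SemidirectProduct.mul_right, hdr, ← hσdef]
    exact one_mul σ
  have hyl : y.1.left = d.1.left * s₃.1.left := by
    rw [hy]
    show (d.1 * s₃.1).left = _
    rw [SemidirectProduct.mul_left, hdr, fieldAct_refl]
  have hpsiy : psi ⇑(plusForm (k + 1) F) y = δ * x := by
    rw [hy, map_mul, hd, hs₃]
  have hpow : (psi ⇑(plusForm (k + 1) F) y) ^ r = 1 := by
    rw [hpsiy]
    exact hord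
  -- the iterate of the standard element
  have hiter₃ : ∀ v, ((semiK (s₃.1.left : Matrix (Fin (k + 1) ⊕ Fin (k + 1))
      (Fin (k + 1) ⊕ Fin (k + 1)) F) σ)^[r]) v = v := by
    intro v
    rw [hσdef]
    apply iter_of_pow_eq_one
    have : (s₃ ^ r).1 = 1 := by rw [hs₃r]; rfl
    exact this
  -- a reflection commuting with the standard element
  have hs₃mem : Cfsg.IsSemisimilarityPair ⇑(plusForm (k + 1) F) s₃.1.left s₃.1.right := s₃.2
  obtain ⟨c₃, hc₃'⟩ := hs₃mem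
  have hc₃ : ∀ v : Fin (k + 1) ⊕ Fin (k + 1) → F,
      plusForm (k + 1) F ((s₃.1.left : Matrix (Fin (k + 1) ⊕ Fin (k + 1))
        (Fin (k + 1) ⊕ Fin (k + 1)) F) *ᵥ (fun i => σ (v i)))
        = (c₃ : F) * σ (plusForm (k + 1) F v) := by
    intro v
    rw [hσdef]
    exact hc₃' v
  obtain ⟨D₃⟩ := exists_descent_data (plusForm (k + 1) F) hQ σ hσ hr.pos s₃.1.left (c₃ : F)
    hc₃ hiter₃
  have hex : ∃ w : Fin (k + 1) ⊕ Fin (k + 1) → F, (s₃.1.left : Matrix (Fin (k + 1) ⊕ Fin (k + 1))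
      (Fin (k + 1) ⊕ Fin (k + 1)) F) *ᵥ (fun i => σ (w i)) = w ∧ plusForm (k + 1) F w ≠ 0 :=
    exists_nonsingular_fixed D₃
  obtain ⟨w, hw, hQw⟩ := hex
  have hρc := reflection_comm (Q := plusForm (k + 1) F) hc₃ w hw hQw
  have hρ'ex : ∃ ρ' : GL (Fin (k + 1) ⊕ Fin (k + 1)) F,
      ρ' = Helper13.reflectionGL (plusForm (k + 1) F) w hQw := ⟨_, rfl⟩
  obtain ⟨ρ', hρ'⟩ := hρ'ex
  have hρ'coe : (ρ' : Matrix (Fin (k + 1) ⊕ Fin (k + 1)) (Fin (k + 1) ⊕ Fin (k + 1)) F)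
      = Cfsg.reflectionMatrix (⇑(plusForm (k + 1) F)) w := by
    rw [hρ']
    exact Helper13.coe_reflectionGL _ _ _
  have hρ'mem : ρ' ∈ Cfsg.Geo.quadSimilarityGroup (F := F) (Cfsg.quadFormPlus (k + 1) F) := by
    refine ⟨1, fun v => ?_⟩
    rw [Units.val_one, one_mul, hρ']
    exact (Helper13.mem_isometryGroup_iff _ _).1
      (Helper13.reflectionGL_mem (plusForm (k + 1) F) w hQw) v
  have hρ'n : ¬ Cfsg.PreservesSingularClasses (Cfsg.quadFormPlus (k + 1) F)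
      (ρ' : Matrix (Fin (k + 1) ⊕ Fin (k + 1)) (Fin (k + 1) ⊕ Fin (k + 1)) F) := by
    rw [hρ']
    exact not_pres_refl w hQw
  rw [← hρ'coe] at hρc
  -- the core
  have hlang' : ∀ μ : Fˣ,
      (∀ v, ((semiK ((Matrix.GeneralLinearGroup.scalar (Fin (k + 1) ⊕ Fin (k + 1)) μ * y.1.left :
        GL (Fin (k + 1) ⊕ Fin (k + 1)) F) :
          Matrix (Fin (k + 1) ⊕ Fin (k + 1)) (Fin (k + 1) ⊕ Fin (k + 1)) F) σ)^[r]) v = v) →
      ∃ h : GL (Fin (k + 1) ⊕ Fin (k + 1)) F,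
        (∃ d : F, d ≠ 0 ∧ ∀ v : Fin (k + 1) ⊕ Fin (k + 1) → F,
          plusForm (k + 1) F ((h : Matrix (Fin (k + 1) ⊕ Fin (k + 1))
            (Fin (k + 1) ⊕ Fin (k + 1)) F) *ᵥ v) = d * plusForm (k + 1) F v) ∧
        Cfsg.PreservesSingularClasses (Cfsg.quadFormPlus (k + 1) F)
          (h : Matrix (Fin (k + 1) ⊕ Fin (k + 1)) (Fin (k + 1) ⊕ Fin (k + 1)) F) ∧
        ((Matrix.GeneralLinearGroup.scalar (Fin (k + 1) ⊕ Fin (k + 1)) μ * y.1.left :
          GL (Fin (k + 1) ⊕ Fin (k + 1)) F) :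
            Matrix (Fin (k + 1) ⊕ Fin (k + 1)) (Fin (k + 1) ⊕ Fin (k + 1)) F)
            * (h : Matrix (Fin (k + 1) ⊕ Fin (k + 1)) (Fin (k + 1) ⊕ Fin (k + 1)) F).map σ
          = (h : Matrix (Fin (k + 1) ⊕ Fin (k + 1)) (Fin (k + 1) ⊕ Fin (k + 1)) F)
            * (s₃.1.left : Matrix (Fin (k + 1) ⊕ Fin (k + 1)) (Fin (k + 1) ⊕ Fin (k + 1)) F) := by
    intro μ hiter₁
    have hsc : Matrix.GeneralLinearGroup.scalar (Fin (k + 1) ⊕ Fin (k + 1)) μ
        ∈ Cfsg.Geo.quadSimilarityGroup (F := F) (Cfsg.quadFormPlus (k + 1) F) := by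
      obtain ⟨c, hc⟩ := scalar_isSemisimilarityPair (plusForm (k + 1) F) μ
      exact ⟨c, fun v => hc v⟩
    have hylmem : y.1.left ∈ Cfsg.Geo.quadSimilarityGroup (F := F)
        (Cfsg.quadFormPlus (k + 1) F) := left_mem_sim y
    have hg₁ := Subgroup.mul_mem _ hsc hylmem
    have hsame : Cfsg.PreservesSingularClasses (Cfsg.quadFormPlus (k + 1) F)
        ((Matrix.GeneralLinearGroup.scalar (Fin (k + 1) ⊕ Fin (k + 1)) μ * y.1.left :
          GL (Fin (k + 1) ⊕ Fin (k + 1)) F) :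
          Matrix (Fin (k + 1) ⊕ Fin (k + 1)) (Fin (k + 1) ⊕ Fin (k + 1)) F)
        ↔ Cfsg.PreservesSingularClasses (Cfsg.quadFormPlus (k + 1) F)
          (s₃.1.left : Matrix (Fin (k + 1) ⊕ Fin (k + 1)) (Fin (k + 1) ⊕ Fin (k + 1)) F) := by
      have h1 := pres_mul hsc hylmem
      have h2 := pres_mul (left_mem_sim d) (left_mem_sim s₃)
      rw [← hyl] at h2
      have h3 := pres_scalar (m := k + 1) (F := F) μ
      constructor
      · intro a
        exact (h2.1 ((h1.1 a).1 h3)).1 hdp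
      · intro a
        exact h1.2 ⟨fun _ => h2.2 ⟨fun _ => a, fun _ => hdp⟩, fun _ => h3⟩
    have hl := lang_plus σ hσ hr hg₁ (left_mem_sim s₃) hρ'mem hiter₁ hiter₃ hsame hρ'n hρc
    obtain ⟨h, hhmem, hhp, hheq⟩ := hl
    obtain ⟨c, hc⟩ := hhmem
    exact ⟨h, ⟨c, c.ne_zero, fun v => hc v⟩, hhp, hheq⟩
  have hcore := exists_conj_core (plusForm (k + 1) F) hQ hn σ hσ hr.pos y s₃ hyr hσdef.symm hpow
    (fun h => Cfsg.PreservesSingularClasses (Cfsg.quadFormPlus (k + 1) F)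
      (h : Matrix (Fin (k + 1) ⊕ Fin (k + 1)) (Fin (k + 1) ⊕ Fin (k + 1)) F)) hlang'
  obtain ⟨H, hHr, hHp, hconj⟩ := hcore
  refine ⟨H, hHr, hHp, ?_⟩
  rw [← hpsiy, hconj, hs₃]

end Cfsg.Agent.Helper5.Coset
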