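import Mathlib
import Cfsg.Agent.Helper5.CosetI

/-!
# Transport of `PΩ` along a linear isometry, and the standard field automorphism of an isometric
form seen in the original form
-/

set_option autoImplicit false
set_option linter.unusedSectionVars false
set_option linter.style.haveILetI false

namespace Cfsg.Agent.Helper5.Coset

open Matrix Module QuadraticMap Cfsg.Agent.Helper12.GammaO Cfsg.Agent.Helper44
open Cfsg.Agent.Helper14.AutPSp Cfsg.Agent.Helper37.Lang Cfsg.Agent.Helper5.LangO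

section generic

variable {H H' : Type*} [Group H] [Group H']

theorem map_commutator_equiv (E : H ≃* H') :
    (commutator H).map (E : H →* H') = commutator H' := by
  rw [commutator_def, Subgroup.map_commutator, commutator_def,
    Subgroup.map_top_of_surjective _ E.surjective]

/-- an isomorphism restricts to the commutator subgroups -/
noncomputable def commEquiv (E : H ≃* H') : ↥(commutator H) ≃* ↥(commutator H') :=
  (E.subgroupMap (commutator H)).trans (MulEquiv.subgroupCongr (map_commutator_equiv E))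

theorem commEquiv_coe (E : H ≃* H') (x : ↥(commutator H)) :
    ((commEquiv E x : ↥(commutator H')) : H') = E (x : H) := rfl

theorem map_center_equiv {A B : Type*} [Group A] [Group B] (e : A ≃* B) :
    (Subgroup.center A).map (e : A →* B) = Subgroup.center B := by
  ext y
  constructor
  · rintro ⟨x, hx, rfl⟩
    rw [Subgroup.mem_center_iff]
    intro z
    obtain ⟨w, rfl⟩ := e.surjective z
    show e w * e x = e x * e w
    rw [← map_mul, ← map_mul, (Subgroup.mem_center_iff.1 hx) w]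
  · intro hy
    refine ⟨e.symm y, ?_, ?_⟩
    · rw [SetLike.mem_coe, Subgroup.mem_center_iff]
      intro w
      apply e.injective
      rw [map_mul, map_mul, MulEquiv.apply_symm_apply]
      exact (Subgroup.mem_center_iff.1 hy) (e w)
    · show e (e.symm y) = y
      exact MulEquiv.apply_symm_apply e y

/-- an isomorphism induces an isomorphism of the central quotients of the commutator subgroups -/
noncomputable def pcEquiv (E : H ≃* H') :
    (↥(commutator H) ⧸ Subgroup.center ↥(commutator H))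
      ≃* (↥(commutator H') ⧸ Subgroup.center ↥(commutator H')) :=
  QuotientGroup.congr _ _ (commEquiv E) (map_center_equiv (commEquiv E))

theorem pcEquiv_mk (E : H ≃* H') (x : ↥(commutator H)) :
    pcEquiv E (QuotientGroup.mk x) = QuotientGroup.mk (commEquiv E x) := rfl

end generic

variable {F : Type*} [Field F] {ι : Type} [Fintype ι] [DecidableEq ι]

/-- conjugation by a linear isometry `k : (Q) → (Q')`, between the isometry groups -/
noncomputable def isoEquiv (Q Q' : (ι → F) → F) (k : GL ι F)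
    (hk : ∀ v, Q' ((k : Matrix ι ι F) *ᵥ v) = Q v) :
    ↥(Cfsg.isometryGroup F Q) ≃* ↥(Cfsg.isometryGroup F Q') where
  toFun s := ⟨k * s.1 * k⁻¹, by
    rw [Helper13.mem_isometryGroup_iff]
    intro v
    have hs := (Helper13.mem_isometryGroup_iff Q s.1).1 s.2
    rw [Units.val_mul, Units.val_mul, ← Matrix.mulVec_mulVec, ← Matrix.mulVec_mulVec, hk, hs, ← hk,
      Matrix.mulVec_mulVec, ← Units.val_mul, mul_inv_cancel, Units.val_one, Matrix.one_mulVec]⟩
  invFun s := ⟨k⁻¹ * s.1 * k, by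
    rw [Helper13.mem_isometryGroup_iff]
    intro v
    have hs := (Helper13.mem_isometryGroup_iff Q' s.1).1 s.2
    rw [← hk, Units.val_mul, Units.val_mul, Matrix.mulVec_mulVec, ← Matrix.mul_assoc,
      ← Matrix.mul_assoc, ← Units.val_mul, mul_inv_cancel, Units.val_one, Matrix.one_mul,
      ← Matrix.mulVec_mulVec, hs, hk]⟩
  left_inv s := Subtype.ext (by
    show k⁻¹ * (k * s.1 * k⁻¹) * k = s.1
    group)
  right_inv s := Subtype.ext (by
    show k * (k⁻¹ * s.1 * k) * k⁻¹ = s.1
    group)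
  map_mul' s t := Subtype.ext (by
    show k * (s.1 * t.1) * k⁻¹ = (k * s.1 * k⁻¹) * (k * t.1 * k⁻¹)
    group)

theorem isoEquiv_coe (Q Q' : (ι → F) → F) (k : GL ι F)
    (hk : ∀ v, Q' ((k : Matrix ι ι F) *ᵥ v) = Q v) (s : ↥(Cfsg.isometryGroup F Q)) :
    ((isoEquiv Q Q' k hk s : ↥(Cfsg.isometryGroup F Q')) : GL ι F) = k * s.1 * k⁻¹ := rfl

/-- the induced isomorphism `PΩ(Q) ≃* PΩ(Q')` -/
noncomputable def kappa (Q Q' : (ι → F) → F) (k : GL ι F)
    (hk : ∀ v, Q' ((k : Matrix ι ι F) *ᵥ v) = Q v) : Cfsg.POmega F Q ≃* Cfsg.POmega F Q' :=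
  pcEquiv (isoEquiv Q Q' k hk)

theorem kappa_mk (Q Q' : (ι → F) → F) (k : GL ι F)
    (hk : ∀ v, Q' ((k : Matrix ι ι F) *ᵥ v) = Q v) (s : ↥(Cfsg.Omega F Q)) :
    kappa Q Q' k hk (QuotientGroup.mk s) = QuotientGroup.mk (commEquiv (isoEquiv Q Q' k hk) s) := rfl

theorem coe_commEquiv_isoEquiv (Q Q' : (ι → F) → F) (k : GL ι F)
    (hk : ∀ v, Q' ((k : Matrix ι ι F) *ᵥ v) = Q v) (s : ↥(Cfsg.Omega F Q)) :
    (((commEquiv (isoEquiv Q Q' k hk) s : ↥(Cfsg.Omega F Q')) : ↥(Cfsg.isometryGroup F Q')) : GL ι F)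
      = k * ((s : ↥(Cfsg.isometryGroup F Q)) : GL ι F) * k⁻¹ := rfl

/-- the pair `(k⁻¹ σ(k), σ)` is a semisimilarity of `Q` when `Q'` has `σ`-fixed coefficients -/
theorem twisted_isSemisimilarityPair (Q Q' : (ι → F) → F) (k : GL ι F)
    (hk : ∀ v, Q' ((k : Matrix ι ι F) *ᵥ v) = Q v) (σ : F ≃+* F)
    (hQ'σ : ∀ v : ι → F, Q' (fun i => σ (v i)) = σ (Q' v)) :
    Cfsg.IsSemisimilarityPair Q (k⁻¹ * glMap σ k) σ := by
  refine ⟨1, fun v => ?_⟩
  rw [Units.val_one, one_mul, ← hk, Units.val_mul, Matrix.mulVec_mulVec, ← Matrix.mul_assoc,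
    ← Units.val_mul, mul_inv_cancel, Units.val_one, Matrix.one_mul, coe_glMap,
    ← map_mulVec, hQ'σ, hk]

/-- **the standard field automorphism of `PΩ(Q')`, transported to `PΩ(Q)`, is induced by the pair
`(k⁻¹ σ(k), σ)`** -/
theorem kappa_conj_field (Q : QuadraticForm F (ι → F)) (Q' : (ι → F) → F) (k : GL ι F)
    (hk : ∀ v, Q' ((k : Matrix ι ι F) *ᵥ v) = Q v) (σ : F ≃+* F)
    (hQ'σ : ∀ v : ι → F, Q' (fun i => σ (v i)) = σ (Q' v))
    (φ' : Cfsg.POmega F Q' ≃* Cfsg.POmega F Q') (hφ' : Cfsg.IsFieldAutPOmegaOf Q' σ φ') :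
    ((kappa ⇑Q Q' k hk).trans φ').trans (kappa ⇑Q Q' k hk).symm
      = psi ⇑Q (mkG Q (k⁻¹ * glMap σ k) σ (twisted_isSemisimilarityPair ⇑Q Q' k hk σ hQ'σ)) := by
  apply (Cfsg.Agent.Helper12.GammaO.isInduced_iff ⇑Q _ _).1
  intro s s' hss'
  rw [mkG_left, mkG_right] at hss'
  show (kappa ⇑Q Q' k hk).symm (φ' (kappa ⇑Q Q' k hk (QuotientGroup.mk s))) = QuotientGroup.mk s'
  rw [kappa_mk]
  have h1 : φ' (QuotientGroup.mk (commEquiv (isoEquiv ⇑Q Q' k hk) s))
      = QuotientGroup.mk (commEquiv (isoEquiv ⇑Q Q' k hk) s') := by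
    apply hφ'
    rw [coe_commEquiv_isoEquiv, coe_commEquiv_isoEquiv, Units.val_mul, Units.val_mul, hss',
      Units.val_mul, Units.val_mul]
    have e1 : (((k⁻¹ * glMap σ k : GL ι F)⁻¹ : GL ι F) : Matrix ι ι F)
        = (((glMap σ k)⁻¹ : GL ι F) : Matrix ι ι F) * (k : Matrix ι ι F) := by
      rw [_root_.mul_inv_rev, inv_inv, Units.val_mul]
    have e3 : (((glMap σ k)⁻¹ : GL ι F) : Matrix ι ι F) = ((k⁻¹ : GL ι F) : Matrix ι ι F).map σ := by
      rw [← map_inv, coe_glMap]
    rw [e1, coe_glMap, e3, Units.val_mul, Matrix.map_mul, Matrix.map_mul]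
    have e4 : (k : Matrix ι ι F) * ((k⁻¹ : GL ι F) : Matrix ι ι F) = 1 := by
      rw [← Units.val_mul, mul_inv_cancel, Units.val_one]
    simp only [Matrix.mul_assoc]
    rw [e4, Matrix.mul_one, ← Matrix.mul_assoc (k : Matrix ι ι F), e4, Matrix.one_mul]
  rw [h1, ← kappa_mk, MulEquiv.symm_apply_apply]

/-- powers of the twisted pair -/
theorem twisted_pow (k : GL ι F) (σ : F ≃+* F) (n : ℕ) (hn : σ ^ n = 1) (z : Gam ι F)
    (hzl : z.left = k⁻¹ * glMap σ k) (hzr : z.right = σ) : z ^ n = 1 := by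
  have e : z = (SemidirectProduct.inl k : Gam ι F)⁻¹ * SemidirectProduct.inr σ
      * SemidirectProduct.inl k := by
    apply SemidirectProduct.ext
    · rw [hzl, SemidirectProduct.mul_left, SemidirectProduct.mul_left, SemidirectProduct.mul_right,
        SemidirectProduct.inv_left, SemidirectProduct.inv_right, SemidirectProduct.left_inl,
        SemidirectProduct.right_inl, SemidirectProduct.left_inr, SemidirectProduct.right_inr]
      simp [fieldAct_apply]
    · rw [hzr, SemidirectProduct.mul_right, SemidirectProduct.mul_right,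
        SemidirectProduct.inv_right, SemidirectProduct.right_inl, SemidirectProduct.right_inr]
      simp
  have e2 : z = (SemidirectProduct.inl k : Gam ι F)⁻¹ * SemidirectProduct.inr σ
      * ((SemidirectProduct.inl k : Gam ι F)⁻¹)⁻¹ := by
    rw [inv_inv]
    exact e
  rw [e2, conj_pow, ← map_pow, hn, map_one, mul_one, mul_inv_cancel]

end Cfsg.Agent.Helper5.Coset
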