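import Mathlib
import Cfsg.Agent.Helper5.CosetM
import Cfsg.Agent.Helper5.CosetF
import Cfsg.Agent.Helper5.OrthSimpleStd

/-!
# Field automorphisms of `PΩ⁻` come from elements of `ΓO` of order `r`
-/

set_option autoImplicit false
set_option linter.unusedSectionVars false
set_option linter.style.haveILetI false

namespace Cfsg.Agent.Helper5.Coset

open Matrix Module QuadraticMap Cfsg.Agent.Helper12.GammaO Cfsg.Agent.Helper44
open Cfsg.Agent.Helper14.AutPSp Cfsg.Agent.Helper37.Lang Cfsg.Agent.Helper5.LangO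
open Cfsg.Agent.Helper44.QType

section general

variable {F : Type*} [Field F] {ι : Type} [Fintype ι] [DecidableEq ι]

/-- a linear automorphism of `ι → F` as an invertible matrix -/
theorem exists_gl_of_linearEquiv (G : (ι → F) ≃ₗ[F] (ι → F)) :
    ∃ k : GL ι F, ∀ v : ι → F, (k : Matrix ι ι F) *ᵥ v = G v := by
  have h1 : LinearMap.toMatrix' (G : (ι → F) →ₗ[F] (ι → F))
      * LinearMap.toMatrix' (G.symm : (ι → F) →ₗ[F] (ι → F)) = 1 := by
    rw [← LinearMap.toMatrix'_comp]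
    have : (G : (ι → F) →ₗ[F] (ι → F)) ∘ₗ (G.symm : (ι → F) →ₗ[F] (ι → F)) = LinearMap.id :=
      LinearMap.ext fun w => by simp
    rw [this, LinearMap.toMatrix'_id]
  have h2 : LinearMap.toMatrix' (G.symm : (ι → F) →ₗ[F] (ι → F))
      * LinearMap.toMatrix' (G : (ι → F) →ₗ[F] (ι → F)) = 1 := by
    rw [← LinearMap.toMatrix'_comp]
    have : (G.symm : (ι → F) →ₗ[F] (ι → F)) ∘ₗ (G : (ι → F) →ₗ[F] (ι → F)) = LinearMap.id :=
      LinearMap.ext fun w => by simp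
    rw [this, LinearMap.toMatrix'_id]
  refine ⟨⟨_, _, h1, h2⟩, fun v => ?_⟩
  show LinearMap.toMatrix' (G : (ι → F) →ₗ[F] (ι → F)) *ᵥ v = G v
  rw [LinearMap.toMatrix'_mulVec]
  rfl

/-- **a conjugate of `x` induced by a pair of `ΓO` whose powers are controlled by its field
automorphism gives a standard element for `x`** -/
theorem exists_std_of_conj [Fintype F] (Q : QuadraticForm F (ι → F))
    (hQ : (QuadraticMap.polarBilin Q).Nondegenerate) (hn : 7 ≤ Fintype.card ι)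
    (htop : Cfsg.gammaPOmega F ⇑Q = ⊤)
    (x α : MulAut (Cfsg.POmega F ⇑Q)) {r : ℕ} (hr : r.Prime) (hxr : orderOf x = r)
    (s₂ : ↥(GamO ⇑Q)) (hs₂ : α * x * α⁻¹ = psi ⇑Q s₂) (hσ1 : s₂.1.right ≠ 1)
    (hpw : ∀ n : ℕ, s₂.1.right ^ n = 1 → s₂.1 ^ n = 1) :
    ∃ s₃ : ↥(GamO ⇑Q), psi ⇑Q s₃ = x ∧ s₃ ^ r = 1 ∧ orderOf s₃.1.right = r := by
  obtain ⟨σ, hσdef⟩ : ∃ σ : F ≃+* F, σ = s₂.1.right := ⟨_, rfl⟩
  rw [← hσdef] at hσ1 hpw
  have hpow : (psi ⇑Q s₂) ^ r = 1 := by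
    rw [← hs₂]
    exact pow_conj_eq_one' α x hxr
  have hker : s₂ ^ r ∈ (psi ⇑Q).ker := by
    rw [MonoidHom.mem_ker, map_pow]
    exact hpow
  obtain ⟨hk1, -⟩ := mem_ker_psi Q hQ hn _ hker
  have hr1 : (s₂ ^ r).1.right = σ ^ r := by
    have : (s₂ ^ r).1 = s₂.1 ^ r := rfl
    rw [this, right_pow, hσdef]
  have hσr : σ ^ r = 1 := by
    rw [← hr1, hk1]
    rfl
  have hσord : orderOf σ = r := by
    haveI := Fact.mk hr
    exact orderOf_eq_prime hσr hσ1
  have hs₂r : s₂ ^ r = 1 := by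
    apply Subtype.ext
    show s₂.1 ^ r = 1
    exact hpw r hσr
  have hsurj : ∀ β : MulAut (Cfsg.POmega F ⇑Q), ∃ a : ↥(GamO ⇑Q), psi ⇑Q a = β := by
    intro β
    have : β ∈ (psi ⇑Q).range := by
      rw [← gammaPOmega_eq_range, htop]
      exact Subgroup.mem_top β
    exact this
  obtain ⟨a, ha⟩ := hsurj α
  refine ⟨a⁻¹ * s₂ * a, ?_, ?_, ?_⟩
  · rw [map_mul, map_mul, map_inv, ha, ← hs₂]
    group
  · have e : a⁻¹ * s₂ * a = a⁻¹ * s₂ * a⁻¹⁻¹ := by rw [inv_inv]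
    rw [e, conj_pow, hs₂r, mul_one, inv_inv, inv_mul_cancel]
  · have e : (a⁻¹ * s₂ * a).1.right = a.1.right⁻¹ * σ * (a.1.right⁻¹)⁻¹ := by
      rw [inv_inv, hσdef]
      rfl
    rw [e]
    have h3 := (MulAut.conj (a.1.right⁻¹)).orderOf_eq σ
    rw [← hσord, ← h3]
    rfl

end general

variable {F : Type*} [Field F] [Fintype F]

theorem quadFormMinus_map (m : ℕ) (a b : F) (σ : F ≃+* F) (ha : σ a = a) (hb : σ b = b)
    (v : (Fin m ⊕ Fin m) ⊕ Fin 2 → F) :
    Cfsg.quadFormMinus m F a b (fun i => σ (v i)) = σ (Cfsg.quadFormMinus m F a b v) := by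
  unfold Cfsg.quadFormMinus
  rw [map_add, map_sum, map_add, map_add, map_mul, map_mul, map_mul, map_pow, map_pow, ha, hb]
  congr 1
  apply Finset.sum_congr rfl
  intro i _
  rw [map_mul]

/-- a field automorphism of prime order of `PΩ⁻` comes from an element of `ΓO` of that order -/
theorem exists_std_minus {m : ℕ} (hm : 3 ≤ m) (a b : F)
    (hab : ∀ z₁ z₂ : F, z₁ ^ 2 + a * z₁ * z₂ + b * z₂ ^ 2 = 0 → z₁ = 0 ∧ z₂ = 0)
    (htop : Cfsg.gammaPOmega F ⇑(minusForm m F a b) = ⊤)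
    (x : MulAut (Cfsg.POmega F ⇑(minusForm m F a b)))
    (hx : Cfsg.IsFieldAutClassPOmegaMinus m (a := a) (b := b) x) {r : ℕ} (hr : r.Prime)
    (hxr : orderOf x = r) :
    ∃ s₃ : ↥(GamO ⇑(minusForm m F a b)), psi ⇑(minusForm m F a b) s₃ = x ∧ s₃ ^ r = 1 ∧
      orderOf s₃.1.right = r := by
  obtain ⟨a', b', ψ, σ, hab', hσ1, hσa, hσb, hφ⟩ := hx
  have hQ := nondegenerate_minusForm_of_aniso m a b hab
  have hQ' := nondegenerate_minusForm_of_aniso m a' b' hab'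
  have hcard : Fintype.card ((Fin m ⊕ Fin m) ⊕ Fin 2) = 2 * m + 2 := by simp; ring
  have hn : 7 ≤ Fintype.card ((Fin m ⊕ Fin m) ⊕ Fin 2) := by rw [hcard]; omega
  -- an isometry between the two forms
  have hfr : Module.finrank F ((Fin m ⊕ Fin m) ⊕ Fin 2 → F) = 2 * (m + 1) := by
    rw [finrank_minus_idx]; ring
  have hnd : ∀ (A : QuadraticForm F ((Fin m ⊕ Fin m) ⊕ Fin 2 → F)),
      (QuadraticMap.polarBilin A).Nondegenerate →
      ∀ u : (Fin m ⊕ Fin m) ⊕ Fin 2 → F, (∀ y, polar A u y = 0) → u = 0 := by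
    intro A hA u hu
    exact hA.1 u hu
  have hiso := exists_isometry_of_hasType (minusForm m F a b) (minusForm m F a' b') hfr hfr
    (hnd _ hQ) (hnd _ hQ') (ε := -1) (hasType_minus m a b hab) (hasType_minus m a' b' hab')
  obtain ⟨G, hG⟩ := hiso
  obtain ⟨k, hkG⟩ := exists_gl_of_linearEquiv G
  have hk : ∀ v, Cfsg.quadFormMinus m F a' b' ((k : Matrix _ _ F) *ᵥ v)
      = minusForm m F a b v := by
    intro v
    rw [hkG]
    exact hG v
  have hQ'σ : ∀ v : (Fin m ⊕ Fin m) ⊕ Fin 2 → F,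
      Cfsg.quadFormMinus m F a' b' (fun i => σ (v i)) = σ (Cfsg.quadFormMinus m F a' b' v) :=
    quadFormMinus_map m a' b' σ hσa hσb
  have hkc := kappa_conj_field (minusForm m F a b) (Cfsg.quadFormMinus m F a' b') k hk σ hQ'σ
    ((ψ.symm.trans x).trans ψ) hφ
  -- the conjugating automorphism
  obtain ⟨α, hα⟩ : ∃ α : MulAut (Cfsg.POmega F ⇑(minusForm m F a b)),
      α = ψ.trans (kappa ⇑(minusForm m F a b) (Cfsg.quadFormMinus m F a' b') k hk).symm := ⟨_, rfl⟩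
  have hconj : α * x * α⁻¹ = psi ⇑(minusForm m F a b)
      (mkG (minusForm m F a b) (k⁻¹ * glMap σ k) σ
        (twisted_isSemisimilarityPair ⇑(minusForm m F a b) (Cfsg.quadFormMinus m F a' b') k hk σ
          hQ'σ)) := by
    rw [← hkc, hα]
    apply MulEquiv.ext
    intro t
    show (kappa ⇑(minusForm m F a b) (Cfsg.quadFormMinus m F a' b') k hk).symm (ψ (x
      ((ψ.trans (kappa ⇑(minusForm m F a b) (Cfsg.quadFormMinus m F a' b') k hk).symm).symm t)))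
      = (kappa ⇑(minusForm m F a b) (Cfsg.quadFormMinus m F a' b') k hk).symm (ψ (x (ψ.symm
        (kappa ⇑(minusForm m F a b) (Cfsg.quadFormMinus m F a' b') k hk t))))
    rfl
  refine exists_std_of_conj (minusForm m F a b) hQ hn htop x α hr hxr _ hconj ?_ ?_
  · rw [mkG_right]
    exact hσ1
  · intro n hn'
    rw [mkG_right] at hn'
    exact twisted_pow k σ n hn' _ (mkG_left _ _ _ _) (mkG_right _ _ _ _)

end Cfsg.Agent.Helper5.Coset
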