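import Mathlib
import Cfsg.Agent.Helper5.CosetN
import Cfsg.Agent.Helper5.CosetB
import Cfsg.Agent.Helper44.MinusClasses

/-!
# Class-preserving similarities of the minus form: index at most two, seen by a reflection
(any characteristic)
-/

set_option autoImplicit false
set_option linter.unusedSectionVars false
set_option linter.style.haveILetI false

namespace Cfsg.Agent.Helper5.Coset

open Matrix Module QuadraticMap Cfsg.Agent.Helper44

section basechange

variable {F K : Type*} [Field F] [Field K] (φ : F →+* K) {ι : Type} [Fintype ι] [DecidableEq ι]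

theorem hom_single (i : ι) :
    (fun j => φ ((Pi.single i 1 : ι → F) j)) = (Pi.single i 1 : ι → K) := by
  funext j
  by_cases h : j = i
  · subst h
    simp
  · simp [h]

theorem hom_add (u v : ι → F) :
    (fun j => φ ((u + v) j)) = (fun j => φ (u j)) + (fun j => φ (v j)) := by
  funext j
  simp

theorem hom_mulVec (M : Matrix ι ι F) (u : ι → F) :
    (M.map φ) *ᵥ (fun j => φ (u j)) = fun j => φ ((M *ᵥ u) j) := by
  funext i
  exact (RingHom.map_mulVec φ M u i).symm

/-- a similarity stays a similarity after base change -/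
theorem sim_baseChange (A : QuadraticForm F (ι → F)) (B : QuadraticForm K (ι → K))
    (hAB : ∀ u : ι → F, B (fun i => φ (u i)) = φ (A u)) (M : Matrix ι ι F) (μ : F)
    (hM : ∀ u, A (M *ᵥ u) = μ * A u) (v : ι → K) :
    B ((M.map φ) *ᵥ v) = φ μ * B v := by
  have h : B.comp (Matrix.toLin' (M.map φ)) = φ μ • B := by
    have key : ∀ u : ι → F, (B.comp (Matrix.toLin' (M.map φ))) (fun i => φ (u i))
        = (φ μ • B) (fun i => φ (u i)) := by
      intro u
      rw [QuadraticMap.comp_apply, Matrix.toLin'_apply, hom_mulVec, hAB, hM, map_mul,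
        _root_.smul_apply, hAB, smul_eq_mul]
    apply quadForm_ext
    · intro i
      rw [← hom_single φ i]
      exact key _
    · intro i j
      rw [← hom_single φ i, ← hom_single φ j, ← hom_add]
      exact key _
  have h2 := congrArg (fun D : QuadraticForm K (ι → K) => D v) h
  simp only [QuadraticMap.comp_apply, Matrix.toLin'_apply, _root_.smul_apply,
    smul_eq_mul] at h2
  exact h2

theorem polar_baseChange (A : QuadraticForm F (ι → F)) (B : QuadraticForm K (ι → K))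
    (hAB : ∀ u : ι → F, B (fun i => φ (u i)) = φ (A u)) (u v : ι → F) :
    polar ⇑B (fun i => φ (u i)) (fun i => φ (v i)) = φ (polar ⇑A u v) := by
  unfold polar
  rw [← hom_add, hAB, hAB, hAB, map_sub, map_sub]

theorem reflectionMatrix_baseChange (A : QuadraticForm F (ι → F)) (B : QuadraticForm K (ι → K))
    (hAB : ∀ u : ι → F, B (fun i => φ (u i)) = φ (A u)) (w : ι → F) :
    (Cfsg.reflectionMatrix (⇑A) w).map φ = Cfsg.reflectionMatrix (⇑B) (fun i => φ (w i)) := by
  ext i j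
  unfold Cfsg.reflectionMatrix Cfsg.polarVec
  rw [Matrix.map_apply, Matrix.sub_apply, Matrix.sub_apply, Matrix.smul_apply, Matrix.smul_apply,
    Matrix.vecMulVec_apply, Matrix.vecMulVec_apply, map_sub, smul_eq_mul, smul_eq_mul, map_mul,
    map_mul, map_inv₀, hAB, ← hom_single φ j, polar_baseChange φ A B hAB]
  congr 1
  by_cases h : i = j
  · subst h
    simp
  · simp [h]

end basechange

section transport

variable {F K : Type*} [Field F] [Field K] (φ : F →+* K)
variable {ι κ : Type} [Fintype ι] [DecidableEq ι] [Fintype κ] [DecidableEq κ]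
variable (T : (ι → K) ≃ₗ[K] (κ → K))

/-- base change followed by conjugation with a linear equivalence -/
noncomputable def trHom : GL ι F →* GL κ K :=
  (Units.map ((conjMatAlgEquiv T : Matrix ι ι K ≃ₐ[K] Matrix κ κ K) :
      Matrix ι ι K →* Matrix κ κ K)).comp (Matrix.GeneralLinearGroup.map φ)

theorem coe_trHom (g : GL ι F) :
    ((trHom φ T g : GL κ K) : Matrix κ κ K) = conjMatAlgEquiv T ((g : Matrix ι ι F).map φ) := rfl

theorem trHom_mulVec (g : GL ι F) (v : ι → K) :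
    ((trHom φ T g : GL κ K) : Matrix κ κ K) *ᵥ (T v) = T (((g : Matrix ι ι F).map φ) *ᵥ v) := by
  rw [coe_trHom, conjMatAlgEquiv_mulVec, LinearEquiv.symm_apply_apply]

theorem trHom_sim (A : QuadraticForm F (ι → F)) (B : QuadraticForm K (ι → K))
    (B' : QuadraticForm K (κ → K))
    (hAB : ∀ u : ι → F, B (fun i => φ (u i)) = φ (A u)) (hT : ∀ v, B' (T v) = B v)
    (g : GL ι F) (μ : F) (hμ : μ ≠ 0) (hg : ∀ u, A ((g : Matrix ι ι F) *ᵥ u) = μ * A u) :
    trHom φ T g ∈ Cfsg.Geo.quadSimilarityGroup (F := K) ⇑B' := by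
  refine ⟨Units.mk0 (φ μ) ((map_ne_zero φ).2 hμ), fun w => ?_⟩
  obtain ⟨v, rfl⟩ := T.surjective w
  rw [trHom_mulVec, hT, hT, Units.val_mk0]
  exact sim_baseChange φ A B hAB _ μ hg v

theorem trHom_refl (A : QuadraticForm F (ι → F)) (B : QuadraticForm K (ι → K))
    (B' : QuadraticForm K (κ → K))
    (hAB : ∀ u : ι → F, B (fun i => φ (u i)) = φ (A u)) (hT : ∀ v, B' (T v) = B v)
    (w : ι → F) (hw : A w ≠ 0) (hw' : B' (T (fun i => φ (w i))) ≠ 0) :
    trHom φ T (Helper13.reflectionGL A w hw) = Helper13.reflectionGL B' (T (fun i => φ (w i))) hw' := by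
  apply Units.ext
  apply Matrix.mulVec_injective
  funext u
  obtain ⟨v, rfl⟩ := T.surjective u
  rw [trHom_mulVec, Helper13.coe_reflectionGL, Helper13.coe_reflectionGL,
    reflectionMatrix_baseChange φ A B hAB, Helper13.reflectionMatrix_mulVec,
    Helper13.reflectionMatrix_mulVec, map_sub, map_smul, hT,
    polar_map_of_isometry B B' T hT]

end transport

section minus

universe u

variable {F : Type u} [Field F] {m : ℕ}

theorem quadFormMinus_hom {K : Type*} [Field K] (φ : F →+* K) (a b : F)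
    (u : (Fin m ⊕ Fin m) ⊕ Fin 2 → F) :
    Cfsg.quadFormMinus m K (φ a) (φ b) (fun i => φ (u i)) = φ (Cfsg.quadFormMinus m F a b u) := by
  unfold Cfsg.quadFormMinus
  rw [map_add, map_sum, map_add, map_add, map_mul, map_mul, map_mul, map_pow, map_pow]
  congr 1
  apply Finset.sum_congr rfl
  intro i _
  rw [map_mul]

/-- **the class-preserving similarities of the minus form have index at most two, and a reflection
is not class-preserving** -/
theorem presMinus_or [Fintype F] (a b : F)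
    (hab : ∀ z₁ z₂ : F, z₁ ^ 2 + a * z₁ * z₂ + b * z₂ ^ 2 = 0 → z₁ = 0 ∧ z₂ = 0)
    {h : GL ((Fin m ⊕ Fin m) ⊕ Fin 2) F} {d : F} (hd : d ≠ 0)
    (hh : ∀ v, minusForm m F a b ((h : Matrix ((Fin m ⊕ Fin m) ⊕ Fin 2)
      ((Fin m ⊕ Fin m) ⊕ Fin 2) F) *ᵥ v) = d * minusForm m F a b v)
    (w : (Fin m ⊕ Fin m) ⊕ Fin 2 → F) (hw : minusForm m F a b w ≠ 0) :
    Cfsg.PreservesSingularClassesMinus m a b
        (h : Matrix ((Fin m ⊕ Fin m) ⊕ Fin 2) ((Fin m ⊕ Fin m) ⊕ Fin 2) F)
      ∨ Cfsg.PreservesSingularClassesMinus m a b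
        ((h * Helper13.reflectionGL (minusForm m F a b) w hw :
          GL ((Fin m ⊕ Fin m) ⊕ Fin 2) F) :
          Matrix ((Fin m ⊕ Fin m) ⊕ Fin 2) ((Fin m ⊕ Fin m) ⊕ Fin 2) F) := by
  obtain ⟨f, hf, hfin⟩ := exists_quadratic_extension a b hab
  haveI : Module.Finite F (AdjoinRoot f) :=
    Module.finite_of_finrank_pos (by rw [hfin]; norm_num)
  haveI : Finite (AdjoinRoot f) := Module.finite_of_finite F
  haveI : Fintype (AdjoinRoot f) := Fintype.ofFinite _
  obtain ⟨ζ, hζ, hζ2⟩ := Helper45.exists_root_of_aniso hfin a b hab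
  obtain ⟨φ, hφ⟩ : ∃ φ : F →+* AdjoinRoot f, φ = algebraMap F (AdjoinRoot f) := ⟨_, rfl⟩
  rw [← hφ] at hζ hζ2
  obtain ⟨ζ', hζ'⟩ : ∃ ζ' : AdjoinRoot f, ζ' = -φ a - ζ := ⟨_, rfl⟩
  have h1 : ζ + ζ' = -φ a := by rw [hζ']; ring
  have h3 : ζ * ζ' = φ b := by rw [hζ']; linear_combination -hζ
  have hne : ζ ≠ ζ' := by
    intro h
    apply hζ2
    rw [hζ'] at h
    linear_combination h
  obtain ⟨T, hT⟩ : ∃ T : ((Fin m ⊕ Fin m) ⊕ Fin 2 → AdjoinRoot f) ≃ₗ[AdjoinRoot f]
      (Fin (m + 1) ⊕ Fin (m + 1) → AdjoinRoot f), T = splitEquiv m ζ ζ' hne := ⟨_, rfl⟩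
  have hTQ : ∀ v, Cfsg.quadFormPlus (m + 1) (AdjoinRoot f) (T v)
      = Cfsg.quadFormMinus m (AdjoinRoot f) (φ a) (φ b) v := by
    intro v
    rw [hT]
    exact quadFormPlus_splitEquiv m ζ ζ' hne h1 h3 v
  have hAB : ∀ u : (Fin m ⊕ Fin m) ⊕ Fin 2 → F,
      minusForm m (AdjoinRoot f) (φ a) (φ b) (fun i => φ (u i)) = φ (minusForm m F a b u) :=
    quadFormMinus_hom φ a b
  have hTB : ∀ v, plusForm (m + 1) (AdjoinRoot f) (T v)
      = minusForm m (AdjoinRoot f) (φ a) (φ b) v := hTQ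
  -- transport of the class condition
  have htr : ∀ g : GL ((Fin m ⊕ Fin m) ⊕ Fin 2) F,
      Cfsg.PreservesSingularClasses (Cfsg.quadFormMinus m (AdjoinRoot f) (φ a) (φ b))
        ((g : Matrix ((Fin m ⊕ Fin m) ⊕ Fin 2) ((Fin m ⊕ Fin m) ⊕ Fin 2) F).map φ)
      ↔ Cfsg.PreservesSingularClasses (Cfsg.quadFormPlus (m + 1) (AdjoinRoot f))
        ((trHom φ T g : GL (Fin (m + 1) ⊕ Fin (m + 1)) (AdjoinRoot f)) :
          Matrix (Fin (m + 1) ⊕ Fin (m + 1)) (Fin (m + 1) ⊕ Fin (m + 1)) (AdjoinRoot f)) := by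
    intro g
    exact preservesSingularClasses_transport _ _ T hTQ _ _ (trHom_mulVec φ T g)
  have hmemh : trHom φ T h ∈ Cfsg.Geo.quadSimilarityGroup (F := AdjoinRoot f)
      (Cfsg.quadFormPlus (m + 1) (AdjoinRoot f)) :=
    trHom_sim φ T (minusForm m F a b) (minusForm m (AdjoinRoot f) (φ a) (φ b))
      (plusForm (m + 1) (AdjoinRoot f)) hAB hTB h d hd hh
  have hw' : plusForm (m + 1) (AdjoinRoot f) (T (fun i => φ (w i))) ≠ 0 := by
    rw [hTB, hAB]
    exact (map_ne_zero φ).2 hw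
  have hρeq := trHom_refl φ T (minusForm m F a b) (minusForm m (AdjoinRoot f) (φ a) (φ b))
    (plusForm (m + 1) (AdjoinRoot f)) hAB hTB w hw hw'
  have hmemρ : trHom φ T (Helper13.reflectionGL (minusForm m F a b) w hw)
      ∈ Cfsg.Geo.quadSimilarityGroup (F := AdjoinRoot f)
        (Cfsg.quadFormPlus (m + 1) (AdjoinRoot f)) := by
    rw [hρeq]
    refine ⟨1, fun v => ?_⟩
    rw [Units.val_one, one_mul]
    exact (Helper13.mem_isometryGroup_iff _ _).1
      (Helper13.reflectionGL_mem (plusForm (m + 1) (AdjoinRoot f)) _ hw') v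
  have hnρ : ¬ Cfsg.PreservesSingularClasses (Cfsg.quadFormPlus (m + 1) (AdjoinRoot f))
      ((trHom φ T (Helper13.reflectionGL (minusForm m F a b) w hw) :
        GL (Fin (m + 1) ⊕ Fin (m + 1)) (AdjoinRoot f)) :
        Matrix (Fin (m + 1) ⊕ Fin (m + 1)) (Fin (m + 1) ⊕ Fin (m + 1)) (AdjoinRoot f)) := by
    rw [hρeq]
    exact not_pres_refl _ hw'
  have hmul := pres_mul hmemh hmemρ
  rw [← map_mul] at hmul
  by_cases hP : Cfsg.PreservesSingularClasses (Cfsg.quadFormPlus (m + 1) (AdjoinRoot f))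
      ((trHom φ T h : GL (Fin (m + 1) ⊕ Fin (m + 1)) (AdjoinRoot f)) :
        Matrix (Fin (m + 1) ⊕ Fin (m + 1)) (Fin (m + 1) ⊕ Fin (m + 1)) (AdjoinRoot f))
  · left
    refine ⟨AdjoinRoot f, inferInstance, inferInstance, hfin, ?_⟩
    rw [← hφ]
    exact (htr h).2 hP
  · right
    refine ⟨AdjoinRoot f, inferInstance, inferInstance, hfin, ?_⟩
    rw [← hφ]
    exact (htr _).2 (hmul.2 ⟨fun a => absurd a hP, fun a => absurd a hnρ⟩)

end minus

end Cfsg.Agent.Helper5.Coset
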