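import Mathlib
import Cfsg.Agent.Helper5.CosetO
import Cfsg.Agent.Helper5.CosetJ

/-!
# The coset theorem for `PΩ⁻_{2m+2}(F)`, field automorphisms of prime order
-/

set_option autoImplicit false
set_option linter.unusedSectionVars false
set_option linter.style.haveILetI false

namespace Cfsg.Agent.Helper5.Coset

open Matrix Module QuadraticMap Cfsg.Agent.Helper12.GammaO Cfsg.Agent.Helper44
open Cfsg.Agent.Helper14.AutPSp Cfsg.Agent.Helper37.Lang Cfsg.Agent.Helper5.LangO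
open Cfsg.Agent.Helper44.QType

universe u

variable {F : Type u} [Field F] [Fintype F]

/-- descent data of the minus form have minus type -/
theorem Descent.type_minus {m : ℕ} (a b : F)
    (hab : ∀ z₁ z₂ : F, z₁ ^ 2 + a * z₁ * z₂ + b * z₂ ^ 2 = 0 → z₁ = 0 ∧ z₂ = 0)
    {σ : F ≃+* F} {g : GL ((Fin m ⊕ Fin m) ⊕ Fin 2) F} (D : Descent (minusForm m F a b) σ g) :
    HasType (⇑D.Q₀) (m + 1) (-1) := by
  have hcard : Fintype.card ((Fin m ⊕ Fin m) ⊕ Fin 2) = 2 * (m + 1) := by simp; ring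
  obtain ⟨ε, hε, hD⟩ := D.exists_type hcard
  rcases hε with rfl | rfl
  · exfalso
    have h1 : HasType (Cfsg.quadFormMinus m F a b) (m + 1) 1 := D.hasType_of_plus hcard hD
    have h2 := hasType_minus m a b hab
    have := h1.unique h2
    norm_num at this
  · exact hD

/-- **Lang's theorem for the similarities of the minus form** -/
theorem lang_minus {m : ℕ} (a b : F)
    (hab : ∀ z₁ z₂ : F, z₁ ^ 2 + a * z₁ * z₂ + b * z₂ ^ 2 = 0 → z₁ = 0 ∧ z₂ = 0)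
    (σ : F ≃+* F) {r : ℕ} (hr : orderOf σ = r) (hr0 : 0 < r)
    {g₁ g₃ : GL ((Fin m ⊕ Fin m) ⊕ Fin 2) F} {c₁ c₃ : F}
    (hc₁ : ∀ v : (Fin m ⊕ Fin m) ⊕ Fin 2 → F, minusForm m F a b
      ((g₁ : Matrix ((Fin m ⊕ Fin m) ⊕ Fin 2) ((Fin m ⊕ Fin m) ⊕ Fin 2) F) *ᵥ (fun i => σ (v i)))
        = c₁ * σ (minusForm m F a b v))
    (hc₃ : ∀ v : (Fin m ⊕ Fin m) ⊕ Fin 2 → F, minusForm m F a b
      ((g₃ : Matrix ((Fin m ⊕ Fin m) ⊕ Fin 2) ((Fin m ⊕ Fin m) ⊕ Fin 2) F) *ᵥ (fun i => σ (v i)))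
        = c₃ * σ (minusForm m F a b v))
    (hiter₁ : ∀ v, ((semiK (g₁ : Matrix ((Fin m ⊕ Fin m) ⊕ Fin 2) ((Fin m ⊕ Fin m) ⊕ Fin 2) F)
      σ)^[r]) v = v)
    (hiter₃ : ∀ v, ((semiK (g₃ : Matrix ((Fin m ⊕ Fin m) ⊕ Fin 2) ((Fin m ⊕ Fin m) ⊕ Fin 2) F)
      σ)^[r]) v = v) :
    ∃ h : GL ((Fin m ⊕ Fin m) ⊕ Fin 2) F,
      (∃ d : F, d ≠ 0 ∧ ∀ v : (Fin m ⊕ Fin m) ⊕ Fin 2 → F, minusForm m F a b
        ((h : Matrix ((Fin m ⊕ Fin m) ⊕ Fin 2) ((Fin m ⊕ Fin m) ⊕ Fin 2) F) *ᵥ v)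
          = d * minusForm m F a b v) ∧
      (g₁ : Matrix ((Fin m ⊕ Fin m) ⊕ Fin 2) ((Fin m ⊕ Fin m) ⊕ Fin 2) F)
        * (h : Matrix ((Fin m ⊕ Fin m) ⊕ Fin 2) ((Fin m ⊕ Fin m) ⊕ Fin 2) F).map σ
      = (h : Matrix ((Fin m ⊕ Fin m) ⊕ Fin 2) ((Fin m ⊕ Fin m) ⊕ Fin 2) F)
        * (g₃ : Matrix ((Fin m ⊕ Fin m) ⊕ Fin 2) ((Fin m ⊕ Fin m) ⊕ Fin 2) F) := by
  have hcard : Fintype.card ((Fin m ⊕ Fin m) ⊕ Fin 2) = 2 * (m + 1) := by simp; ring
  have hQ := nondegenerate_minusForm_of_aniso m a b hab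
  obtain ⟨D₁⟩ := exists_descent_data (minusForm m F a b) hQ σ hr hr0 g₁ c₁ hc₁ hiter₁
  obtain ⟨D₃⟩ := exists_descent_data (minusForm m F a b) hQ σ hr hr0 g₃ c₃ hc₃ hiter₃
  obtain ⟨h, d, hd, hh, heq⟩ := D₁.compare_of_type D₃ hcard (D₁.type_minus a b hab)
    (D₃.type_minus a b hab)
  exact ⟨h, ⟨d, hd, hh⟩, heq⟩

/-- elements of `Inndiag(PΩ⁻)` come from pairs with trivial field automorphism -/
theorem exists_of_mem_inndiagMinus {m : ℕ} {a b : F}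
    {δ : MulAut (Cfsg.POmega F (Cfsg.quadFormMinus m F a b))}
    (hδ : δ ∈ Cfsg.inndiagPOmegaMinus m F a b) :
    ∃ d : ↥(GamO ⇑(minusForm m F a b)), d.1.right = RingEquiv.refl F ∧
      psi ⇑(minusForm m F a b) d = δ := by
  have hle : Cfsg.inndiagPOmegaMinus m F a b ≤ Cfsg.pgoAut F ⇑(minusForm m F a b) := by
    unfold Cfsg.inndiagPOmegaMinus Cfsg.pgoAut Cfsg.autSubgroupOf
    apply Subgroup.closure_mono
    rintro β ⟨g, hg, -, hind⟩
    exact ⟨g, hg, hind⟩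
  exact exists_of_mem_pgoAut (minusForm m F a b) (hle hδ)

/-- class-preserving similarities induce elements of `Inndiag(PΩ⁻)` -/
theorem psi_mem_inndiagMinus {m : ℕ} {a b : F} (H : ↥(GamO ⇑(minusForm m F a b)))
    (hH : H.1.right = RingEquiv.refl F)
    (hpres : Cfsg.PreservesSingularClassesMinus m a b
      (H.1.left : Matrix ((Fin m ⊕ Fin m) ⊕ Fin 2) ((Fin m ⊕ Fin m) ⊕ Fin 2) F)) :
    psi ⇑(minusForm m F a b) H ∈ Cfsg.inndiagPOmegaMinus m F a b := by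
  unfold Cfsg.inndiagPOmegaMinus Cfsg.autSubgroupOf
  apply Subgroup.subset_closure
  refine ⟨H.1.left, left_mem_quadSimilarityGroup (minusForm m F a b) H hH, hpres, ?_⟩
  have h := (Cfsg.Agent.Helper12.GammaO.isInduced_iff ⇑(minusForm m F a b) H
    (psi ⇑(minusForm m F a b) H)).2 rfl
  rw [hH] at h
  exact h

set_option maxHeartbeats 1600000 in
/-- **the coset theorem for the minus form, relative to a standard element** -/
theorem coset_conj_minus {m : ℕ} (hm : 3 ≤ m) (a b : F)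
    (hab : ∀ z₁ z₂ : F, z₁ ^ 2 + a * z₁ * z₂ + b * z₂ ^ 2 = 0 → z₁ = 0 ∧ z₂ = 0)
    (x δ : MulAut (Cfsg.POmega F ⇑(minusForm m F a b))) {r : ℕ} (hr : r.Prime)
    (s₃ : ↥(GamO ⇑(minusForm m F a b))) (hs₃ : psi ⇑(minusForm m F a b) s₃ = x)
    (hs₃r : s₃ ^ r = 1) (hσ : orderOf s₃.1.right = r)
    (d : ↥(GamO ⇑(minusForm m F a b))) (hdr : d.1.right = RingEquiv.refl F)
    (hd : psi ⇑(minusForm m F a b) d = δ) (hord : (δ * x) ^ r = 1) :
    ∃ H : ↥(GamO ⇑(minusForm m F a b)), H.1.right = RingEquiv.refl F ∧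
      Cfsg.PreservesSingularClassesMinus m a b
        (H.1.left : Matrix ((Fin m ⊕ Fin m) ⊕ Fin 2) ((Fin m ⊕ Fin m) ⊕ Fin 2) F) ∧
      δ * x = psi ⇑(minusForm m F a b) H * x * (psi ⇑(minusForm m F a b) H)⁻¹ := by
  have hQ := nondegenerate_minusForm_of_aniso m a b hab
  have hcard : Fintype.card ((Fin m ⊕ Fin m) ⊕ Fin 2) = 2 * m + 2 := by simp; ring
  have hn : 7 ≤ Fintype.card ((Fin m ⊕ Fin m) ⊕ Fin 2) := by rw [hcard]; omega
  obtain ⟨σ, hσdef⟩ : ∃ σ : F ≃+* F, σ = s₃.1.right := ⟨_, rfl⟩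
  rw [← hσdef] at hσ
  obtain ⟨y, hy⟩ : ∃ y : ↥(GamO ⇑(minusForm m F a b)), y = d * s₃ := ⟨_, rfl⟩
  have hyr : y.1.right = σ := by
    rw [hy]
    show (d.1 * s₃.1).right = _
    rw [SemidirectProduct.mul_right, hdr, ← hσdef]
    exact one_mul σ
  have hpsiy : psi ⇑(minusForm m F a b) y = δ * x := by
    rw [hy, map_mul, hd, hs₃]
  have hpow : (psi ⇑(minusForm m F a b) y) ^ r = 1 := by
    rw [hpsiy]
    exact hord
  -- the iterate of the standard element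
  have hiter₃ : ∀ v, ((semiK (s₃.1.left : Matrix ((Fin m ⊕ Fin m) ⊕ Fin 2)
      ((Fin m ⊕ Fin m) ⊕ Fin 2) F) σ)^[r]) v = v := by
    intro v
    rw [hσdef]
    apply iter_of_pow_eq_one
    have : (s₃ ^ r).1 = 1 := by rw [hs₃r]; rfl
    exact this
  have hs₃mem : Cfsg.IsSemisimilarityPair ⇑(minusForm m F a b) s₃.1.left s₃.1.right := s₃.2
  obtain ⟨c₃, hc₃'⟩ := hs₃mem
  have hc₃ : ∀ v : (Fin m ⊕ Fin m) ⊕ Fin 2 → F,
      minusForm m F a b ((s₃.1.left : Matrix ((Fin m ⊕ Fin m) ⊕ Fin 2)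
        ((Fin m ⊕ Fin m) ⊕ Fin 2) F) *ᵥ (fun i => σ (v i)))
        = (c₃ : F) * σ (minusForm m F a b v) := by
    intro v
    rw [hσdef]
    exact hc₃' v
  have hymem : Cfsg.IsSemisimilarityPair ⇑(minusForm m F a b) y.1.left y.1.right := y.2
  obtain ⟨cy, hcy'⟩ := hymem
  have hcy : ∀ v : (Fin m ⊕ Fin m) ⊕ Fin 2 → F,
      minusForm m F a b ((y.1.left : Matrix ((Fin m ⊕ Fin m) ⊕ Fin 2)
        ((Fin m ⊕ Fin m) ⊕ Fin 2) F) *ᵥ (fun i => σ (v i)))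
        = (cy : F) * σ (minusForm m F a b v) := by
    intro v
    have := hcy' v
    rw [hyr] at this
    exact this
  -- a reflection commuting with the standard element
  obtain ⟨D₃⟩ := exists_descent_data (minusForm m F a b) hQ σ hσ hr.pos s₃.1.left (c₃ : F)
    hc₃ hiter₃
  have hex : ∃ w : (Fin m ⊕ Fin m) ⊕ Fin 2 → F, (s₃.1.left : Matrix ((Fin m ⊕ Fin m) ⊕ Fin 2)
      ((Fin m ⊕ Fin m) ⊕ Fin 2) F) *ᵥ (fun i => σ (w i)) = w ∧ minusForm m F a b w ≠ 0 :=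
    exists_nonsingular_fixed D₃
  obtain ⟨w, hw, hQw⟩ := hex
  have hρc := reflection_comm (Q := minusForm m F a b) hc₃ w hw hQw
  -- the core
  have hlang' : ∀ μ : Fˣ,
      (∀ v, ((semiK ((Matrix.GeneralLinearGroup.scalar ((Fin m ⊕ Fin m) ⊕ Fin 2) μ * y.1.left :
        GL ((Fin m ⊕ Fin m) ⊕ Fin 2) F) :
          Matrix ((Fin m ⊕ Fin m) ⊕ Fin 2) ((Fin m ⊕ Fin m) ⊕ Fin 2) F) σ)^[r]) v = v) →
      ∃ h : GL ((Fin m ⊕ Fin m) ⊕ Fin 2) F,
        (∃ d : F, d ≠ 0 ∧ ∀ v : (Fin m ⊕ Fin m) ⊕ Fin 2 → F,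
          minusForm m F a b ((h : Matrix ((Fin m ⊕ Fin m) ⊕ Fin 2)
            ((Fin m ⊕ Fin m) ⊕ Fin 2) F) *ᵥ v) = d * minusForm m F a b v) ∧
        True ∧
        ((Matrix.GeneralLinearGroup.scalar ((Fin m ⊕ Fin m) ⊕ Fin 2) μ * y.1.left :
          GL ((Fin m ⊕ Fin m) ⊕ Fin 2) F) :
            Matrix ((Fin m ⊕ Fin m) ⊕ Fin 2) ((Fin m ⊕ Fin m) ⊕ Fin 2) F)
            * (h : Matrix ((Fin m ⊕ Fin m) ⊕ Fin 2) ((Fin m ⊕ Fin m) ⊕ Fin 2) F).map σ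
          = (h : Matrix ((Fin m ⊕ Fin m) ⊕ Fin 2) ((Fin m ⊕ Fin m) ⊕ Fin 2) F)
            * (s₃.1.left : Matrix ((Fin m ⊕ Fin m) ⊕ Fin 2) ((Fin m ⊕ Fin m) ⊕ Fin 2) F) := by
    intro μ hiter₁
    have hc₁ : ∀ v : (Fin m ⊕ Fin m) ⊕ Fin 2 → F, minusForm m F a b
        (((Matrix.GeneralLinearGroup.scalar ((Fin m ⊕ Fin m) ⊕ Fin 2) μ * y.1.left :
          GL ((Fin m ⊕ Fin m) ⊕ Fin 2) F) :
            Matrix ((Fin m ⊕ Fin m) ⊕ Fin 2) ((Fin m ⊕ Fin m) ⊕ Fin 2) F)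
          *ᵥ (fun i => σ (v i)))
        = ((μ : F) * (μ : F) * (cy : F)) * σ (minusForm m F a b v) := by
      intro v
      rw [Units.val_mul, ← Matrix.mulVec_mulVec, scalar_mulVec, QuadraticMap.map_smul, hcy,
        smul_eq_mul, mul_assoc ((μ : F) * (μ : F))]
    have hl := lang_minus a b hab σ hσ hr.pos hc₁ hc₃ hiter₁ hiter₃
    obtain ⟨h, hh, heq⟩ := hl
    exact ⟨h, hh, trivial, heq⟩
  have hcore := exists_conj_core (minusForm m F a b) hQ hn σ hσ hr.pos y s₃ hyr hσdef.symm hpow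
    (fun _ => True) hlang'
  obtain ⟨H₀, hH₀r, -, hconj⟩ := hcore
  -- the conjugator is a similarity
  have hH₀mem : Cfsg.IsSemisimilarityPair ⇑(minusForm m F a b) H₀.1.left H₀.1.right := H₀.2
  obtain ⟨c₀, hc₀'⟩ := hH₀mem
  have hc₀ : ∀ v : (Fin m ⊕ Fin m) ⊕ Fin 2 → F,
      minusForm m F a b ((H₀.1.left : Matrix ((Fin m ⊕ Fin m) ⊕ Fin 2)
        ((Fin m ⊕ Fin m) ⊕ Fin 2) F) *ᵥ v) = (c₀ : F) * minusForm m F a b v := by
    intro v
    have := hc₀' v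
    rw [hH₀r] at this
    exact this
  have hconj' : δ * x = psi ⇑(minusForm m F a b) H₀ * x * (psi ⇑(minusForm m F a b) H₀)⁻¹ := by
    rw [← hpsiy, hconj, hs₃]
  rcases presMinus_or a b hab c₀.ne_zero hc₀ w hQw with hP | hP
  · exact ⟨H₀, hH₀r, hP, hconj'⟩
  · -- correct by the reflection
    have hRmem : Cfsg.IsSemisimilarityPair ⇑(minusForm m F a b)
        (Helper13.reflectionGL (minusForm m F a b) w hQw) (RingEquiv.refl F) := by
      refine ⟨1, fun v => ?_⟩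
      rw [Units.val_one, one_mul]
      exact (Helper13.mem_isometryGroup_iff _ _).1
        (Helper13.reflectionGL_mem (minusForm m F a b) w hQw) v
    obtain ⟨R, hR⟩ : ∃ R : ↥(GamO ⇑(minusForm m F a b)),
        R = mkG (minusForm m F a b) (Helper13.reflectionGL (minusForm m F a b) w hQw)
          (RingEquiv.refl F) hRmem := ⟨_, rfl⟩
    have hRl : R.1.left = Helper13.reflectionGL (minusForm m F a b) w hQw := by
      rw [hR, mkG_left]
    have hRr : R.1.right = RingEquiv.refl F := by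
      rw [hR, mkG_right]
    have hcomm : R * s₃ = s₃ * R := by
      apply Subtype.ext
      apply SemidirectProduct.ext
      · show (R.1 * s₃.1).left = (s₃.1 * R.1).left
        rw [SemidirectProduct.mul_left, SemidirectProduct.mul_left, hRr, fieldAct_refl, hRl,
          ← hσdef]
        apply Units.ext
        rw [Units.val_mul, Units.val_mul, fieldAct_apply, coe_glMap, Helper13.coe_reflectionGL]
        exact hρc.symm
      · show (R.1 * s₃.1).right = (s₃.1 * R.1).right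
        rw [SemidirectProduct.mul_right, SemidirectProduct.mul_right, hRr]
        show (1 : F ≃+* F) * s₃.1.right = s₃.1.right * 1
        rw [one_mul, mul_one]
    have hcommψ : psi ⇑(minusForm m F a b) R * x = x * psi ⇑(minusForm m F a b) R := by
      rw [← hs₃, ← map_mul, ← map_mul, hcomm]
    refine ⟨H₀ * R, ?_, ?_, ?_⟩
    · show (H₀.1 * R.1).right = _
      rw [SemidirectProduct.mul_right, hH₀r, hRr]
      rfl
    · have e : (H₀ * R).1.left = H₀.1.left * Helper13.reflectionGL (minusForm m F a b) w hQw := by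
        show (H₀.1 * R.1).left = _
        rw [SemidirectProduct.mul_left, hH₀r, fieldAct_refl, hRl]
      rw [e]
      exact hP
    · rw [hconj', map_mul, _root_.mul_inv_rev]
      have e : psi ⇑(minusForm m F a b) H₀ * psi ⇑(minusForm m F a b) R * x
          * ((psi ⇑(minusForm m F a b) R)⁻¹ * (psi ⇑(minusForm m F a b) H₀)⁻¹)
          = psi ⇑(minusForm m F a b) H₀ * (psi ⇑(minusForm m F a b) R * x
            * (psi ⇑(minusForm m F a b) R)⁻¹) * (psi ⇑(minusForm m F a b) H₀)⁻¹ := by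
        group
      rw [e, hcommψ, mul_inv_cancel_right]

/-- **the coset theorem for `PΩ⁻`**, granted `Aut = PΓO` -/
theorem main_minus {m : ℕ} (hm : 3 ≤ m) (a b : F)
    (hab : ∀ z₁ z₂ : F, z₁ ^ 2 + a * z₁ * z₂ + b * z₂ ^ 2 = 0 → z₁ = 0 ∧ z₂ = 0)
    (htop : Cfsg.gammaPOmega F (Cfsg.quadFormMinus m F a b) = ⊤)
    (x δ : MulAut (Cfsg.POmega F (Cfsg.quadFormMinus m F a b)))
    (hx : Cfsg.IsFieldAutClassPOmegaMinus m x) {r : ℕ} (hr : r.Prime) (hxr : orderOf x = r)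
    (hδ : δ ∈ Cfsg.inndiagPOmegaMinus m F a b) :
    orderOf (δ * x) = r ↔ Cfsg.IsConjUnder (Cfsg.inndiagPOmegaMinus m F a b) x (δ * x) := by
  constructor
  · intro hord
    obtain ⟨s₃, hs₃, hs₃r, hσ⟩ := exists_std_minus hm a b hab htop x hx hr hxr
    obtain ⟨d, hdr, hd⟩ := exists_of_mem_inndiagMinus hδ
    have hpow : (δ * x) ^ r = 1 := by
      rw [← hord]
      exact pow_orderOf_eq_one _
    have key := coset_conj_minus hm a b hab x δ hr s₃ hs₃ hs₃r hσ d hdr hd hpow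
    obtain ⟨H, hHr, hHp, hconj⟩ := key
    exact ⟨psi ⇑(minusForm m F a b) H, psi_mem_inndiagMinus H hHr hHp, hconj⟩
  · rintro ⟨h, -, heq⟩
    rw [heq, ← hxr]
    exact (MulAut.conj h).orderOf_eq x

end Cfsg.Agent.Helper5.Coset
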