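import Mathlib
import Cfsg.Agent.Helper5.BalK
import Cfsg.Agent.Helper5.AutOZ
import Cfsg.Agent.S2696
import Cfsg.Agent.Helper12.GammaOF
import Cfsg.Agent.Helper44.EichlerPerfect

/-!
# Local balance for graph involutions of `PΩ⁻`, part L: case (i) — `x` induced by an involutory
isometry of determinant `-1`: `O_{2'}(C_A(x)) = 1`
-/

set_option autoImplicit false
set_option linter.unusedSectionVars false
set_option linter.unusedSimpArgs false

namespace Cfsg.Agent.Helper5.Bal

open Matrix QuadraticMap Module MulAction Cfsg.Agent.Helper44 Cfsg.Agent.Helper45.OmegaParity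
  Cfsg.Agent.Helper5 Cfsg.Agent.Helper5.AutO Cfsg.Agent.Helper37.Bal Cfsg.Agent.Helper12.GammaO

variable {F : Type*} [Field F] [Fintype F] {ι : Type} [Fintype ι] [DecidableEq ι]
variable {Q : QuadraticForm F (ι → F)} {t : Cfsg.isometryGroup F ⇑Q}

/-- **case (i), general form** -/
theorem core_eq_bot_of_invol_gen (hodd : Odd (Fintype.card F)) (C : Ctx Q) (T : HypTriple Q)
    (hAut : Cfsg.gammaPOmega F ⇑Q = ⊤) (hcard : Even (Fintype.card ι))
    (A : Subgroup (MulAut (Cfsg.POmega F ⇑Q)))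
    (hinn : ∀ k : Cfsg.POmega F ⇑Q, MulAut.conj k ∈ A)
    (ht : t * t = 1) (hdet : ((t.1 : GL ι F) : Matrix ι ι F).det = -1) :
    Cfsg.pPrimeCore 2 ↥(A ⊓ Subgroup.centralizer {autOf Q t}) = ⊥ := by
  have h2 : (2 : F) ≠ 0 := Cfsg.Agent.Helper44.two_ne_zero_of_odd_card rfl hodd
  have hZ : Subgroup.center (Cfsg.POmega F ⇑Q) = ⊥ :=
    center_quot_center_eq_bot (commutator_Omega_eq_top Q C.hQ C.hn)
  -- parities of the dimensions of the eigenspaces
  have h₂ : Odd (finrank F (eigS Q t (-1))) := by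
    rw [← Nat.not_even_iff_odd]
    intro hev
    have h1 := det_of_invol (Q := Q) (t := t) ht h2
    rw [hdet, hev.neg_one_pow] at h1
    have : (2 : F) = 0 := by linear_combination -h1
    exact h2 this
  have hsum := finrank_eigS_add (Q := Q) (t := t) ht h2
  have h₁ : Odd (finrank F (eigS Q t 1)) := by
    rw [← Nat.not_even_iff_odd]
    intro hev
    have : Odd (Fintype.card ι) := by
      rw [← hsum]
      exact hev.add_odd h₂
    exact (Nat.not_even_iff_odd.2 this) hcard
  -- the order of `x`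
  have hx2 : autOf Q t ^ 2 = 1 := by
    unfold autOf
    rw [← map_pow, ← map_pow, _root_.sq, ht, map_one, map_one]
  have hx1 : autOf Q t ≠ 1 := by
    intro h
    have hker : toGO Q t ∈ (conjAut ⇑Q).ker := MonoidHom.mem_ker.2 h
    rw [ker_conjAut Q C.hQ C.hn, Subgroup.mem_subgroupOf, Cfsg.Geo.mem_scalars_iff] at hker
    obtain ⟨c, hc⟩ := hker
    have hlin : ∀ x, lin Q t x = (c : F) • x := by
      intro x
      rw [lin_apply]
      have : ((t.1 : GL ι F) : Matrix ι ι F) = (c : F) • (1 : Matrix ι ι F) := hc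
      rw [this, Matrix.smul_mulVec, Matrix.one_mulVec]
    have hne : ∀ ε : F, Odd (finrank F (eigS Q t ε)) → (c : F) = ε := by
      intro ε hfin
      have hne' : eigS Q t ε ≠ ⊥ := by
        intro h
        rw [h, finrank_bot] at hfin
        exact absurd hfin (by decide)
      obtain ⟨x, hx, hx0⟩ := Submodule.exists_mem_ne_zero_of_ne_bot hne'
      have h1 := (mem_eigS Q t).1 hx
      rw [hlin] at h1
      have h4 : ((c : F) - ε) • x = 0 := by rw [sub_smul, h1, sub_self]
      rcases smul_eq_zero.1 h4 with h5 | h5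
      · exact sub_eq_zero.1 h5
      · exact absurd h5 hx0
    have e1 := hne 1 h₁
    have e2 := hne (-1) h₂
    rw [e1] at e2
    have : (2 : F) = 0 := by linear_combination e2
    exact h2 this
  have : Fact (Nat.Prime 2) := ⟨Nat.prime_two⟩
  have hord : orderOf (autOf Q t) = 2 := orderOf_eq_prime hx2 hx1
  exact pPrimeCore_eq_bot_of A hinn (autOf Q t) hord
    (fun y _ hyz => mem_zpowers_of_centralizes hodd C T hZ hAut ht h₁ h₂ y hyz)
    (fun M hMn hMc => innCent_no_normal_odd hodd C T hZ ht h₁ h₂ M hMn hMc)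

/-- **case (i)** for the minus-type form: if `g` is an involutory isometry of determinant `-1`,
the automorphism `x` of `PΩ⁻_{2m+2}(q)` induced by `g` has `O_{2'}(C_A(x)) = 1` -/
theorem core_eq_bot_of_invol (hodd : Odd (Fintype.card F)) {m : ℕ} (hm : 3 ≤ m) (a b : F)
    (hab : ∀ z₁ z₂ : F, z₁ ^ 2 + a * z₁ * z₂ + b * z₂ ^ 2 = 0 → z₁ = 0 ∧ z₂ = 0)
    (A : Subgroup (MulAut (Cfsg.POmega F (Cfsg.quadFormMinus m F a b))))
    (hinn : ∀ k : Cfsg.POmega F (Cfsg.quadFormMinus m F a b), MulAut.conj k ∈ A)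
    (g : Cfsg.isometryGroup F ⇑(minusForm m F a b)) (hg2 : g * g = 1)
    (hdet : ((g.1 : GL ((Fin m ⊕ Fin m) ⊕ Fin 2) F) :
      Matrix ((Fin m ⊕ Fin m) ⊕ Fin 2) ((Fin m ⊕ Fin m) ⊕ Fin 2) F).det = -1) :
    Cfsg.pPrimeCore 2 ↥(A ⊓ Subgroup.centralizer
      {conjAut ⇑(minusForm m F a b) (toGO (minusForm m F a b) g)}) = ⊥ := by
  have T : HypTriple (minusForm m F a b) :=
    HypTriple.ofPairs (minusForm m F a b) (fun i => Sum.inl (Sum.inl (Fin.castLE hm i)))
      (fun i => Sum.inl (Sum.inr (Fin.castLE hm i)))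
      (fun i j hij => Fin.castLE_injective hm (Sum.inr_injective (Sum.inl_injective hij)))
      (fun i j => by simp)
      (fun i => isHypPair_minusForm m a b (Fin.castLE hm i))
  have C : AutO.Ctx (minusForm m F a b) :=
    ⟨nondegenerate_minusForm_of_aniso m a b hab, by simp; omega⟩
  have hAut : Cfsg.gammaPOmega F ⇑(minusForm m F a b) = ⊤ := Cfsg.Agent.S2696.result hm a b hab
  have hcard : Even (Fintype.card ((Fin m ⊕ Fin m) ⊕ Fin 2)) := by
    rw [Fintype.card_sum, Fintype.card_sum, Fintype.card_fin, Fintype.card_fin]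
    exact ⟨m + 1, by ring⟩
  exact core_eq_bot_of_invol_gen hodd C T hAut hcard A hinn hg2 hdet

end Cfsg.Agent.Helper5.Bal
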