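import Cfsg.Agent.Helper43.PsuM.EvDefs
import Cfsg.Agent.Helper5.SuBN.Defs

/-!
# S2089 block I-even, piece (AISO): `SUe m σ ≃* UG (m + m) σ`

Reindex along `Fin m ⊕ Fin m ≃ Fin (m + m)`, `inl i ↦ Fin.castAdd m i`, `inr i ↦ Fin.rev (Fin.castAdd m i)`: the
hyperbolic form `[[0, 1], [1, 0]]` becomes the antidiagonal form `hermJ σ`.
-/

set_option autoImplicit false

namespace Cfsg.Agent.Helper5.PsuM

open Matrix Cfsg.Agent.Helper43.PsuM.Ev

variable {F : Type*} [Field F] {m : ℕ} {σ : F →+* F}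

/-- the reindexing `inl i ↦ i`, `inr i ↦ 2m - 1 - i` (as a function) -/
def AISO_fwd (m : ℕ) : Fin m ⊕ Fin m → Fin (m + m)
  | Sum.inl i => Fin.castAdd m i
  | Sum.inr i => Fin.rev (Fin.castAdd m i)

/-- the inverse function -/
def AISO_bwd (m : ℕ) (k : Fin (m + m)) : Fin m ⊕ Fin m :=
  if h : k.val < m then Sum.inl ⟨k.val, h⟩
  else Sum.inr ⟨m + m - 1 - k.val, by have := k.2; omega⟩

theorem AISO_bwd_fwd (a : Fin m ⊕ Fin m) : AISO_bwd m (AISO_fwd m a) = a := by
  rcases a with i | i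
  · have h : (Fin.castAdd m i).val < m := by simp
    unfold AISO_bwd AISO_fwd
    rw [dif_pos h]
    simp
  · have hv : (Fin.rev (Fin.castAdd m i)).val = m + m - 1 - i.val := by
      rw [Fin.val_rev]; simp; omega
    have h : ¬ (Fin.rev (Fin.castAdd m i)).val < m := by
      rw [hv]; have := i.2; omega
    unfold AISO_bwd AISO_fwd
    rw [dif_neg h]
    congr 1
    apply Fin.ext
    simp only [hv]
    have := i.2
    omega

theorem AISO_fwd_bwd (k : Fin (m + m)) : AISO_fwd m (AISO_bwd m k) = k := by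
  unfold AISO_bwd
  by_cases h : k.val < m
  · rw [dif_pos h]
    apply Fin.ext
    simp [AISO_fwd]
  · rw [dif_neg h]
    apply Fin.ext
    simp only [AISO_fwd, Fin.val_rev, Fin.val_castAdd]
    have := k.2
    omega

/-- the reindexing equivalence -/
def AISO_e (m : ℕ) : Fin m ⊕ Fin m ≃ Fin (m + m) where
  toFun := AISO_fwd m
  invFun := AISO_bwd m
  left_inv := AISO_bwd_fwd
  right_inv := AISO_fwd_bwd

theorem AISO_e_swap (a : Fin m ⊕ Fin m) : AISO_e m a.swap = Fin.rev (AISO_e m a) := by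
  rcases a with i | i
  · rfl
  · change Fin.castAdd m i = Fin.rev (Fin.rev (Fin.castAdd m i))
    rw [Fin.rev_rev]

/-- reindexing of special linear groups -/
def AISO_sl {α β : Type*} [Fintype α] [DecidableEq α] [Fintype β] [DecidableEq β] (e : α ≃ β) :
    SpecialLinearGroup α F ≃* SpecialLinearGroup β F where
  toFun g := ⟨Matrix.reindex e e g.1, by rw [Matrix.det_reindex_self]; exact g.2⟩
  invFun g := ⟨Matrix.reindex e.symm e.symm g.1, by rw [Matrix.det_reindex_self]; exact g.2⟩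
  left_inv g := by
    apply Subtype.ext
    ext a b
    simp [Matrix.reindex_apply]
  right_inv g := by
    apply Subtype.ext
    ext a b
    simp [Matrix.reindex_apply]
  map_mul' g h := by
    apply Subtype.ext
    change Matrix.reindex e e (g.1 * h.1) = Matrix.reindex e e g.1 * Matrix.reindex e e h.1
    simp only [Matrix.reindex_apply]
    rw [Matrix.submatrix_mul_equiv]

theorem AISO_sl_apply {α β : Type*} [Fintype α] [DecidableEq α] [Fintype β] [DecidableEq β] (e : α ≃ β)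
    (g : SpecialLinearGroup α F) (a b : α) : (AISO_sl e g).1 (e a) (e b) = g.1 a b := by
  change Matrix.reindex e e g.1 (e a) (e b) = g.1 a b
  simp [Matrix.reindex_apply]

/-- the entries of the unitarity condition of `SUe` -/
theorem AISO_isU_iff (M : Matrix (Fin m ⊕ Fin m) (Fin m ⊕ Fin m) F) :
    IsU σ M ↔ ∀ a b : Fin m ⊕ Fin m, ∑ i, M i a * σ (M i.swap b) = if a = b.swap then 1 else 0 := by
  have key : ∀ a b : Fin m ⊕ Fin m, (Mᵀ * Hm m F * M.map σ) a b = ∑ i, M i a * σ (M i.swap b) := by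
    intro a b
    rw [Matrix.mul_apply]
    rw [← Equiv.sum_comp (Equiv.sumComm (Fin m) (Fin m))]
    apply Finset.sum_congr rfl
    intro i _
    have h1 : (Mᵀ * Hm m F) a ((Equiv.sumComm (Fin m) (Fin m)) i) = M i a := by
      rw [Matrix.mul_apply, Finset.sum_eq_single i]
      · rcases i with i | i <;> simp [Hm, Matrix.fromBlocks]
      · intro j _ hj
        rcases i with i | i <;> rcases j with j | j <;>
          simp [Hm, Matrix.fromBlocks, Matrix.one_apply] <;> intro h <;> exact absurd (by rw [h]) hj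
      · intro h; exact absurd (Finset.mem_univ _) h
    rw [h1]
    rfl
  have hH : ∀ a b : Fin m ⊕ Fin m, Hm m F a b = if a = b.swap then 1 else 0 := by
    intro a b
    rcases a with i | i <;> rcases b with j | j <;> simp [Hm, Matrix.fromBlocks, Matrix.one_apply]
  unfold IsU
  constructor
  · intro h a b
    rw [← key, h, hH]
  · intro h
    ext a b
    rw [key, h, hH]

theorem AISO_mem_iff (g : SpecialLinearGroup (Fin m ⊕ Fin m) F) :
    g ∈ SUe m σ ↔ AISO_sl (AISO_e m) g ∈ Cfsg.Agent.Helper5.SuBN.SUJ (m + m) σ := by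
  have hU : g ∈ SUe m σ ↔ IsU σ g.1 := Iff.rfl
  rw [hU, AISO_isU_iff]
  have hJ : AISO_sl (AISO_e m) g ∈ Cfsg.Agent.Helper5.SuBN.SUJ (m + m) σ ↔
      Cfsg.Agent.Helper5.SuBN.IsUJ σ (AISO_sl (AISO_e m) g).1 := by
    constructor
    · intro h
      exact Cfsg.Agent.Helper5.SuBN.isUJ_mat (σ := σ) ⟨_, h⟩
    · intro h
      obtain ⟨g', hg'⟩ := Cfsg.Agent.Helper5.SuBN.exists_of_isUJ h
      have : g'.1 = AISO_sl (AISO_e m) g := Subtype.ext hg'
      rw [← this]
      exact g'.2
  rw [hJ]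
  unfold Cfsg.Agent.Helper5.SuBN.IsUJ
  have hsum : ∀ a b : Fin m ⊕ Fin m,
      ∑ i, (AISO_sl (AISO_e m) g).1 i (AISO_e m a) * σ ((AISO_sl (AISO_e m) g).1 (Fin.rev i) (AISO_e m b)) =
        ∑ i, g.1 i a * σ (g.1 i.swap b) := by
    intro a b
    rw [← Equiv.sum_comp (AISO_e m)]
    apply Finset.sum_congr rfl
    intro i _
    rw [← AISO_e_swap, AISO_sl_apply, AISO_sl_apply]
  constructor
  · intro h
    refine ⟨(AISO_sl (AISO_e m) g).2, fun a' b' => ?_⟩
    obtain ⟨a, rfl⟩ := (AISO_e m).surjective a'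
    obtain ⟨b, rfl⟩ := (AISO_e m).surjective b'
    rw [hsum, h a b, ← AISO_e_swap]
    by_cases hab : a = b.swap
    · rw [if_pos hab, if_pos (by rw [hab])]
    · rw [if_neg hab, if_neg (fun h' => hab ((AISO_e m).injective h'))]
  · rintro ⟨-, h⟩ a b
    rw [← hsum, h, ← AISO_e_swap]
    by_cases hab : a = b.swap
    · rw [if_pos hab, if_pos (by rw [hab])]
    · rw [if_neg hab, if_neg (fun h' => hab ((AISO_e m).injective h'))]

/-- (AISO) reindex along `Fin m ⊕ Fin m ≃ Fin (m + m)`, `inl i ↦ i` (`Fin.castAdd`), `inr i ↦` the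
reverse of `Fin.natAdd m i`, i.e. `Fin.rev (Fin.castAdd m i)`: the form `[[0, 1], [1, 0]]` becomes
the antidiagonal form `hermJ σ`. -/
theorem nonempty_mulEquiv_UG (hσ : ∀ x, σ (σ x) = x) :
    Nonempty (SUe m σ ≃* Cfsg.Agent.Helper5.SuBN.UG (m + m) σ) := by
  have hmap : (SUe m σ).map (AISO_sl (AISO_e m)).toMonoidHom = Cfsg.Agent.Helper5.SuBN.SUJ (m + m) σ := by
    ext g
    constructor
    · rintro ⟨x, hx, rfl⟩
      exact (AISO_mem_iff x).1 hx
    · intro hg
      refine ⟨(AISO_sl (AISO_e m)).symm g, ?_, ?_⟩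
      · apply (AISO_mem_iff _).2
        rw [MulEquiv.apply_symm_apply]
        exact hg
      · exact MulEquiv.apply_symm_apply _ g
  exact ⟨((AISO_sl (AISO_e m)).subgroupMap (SUe m σ)).trans (MulEquiv.subgroupCongr hmap)⟩

end Cfsg.Agent.Helper5.PsuM
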