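import Cfsg.Agent.Helper43.O7Orth

/-!
# (O7-L4a) the centre of the monomial 2-group `S0` of `O₇` (piece for helper43, S2647)
-/

set_option autoImplicit false

namespace Cfsg.Agent.Helper5.O7

open Matrix Cfsg.Agent.Helper43.O7 Cfsg.Agent.Helper44

variable {F : Type*} [Field F] [Fintype F]

private theorem exists_third : ∀ i i' : Fin 7, ∃ k : Fin 7, k ≠ i ∧ k ≠ i' := by decide

private theorem prod_two_single (i k : Fin 7) :
    ∏ j, (Pi.mulSingle i (-1 : ℤˣ) * Pi.mulSingle k (-1 : ℤˣ) : Fin 7 → ℤˣ) j = 1 := by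
  simp only [Pi.mul_apply]
  rw [Finset.prod_mul_distrib, Finset.prod_pi_mulSingle', Finset.prod_pi_mulSingle']
  simp

/-- L4a -/
theorem center_S0 (h2 : (2 : F) ≠ 0) (y : Cfsg.isometryGroup F ⇑(Q7 F)) (hy : y ∈ S0 F)
    (hc : ∀ x ∈ S0 F, y * x = x * y) : ∃ s t : ℤˣ, y = dg F (cvec s t) := by
  obtain ⟨ε, σ, hε, hσ, rfl⟩ := hy
  -- step 1: σ = 1
  have hδ : ∀ δ : Fin 7 → ℤˣ, ∏ i, δ i = 1 → ∀ i, δ (σ⁻¹ i) = δ i := by
    intro δ hδ1 i
    have h := hc (dg F δ) (dg_mem_S0 F hδ1)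
    rw [mul_assoc, pm_mul_dg, ← mul_assoc, ← mul_assoc, ← map_mul, ← map_mul] at h
    have h' := (mon_inj F h2 h).1
    have hi := congrFun h' i
    simp only [Pi.mul_apply] at hi
    rw [mul_comm (δ i)] at hi
    exact mul_left_cancel hi
  have hσ1 : σ = 1 := by
    have : σ⁻¹ = 1 := by
      ext i
      by_contra hne
      have hne' : σ⁻¹ i ≠ i := by
        intro h
        apply hne
        rw [h]
        rfl
      obtain ⟨k, hk1, hk2⟩ := exists_third i (σ⁻¹ i)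
      have h := hδ (Pi.mulSingle i (-1) * Pi.mulSingle k (-1)) (prod_two_single i k) i
      simp only [Pi.mul_apply] at h
      rw [Pi.mulSingle_eq_same, Pi.mulSingle_eq_of_ne hne', Pi.mulSingle_eq_of_ne hk2.symm,
        Pi.mulSingle_eq_of_ne hk1.symm] at h
      revert h
      decide
    rw [← inv_inv σ, this, inv_one]
  subst hσ1
  rw [map_one, mul_one] at hc ⊢
  -- step 2: invariance of ε under P0
  have hρ : ∀ ρ ∈ P0, ∀ i, ε (ρ⁻¹ i) = ε i := by
    intro ρ hρ i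
    have h := hc (pm F ρ) (pm_mem_S0 F hρ)
    rw [pm_mul_dg] at h
    have h' := (mon_inj F h2 h).1
    exact (congrFun h' i).symm
  have htau : tau ∈ P0 := Subgroup.subset_closure (by simp)
  have htau2 : tau2 ∈ P0 := Subgroup.subset_closure (by simp)
  have e02 : ε 2 = ε 0 := by
    have := hρ tau htau 0
    have h' : tau⁻¹ (0 : Fin 7) = 2 := by decide
    rwa [h'] at this
  have e13 : ε 3 = ε 1 := by
    have := hρ tau htau 1
    have h' : tau⁻¹ (1 : Fin 7) = 3 := by decide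
    rwa [h'] at this
  have e01 : ε 1 = ε 0 := by
    have := hρ tau2 htau2 0
    have h' : tau2⁻¹ (0 : Fin 7) = 1 := by decide
    rwa [h'] at this
  have e45 : ε 5 = ε 4 := by
    have := hρ tau2 htau2 4
    have h' : tau2⁻¹ (4 : Fin 7) = 5 := by decide
    rwa [h'] at this
  have e6 : ε 6 = 1 := by
    rw [Fin.prod_univ_seven, e02, e13, e01, e45] at hε
    have h0 : ε 0 * ε 0 = 1 := Int.units_mul_self _
    have h4 : ε 4 * ε 4 = 1 := Int.units_mul_self _
    calc ε 6 = (ε 0 * ε 0) * (ε 0 * ε 0) * (ε 4 * ε 4) * ε 6 := by rw [h0, h4]; simp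
      _ = ε 0 * ε 0 * ε 0 * ε 0 * ε 4 * ε 4 * ε 6 := by simp only [mul_assoc]
      _ = 1 := hε
  refine ⟨ε 0, ε 4, ?_⟩
  congr 1
  funext i
  fin_cases i
  · rfl
  · exact e01
  · exact e02
  · show ε 3 = ε 0
    rw [e13, e01]
  · rfl
  · exact e45
  · exact e6

end Cfsg.Agent.Helper5.O7
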