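import Mathlib
import Cfsg.Agent.Helper5.BalO

/-!
# Local balance for graph involutions of `PΩ⁻`, part P: case (ii) — an automorphism centralising
`Inn K ∩ C(x)` is a power of `x` (`x` induced by a similarity `δ` with `δ² = lam` a non-square)
-/

set_option autoImplicit false
set_option linter.unusedSectionVars false
set_option linter.unusedSimpArgs false

namespace Cfsg.Agent.Helper5.Bal

open Matrix QuadraticMap Module MulAction Cfsg.Agent.Helper44 Cfsg.Agent.Helper45.OmegaParity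
  Cfsg.Agent.Helper5 Cfsg.Agent.Helper5.AutO Cfsg.Agent.Helper37.Bal Cfsg.Agent.Helper12.GammaO

variable {F : Type*} [Field F] [Fintype F] {ι : Type} [Fintype ι] [DecidableEq ι]
variable {Q : QuadraticForm F (ι → F)} {lam : F} [Fact (∀ r : F, r ^ 2 ≠ lam + 0 * r)] {k : ℕ}
variable (δ : ↥(Cfsg.Geo.quadSimilarityGroup (F := F) ⇑Q))
  (D : ExtData Q lam k ((δ.1 : GL ι F) : Matrix ι ι F))

/-- **Step A**: an automorphism `psi X` centralising `Inn K ∩ C(x)` commutes with the transported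
`E`-Eichler transformations -/
theorem semiAdd_comm_Psi_eichlerO (hodd : Odd (Fintype.card F)) (C : Ctx Q) (T : HypTriple Q)
    (hZ : Subgroup.center (Cfsg.POmega F ⇑Q) = ⊥) (X : ↥(GamO ⇑Q))
    (hy : ∀ z ∈ innCent (conjAut ⇑Q δ), psi ⇑Q X * z = z * psi ⇑Q X)
    {u w : (Unit ⊕ (Fin k ⊕ Fin k)) → QuadraticAlgebra F lam 0}
    (hQu : oddForm k (QuadraticAlgebra F lam 0) u = 0)
    (huw : polar ⇑(oddForm k (QuadraticAlgebra F lam 0)) u w = 0) (v : ι → F) :
    semiAdd X.1 (lin Q (Psi D (eichlerO (oddForm k (QuadraticAlgebra F lam 0)) u w)) v)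
      = lin Q (Psi D (eichlerO (oddForm k (QuadraticAlgebra F lam 0)) u w)) (semiAdd X.1 v) := by
  have h2 : (2 : F) ≠ 0 := Cfsg.Agent.Helper44.two_ne_zero_of_odd_card rfl hodd
  have h2E : (2 : QuadraticAlgebra F lam 0) ≠ 0 := two_ne_zero_QA h2
  set w' : (Unit ⊕ (Fin k ⊕ Fin k)) → QuadraticAlgebra F lam 0 :=
    (2 : QuadraticAlgebra F lam 0)⁻¹ • w with hw'
  have huw' : polar ⇑(oddForm k (QuadraticAlgebra F lam 0)) u w' = 0 := by
    rw [hw', QuadraticMap.polar_smul_right, huw, smul_zero]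
  have hww : w' + w' = w := by
    rw [hw', ← add_smul]
    have : (2 : QuadraticAlgebra F lam 0)⁻¹ + (2 : QuadraticAlgebra F lam 0)⁻¹ = 1 := by
      rw [← two_mul, mul_inv_cancel₀ h2E]
    rw [this, one_smul]
  set g₁ : ↥(HE δ D) := ⟨eichlerO (oddForm k (QuadraticAlgebra F lam 0)) u w',
    Psi_eichlerO_mem_Omega δ D hodd C.hQ u w'⟩ with hg₁
  have h1 := semiAdd_comm_sq C T hZ X hy (Theta δ D g₁) v
  have h3 : (((Theta δ D g₁ : ↥(centG Q δ)).1 * (Theta δ D g₁ : ↥(centG Q δ)).1 :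
      ↥(Cfsg.Omega F ⇑Q)).1) = Psi D (eichlerO (oddForm k (QuadraticAlgebra F lam 0)) u w) := by
    rw [Subgroup.coe_mul, coe_Theta, ← map_mul, hg₁]
    show Psi D (eichlerO (oddForm k (QuadraticAlgebra F lam 0)) u w'
      * eichlerO (oddForm k (QuadraticAlgebra F lam 0)) u w') = _
    rw [eichlerO_mul _ hQu huw' huw', hww]
  rw [h3] at h1
  exact h1

include D in
set_option maxHeartbeats 1600000 in
/-- **(ha), case (ii)**: an automorphism centralising `Inn K ∩ C(x)` is a power of `x` -/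
theorem mem_zpowers_of_centralizes_ext (hodd : Odd (Fintype.card F)) (C : Ctx Q) (T : HypTriple Q)
    (hZ : Subgroup.center (Cfsg.POmega F ⇑Q) = ⊥) (hAut : Cfsg.gammaPOmega F ⇑Q = ⊤)
    (hk : 1 ≤ k) (y : MulAut (Cfsg.POmega F ⇑Q))
    (hy : ∀ z ∈ innCent (conjAut ⇑Q δ), y * z = z * y) :
    y ∈ Subgroup.zpowers (conjAut ⇑Q δ) := by
  have h2 : (2 : F) ≠ 0 := Cfsg.Agent.Helper44.two_ne_zero_of_odd_card rfl hodd
  have h2E : (2 : QuadraticAlgebra F lam 0) ≠ 0 := two_ne_zero_QA h2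
  have hlam := D.lam_ne_zero
  let _ := fintypeQA lam
  have hQE := nondegenerate_oddForm (F := QuadraticAlgebra F lam 0) h2E k
  have h3 : 3 ≤ Fintype.card (Unit ⊕ (Fin k ⊕ Fin k)) := by rw [card_kappa]; omega
  have hy' : y ∈ Cfsg.gammaPOmega F ⇑Q := by rw [hAut]; trivial
  rw [gammaPOmega_eq_range] at hy'
  obtain ⟨X, rfl⟩ := hy'
  set G := semiAdd X.1 with hG
  -- the transported additive map
  set G' : ((Unit ⊕ (Fin k ⊕ Fin k)) → QuadraticAlgebra F lam 0) →+
      ((Unit ⊕ (Fin k ⊕ Fin k)) → QuadraticAlgebra F lam 0) :=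
    (D.C.symm.toLinearMap.toAddMonoidHom).comp (G.comp D.C.toLinearMap.toAddMonoidHom) with hG'
  have hCG : ∀ v, D.C (G' v) = G (D.C v) := by
    intro v
    rw [hG']
    simp only [AddMonoidHom.comp_apply, LinearMap.toAddMonoidHom_coe, LinearEquiv.coe_coe,
      LinearEquiv.apply_symm_apply]
  -- `G'` commutes with the `E`-Eichler transformations
  have hcomm : ∀ u w : (Unit ⊕ (Fin k ⊕ Fin k)) → QuadraticAlgebra F lam 0,
      oddForm k (QuadraticAlgebra F lam 0) u = 0 →
      polar ⇑(oddForm k (QuadraticAlgebra F lam 0)) u w = 0 → ∀ x,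
      G' (Helper14.eichler (oddForm k (QuadraticAlgebra F lam 0)) u w x)
        = Helper14.eichler (oddForm k (QuadraticAlgebra F lam 0)) u w (G' x) := by
    intro u w hu huw x
    have e : ∀ z, Helper14.eichler (oddForm k (QuadraticAlgebra F lam 0)) u w z
        = lin (oddForm k (QuadraticAlgebra F lam 0))
          (eichlerO (oddForm k (QuadraticAlgebra F lam 0)) u w) z := by
      intro z
      rw [lin_eichlerO _ hu huw, Helper14.eichler_apply]
      simp only [polarBilin_apply_apply]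
    apply D.C.injective
    rw [hCG, e, e, ← lin_Psi, ← lin_Psi, hCG]
    exact semiAdd_comm_Psi_eichlerO δ D hodd C T hZ X hy hu huw (D.C x)
  -- `G'` is an `E`-scalar
  obtain ⟨a, ha⟩ : ∃ a : QuadraticAlgebra F lam 0, ∀ x, G' x = a • x := by
    obtain ⟨u, hu0, hu⟩ := Cfsg.Agent.Helper44.exists_singular
      (oddForm k (QuadraticAlgebra F lam 0))
      (by rw [Module.finrank_fintype_fun_eq_card]; exact h3)
    obtain ⟨f, hf, huf⟩ := exists_hyperbolic_partner (oddForm k (QuadraticAlgebra F lam 0))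
      (fun x hx => hQE.1 x hx) u hu0 hu
    obtain ⟨w₀, hw₀, hw₀s⟩ := AutO.exists_ne_zero_orth (oddForm k (QuadraticAlgebra F lam 0))
      (![u, f] : Fin 2 → ((Unit ⊕ (Fin k ⊕ Fin k)) → QuadraticAlgebra F lam 0)) (by omega)
    have hw₀u : polar ⇑(oddForm k (QuadraticAlgebra F lam 0)) u w₀ = 0 := by
      rw [QuadraticMap.polar_comm]; exact hw₀s 0
    have hw₀f : polar ⇑(oddForm k (QuadraticAlgebra F lam 0)) f w₀ = 0 := by
      rw [QuadraticMap.polar_comm]; exact hw₀s 1
    obtain ⟨a, ha⟩ := smul_of_eigen (oddForm k (QuadraticAlgebra F lam 0)) h2E G' ⊤ hu hf huf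
      Submodule.mem_top Submodule.mem_top Submodule.mem_top hw₀u hw₀f hw₀ (by
        intro s _ hs
        by_cases hs0 : s = 0
        · refine ⟨0, fun c => ?_⟩
          rw [hs0, smul_zero, smul_zero, map_zero]
        obtain ⟨w, hsw, hQw⟩ := exists_perp_nonsingular_of_singular
          (oddForm k (QuadraticAlgebra F lam 0)) hQE h3 hs0 hs
        obtain ⟨x₀, hx₀⟩ := exists_polar_ne_zero (oddForm k (QuadraticAlgebra F lam 0)) hQE hs0
        apply smul_of_commute_eichler (oddForm k (QuadraticAlgebra F lam 0)) h2E G' hQw hx₀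
        intro c x
        apply hcomm s (c • w) hs
        rw [QuadraticMap.polar_smul_right, hsw, smul_zero])
    exact ⟨a, fun x => ha x Submodule.mem_top⟩
  have hGa : ∀ v, G (D.C v) = D.C (a • v) := by
    intro v
    rw [← hCG, ha]
  -- a non-zero vector
  obtain ⟨v₁, hQv₁⟩ : ∃ v₁ : (Unit ⊕ (Fin k ⊕ Fin k)) → QuadraticAlgebra F lam 0,
      oddForm k (QuadraticAlgebra F lam 0) v₁ = 1 := by
    refine ⟨Pi.single (Sum.inl ()) 1, ?_⟩
    rw [oddForm_coe]
    unfold Cfsg.quadFormOdd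
    simp
  have hv₁0 : v₁ ≠ 0 := by
    rintro rfl
    rw [map_zero] at hQv₁
    exact zero_ne_one hQv₁
  have ha0 : a ≠ 0 := by
    rintro rfl
    have h1 := hGa v₁
    rw [zero_smul, map_zero] at h1
    have h4 : semiLin X.1⁻¹.left X.1⁻¹.right (semiLin X.1.left X.1.right (D.C v₁)) = D.C v₁ :=
      semiLin_inv_apply X.1 (D.C v₁)
    have h5 : semiLin X.1.left X.1.right (D.C v₁) = 0 := h1
    rw [h5] at h4
    apply hv₁0
    apply D.C.injective
    rw [map_zero, ← h4]
    exact map_zero (semiAdd X.1⁻¹)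
  have hav₁ : a • v₁ ≠ 0 := by
    intro h
    rcases smul_eq_zero.1 h with h | h
    · exact ha0 h
    · exact hv₁0 h
  -- the field automorphism is trivial
  have hσ : X.1.right = RingEquiv.refl F := by
    ext c
    have h1 : G (c • D.C v₁) = X.1.right c • G (D.C v₁) := semiLin_smul X.1.left X.1.right c _
    rw [← map_smul, hGa, hGa, smul_comm a c v₁, map_smul] at h1
    have h4 : (c - X.1.right c) • D.C (a • v₁) = 0 := by rw [sub_smul, h1, sub_self]
    rcases smul_eq_zero.1 h4 with h5 | h5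
    · exact (sub_eq_zero.1 h5).symm
    · exfalso
      apply hav₁
      apply D.C.injective
      rw [h5, map_zero]
  obtain ⟨μ, hμ⟩ := X.2
  have hμ' : ∀ x : ι → F, Q (G x) = (μ : F) * Q x := by
    intro x
    have h1 : Q (semiAdd X.1 x) = (μ : F) * X.1.right (Q x) := hμ x
    rw [h1, hσ]
    rfl
  -- `a² = μ`
  have haa : a * a = algebraMap F (QuadraticAlgebra F lam 0) (μ : F) := by
    rw [← sub_eq_zero]
    apply qa_eq_zero_of_re_sq h2 hlam D.hc
    intro e
    have h1 := hμ' (D.C (e • v₁))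
    rw [hGa, D.hQ', D.hQ', QuadraticMap.map_smul, QuadraticMap.map_smul, hQv₁] at h1
    simp only [smul_eq_mul, mul_one] at h1
    have e1 : D.c * (e * e * (a * a - algebraMap F (QuadraticAlgebra F lam 0) (μ : F)))
        = D.c * (a * a * (e * e)) - (μ : F) • (D.c * (e * e)) := by
      rw [Algebra.smul_def]
      ring
    rw [e1, QuadraticAlgebra.re_sub, QuadraticAlgebra.re_smul, h1, smul_eq_mul, sub_self]
  have hprod : a.re * a.im = 0 := by
    have h1 := congrArg QuadraticAlgebra.im haa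
    rw [QuadraticAlgebra.im_mul, QuadraticAlgebra.algebraMap_im] at h1
    have h4 : 2 * (a.re * a.im) = 0 := by linear_combination h1
    rcases mul_eq_zero.1 h4 with h5 | h5
    · exact absurd h5 h2
    · exact h5
  -- `psi X = conjAut g`
  rw [psi_eq_conjAut Q X hσ]
  set g : ↥(Cfsg.Geo.quadSimilarityGroup (F := F) ⇑Q) :=
    ⟨X.1.left, left_mem_quadSimilarityGroup Q X hσ⟩ with hg
  have hgv : ∀ v, ((g.1 : GL ι F) : Matrix ι ι F) *ᵥ v = G v := by
    intro v
    show (X.1.left : Matrix ι ι F) *ᵥ v = semiLin X.1.left X.1.right v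
    unfold semiLin
    rw [hσ]
    rfl
  rcases mul_eq_zero.1 hprod with hre | him
  · -- `a ∈ F ω`: `G = a.im • δ`
    have haeq : ∀ v : (Unit ⊕ (Fin k ⊕ Fin k)) → QuadraticAlgebra F lam 0,
        a • v = a.im • ((⟨0, 1⟩ : QuadraticAlgebra F lam 0) • v) := by
      intro v
      rw [qa_smul_decomp a v, hre, zero_smul, zero_add]
    have him0 : a.im ≠ 0 := by
      intro h
      apply ha0
      exact QuadraticAlgebra.ext hre h
    have hker : g * δ⁻¹ ∈ (conjAut ⇑Q).ker := by
      apply mem_ker_of_mem_scalars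
      rw [Cfsg.Geo.mem_scalars_iff]
      refine ⟨Units.mk0 a.im him0, ?_⟩
      apply Matrix.mulVec_injective
      funext x
      rw [Units.val_mk0, Matrix.smul_mulVec, Matrix.one_mulVec]
      show ((g.1 * (δ.1)⁻¹ : GL ι F) : Matrix ι ι F) *ᵥ x = _
      rw [Units.val_mul, ← Matrix.mulVec_mulVec, hgv]
      obtain ⟨v, hv⟩ := D.C.surjective ((((δ.1)⁻¹ : GL ι F) : Matrix ι ι F) *ᵥ x)
      rw [← hv, hGa, haeq, map_smul, ← D.hδ, hv, Matrix.mulVec_mulVec, ← Units.val_mul,
        mul_inv_cancel, Units.val_one, Matrix.one_mulVec]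
    have h4 : conjAut ⇑Q g = conjAut ⇑Q δ := by
      have h5 := MonoidHom.mem_ker.1 hker
      rw [map_mul, map_inv, mul_inv_eq_one] at h5
      exact h5
    rw [h4]
    exact Subgroup.mem_zpowers _
  · -- `a ∈ F`: `G` is a scalar
    have haeq : ∀ v : (Unit ⊕ (Fin k ⊕ Fin k)) → QuadraticAlgebra F lam 0,
        a • v = a.re • v := by
      intro v
      rw [qa_smul_decomp a v, him, zero_smul, add_zero]
    have hre0 : a.re ≠ 0 := by
      intro h
      apply ha0
      exact QuadraticAlgebra.ext h him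
    have hker : g ∈ (conjAut ⇑Q).ker := by
      apply mem_ker_of_mem_scalars
      rw [Cfsg.Geo.mem_scalars_iff]
      refine ⟨Units.mk0 a.re hre0, ?_⟩
      apply Matrix.mulVec_injective
      funext x
      rw [Units.val_mk0, Matrix.smul_mulVec, Matrix.one_mulVec, hgv]
      obtain ⟨v, rfl⟩ := D.C.surjective x
      rw [hGa, haeq, map_smul]
    rw [MonoidHom.mem_ker.1 hker]
    exact Subgroup.one_mem _

end Cfsg.Agent.Helper5.Bal
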