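import Mathlib
import Cfsg.Agent.Helper5.BalP
import Cfsg.Agent.Helper5.BalL
import Cfsg.Agent.Helper38.GRB

/-!
# Local balance for graph involutions of `PΩ⁻`, part Q: case (ii) — `x` induced by a similarity `δ`
with `δ² = lam`, `lam` a non-square equal to the multiplier of `δ`: `O_{2'}(C_A(x)) = 1`
-/

set_option autoImplicit false
set_option linter.unusedSectionVars false
set_option linter.unusedSimpArgs false

namespace Cfsg.Agent.Helper5.Bal

open Matrix QuadraticMap Module MulAction Cfsg.Agent.Helper44 Cfsg.Agent.Helper45.OmegaParity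
  Cfsg.Agent.Helper5 Cfsg.Agent.Helper5.AutO Cfsg.Agent.Helper37.Bal Cfsg.Agent.Helper12.GammaO

variable {F : Type*} [Field F] [Fintype F] {ι : Type} [Fintype ι] [DecidableEq ι]
variable {Q : QuadraticForm F (ι → F)}

set_option maxHeartbeats 1600000 in
/-- **case (ii), general form** -/
theorem core_eq_bot_of_nonsquare_gen (hodd : Odd (Fintype.card F)) (C : Ctx Q) (T : HypTriple Q)
    (hAut : Cfsg.gammaPOmega F ⇑Q = ⊤) {k : ℕ} (hk : 1 ≤ k)
    (hcard : Fintype.card ι = 2 * (2 * k + 1))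
    (A : Subgroup (MulAut (Cfsg.POmega F ⇑Q)))
    (hinn : ∀ k : Cfsg.POmega F ⇑Q, MulAut.conj k ∈ A)
    (δ : ↥(Cfsg.Geo.quadSimilarityGroup (F := F) ⇑Q)) (lam : F) (hlam : ¬ IsSquare lam)
    (hsq : ((δ.1 : GL ι F) : Matrix ι ι F) * ((δ.1 : GL ι F) : Matrix ι ι F)
      = lam • (1 : Matrix ι ι F))
    (hmul : ∀ v, Q (((δ.1 : GL ι F) : Matrix ι ι F) *ᵥ v) = lam * Q v) :
    Cfsg.pPrimeCore 2 ↥(A ⊓ Subgroup.centralizer {conjAut ⇑Q δ}) = ⊥ := by
  have h2 : (2 : F) ≠ 0 := Cfsg.Agent.Helper44.two_ne_zero_of_odd_card rfl hodd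
  have hZ : Subgroup.center (Cfsg.POmega F ⇑Q) = ⊥ :=
    center_quot_center_eq_bot (commutator_Omega_eq_top Q C.hQ C.hn)
  have hfact : Fact (∀ r : F, r ^ 2 ≠ lam + 0 * r) := ⟨fun r hr => hlam ⟨r, by
    linear_combination -hr⟩⟩
  have hlam0 : lam ≠ 0 := by
    rintro rfl
    exact hlam ⟨0, by ring⟩
  obtain ⟨c, Cc, hc, hQc, hδc⟩ := Cfsg.Agent.Helper38.GRB.exists_split_ext h2 Q C.hQ lam
    ((δ.1 : GL ι F) : Matrix ι ι F) hsq hmul k hcard
  have D : ExtData Q lam k ((δ.1 : GL ι F) : Matrix ι ι F) := ⟨c, Cc, hc, hQc, hδc⟩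
  have hn := C.hn
  have hne : Nonempty ι := by
    rw [← Fintype.card_pos_iff]
    omega
  -- the order of `x`
  have hx2 : conjAut ⇑Q δ ^ 2 = 1 := by
    rw [← map_pow]
    apply MonoidHom.mem_ker.1
    apply mem_ker_of_mem_scalars
    rw [Cfsg.Geo.mem_scalars_iff]
    refine ⟨Units.mk0 lam hlam0, ?_⟩
    rw [Units.val_mk0, _root_.sq]
    exact hsq
  have hx1 : conjAut ⇑Q δ ≠ 1 := by
    intro h
    have hker : δ ∈ (conjAut ⇑Q).ker := MonoidHom.mem_ker.2 h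
    rw [ker_conjAut Q C.hQ C.hn, Subgroup.mem_subgroupOf, Cfsg.Geo.mem_scalars_iff] at hker
    obtain ⟨d, hd⟩ := hker
    have hd' : ((δ.1 : GL ι F) : Matrix ι ι F) = (d : F) • (1 : Matrix ι ι F) := hd
    rw [hd', Matrix.smul_mul, Matrix.mul_smul, Matrix.mul_one, smul_smul] at hsq
    obtain ⟨i⟩ := hne
    have h1 := congrFun (congrFun hsq i) i
    simp only [Matrix.smul_apply, Matrix.one_apply_eq, smul_eq_mul, mul_one] at h1
    exact hlam ⟨(d : F), h1.symm⟩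
  have : Fact (Nat.Prime 2) := ⟨Nat.prime_two⟩
  have hord : orderOf (conjAut ⇑Q δ) = 2 := orderOf_eq_prime hx2 hx1
  exact pPrimeCore_eq_bot_of A hinn (conjAut ⇑Q δ) hord
    (fun y _ hyz => mem_zpowers_of_centralizes_ext δ D hodd C T hZ hAut hk y hyz)
    (fun M hMn hMc => innCent_no_normal_odd_of C T hZ
      (fun M' hM'n hM' => sq_eq_one_of_normal_ext δ D hodd C.hQ hk M' hM'n hM') M hMn hMc)

/-- **case (ii)** for the minus-type form: if `δ` is a similarity with `δ² = lam`, `lam` a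
non-square equal to the multiplier of `δ` (and `m + 1` is odd), the automorphism `x` of
`PΩ⁻_{2m+2}(q)` induced by `δ` has `O_{2'}(C_A(x)) = 1` -/
theorem core_eq_bot_of_nonsquare (hodd : Odd (Fintype.card F)) {m : ℕ} (hm : 3 ≤ m) (a b : F)
    (hab : ∀ z₁ z₂ : F, z₁ ^ 2 + a * z₁ * z₂ + b * z₂ ^ 2 = 0 → z₁ = 0 ∧ z₂ = 0)
    (A : Subgroup (MulAut (Cfsg.POmega F (Cfsg.quadFormMinus m F a b))))
    (hinn : ∀ k : Cfsg.POmega F (Cfsg.quadFormMinus m F a b), MulAut.conj k ∈ A)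
    (δ : ↥(Cfsg.Geo.quadSimilarityGroup (F := F) ⇑(minusForm m F a b)))
    (hmo : Odd (m + 1)) (lam : F) (hlam : ¬ IsSquare lam)
    (hsq : ((δ.1 : GL ((Fin m ⊕ Fin m) ⊕ Fin 2) F) :
        Matrix ((Fin m ⊕ Fin m) ⊕ Fin 2) ((Fin m ⊕ Fin m) ⊕ Fin 2) F)
      * ((δ.1 : GL ((Fin m ⊕ Fin m) ⊕ Fin 2) F) :
        Matrix ((Fin m ⊕ Fin m) ⊕ Fin 2) ((Fin m ⊕ Fin m) ⊕ Fin 2) F)
      = lam • (1 : Matrix ((Fin m ⊕ Fin m) ⊕ Fin 2) ((Fin m ⊕ Fin m) ⊕ Fin 2) F))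
    (hmul : ∀ v, minusForm m F a b (((δ.1 : GL ((Fin m ⊕ Fin m) ⊕ Fin 2) F) :
        Matrix ((Fin m ⊕ Fin m) ⊕ Fin 2) ((Fin m ⊕ Fin m) ⊕ Fin 2) F) *ᵥ v)
      = lam * minusForm m F a b v) :
    Cfsg.pPrimeCore 2 ↥(A ⊓ Subgroup.centralizer {conjAut ⇑(minusForm m F a b) δ}) = ⊥ := by
  have T : HypTriple (minusForm m F a b) :=
    HypTriple.ofPairs (minusForm m F a b) (fun i => Sum.inl (Sum.inl (Fin.castLE hm i)))
      (fun i => Sum.inl (Sum.inr (Fin.castLE hm i)))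
      (fun i j hij => Fin.castLE_injective hm (Sum.inr_injective (Sum.inl_injective hij)))
      (fun i j => by simp)
      (fun i => isHypPair_minusForm m a b (Fin.castLE hm i))
  have C : AutO.Ctx (minusForm m F a b) :=
    ⟨nondegenerate_minusForm_of_aniso m a b hab, by simp; omega⟩
  have hAut : Cfsg.gammaPOmega F ⇑(minusForm m F a b) = ⊤ := Cfsg.Agent.S2696.result hm a b hab
  obtain ⟨j, hj⟩ := hmo
  have hcard : Fintype.card ((Fin m ⊕ Fin m) ⊕ Fin 2) = 2 * (2 * j + 1) := by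
    rw [Fintype.card_sum, Fintype.card_sum, Fintype.card_fin, Fintype.card_fin]
    omega
  exact core_eq_bot_of_nonsquare_gen hodd C T hAut (k := j) (by omega) hcard A hinn δ lam hlam
    hsq hmul

end Cfsg.Agent.Helper5.Bal
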