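import Mathlib

/-!
# Sizes of conjugacy classes under isomorphisms, surjections and quotients
-/

set_option autoImplicit false

namespace Cfsg.Agent.Helper5.ConjCard

variable {G H : Type*} [Group G] [Group H]

theorem conjugatesOf_map_surj (f : G →* H) (hf : Function.Surjective f) (x : G) :
    conjugatesOf (f x) = f '' conjugatesOf x := by
  ext y
  constructor
  · intro hy
    rw [conjugatesOf, Set.mem_setOf_eq, isConj_iff] at hy
    obtain ⟨c, rfl⟩ := hy
    obtain ⟨c₀, rfl⟩ := hf c
    refine ⟨c₀ * x * c₀⁻¹, ?_, by simp⟩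
    rw [conjugatesOf, Set.mem_setOf_eq, isConj_iff]
    exact ⟨c₀, rfl⟩
  · rintro ⟨z, hz, rfl⟩
    rw [conjugatesOf, Set.mem_setOf_eq, isConj_iff] at hz ⊢
    obtain ⟨c, rfl⟩ := hz
    exact ⟨f c, by simp⟩

theorem ncard_conjugatesOf_map_le [Finite G] (f : G →* H) (hf : Function.Surjective f) (x : G) :
    (conjugatesOf (f x)).ncard ≤ (conjugatesOf x).ncard := by
  rw [conjugatesOf_map_surj f hf]
  exact Set.ncard_image_le (Set.toFinite _)

theorem ncard_conjugatesOf_equiv (φ : G ≃* H) (x : G) :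
    (conjugatesOf (φ x)).ncard = (conjugatesOf x).ncard := by
  have := conjugatesOf_map_surj φ.toMonoidHom φ.surjective x
  rw [MulEquiv.coe_toMonoidHom] at this
  rw [this]
  exact Set.ncard_image_of_injective _ φ.injective

theorem ncard_conjugatesOf_le_quot [Finite G] (N : Subgroup G) [N.Normal] (x : G) :
    (conjugatesOf x).ncard ≤ Nat.card N * (conjugatesOf (x : G ⧸ N)).ncard := by
  have hsub : conjugatesOf x ⊆ (QuotientGroup.mk : G → G ⧸ N) ⁻¹' conjugatesOf (x : G ⧸ N) := by
    intro y hy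
    rw [conjugatesOf, Set.mem_setOf_eq, isConj_iff] at hy
    obtain ⟨c, rfl⟩ := hy
    rw [Set.mem_preimage, conjugatesOf, Set.mem_setOf_eq, isConj_iff]
    exact ⟨(c : G ⧸ N), by simp⟩
  refine (Set.ncard_le_ncard hsub (Set.toFinite _)).trans (le_of_eq ?_)
  rw [← Nat.card_coe_set_eq,
    Nat.card_congr (QuotientGroup.preimageMkEquivSubgroupProdSet N (conjugatesOf (x : G ⧸ N))),
    Nat.card_prod, Nat.card_coe_set_eq]

theorem ncard_conjugatesOf_mul_card_centralizer [Finite G] (x : G) :
    (conjugatesOf x).ncard * Nat.card (Subgroup.centralizer {x}) = Nat.card G := by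
  have h1 := Subgroup.index_mul_card (MulAction.stabilizer (ConjAct G) x)
  rw [MulAction.index_stabilizer, ConjAct.orbit_eq_carrier_conjClasses,
    ← Subgroup.nat_card_centralizer_nat_card_stabilizer] at h1
  exact h1

end Cfsg.Agent.Helper5.ConjCard
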