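import Mathlib
import Cfsg.Agent.Helper5.CosetJ

/-!
# Field and graph-field automorphisms of `PΩ⁺` come from elements of `ΓO` of order `r`
-/

set_option autoImplicit false
set_option linter.unusedSectionVars false
set_option linter.style.haveILetI false

namespace Cfsg.Agent.Helper5.Coset

open Matrix Module QuadraticMap Cfsg.Agent.Helper12.GammaO Cfsg.Agent.Helper44
open Cfsg.Agent.Helper14.AutPSp Cfsg.Agent.Helper37.Lang Cfsg.Agent.Helper5.LangO

section gam

variable {F : Type*} [Field F] {ι : Type} [Fintype ι] [DecidableEq ι]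

/-- powers of a pair whose matrix is fixed by the field automorphism -/
theorem pow_inl_inr (ρ : GL ι F) (σ : F ≃+* F) (h : fieldAct σ ρ = ρ) (n : ℕ) :
    ((SemidirectProduct.inl ρ * SemidirectProduct.inr σ : Gam ι F)) ^ n
      = SemidirectProduct.inl (ρ ^ n) * SemidirectProduct.inr (σ ^ n) := by
  have hc : Commute (SemidirectProduct.inl ρ : Gam ι F) (SemidirectProduct.inr σ) := by
    have h1 := SemidirectProduct.inl_aut (φ := (fieldAct : (F ≃+* F) →* MulAut (GL ι F))) σ ρ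
    rw [h] at h1
    show (SemidirectProduct.inl ρ : Gam ι F) * SemidirectProduct.inr σ
      = SemidirectProduct.inr σ * SemidirectProduct.inl ρ
    conv_lhs => rw [h1]
    rw [mul_assoc, ← map_mul, inv_mul_cancel, map_one, mul_one]
  rw [hc.mul_pow, map_pow, map_pow]

theorem eq_inl_mul_inr (z : Gam ι F) :
    z = SemidirectProduct.inl z.left * SemidirectProduct.inr z.right := by
  apply SemidirectProduct.ext
  · rw [SemidirectProduct.mul_left, SemidirectProduct.left_inl, SemidirectProduct.right_inl,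
      SemidirectProduct.left_inr, map_one, mul_one]
  · rw [SemidirectProduct.mul_right, SemidirectProduct.right_inl, SemidirectProduct.right_inr,
      one_mul]

end gam

variable {F : Type*} [Field F] [Fintype F]

/-- the common shape of the two cases: a pair `(ρ, σ)` with `ρ` an involution (or `1`) fixed by
`σ` -/
theorem exists_std_of_pair {k : ℕ} (hk : 7 ≤ 2 * (k + 1))
    (htop : Cfsg.gammaPOmega F ⇑(plusForm (k + 1) F) = ⊤)
    (x α : MulAut (Cfsg.POmega F ⇑(plusForm (k + 1) F))) {r : ℕ} (hr : r.Prime)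
    (hxr : orderOf x = r) (s₂ : ↥(GamO ⇑(plusForm (k + 1) F)))
    (hs₂ : α * x * α⁻¹ = psi ⇑(plusForm (k + 1) F) s₂)
    (hσ1 : s₂.1.right ≠ 1) (hfix : fieldAct s₂.1.right s₂.1.left = s₂.1.left)
    (hsq : s₂.1.left * s₂.1.left = 1)
    (hcase : s₂.1.left = 1 ∨ ¬ Cfsg.PreservesSingularClasses (Cfsg.quadFormPlus (k + 1) F)
      (s₂.1.left : Matrix (Fin (k + 1) ⊕ Fin (k + 1)) (Fin (k + 1) ⊕ Fin (k + 1)) F)) :
    ∃ s₃ : ↥(GamO ⇑(plusForm (k + 1) F)), psi ⇑(plusForm (k + 1) F) s₃ = x ∧ s₃ ^ r = 1 ∧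
      orderOf s₃.1.right = r := by
  have hQ := nondegenerate_plusForm (F := F) (k + 1)
  have hcard : Fintype.card (Fin (k + 1) ⊕ Fin (k + 1)) = 2 * (k + 1) := by simp; ring
  have hn : 7 ≤ Fintype.card (Fin (k + 1) ⊕ Fin (k + 1)) := by rw [hcard]; exact hk
  obtain ⟨σ, hσdef⟩ : ∃ σ : F ≃+* F, σ = s₂.1.right := ⟨_, rfl⟩
  obtain ⟨ρ, hρdef⟩ : ∃ ρ : GL (Fin (k + 1) ⊕ Fin (k + 1)) F, ρ = s₂.1.left := ⟨_, rfl⟩
  rw [← hσdef, ← hρdef] at hfix
  rw [← hρdef] at hsq hcase
  rw [← hσdef] at hσ1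
  have hs₂eq : s₂.1 = SemidirectProduct.inl ρ * SemidirectProduct.inr σ := by
    rw [hσdef, hρdef]
    exact eq_inl_mul_inr s₂.1
  have hpows : ∀ n : ℕ, (s₂ ^ n).1 = SemidirectProduct.inl (ρ ^ n) * SemidirectProduct.inr (σ ^ n) := by
    intro n
    have : (s₂ ^ n).1 = s₂.1 ^ n := rfl
    rw [this, hs₂eq]
    exact pow_inl_inr ρ σ hfix n
  -- the `r`-th power acts trivially
  have hpow : (psi ⇑(plusForm (k + 1) F) s₂) ^ r = 1 := by
    rw [← hs₂]
    exact pow_conj_eq_one' α x hxr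
  have hker : s₂ ^ r ∈ (psi ⇑(plusForm (k + 1) F)).ker := by
    rw [MonoidHom.mem_ker, map_pow]
    exact hpow
  obtain ⟨hk1, hk2⟩ := mem_ker_psi (plusForm (k + 1) F) hQ hn _ hker
  have hr1 : (s₂ ^ r).1.right = σ ^ r := by
    rw [hpows r, SemidirectProduct.mul_right, SemidirectProduct.right_inl,
      SemidirectProduct.right_inr, one_mul]
  have hl1 : (s₂ ^ r).1.left = ρ ^ r := by
    rw [hpows r, SemidirectProduct.mul_left, SemidirectProduct.left_inl,
      SemidirectProduct.right_inl, SemidirectProduct.left_inr, map_one, mul_one]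
  have hσr : σ ^ r = 1 := by
    rw [← hr1, hk1]
    rfl
  have hσord : orderOf σ = r := by
    haveI := Fact.mk hr
    exact orderOf_eq_prime hσr hσ1
  -- the matrix part
  have hρr : ρ ^ r = 1 := by
    rcases hcase with h1 | hnp
    · rw [h1, one_pow]
    · rcases hr.eq_two_or_odd' with h2 | hodd
      · rw [h2, pow_two]
        exact hsq
      · exfalso
        obtain ⟨n, hn2⟩ := hodd
        have hρodd : ρ ^ r = ρ := by
          rw [hn2, pow_succ, pow_mul, pow_two, hsq, one_pow, one_mul]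
        rw [hl1, hρodd] at hk2
        obtain ⟨ν, hν⟩ := (Cfsg.Geo.mem_scalars_iff _).1 hk2
        apply hnp
        have e : (ρ : Matrix (Fin (k + 1) ⊕ Fin (k + 1)) (Fin (k + 1) ⊕ Fin (k + 1)) F)
            = ((Matrix.GeneralLinearGroup.scalar (Fin (k + 1) ⊕ Fin (k + 1)) ν :
              GL (Fin (k + 1) ⊕ Fin (k + 1)) F) :
              Matrix (Fin (k + 1) ⊕ Fin (k + 1)) (Fin (k + 1) ⊕ Fin (k + 1)) F) := by
          apply Matrix.mulVec_injective
          funext v
          rw [hν, Matrix.smul_mulVec, Matrix.one_mulVec, scalar_mulVec]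
        rw [e]
        exact pres_scalar ν
  have hs₂r : s₂ ^ r = 1 := by
    apply Subtype.ext
    rw [hpows r, hρr, hσr, map_one, map_one, one_mul]
    rfl
  -- un-conjugate
  have hsurj : ∀ β : MulAut (Cfsg.POmega F ⇑(plusForm (k + 1) F)),
      ∃ a : ↥(GamO ⇑(plusForm (k + 1) F)), psi ⇑(plusForm (k + 1) F) a = β := by
    intro β
    have : β ∈ (psi ⇑(plusForm (k + 1) F)).range := by
      rw [← gammaPOmega_eq_range, htop]
      exact Subgroup.mem_top β
    exact this
  obtain ⟨a, ha⟩ := hsurj α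
  refine ⟨a⁻¹ * s₂ * a, ?_, ?_, ?_⟩
  · rw [map_mul, map_mul, map_inv, ha, ← hs₂]
    group
  · have e : a⁻¹ * s₂ * a = a⁻¹ * s₂ * a⁻¹⁻¹ := by rw [inv_inv]
    rw [e, conj_pow, hs₂r, mul_one, inv_inv, inv_mul_cancel]
  · have e : (a⁻¹ * s₂ * a).1.right = a.1.right⁻¹ * σ * (a.1.right⁻¹)⁻¹ := by
      rw [inv_inv, hσdef]
      rfl
    rw [e]
    have h3 := (MulAut.conj (a.1.right⁻¹)).orderOf_eq σ
    rw [← hσord, ← h3]
    rfl

end Cfsg.Agent.Helper5.Coset
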