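import Mathlib
import Cfsg.Agent.Helper5.CosetK

/-!
# The coset theorem for `PΩ⁺_{2m}(F)`, field and graph-field automorphisms of prime order
-/

set_option autoImplicit false
set_option linter.unusedSectionVars false
set_option linter.style.haveILetI false

namespace Cfsg.Agent.Helper5.Coset

open Matrix Module QuadraticMap Cfsg.Agent.Helper12.GammaO Cfsg.Agent.Helper44
open Cfsg.Agent.Helper14.AutPSp Cfsg.Agent.Helper37.Lang Cfsg.Agent.Helper5.LangO

variable {F : Type*} [Field F] [Fintype F]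

theorem one_isSemisimilarityPair (m : ℕ) (σ : F ≃+* F) :
    Cfsg.IsSemisimilarityPair ⇑(plusForm m F) (1 : GL (Fin m ⊕ Fin m) F) σ := by
  refine ⟨1, fun v => ?_⟩
  rw [Units.val_one, Matrix.one_mulVec, Units.val_one, one_mul]
  exact quadFormPlus_map σ v

/-- the standard field automorphism is induced by `(1, σ)` -/
theorem fieldAut_eq_psi (m : ℕ) (σ : F ≃+* F)
    (φ : MulAut (Cfsg.POmega F ⇑(plusForm m F)))
    (hφ : Cfsg.IsFieldAutPOmegaOf (Cfsg.quadFormPlus m F) σ φ) :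
    φ = psi ⇑(plusForm m F) (mkG (plusForm m F) 1 σ (one_isSemisimilarityPair m σ)) := by
  apply (isInduced_iff ⇑(plusForm m F) _ φ).1
  intro t t' htt'
  apply hφ
  rw [mkG_left, mkG_right, inv_one, Units.val_one, Matrix.one_mul, Matrix.mul_one] at htt'
  exact htt'

/-- a field or graph-field automorphism of prime order comes from an element of `ΓO` of that order -/
theorem exists_std_plus {k : ℕ} (hk : 7 ≤ 2 * (k + 1))
    (htop : Cfsg.gammaPOmega F ⇑(plusForm (k + 1) F) = ⊤)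
    (x : MulAut (Cfsg.POmega F ⇑(plusForm (k + 1) F)))
    (hx : Cfsg.IsFieldAutClassPOmega (Cfsg.quadFormPlus (k + 1) F) x
      ∨ Cfsg.IsGraphFieldAutClassPOmegaPlus (k + 1) x) {r : ℕ} (hr : r.Prime)
    (hxr : orderOf x = r) :
    ∃ s₃ : ↥(GamO ⇑(plusForm (k + 1) F)), psi ⇑(plusForm (k + 1) F) s₃ = x ∧ s₃ ^ r = 1 ∧
      orderOf s₃.1.right = r := by
  rcases hx with ⟨α, φ, σ, hσ1, hφ, hαx⟩ | ⟨α, γ, φ, σ, v, rr, hσ1, hv, hσv, hrr, hγ, hφ, hαx⟩
  · -- field automorphisms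
    refine exists_std_of_pair hk htop x α hr hxr
      (mkG (plusForm (k + 1) F) 1 σ (one_isSemisimilarityPair (k + 1) σ)) ?_ hσ1 ?_ ?_ (Or.inl rfl)
    · exact hαx.trans (fieldAut_eq_psi (k + 1) σ φ hφ)
    · rw [mkG_left, map_one]
    · rw [mkG_left, one_mul]
  · -- graph-field automorphisms
    have hv' : plusForm (k + 1) F v ≠ 0 := hv
    have hrr' : (rr : Matrix (Fin (k + 1) ⊕ Fin (k + 1)) (Fin (k + 1) ⊕ Fin (k + 1)) F)
        = Cfsg.reflectionMatrix (⇑(plusForm (k + 1) F)) v := hrr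
    have hrrGL : rr = Helper13.reflectionGL (plusForm (k + 1) F) v hv' := by
      apply Units.ext
      rw [hrr', Helper13.coe_reflectionGL]
    have hγmem : Cfsg.IsSemisimilarityPair ⇑(plusForm (k + 1) F) rr (RingEquiv.refl F) := by
      refine ⟨1, fun w => ?_⟩
      rw [Units.val_one, one_mul, hrrGL]
      exact (Helper13.mem_isometryGroup_iff _ _).1
        (Helper13.reflectionGL_mem (plusForm (k + 1) F) v hv') w
    have hγeq : γ = psi ⇑(plusForm (k + 1) F) (mkG (plusForm (k + 1) F) rr (RingEquiv.refl F) hγmem) :=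
      (isInduced_iff ⇑(plusForm (k + 1) F)
        (mkG (plusForm (k + 1) F) rr (RingEquiv.refl F) hγmem) γ).1 hγ
    have hφeq := fieldAut_eq_psi (k + 1) σ φ hφ
    obtain ⟨s₂, hs₂def⟩ : ∃ s₂ : ↥(GamO ⇑(plusForm (k + 1) F)),
        s₂ = mkG (plusForm (k + 1) F) rr (RingEquiv.refl F) hγmem
          * mkG (plusForm (k + 1) F) 1 σ (one_isSemisimilarityPair (k + 1) σ) := ⟨_, rfl⟩
    have hl : s₂.1.left = rr := by
      rw [hs₂def]
      show ((mkG (plusForm (k + 1) F) rr (RingEquiv.refl F) hγmem).1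
        * (mkG (plusForm (k + 1) F) 1 σ (one_isSemisimilarityPair (k + 1) σ)).1).left = rr
      rw [SemidirectProduct.mul_left, mkG_left, mkG_left, map_one, mul_one]
    have hrt : s₂.1.right = σ := by
      rw [hs₂def]
      show ((mkG (plusForm (k + 1) F) rr (RingEquiv.refl F) hγmem).1
        * (mkG (plusForm (k + 1) F) 1 σ (one_isSemisimilarityPair (k + 1) σ)).1).right = σ
      rw [SemidirectProduct.mul_right, mkG_right, mkG_right]
      exact one_mul σ
    have hmapσ : (rr : Matrix (Fin (k + 1) ⊕ Fin (k + 1)) (Fin (k + 1) ⊕ Fin (k + 1)) F).map σ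
        = (rr : Matrix (Fin (k + 1) ⊕ Fin (k + 1)) (Fin (k + 1) ⊕ Fin (k + 1)) F) := by
      have h := reflection_comm (Q := plusForm (k + 1) F)
        (g := (1 : Matrix (Fin (k + 1) ⊕ Fin (k + 1)) (Fin (k + 1) ⊕ Fin (k + 1)) F)) (σ := σ)
        (c := 1)
        (fun w => by rw [Matrix.one_mulVec, one_mul]; exact quadFormPlus_map σ w) v
        (by rw [Matrix.one_mulVec]; funext i; exact hσv i) hv'
      rw [Matrix.one_mul, Matrix.mul_one, ← hrr'] at h
      exact h
    refine exists_std_of_pair hk htop x α hr hxr s₂ ?_ ?_ ?_ ?_ ?_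
    · have e : γ * φ = psi ⇑(plusForm (k + 1) F) s₂ := by
        rw [hs₂def, map_mul, ← hγeq, ← hφeq]
        rfl
      exact hαx.trans e
    · rw [hrt]
      exact hσ1
    · rw [hl, hrt]
      apply Units.ext
      rw [fieldAct_apply, coe_glMap]
      exact hmapσ
    · rw [hl, hrrGL]
      have h := refl_mul_self (plusForm (k + 1) F) v hv'
      have h2 := congrArg (fun z : ↥(Cfsg.isometryGroup F ⇑(plusForm (k + 1) F)) =>
        (z : GL (Fin (k + 1) ⊕ Fin (k + 1)) F)) h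
      exact h2
    · right
      rw [hl, hrrGL]
      exact not_pres_refl v hv'

/-- **the coset theorem for `PΩ⁺`**, granted `Aut = PΓO` -/
theorem main_plus {m : ℕ} (hm : 5 ≤ m) (htop : Cfsg.gammaPOmega F (Cfsg.quadFormPlus m F) = ⊤)
    (x δ : MulAut (Cfsg.POmega F (Cfsg.quadFormPlus m F)))
    (hx : Cfsg.IsFieldAutClassPOmega (Cfsg.quadFormPlus m F) x
      ∨ Cfsg.IsGraphFieldAutClassPOmegaPlus m x) {r : ℕ} (hr : r.Prime) (hxr : orderOf x = r)
    (hδ : δ ∈ Cfsg.inndiagPOmegaPlus m F) :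
    orderOf (δ * x) = r ↔ Cfsg.IsConjUnder (Cfsg.inndiagPOmegaPlus m F) x (δ * x) := by
  obtain ⟨k, rfl⟩ : ∃ k, m = k + 1 := ⟨m - 1, by omega⟩
  have hk : 7 ≤ 2 * (k + 1) := by omega
  constructor
  · intro hord
    obtain ⟨s₃, hs₃, hs₃r, hσ⟩ := exists_std_plus hk htop x hx hr hxr
    obtain ⟨d, hdr, hdp, hd⟩ := exists_of_mem_inndiagPlus hδ
    have hpow : (δ * x) ^ r = 1 := by
      rw [← hord]
      exact pow_orderOf_eq_one _
    have key := coset_conj_plus hk x δ hr s₃ hs₃ hs₃r hσ d hdr hdp hd hpow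
    obtain ⟨H, hHr, hHp, hconj⟩ := key
    exact ⟨psi ⇑(plusForm (k + 1) F) H, psi_mem_inndiagPlus H hHr hHp, hconj⟩
  · rintro ⟨h, -, heq⟩
    rw [heq, ← hxr]
    exact (MulAut.conj h).orderOf_eq x

end Cfsg.Agent.Helper5.Coset
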