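import Mathlib

set_option autoImplicit false

namespace Cfsg.Agent.Helper5

theorem gcd_four_of_mod (n r : ℕ) (h : n % 4 = r) : Nat.gcd 4 n = Nat.gcd r 4 := by
  rw [Nat.gcd_rec, h]

theorem gcd_four_odd (n : ℕ) (h : n % 4 = 1 ∨ n % 4 = 3) : Nat.gcd 4 n = 1 := by
  rcases h with h | h <;> rw [gcd_four_of_mod _ _ h] <;> norm_num

theorem gcd_four_zero (n : ℕ) (h : n % 4 = 0) : Nat.gcd 4 n = 4 := by
  rw [gcd_four_of_mod _ _ h]; norm_num

theorem gcd_four_two (n : ℕ) (h : n % 4 = 2) : Nat.gcd 4 n = 2 := by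
  rw [gcd_four_of_mod _ _ h]; norm_num

end Cfsg.Agent.Helper5
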