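import Mathlib
import Cfsg.Agent.Helper96.KleinField
import Cfsg.Agent.Helper45.UnitaryOrth
import Cfsg.Agent.Helper45.GUBasic

/-!
# The Klein correspondence restricted to the unitary group

For a unitary matrix `g` of determinant one over `K ⊇ F` (quadratic extension of finite fields),
the second compound `C2 g` satisfies `σ(C2 g)(I, J) = C2 g (swap I) (swap J)`; hence it preserves
the `F`-form `{x | x (inr i) = σ (x (inl i))}` of `K⁶`, on which the Klein quadric restricts to a
sum of three norm forms.
-/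

set_option autoImplicit false

namespace Cfsg.Agent.Helper5

open Matrix Cfsg.Agent.Helper96.Klein Cfsg.Agent.Helper45

section ring
variable {R : Type*} [CommRing R]

theorem C2_transpose (A : Matrix (Fin 4) (Fin 4) R) : C2 Aᵀ = (C2 A)ᵀ := by
  ext I J
  simp only [C2, Matrix.transpose_apply]
  ring

theorem C2_map {R' : Type*} [CommRing R'] (f : R →+* R') (A : Matrix (Fin 4) (Fin 4) R) :
    C2 (A.map f) = (C2 A).map f := by
  ext I J
  simp [C2]

set_option maxHeartbeats 1600000 in
/-- the Klein form is preserved up to the determinant: matrix version -/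
theorem C2_transpose_mul_submatrix (A : Matrix (Fin 4) (Fin 4) R) :
    (C2 A)ᵀ * (C2 A).submatrix Sum.swap Sum.swap = D A • (1 : Matrix J6 J6 R) := by
  ext I J
  rcases I with I | I <;> rcases J with J | J <;> fin_cases I <;> fin_cases J <;>
    simp [Matrix.mul_apply, Fintype.sum_sum_type, Fin.sum_univ_three, D, C2, pr] <;> ring

end ring

section star
variable {F K : Type*} [Field F] [Fintype F] [Field K] [Algebra F K]

/-- **Hodge star relation** for unitary matrices of determinant one -/
theorem C2_map_frob (g : Matrix (Fin 4) (Fin 4) K)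
    (hg : ∀ u v, Cfsg.hermForm 4 K (Fintype.card F) (g *ᵥ u) (g *ᵥ v)
      = Cfsg.hermForm 4 K (Fintype.card F) u v) (hdet : g.det = 1) :
    (C2 g).map (frob F K) = (C2 g).submatrix Sum.swap Sum.swap := by
  have hbar : ∀ x : K, ((frob F K : K →ₐ[F] K) : K →+* K) x = x ^ Fintype.card F := fun x => rfl
  have h1 : gᵀ * g.map ((frob F K : K →ₐ[F] K) : K →+* K) = 1 := by
    apply GU.unitary_of_herm
    intro u v
    rw [← GU.hermForm_eq 4 _ hbar, ← GU.hermForm_eq 4 _ hbar]
    exact hg u v
  have h2 : (C2 g)ᵀ * (C2 g).map ((frob F K : K →ₐ[F] K) : K →+* K) = 1 := by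
    rw [← C2_transpose, ← C2_map, ← C2_mul, h1, C2_one]
  have h3 : (C2 g)ᵀ * (C2 g).submatrix Sum.swap Sum.swap = 1 := by
    rw [C2_transpose_mul_submatrix, D_eq_det, hdet, one_smul]
  have h4 : (C2 g).map ((frob F K : K →ₐ[F] K) : K →+* K) * (C2 g)ᵀ = 1 :=
    mul_eq_one_comm.1 h2
  calc (C2 g).map (frob F K)
      = (C2 g).map ((frob F K : K →ₐ[F] K) : K →+* K)
          * ((C2 g)ᵀ * (C2 g).submatrix Sum.swap Sum.swap) := by
        rw [h3, Matrix.mul_one]; rfl
    _ = ((C2 g).map ((frob F K : K →ₐ[F] K) : K →+* K) * (C2 g)ᵀ)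
          * (C2 g).submatrix Sum.swap Sum.swap := (Matrix.mul_assoc _ _ _).symm
    _ = (C2 g).submatrix Sum.swap Sum.swap := by rw [h4, Matrix.one_mul]

end star

end Cfsg.Agent.Helper5
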