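import Mathlib
import Cfsg.Agent.Helper5.BalO

/-!
# No non-trivial normal subgroup of odd order in `PGO(Q)` (`q` odd), part a: the general argument

If the isometry group is primitive on the singular points and their number is even, a normal
subgroup of odd order of `PGO(Q)` is trivial.
-/

set_option autoImplicit false
set_option linter.unusedSectionVars false
set_option linter.unusedSimpArgs false

namespace Cfsg.Agent.Helper5.NC

open Matrix QuadraticMap Module MulAction Cfsg.Agent.Helper44 Cfsg.Agent.Helper45.OmegaParity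
  Cfsg.Agent.Helper5 Cfsg.Agent.Helper5.Bal
open scoped LinearAlgebra.Projectivization Pointwise

variable {F : Type*} [Field F] [Fintype F] {ι : Type} [Fintype ι] [DecidableEq ι]
variable (Q : QuadraticForm F (ι → F))

/-- a normal subgroup `N` of a group `H` of isometries acting primitively on an even number of
singular points, each element of which has an odd power fixing all singular points, fixes all
singular points -/
theorem smul_eq_of_normal_of_odd_gen (H : Subgroup (Cfsg.isometryGroup F ⇑Q))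
    (hprim : IsPreprimitive H (SingPt Q)) (heven : Even (Nat.card (SingPt Q)))
    (N : Subgroup ↥H) [N.Normal]
    (hN : ∀ g ∈ N, ∃ r : ℕ, Odd r ∧ ∀ p : SingPt Q, (g ^ r) • p = p) :
    ∀ g ∈ N, ∀ p : SingPt Q, g • p = p := by
  have hq := hprim.isQuasiPreprimitive
  by_contra hcon
  push Not at hcon
  obtain ⟨g₀, hg₀, p₀, hp₀⟩ := hcon
  have hfix : fixedPoints (↥N) (SingPt Q) ≠ Set.univ := by
    intro h
    have : p₀ ∈ fixedPoints (↥N) (SingPt Q) := by rw [h]; trivial
    exact hp₀ (this ⟨g₀, hg₀⟩)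
  have htr : IsPretransitive (↥N) (SingPt Q) := hq.isPretransitive_of_normal hfix
  obtain ⟨g, hg⟩ := exists_odd_pow_moves (N := ↥N) (X := SingPt Q) heven p₀
  obtain ⟨r, hr, hfixr⟩ := hN g.1 g.2
  obtain ⟨p, hp⟩ := hg r hr
  exact hp (hfixr p)

/-- an invertible matrix commuting with all Eichler transformations is a scalar (odd
characteristic, dimension at least three) -/
theorem scalar_of_commute_eichler_GL (h2 : (2 : F) ≠ 0)
    (hQ : (QuadraticMap.polarBilin Q).Nondegenerate) (h3 : 3 ≤ Fintype.card ι) (g : GL ι F)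
    (hg : ∀ u w : ι → F, Q u = 0 → polar ⇑Q u w = 0 →
      g * ((eichlerO Q u w).1 : GL ι F) = ((eichlerO Q u w).1 : GL ι F) * g) :
    g ∈ Cfsg.Geo.scalars ι F := by
  set G : (ι → F) →+ (ι → F) := ((g : Matrix ι ι F).mulVecLin).toAddMonoidHom with hG
  have hGv : ∀ v, G v = (g : Matrix ι ι F) *ᵥ v := fun v => rfl
  have hcomm : ∀ u w : ι → F, Q u = 0 → polar ⇑Q u w = 0 → ∀ x,
      G (Helper14.eichler Q u w x) = Helper14.eichler Q u w (G x) := by
    intro u w hu huw x
    have e : ∀ z, Helper14.eichler Q u w z = ((eichlerO Q u w).1 : Matrix ι ι F) *ᵥ z := by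
      intro z
      rw [← lin_apply, lin_eichlerO Q hu huw, Helper14.eichler_apply]
      simp only [polarBilin_apply_apply]
    rw [e, e, hGv, hGv, Matrix.mulVec_mulVec, Matrix.mulVec_mulVec, ← Units.val_mul,
      ← Units.val_mul, hg u w hu huw]
  obtain ⟨a, ha⟩ : ∃ a : F, ∀ x, G x = a • x := by
    obtain ⟨u, hu0, hu⟩ := Cfsg.Agent.Helper44.exists_singular Q
      (by rw [Module.finrank_fintype_fun_eq_card]; exact h3)
    obtain ⟨f, hf, huf⟩ := exists_hyperbolic_partner Q (fun x hx => hQ.1 x hx) u hu0 hu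
    obtain ⟨w₀, hw₀, hw₀s⟩ := AutO.exists_ne_zero_orth Q (![u, f] : Fin 2 → (ι → F)) (by omega)
    have hw₀u : polar ⇑Q u w₀ = 0 := by rw [QuadraticMap.polar_comm]; exact hw₀s 0
    have hw₀f : polar ⇑Q f w₀ = 0 := by rw [QuadraticMap.polar_comm]; exact hw₀s 1
    obtain ⟨a, ha⟩ := smul_of_eigen Q h2 G ⊤ hu hf huf
      Submodule.mem_top Submodule.mem_top Submodule.mem_top hw₀u hw₀f hw₀ (by
        intro s _ hs
        by_cases hs0 : s = 0
        · refine ⟨0, fun c => ?_⟩
          rw [hs0, smul_zero, smul_zero, map_zero]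
        obtain ⟨w, hsw, hQw⟩ := exists_perp_nonsingular_of_singular Q hQ h3 hs0 hs
        obtain ⟨x₀, hx₀⟩ := exists_polar_ne_zero Q hQ hs0
        apply smul_of_commute_eichler Q h2 G hQw hx₀
        intro c x
        apply hcomm s (c • w) hs
        rw [QuadraticMap.polar_smul_right, hsw, smul_zero])
    exact ⟨a, fun x => ha x Submodule.mem_top⟩
  have ha0 : a ≠ 0 := by
    rintro rfl
    obtain ⟨u, hu0, hu⟩ := Cfsg.Agent.Helper44.exists_singular Q
      (by rw [Module.finrank_fintype_fun_eq_card]; exact h3)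
    have h1 := ha u
    rw [zero_smul, hGv] at h1
    apply hu0
    have h4 : ((g⁻¹ : GL ι F) : Matrix ι ι F) *ᵥ ((g : Matrix ι ι F) *ᵥ u) = u := by
      rw [Matrix.mulVec_mulVec, ← Units.val_mul, inv_mul_cancel, Units.val_one,
        Matrix.one_mulVec]
    rw [h1, Matrix.mulVec_zero] at h4
    exact h4.symm
  rw [Cfsg.Geo.mem_scalars_iff]
  refine ⟨Units.mk0 a ha0, ?_⟩
  apply Matrix.mulVec_injective
  funext x
  rw [Units.val_mk0, Matrix.smul_mulVec, Matrix.one_mulVec]
  exact ha x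

set_option maxHeartbeats 1600000 in
/-- **the general argument**: if `O(Q)` is primitive on the singular points and their number is
even, `PGO(Q)` has no non-trivial normal subgroup of odd order -/
theorem noNC_PGO_gen (hodd : Odd (Fintype.card F))
    (hQ : (QuadraticMap.polarBilin Q).Nondegenerate) (h3 : 3 ≤ Fintype.card ι)
    (hprim : IsPreprimitive ↥(⊤ : Subgroup (Cfsg.isometryGroup F ⇑Q)) (SingPt Q))
    (heven : Even (Nat.card (SingPt Q)))
    (N : Subgroup (Cfsg.PGO F ⇑Q)) (hN : N.Normal) (hc : (Nat.card ↥N).Coprime 2) : N = ⊥ := by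
  classical
  have h2 : (2 : F) ≠ 0 := Cfsg.Agent.Helper44.two_ne_zero_of_odd_card rfl hodd
  have hr : Odd (Nat.card ↥N) := by
    rw [← Nat.not_even_iff_odd, even_iff_two_dvd]
    intro h
    have := Nat.dvd_gcd h (dvd_refl 2)
    rw [Nat.Coprime.gcd_eq_one hc] at this
    omega
  set r := Nat.card ↥N with hrdef
  have hpow : ∀ z : Cfsg.PGO F ⇑Q, z ∈ N → z ^ r = 1 := by
    intro z hz
    have h1 : (⟨z, hz⟩ : ↥N) ^ r = 1 := pow_card_eq_one'
    have h3 := congrArg Subtype.val h1
    exact h3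
  set X := Cfsg.Geo.quadSimilarityGroup (F := F) ⇑Q with hX
  set Zs : Subgroup ↥X := (Cfsg.Geo.scalars ι F).subgroupOf X with hZs
  set π : ↥X →* ↥X ⧸ Zs := QuotientGroup.mk' Zs with hπ
  set Nt : Subgroup ↥X := N.comap π with hNt
  have hNtn : Nt.Normal := hN.comap π
  -- odd powers are scalars
  have hNtpow : ∀ g ∈ Nt, ((g ^ r : ↥X) : GL ι F) ∈ Cfsg.Geo.scalars ι F := by
    intro g hg
    have h1 : π (g ^ r) = 1 := by
      rw [map_pow]
      exact hpow _ hg
    have h4 : g ^ r ∈ Zs := by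
      rw [← QuotientGroup.eq_one_iff]
      exact h1
    exact Subgroup.mem_subgroupOf.1 h4
  -- the isometries in `Nt`
  set M : Subgroup (Cfsg.isometryGroup F ⇑Q) := Nt.comap (toGO Q) with hM
  have hMn : M.Normal := hNtn.comap (toGO Q)
  set M' : Subgroup ↥(⊤ : Subgroup (Cfsg.isometryGroup F ⇑Q)) :=
    M.comap (⊤ : Subgroup (Cfsg.isometryGroup F ⇑Q)).subtype with hM'
  have hM'n : M'.Normal := hMn.comap _
  have hM'odd : ∀ s ∈ M', ∃ r : ℕ, Odd r ∧ ∀ p : SingPt Q, (s ^ r) • p = p := by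
    intro s hs
    refine ⟨r, hr, fun p => ?_⟩
    have hs' : toGO Q s.1 ∈ Nt := hs
    have h1 := hNtpow _ hs'
    rw [Cfsg.Geo.mem_scalars_iff] at h1
    obtain ⟨c, hc⟩ := h1
    have h4 : ∀ x, lin Q (s ^ r).1 x = (c : F) • x := by
      intro x
      rw [lin_apply]
      have h5 : (((s ^ r : ↥(⊤ : Subgroup (Cfsg.isometryGroup F ⇑Q))).1 :
          Cfsg.isometryGroup F ⇑Q).1 : Matrix ι ι F) = (c : F) • (1 : Matrix ι ι F) := by
        rw [← hc]
        rfl
      rw [h5, Matrix.smul_mulVec, Matrix.one_mulVec]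
    exact smul_singPt_of_scalar Q (s ^ r).1 h4 p
  have hfix := smul_eq_of_normal_of_odd_gen Q ⊤ hprim heven M' hM'odd
  -- the elements of `M` are `±1`
  obtain ⟨v₁, hv₁⟩ : ∃ v₁ : ι → F, Q v₁ ≠ 0 := by
    obtain ⟨u, hu0, hu⟩ := Cfsg.Agent.Helper44.exists_singular Q
      (by rw [Module.finrank_fintype_fun_eq_card]; exact h3)
    obtain ⟨w, -, hw⟩ := exists_perp_nonsingular_of_singular Q hQ h3 hu0 hu
    exact ⟨w, hw⟩
  have hMsc : ∀ s ∈ M, ∃ a : F, a * a = 1 ∧ ∀ x, lin Q s x = a • x := by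
    intro s hs
    obtain ⟨a, ha⟩ := exists_scalar_of_fixes_three Q h2 hQ h3 s
      (fun p => hfix ⟨s, Subgroup.mem_top s⟩ hs p)
    refine ⟨a, ?_, ha⟩
    have h1 := lin_isometry Q s v₁
    rw [ha, QuadraticMap.map_smul, smul_eq_mul] at h1
    have h4 : (a * a - 1) * Q v₁ = 0 := by linear_combination h1
    rcases mul_eq_zero.1 h4 with h5 | h5
    · exact sub_eq_zero.1 h5
    · exact absurd h5 hv₁
  -- every element of `Nt` commutes with the Eichler transformations
  have hcomm : ∀ g ∈ Nt, ∀ u w : ι → F, Q u = 0 → polar ⇑Q u w = 0 →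
      (g : GL ι F) * ((eichlerO Q u w).1 : GL ι F) = ((eichlerO Q u w).1 : GL ι F) * g := by
    intro g hg u w hu huw
    obtain ⟨E, hE⟩ : ∃ E : Cfsg.isometryGroup F ⇑Q, E = eichlerO Q u w := ⟨_, rfl⟩
    rw [← hE]
    obtain ⟨s, hs⟩ : ∃ s : Cfsg.isometryGroup F ⇑Q, s = simConj ⇑Q g E * E⁻¹ := ⟨_, rfl⟩
    have hsM : s ∈ M := by
      show toGO Q s ∈ Nt
      have h1 : toGO Q s = g * (toGO Q E * g⁻¹ * (toGO Q E)⁻¹) := by
        apply Subtype.ext
        rw [hs]
        show ((simConj ⇑Q g E * E⁻¹ : Cfsg.isometryGroup F ⇑Q) : GL ι F) = _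
        rw [Subgroup.coe_mul, simConj_apply_coe, Subgroup.coe_inv]
        show (g : GL ι F) * E.1 * (g : GL ι F)⁻¹ * (E.1)⁻¹
          = (g : GL ι F) * (E.1 * (g : GL ι F)⁻¹ * (E.1)⁻¹)
        group
      rw [h1]
      exact Nt.mul_mem hg (hNtn.conj_mem _ (Nt.inv_mem hg) _)
    obtain ⟨a, haa, ha⟩ := hMsc s hsM
    -- `s` is central of square one
    have hs2 : s * s = 1 := by
      apply isom_ext
      intro x
      rw [lin_mul_apply, ha, ha, smul_smul, haa, one_smul, lin_one_apply]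
    have hsc : ∀ t : Cfsg.isometryGroup F ⇑Q, s * t = t * s := by
      intro t
      apply isom_ext
      intro x
      rw [lin_mul_apply, lin_mul_apply, ha, ha, map_smul]
    have hsE : simConj ⇑Q g E = s * E := by rw [hs]; group
    -- odd order
    have hq : (s * E) ^ Fintype.card F = 1 := by
      rw [← hsE, ← map_pow, hE, eichlerO_pow_card, map_one]
    have hq' : s ^ Fintype.card F = 1 := by
      have h1 : (s * E) ^ Fintype.card F = s ^ Fintype.card F * E ^ Fintype.card F :=
        (Commute.mul_pow (hsc E) _)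
      rw [h1, hE, eichlerO_pow_card, mul_one] at hq
      exact hq
    have hs1 : s = 1 := by
      obtain ⟨j, hj⟩ := hodd
      rw [hj, pow_succ, pow_mul, _root_.sq, hs2, one_pow, one_mul] at hq'
      exact hq'
    have h5 : simConj ⇑Q g E = E := by rw [hsE, hs1, one_mul]
    have h6 := congrArg (fun t : Cfsg.isometryGroup F ⇑Q => (t.1 : GL ι F)) h5
    simp only [simConj_apply_coe] at h6
    calc (g : GL ι F) * E.1 = ((g : GL ι F) * E.1 * (g : GL ι F)⁻¹) * g := by group
      _ = E.1 * g := by rw [h6]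
  -- conclusion
  rw [eq_bot_iff]
  intro z hz
  rw [Subgroup.mem_bot]
  obtain ⟨g, rfl⟩ := QuotientGroup.mk'_surjective Zs z
  have hg : g ∈ Nt := hz
  have hsc := scalar_of_commute_eichler_GL Q h2 hQ h3 (g : GL ι F) (hcomm g hg)
  rw [QuotientGroup.mk'_apply, QuotientGroup.eq_one_iff]
  exact Subgroup.mem_subgroupOf.2 hsc

end Cfsg.Agent.Helper5.NC
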