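import Mathlib
import Cfsg.Agent.Helper5.NCPGOa
import Cfsg.Agent.Helper5.Count
import Cfsg.Agent.Helper44.StdNondeg
import Cfsg.Agent.S0290

/-!
# No non-trivial normal subgroup of odd order in `PGO(Q)` (`q` odd), part b: the standard forms,
generic range
-/

set_option autoImplicit false
set_option linter.unusedSectionVars false
set_option linter.unusedSimpArgs false

namespace Cfsg.Agent.Helper5.NC

open Matrix QuadraticMap Module MulAction Cfsg.Agent.Helper44 Cfsg.Agent.Helper45.OmegaParity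
  Cfsg.Agent.Helper5 Cfsg.Agent.Helper5.Bal
open scoped LinearAlgebra.Projectivization Pointwise

variable {F : Type*} [Field F] [Fintype F]

/-- **(NC-1)** `PGO_{2m+1}(q)`, `q` odd, has no non-trivial normal subgroup of odd order -/
theorem noNC_PGO_odd (hodd : Odd (Fintype.card F)) (m : ℕ) (hm : 1 ≤ m)
    (N : Subgroup (Cfsg.PGO F (Cfsg.quadFormOdd m F))) (hN : N.Normal)
    (hc : (Nat.card ↥N).Coprime 2) : N = ⊥ := by
  have h2 : (2 : F) ≠ 0 := Cfsg.Agent.Helper44.two_ne_zero_of_odd_card rfl hodd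
  have hQ := nondegenerate_oddForm (F := F) h2 m
  exact noNC_PGO_gen (oddForm m F) hodd hQ (by rw [card_kappa]; omega)
    (isPreprimitive_singPt_odd (oddForm m F) hQ hm (card_kappa m) ⊤
      (fun u w => Subgroup.mem_top _))
    (even_card_singPt (oddForm m F) hodd hQ hm (card_kappa m)) N hN hc

/-- the number of singular points of the hyperbolic quadric is even (`q` odd) -/
theorem even_card_singPt_plus (hodd : Odd (Fintype.card F)) (m : ℕ) (hm : 1 ≤ m) :
    Even (Nat.card (SingPt (plusForm m F))) := by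
  have h1 := card_singPt_mul (plusForm m F)
  have h0 : Nat.card {v : Fin m ⊕ Fin m → F // plusForm m F v = 0}
      = Fintype.card F ^ m + (Fintype.card F ^ m - 1) * Fintype.card F ^ (m - 1) :=
    card_quadFormPlus_zero m
  rw [h0] at h1
  obtain ⟨j, rfl⟩ : ∃ j, m = j + 1 := ⟨m - 1, by omega⟩
  rw [Nat.add_sub_cancel] at h1
  set q := Fintype.card F with hq
  set s := Nat.card (SingPt (plusForm (j + 1) F)) with hs
  have hq2 : 2 ≤ q := Fintype.one_lt_card
  obtain ⟨t, ht⟩ : ∃ t, q = t + 1 := ⟨q - 1, by omega⟩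
  obtain ⟨G, hG⟩ : q - 1 ∣ q ^ (j + 1) - 1 := by
    simpa only [one_pow] using Nat.sub_dvd_pow_sub_pow q 1 (j + 1)
  set A := q ^ j with hA
  have hA1 : 1 ≤ A := Nat.one_le_pow _ _ (by omega)
  have hqA : q ^ (j + 1) = q * A := by rw [pow_succ, mul_comm]
  have hqA1 : 1 ≤ q * A := by nlinarith
  rw [hqA] at h1 hG
  have hG' : q * A = (q - 1) * G + 1 := by omega
  rw [ht] at h1 hG'
  rw [Nat.add_sub_cancel] at h1 hG'
  -- `s * t = t * (G * (A + 1))`
  have h4 : (t + 1) * A - 1 = t * G := by omega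
  rw [h4] at h1
  have key : s * t = t * (G * (A + 1)) := by
    have h5 : s * t + 1 = (t + 1) * A + t * G * A := h1
    have h6 : (t + 1) * A = t * G + 1 := hG'
    nlinarith
  have ht0 : 0 < t := by omega
  have h7 : s = G * (A + 1) := by
    rw [mul_comm s] at key
    exact Nat.eq_of_mul_eq_mul_left ht0 key
  rw [h7]
  apply Even.mul_left
  have : Odd A := hodd.pow
  exact this.add_one

/-- **(NC-2), generic range** `PGO⁺_{2m}(q)`, `q` odd, `m ≥ 3` -/
theorem noNC_PGO_plus_of_three (hodd : Odd (Fintype.card F)) (m : ℕ) (hm : 3 ≤ m)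
    (N : Subgroup (Cfsg.PGO F (Cfsg.quadFormPlus m F))) (hN : N.Normal)
    (hc : (Nat.card ↥N).Coprime 2) : N = ⊥ := by
  have hQ := nondegenerate_plusForm (F := F) m
  have hcard : Fintype.card (Fin m ⊕ Fin m) = 2 * m := by
    rw [Fintype.card_sum, Fintype.card_fin]
    ring
  exact noNC_PGO_gen (plusForm m F) hodd hQ (by rw [hcard]; omega)
    (isPreprimitive_singPt (plusForm m F) ⊤ hQ (by rw [hcard]; omega)
      (fun u w => Subgroup.mem_top _))
    (even_card_singPt_plus hodd m (by omega)) N hN hc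

/-- the number of singular points of the elliptic quadric is even (`q` odd) -/
theorem even_card_singPt_minus (hodd : Odd (Fintype.card F)) (m : ℕ) (a b : F)
    (hab : ∀ z₁ z₂ : F, z₁ ^ 2 + a * z₁ * z₂ + b * z₂ ^ 2 = 0 → z₁ = 0 ∧ z₂ = 0) :
    Even (Nat.card (SingPt (minusForm m F a b))) := by
  have h1 := card_singPt_mul (minusForm m F a b)
  have h0 : Nat.card {v : (Fin m ⊕ Fin m) ⊕ Fin 2 → F // minusForm m F a b v = 0}
      = Fintype.card F ^ (2 * (m + 1) - 1) + Fintype.card F ^ m - Fintype.card F ^ (m + 1) :=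
    Cfsg.Agent.S0290.result rfl (m + 1) (by omega) a b hab
  rw [h0] at h1
  set q := Fintype.card F with hq
  set s := Nat.card (SingPt (minusForm m F a b)) with hs
  have hq2 : 2 ≤ q := Fintype.one_lt_card
  obtain ⟨t, ht⟩ : ∃ t, q = t + 1 := ⟨q - 1, by omega⟩
  obtain ⟨G, hG⟩ : q - 1 ∣ q ^ m - 1 := by
    simpa only [one_pow] using Nat.sub_dvd_pow_sub_pow q 1 m
  set B := q ^ m with hB
  have hB1 : 1 ≤ B := Nat.one_le_pow _ _ (by omega)
  have e1 : q ^ (m + 1) = q * B := by rw [pow_succ, mul_comm]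
  have e2 : q ^ (2 * (m + 1) - 1) = q * B * B := by
    have : 2 * (m + 1) - 1 = m + m + 1 := by omega
    rw [this, pow_succ, pow_add]
    ring
  rw [e1, e2] at h1
  have hG' : B = (q - 1) * G + 1 := by omega
  rw [ht] at h1 hG'
  rw [Nat.add_sub_cancel] at h1 hG'
  have hle : (t + 1) * B ≤ (t + 1) * B * B := Nat.le_mul_of_pos_right _ (by omega)
  have h5 : s * t + 1 + (t + 1) * B = (t + 1) * B * B + B := by omega
  have key : s * t = t * (G * ((t + 1) * B + 1)) := by
    have h6 : B = t * G + 1 := hG'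
    zify at h5 h6 ⊢
    linear_combination h5 + (((t : ℤ) + 1) * (B : ℤ) + 1) * h6
  have ht0 : 0 < t := by omega
  have h7 : s = G * ((t + 1) * B + 1) := by
    rw [mul_comm s] at key
    exact Nat.eq_of_mul_eq_mul_left ht0 key
  rw [h7]
  apply Even.mul_left
  have hB' : Odd B := hodd.pow
  have hq' : Odd (t + 1) := by rw [← ht]; exact hodd
  exact (hq'.mul hB').add_one

/-- **(NC-3), generic range** `PGO⁻_{2m+2}(q)`, `q` odd, `m ≥ 2` -/
theorem noNC_PGO_minus_of_two (hodd : Odd (Fintype.card F)) (m : ℕ) (hm : 2 ≤ m) (a b : F)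
    (hab : ∀ z₁ z₂ : F, z₁ ^ 2 + a * z₁ * z₂ + b * z₂ ^ 2 = 0 → z₁ = 0 ∧ z₂ = 0)
    (N : Subgroup (Cfsg.PGO F (Cfsg.quadFormMinus m F a b))) (hN : N.Normal)
    (hc : (Nat.card ↥N).Coprime 2) : N = ⊥ := by
  have hQ := nondegenerate_minusForm_of_aniso m a b hab
  have hcard : Fintype.card ((Fin m ⊕ Fin m) ⊕ Fin 2) = 2 * m + 2 := by
    rw [Fintype.card_sum, Fintype.card_sum, Fintype.card_fin, Fintype.card_fin]
    ring
  exact noNC_PGO_gen (minusForm m F a b) hodd hQ (by rw [hcard]; omega)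
    (isPreprimitive_singPt (minusForm m F a b) ⊤ hQ (by rw [hcard]; omega)
      (fun u w => Subgroup.mem_top _))
    (even_card_singPt_minus hodd m a b hab) N hN hc

end Cfsg.Agent.Helper5.NC
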