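import Mathlib
import Cfsg.Agent.Helper5.NCPGOa
import Cfsg.Agent.Helper45.LBLA

/-!
# No non-trivial normal subgroup of odd order in `PGO(Q)` (`q` odd), part c: reduction to `PΩ(Q)`

If `PΩ(Q)` has no non-trivial normal subgroup of odd order then neither has `PGO(Q)` (odd
characteristic, dimension at least three).
-/

set_option autoImplicit false
set_option linter.unusedSectionVars false
set_option linter.unusedSimpArgs false

namespace Cfsg.Agent.Helper5.NC

open Matrix QuadraticMap Module MulAction Cfsg.Agent.Helper44 Cfsg.Agent.Helper45.OmegaParity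
  Cfsg.Agent.Helper5 Cfsg.Agent.Helper5.Bal Cfsg.Agent.Helper45.LBL

variable {F : Type*} [Field F] [Fintype F] {ι : Type} [Fintype ι] [DecidableEq ι]
variable (Q : QuadraticForm F (ι → F))

/-- Eichler transformations lie in `Ω(Q)` (odd characteristic, any dimension) -/
theorem eichlerO_mem_Omega_odd (hodd : Odd (Fintype.card F))
    (hQ : (QuadraticMap.polarBilin Q).Nondegenerate) (u w : ι → F) :
    eichlerO Q u w ∈ Cfsg.Omega F ⇑Q := by
  have h2 : (2 : F) ≠ 0 := Cfsg.Agent.Helper44.two_ne_zero_of_odd_card rfl hodd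
  have hchar : ringChar F ≠ 2 := by
    intro h
    have := FiniteField.even_card_iff_char_two.1 h
    rcases hodd with ⟨j, hj⟩
    omega
  obtain ⟨c, hc⟩ := FiniteField.exists_nonsquare hchar
  exact mem_Omega_of_odd_pow Q h2 hQ hc _ hodd (eichlerO_pow_card Q u w)

/-- a similarity `g` such that `g E g⁻¹ E⁻¹` is a scalar, `E` an isometry of odd order `q`,
commutes with `E` -/
theorem comm_of_scalar_commutator (hodd : Odd (Fintype.card F)) {v₁ : ι → F} (hv₁ : Q v₁ ≠ 0)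
    (g : ↥(Cfsg.Geo.quadSimilarityGroup (F := F) ⇑Q)) (E : Cfsg.isometryGroup F ⇑Q)
    (hEq : E ^ Fintype.card F = 1)
    (hsc : ((simConj ⇑Q g E * E⁻¹ : Cfsg.isometryGroup F ⇑Q).1 : GL ι F)
      ∈ Cfsg.Geo.scalars ι F) :
    (g : GL ι F) * (E.1 : GL ι F) = (E.1 : GL ι F) * g := by
  obtain ⟨s, hs⟩ : ∃ s : Cfsg.isometryGroup F ⇑Q, s = simConj ⇑Q g E * E⁻¹ := ⟨_, rfl⟩
  rw [← hs] at hsc
  obtain ⟨d, hd⟩ := (Cfsg.Geo.mem_scalars_iff _).1 hsc
  have ha : ∀ x, lin Q s x = (d : F) • x := by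
    intro x
    rw [lin_apply, hd, Matrix.smul_mulVec, Matrix.one_mulVec]
  have haa : (d : F) * (d : F) = 1 := by
    have h1 := lin_isometry Q s v₁
    rw [ha, QuadraticMap.map_smul, smul_eq_mul] at h1
    have h4 : ((d : F) * (d : F) - 1) * Q v₁ = 0 := by linear_combination h1
    rcases mul_eq_zero.1 h4 with h5 | h5
    · exact sub_eq_zero.1 h5
    · exact absurd h5 hv₁
  have hs2 : s * s = 1 := by
    apply isom_ext
    intro x
    rw [lin_mul_apply, ha, ha, smul_smul, haa, one_smul, lin_one_apply]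
  have hsc' : ∀ t : Cfsg.isometryGroup F ⇑Q, s * t = t * s := by
    intro t
    apply isom_ext
    intro x
    rw [lin_mul_apply, lin_mul_apply, ha, ha, map_smul]
  have hsE : simConj ⇑Q g E = s * E := by rw [hs]; group
  have hq : (s * E) ^ Fintype.card F = 1 := by
    rw [← hsE, ← map_pow, hEq, map_one]
  have hq' : s ^ Fintype.card F = 1 := by
    have h1 : (s * E) ^ Fintype.card F = s ^ Fintype.card F * E ^ Fintype.card F :=
      (Commute.mul_pow (hsc' E) _)
    rw [h1, hEq, mul_one] at hq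
    exact hq
  have hs1 : s = 1 := by
    obtain ⟨j, hj⟩ := hodd
    rw [hj, pow_succ, pow_mul, _root_.sq, hs2, one_pow, one_mul] at hq'
    exact hq'
  have h5 : simConj ⇑Q g E = E := by rw [hsE, hs1, one_mul]
  have h6 := congrArg (fun t : Cfsg.isometryGroup F ⇑Q => (t.1 : GL ι F)) h5
  simp only [simConj_apply_coe] at h6
  calc (g : GL ι F) * E.1 = ((g : GL ι F) * E.1 * (g : GL ι F)⁻¹) * g := by group
    _ = E.1 * g := by rw [h6]

set_option maxHeartbeats 1600000 in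
/-- **reduction to `PΩ(Q)`** -/
theorem noNC_PGO_of_POmega (hodd : Odd (Fintype.card F))
    (hQ : (QuadraticMap.polarBilin Q).Nondegenerate) (h3 : 3 ≤ Fintype.card ι)
    (hP : NoNC 2 (Cfsg.POmega F ⇑Q)) : NoNC 2 (Cfsg.PGO F ⇑Q) := by
  classical
  have h2 : (2 : F) ≠ 0 := Cfsg.Agent.Helper44.two_ne_zero_of_odd_card rfl hodd
  obtain ⟨v₁, hv₁⟩ : ∃ v₁ : ι → F, Q v₁ ≠ 0 := by
    obtain ⟨u, hu0, hu⟩ := Cfsg.Agent.Helper44.exists_singular Q
      (by rw [Module.finrank_fintype_fun_eq_card]; exact h3)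
    obtain ⟨w, -, hw⟩ := exists_perp_nonsingular_of_singular Q hQ h3 hu0 hu
    exact ⟨w, hw⟩
  set X := Cfsg.Geo.quadSimilarityGroup (F := F) ⇑Q with hX
  set Zs : Subgroup ↥X := (Cfsg.Geo.scalars ι F).subgroupOf X with hZs
  set π : ↥X →* ↥X ⧸ Zs := QuotientGroup.mk' Zs with hπ
  set φ : ↥(Cfsg.Omega F ⇑Q) →* ↥X ⧸ Zs :=
    π.comp ((toGO Q).comp (Cfsg.Omega F ⇑Q).subtype) with hφ
  have hφ_apply : ∀ s : ↥(Cfsg.Omega F ⇑Q), φ s = π (toGO Q s.1) := fun s => rfl
  have hπ1 : ∀ x : ↥X, π x = 1 ↔ (x : GL ι F) ∈ Cfsg.Geo.scalars ι F := by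
    intro x
    rw [hπ, QuotientGroup.mk'_apply, QuotientGroup.eq_one_iff, hZs, Subgroup.mem_subgroupOf]
  -- the kernel of `φ` is the centre of `Ω`
  have hker : φ.ker = Subgroup.center ↥(Cfsg.Omega F ⇑Q) := by
    ext s
    rw [MonoidHom.mem_ker, hφ_apply, hπ1, Subgroup.mem_center_iff]
    constructor
    · intro hs t
      obtain ⟨d, hd⟩ := (Cfsg.Geo.mem_scalars_iff _).1 hs
      have hd' : ((s.1.1 : GL ι F) : Matrix ι ι F) = (d : F) • (1 : Matrix ι ι F) := hd
      apply Subtype.ext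
      apply Subtype.ext
      apply Units.ext
      show ((t.1.1 * s.1.1 : GL ι F) : Matrix ι ι F) = ((s.1.1 * t.1.1 : GL ι F) : Matrix ι ι F)
      rw [Units.val_mul, Units.val_mul, hd', Matrix.smul_mul, Matrix.mul_smul, Matrix.one_mul,
        Matrix.mul_one]
    · intro hs
      apply scalar_of_commute_eichler_GL Q h2 hQ h3
      intro u w hu huw
      have h1 := hs ⟨eichlerO Q u w, eichlerO_mem_Omega_odd Q hodd hQ u w⟩
      have h4 := congrArg (fun t : ↥(Cfsg.Omega F ⇑Q) => (t.1.1 : GL ι F)) h1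
      exact h4.symm
  set L : Subgroup (↥X ⧸ Zs) := φ.range with hL
  -- `L` is normal
  have hLn : L.Normal := by
    constructor
    rintro _ ⟨s, rfl⟩ x
    obtain ⟨g, rfl⟩ := QuotientGroup.mk'_surjective Zs x
    refine ⟨MulAut.characteristic (Cfsg.Omega F ⇑Q) (simConj ⇑Q g) s, ?_⟩
    rw [hφ_apply, hφ_apply]
    show π _ = π g * π (toGO Q s.1) * (π g)⁻¹
    rw [← map_inv, ← map_mul, ← map_mul]
    congr 1
  -- `L ≅ PΩ`
  have e : Cfsg.POmega F ⇑Q ≃* ↥L :=
    (QuotientGroup.quotientMulEquivOfEq hker.symm).trans (QuotientGroup.quotientKerEquivRange φ)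
  have hLnc : NoNC 2 ↥L := NoNC.of_mulEquiv e hP
  -- the centraliser of `L` is trivial
  apply NoNC.of_normal L hLnc
  intro x hx
  obtain ⟨g, rfl⟩ := QuotientGroup.mk'_surjective Zs x
  show π g = 1
  rw [hπ1]
  apply scalar_of_commute_eichler_GL Q h2 hQ h3
  intro u w hu huw
  apply comm_of_scalar_commutator Q hodd hv₁ g (eichlerO Q u w) (eichlerO_pow_card Q u w)
  have h1 := hx (φ ⟨eichlerO Q u w, eichlerO_mem_Omega_odd Q hodd hQ u w⟩) ⟨_, rfl⟩
  rw [hφ_apply] at h1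
  have h1' : π g * π (toGO Q (eichlerO Q u w)) = π (toGO Q (eichlerO Q u w)) * π g := h1
  have h4 : π (g * toGO Q (eichlerO Q u w) * g⁻¹ * (toGO Q (eichlerO Q u w))⁻¹) = 1 := by
    rw [map_mul, map_mul, map_mul, map_inv, map_inv, h1']
    group
  rw [hπ1] at h4
  have h5 : ((simConj ⇑Q g (eichlerO Q u w) * (eichlerO Q u w)⁻¹ : Cfsg.isometryGroup F ⇑Q).1
      : GL ι F) = ((g * toGO Q (eichlerO Q u w) * g⁻¹ * (toGO Q (eichlerO Q u w))⁻¹ : ↥X)
        : GL ι F) := by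
    rw [Subgroup.coe_mul, simConj_apply_coe, Subgroup.coe_inv]
    rfl
  rw [h5]
  exact h4

end Cfsg.Agent.Helper5.NC
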