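import Mathlib
import Cfsg.Agent.Helper5.NCPGOb
import Cfsg.Agent.Helper5.NCPGOc
import Cfsg.Agent.Helper45.LBLE
import Cfsg.Agent.Helper5.ProjLine
import Cfsg.Agent.S0299
import Cfsg.Agent.S0300

/-!
# No non-trivial normal subgroup of odd order in `PGO(Q)` (`q` odd), part d: the four-dimensional
cases and the final statements
-/

set_option autoImplicit false
set_option linter.unusedSectionVars false
set_option linter.unusedSimpArgs false

namespace Cfsg.Agent.Helper5.NC

open Matrix QuadraticMap Module MulAction Cfsg.Agent.Helper44 Cfsg.Agent.Helper45.OmegaParity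
  Cfsg.Agent.Helper5 Cfsg.Agent.Helper5.Bal Cfsg.Agent.Helper45.LBL

/-- `PSL_2(K)`, `|K|` odd, has no non-trivial normal subgroup of odd order -/
theorem noNC_PSL2_odd {K : Type*} [Field K] [Fintype K] (hodd : Odd (Fintype.card K)) :
    NoNC 2 (Matrix.ProjectiveSpecialLinearGroup (Fin 2) K) := by
  apply noNC_PSL (n := 2) le_rfl Nat.prime_two
  · intro h
    exact (Nat.not_even_iff_odd.2 hodd) (even_iff_two_dvd.2 h)
  · rw [card_SL2]
    apply Dvd.dvd.mul_left
    have h1 : Odd (Fintype.card K ^ 2) := hodd.pow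
    obtain ⟨j, hj⟩ := h1
    rw [hj]
    exact ⟨j, by omega⟩

variable {F : Type*} [Field F] [Fintype F]

/-- **(NC-2)** `PGO⁺_{2m}(q)`, `q` odd, `m ≥ 2`, has no non-trivial normal subgroup of odd order -/
theorem noNC_PGO_plus (hodd : Odd (Fintype.card F)) (m : ℕ) (hm : 2 ≤ m)
    (N : Subgroup (Cfsg.PGO F (Cfsg.quadFormPlus m F))) (hN : N.Normal)
    (hc : (Nat.card ↥N).Coprime 2) : N = ⊥ := by
  rcases Nat.lt_or_ge m 3 with h | h
  · have hm2 : m = 2 := by omega
    subst hm2
    have h3 : 3 ≤ Fintype.card F := by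
      have h1 : 1 < Fintype.card F := Fintype.one_lt_card
      rcases hodd with ⟨j, hj⟩
      omega
    obtain ⟨e⟩ := Cfsg.Agent.S0299.result (F := F) h3
    have hP : NoNC 2 (Cfsg.POmega F ⇑(plusForm 2 F)) :=
      NoNC.of_mulEquiv e.symm (NoNC.prod (noNC_PSL2_odd hodd) (noNC_PSL2_odd hodd))
    have hcard : Fintype.card (Fin 2 ⊕ Fin 2) = 4 := by
      rw [Fintype.card_sum, Fintype.card_fin]
    exact noNC_PGO_of_POmega (plusForm 2 F) hodd (nondegenerate_plusForm 2)
      (by rw [hcard]; omega) hP N hN hc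
  · exact noNC_PGO_plus_of_three hodd m h N hN hc

/-- **(NC-3)** `PGO⁻_{2m+2}(q)`, `q` odd, `m ≥ 1`, has no non-trivial normal subgroup of odd
order -/
theorem noNC_PGO_minus (hodd : Odd (Fintype.card F)) (m : ℕ) (hm : 1 ≤ m) (a b : F)
    (hab : ∀ z₁ z₂ : F, z₁ ^ 2 + a * z₁ * z₂ + b * z₂ ^ 2 = 0 → z₁ = 0 ∧ z₂ = 0)
    (N : Subgroup (Cfsg.PGO F (Cfsg.quadFormMinus m F a b))) (hN : N.Normal)
    (hc : (Nat.card ↥N).Coprime 2) : N = ⊥ := by
  rcases Nat.lt_or_ge m 2 with h | h
  · have hm1 : m = 1 := by omega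
    subst hm1
    -- a quadratic extension
    have hchar : ringChar F ≠ 2 := by
      intro h
      have := FiniteField.even_card_iff_char_two.1 h
      rcases hodd with ⟨j, hj⟩
      omega
    obtain ⟨lam, hlam⟩ := FiniteField.exists_nonsquare hchar
    have hfact : Fact (∀ r : F, r ^ 2 ≠ lam + 0 * r) := ⟨fun r hr => hlam ⟨r, by
      linear_combination -hr⟩⟩
    let _ := fintypeQA lam
    have hK : Fintype.card (QuadraticAlgebra F lam 0) = Fintype.card F ^ 2 := by
      rw [card_QA, _root_.sq]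
    obtain ⟨e⟩ := Cfsg.Agent.S0300.result (F := F) (K := QuadraticAlgebra F lam 0) rfl hK a b hab
    have hoddK : Odd (Fintype.card (QuadraticAlgebra F lam 0)) := by
      rw [hK]
      exact hodd.pow
    have hP : NoNC 2 (Cfsg.POmega F ⇑(minusForm 1 F a b)) :=
      NoNC.of_mulEquiv e.symm (noNC_PSL2_odd hoddK)
    have hcard : Fintype.card ((Fin 1 ⊕ Fin 1) ⊕ Fin 2) = 4 := by
      rw [Fintype.card_sum, Fintype.card_sum, Fintype.card_fin, Fintype.card_fin]
    exact noNC_PGO_of_POmega (minusForm 1 F a b) hodd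
      (nondegenerate_minusForm_of_aniso 1 a b hab) (by rw [hcard]; omega) hP N hN hc
  · exact noNC_PGO_minus_of_two hodd m h a b hab N hN hc

end Cfsg.Agent.Helper5.NC
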