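import Mathlib
import Cfsg.Agent.Helper44.PsoInn
import Cfsg.Agent.Helper44.EichlerOmega
import Cfsg.Agent.Helper44.StdHyp
import Cfsg.Agent.Helper5.OrthSimpleStd

/-!
# A small class of involutions in `Ω_{2m+1}(q)`

For `u` non-singular the isometry `-r_u` is an involution whose conjugates are all of the form
`-r_v`; for a suitable `u` it lies in `Ω` and is not central there.
-/

set_option autoImplicit false
set_option linter.unusedSectionVars false

namespace Cfsg.Agent.Helper5.OddInv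

open Matrix QuadraticMap Cfsg.Agent.Helper44 Cfsg.Agent.Helper45.OmegaParity Cfsg.Agent.Helper5

variable {F : Type*} [Field F] {ι : Type} [Fintype ι] [DecidableEq ι]
variable (Q : QuadraticForm F (ι → F))

/-- `-r_v` (or `-1` for singular `v`) -/
noncomputable def tInv (v : ι → F) : Cfsg.isometryGroup F ⇑Q := negOne Q * reflT Q v

theorem negOne_comm (g : Cfsg.isometryGroup F ⇑Q) : g * negOne Q = negOne Q * g := by
  apply isometryGroup_ext
  intro x
  rw [isometryGroup_mul_mulVec, isometryGroup_mul_mulVec, negOne_mulVec, negOne_mulVec,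
    Matrix.mulVec_neg]

theorem conj_tInv (g : Cfsg.isometryGroup F ⇑Q) (u : ι → F) (hu : Q u ≠ 0) :
    g * tInv Q u * g⁻¹ = tInv Q ((g.1 : Matrix ι ι F) *ᵥ u) := by
  have hgu : Q ((g.1 : Matrix ι ι F) *ᵥ u) ≠ 0 := by
    rw [isometryGroup_apply g u]; exact hu
  rw [tInv, tInv, reflT_of_ne Q u hu, reflT_of_ne Q _ hgu]
  calc g * (negOne Q * Helper44.refl Q u hu) * g⁻¹
      = negOne Q * (g * Helper44.refl Q u hu) * g⁻¹ := by
        rw [← mul_assoc g, negOne_comm, mul_assoc (negOne Q)]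
    _ = negOne Q * (Helper44.refl Q ((g.1 : Matrix ι ι F) *ᵥ u) hgu * g) * g⁻¹ := by
        rw [mul_refl Q g u hu hgu]
    _ = negOne Q * Helper44.refl Q ((g.1 : Matrix ι ι F) *ᵥ u) hgu := by
        rw [mul_assoc, mul_inv_cancel_right]

theorem IsHypPair.Q_add_smul {a b : ι} (h : IsHypPair Q a b) (t : F) :
    Q (Pi.single a 1 + t • Pi.single b 1) = t := by
  rw [QuadraticMap.map_add ⇑Q, QuadraticMap.map_smul, h.Qa, h.Qb, QuadraticMap.polar_smul_right,
    h.polar_a, Pi.single_eq_same]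
  simp

theorem detHom_negOne_odd (hodd : Odd (Fintype.card ι)) : detHom ⇑Q (negOne Q) = -1 := by
  apply Units.ext
  show ((-1 : GL ι F) : Matrix ι ι F).det = ((-1 : Fˣ) : F)
  rw [Units.val_neg, Units.val_one, Matrix.det_neg, Matrix.det_one, mul_one, hodd.neg_one_pow,
    Units.val_neg, Units.val_one]

section finite
variable [Fintype F]

/-- for a suitable non-singular `u` in the hyperbolic plane, `-r_u ∈ Ω` -/
theorem exists_tInv_mem_Omega (h2 : (2 : F) ≠ 0) (hQ : (QuadraticMap.polarBilin Q).Nondegenerate)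
    (hodd : Odd (Fintype.card ι)) {a b : ι} (h0 : IsHypPair Q a b) :
    ∃ d : F, d ≠ 0 ∧ tInv Q (Pi.single a 1 + d • Pi.single b 1) ∈ Cfsg.Omega F ⇑Q := by
  obtain ⟨c, hc⟩ := FiniteField.exists_nonsquare (ringChar_ne_two_of_two_ne_zero h2)
  have hc0 : c ≠ 0 := by
    rintro rfl
    exact hc ⟨0, by simp⟩
  have key : ∀ d : F, d ≠ 0 →
      (tInv Q (Pi.single a 1 + d • Pi.single b 1) ∈ Cfsg.Omega F ⇑Q ↔
        signChar ⇑Q c (negOne Q) * signChar ⇑Q c (reflT Q (Pi.single a 1 + d • Pi.single b 1))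
          = 1) := by
    intro d hd
    have hu : Q (Pi.single a 1 + d • Pi.single b 1) ≠ 0 := by
      rw [IsHypPair.Q_add_smul Q h0]; exact hd
    rw [mem_Omega_iff_signChar Q h2 hQ hc, tInv, map_mul]
    rw [tInv, map_mul, detHom_negOne_odd Q hodd, detHom_reflT Q _ hu]
    simp
  rcases Int.units_eq_one_or (signChar ⇑Q c (negOne Q)) with hε | hε
  · refine ⟨1, one_ne_zero, ?_⟩
    rw [key 1 one_ne_zero, hε, one_mul]
    have hu : Q (Pi.single a 1 + (1 : F) • Pi.single b 1) ≠ 0 := by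
      rw [IsHypPair.Q_add_smul Q h0]; exact one_ne_zero
    apply (signChar_reflT Q h2 hc _ hu).1
    rw [IsHypPair.Q_add_smul Q h0]
    exact ⟨1, by simp⟩
  · refine ⟨c, hc0, ?_⟩
    rw [key c hc0, hε]
    have hu : Q (Pi.single a 1 + c • Pi.single b 1) ≠ 0 := by
      rw [IsHypPair.Q_add_smul Q h0]; exact hc0
    rw [(signChar_reflT Q h2 hc _ hu).2 (by rw [IsHypPair.Q_add_smul Q h0]; exact hc)]
    simp

theorem exists_small_inv (h2 : (2 : F) ≠ 0) (hQ : (QuadraticMap.polarBilin Q).Nondegenerate)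
    (hodd : Odd (Fintype.card ι)) (hn : 5 ≤ Fintype.card ι)
    {a b a' b' : ι} (h0 : IsHypPair Q a b) (h1 : IsHypPair Q a' b')
    (hd : a' ≠ a ∧ a' ≠ b ∧ b' ≠ a ∧ b' ≠ b) :
    ∃ T : ↥(Cfsg.Omega F ⇑Q), T * T = 1 ∧ T ∉ Subgroup.center ↥(Cfsg.Omega F ⇑Q) ∧
      (conjugatesOf T).ncard ≤ Fintype.card F ^ Fintype.card ι := by
  obtain ⟨ha'a, ha'b, hb'a, hb'b⟩ := hd
  obtain ⟨d, hd0, hT⟩ := exists_tInv_mem_Omega Q h2 hQ hodd h0
  set u : ι → F := Pi.single a 1 + d • Pi.single b 1 with hu_def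
  have hu : Q u ≠ 0 := by rw [hu_def, IsHypPair.Q_add_smul Q h0]; exact hd0
  have hQu : Q u = d := by rw [hu_def, IsHypPair.Q_add_smul Q h0]
  refine ⟨⟨tInv Q u, hT⟩, ?_, ?_, ?_⟩
  · apply Subtype.ext
    show tInv Q u * tInv Q u = 1
    rw [tInv, reflT_of_ne Q u hu]
    exact negOne_mul_refl_mul_self Q u hu
  · -- not central
    intro hcen
    set x : ι → F := Pi.single a' 1 with hx_def
    have hx : Q x = 0 := h1.Qa
    have hxu : polar ⇑Q x u = 0 := by
      rw [h1.polar_a, hu_def]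
      simp [Pi.single_apply, hb'a, hb'b]
    set g : Cfsg.isometryGroup F ⇑Q := eichlerO Q x u with hg_def
    have hg : g ∈ Cfsg.Omega F ⇑Q := eichlerO_mem_Omega Q hQ hn x u
    have hcomm := (Subgroup.mem_center_iff.1 hcen) ⟨g, hg⟩
    have hcomm' : g * tInv Q u = tInv Q u * g := congrArg Subtype.val hcomm
    have hconj : tInv Q ((g.1 : Matrix ι ι F) *ᵥ u) = tInv Q u := by
      rw [← conj_tInv Q g u hu, hcomm', mul_inv_cancel_right]
    have hgu : (g.1 : Matrix ι ι F) *ᵥ u = u + (2 * d) • x := by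
      rw [← lin_apply, hg_def, lin_eichlerO Q hx hxu, QuadraticMap.polar_self, hxu, hQu]
      simp [two_mul, smul_eq_mul]
    have hQgu : Q ((g.1 : Matrix ι ι F) *ᵥ u) ≠ 0 := by
      rw [isometryGroup_apply g u]; exact hu
    -- `g u` is fixed by `tInv (g u) = tInv u`, hence a multiple of `u`
    have hfix : ((tInv Q u).1 : Matrix ι ι F) *ᵥ ((g.1 : Matrix ι ι F) *ᵥ u)
        = (g.1 : Matrix ι ι F) *ᵥ u := by
      rw [← hconj, tInv, reflT_of_ne Q _ hQgu, negOne_mul_refl_fixed_iff Q h2 _ hQgu]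
      exact ⟨1, (one_smul _ _).symm⟩
    rw [tInv, reflT_of_ne Q u hu, negOne_mul_refl_fixed_iff Q h2 u hu] at hfix
    obtain ⟨s, hs⟩ := hfix
    rw [hgu] at hs
    have h3 := congrFun hs a'
    rw [hu_def, hx_def] at h3
    simp [Pi.single_apply, ha'a, ha'b] at h3
    rcases h3 with h3 | h3
    · exact h2 h3
    · exact hd0 h3
  · -- class size
    have hsub : Subtype.val '' conjugatesOf (⟨tInv Q u, hT⟩ : ↥(Cfsg.Omega F ⇑Q))
        ⊆ Set.range (tInv Q) := by
      rintro _ ⟨y, hy, rfl⟩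
      rw [conjugatesOf, Set.mem_setOf_eq, isConj_iff] at hy
      obtain ⟨g, rfl⟩ := hy
      refine ⟨(g.1.1 : Matrix ι ι F) *ᵥ u, ?_⟩
      rw [← conj_tInv Q g.1 u hu]
      rfl
    calc (conjugatesOf (⟨tInv Q u, hT⟩ : ↥(Cfsg.Omega F ⇑Q))).ncard
        = (Subtype.val '' conjugatesOf (⟨tInv Q u, hT⟩ : ↥(Cfsg.Omega F ⇑Q))).ncard :=
          (Set.ncard_image_of_injective _ Subtype.val_injective).symm
      _ ≤ (Set.range (tInv Q)).ncard := Set.ncard_le_ncard hsub (Set.toFinite _)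
      _ ≤ Nat.card (ι → F) := by
          rw [← Set.image_univ, ← Set.ncard_univ]
          exact Set.ncard_image_le (Set.toFinite _)
      _ = Fintype.card F ^ Fintype.card ι := by
          rw [Nat.card_eq_fintype_card, Fintype.card_fun]

end finite

end Cfsg.Agent.Helper5.OddInv
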