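import Mathlib
import Cfsg.Agent.Helper5.KleinUnitary

set_option autoImplicit false
set_option linter.unusedSectionVars false

namespace Cfsg.Agent.Helper5

open Matrix Cfsg.Agent.Helper96.Klein Cfsg.Agent.Helper45

section descent
variable {F K : Type*} [Field F] [Fintype F] [Field K] [Algebra F K]
  (b : Module.Basis (Fin 2) F K)

theorem resT_add (w w' : Fin 3 × Fin 2 → F) : resT b (w + w') = resT b w + resT b w' := by
  funext i
  simp only [resT, Pi.add_apply, add_smul, Finset.sum_add_distrib]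

theorem resT_smul (c : F) (w : Fin 3 × Fin 2 → F) : resT b (c • w) = c • resT b w := by
  funext i
  simp only [resT, Pi.smul_apply, smul_eq_mul, mul_smul, Finset.smul_sum]

/-- the embedding of `F⁶` as the `F`-form of `K⁶` -/
noncomputable def emb6 : (Fin 3 × Fin 2 → F) →ₗ[F] (J6 → K) where
  toFun w := Sum.elim (resT b w) (fun i => frob F K (resT b w i))
  map_add' w w' := by
    funext I
    rcases I with i | i
    · simp only [Sum.elim_inl, resT_add, Pi.add_apply]
    · simp only [Sum.elim_inr, resT_add, Pi.add_apply, map_add]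
  map_smul' c w := by
    funext I
    rcases I with i | i
    · simp only [Sum.elim_inl, resT_smul, Pi.smul_apply, RingHom.id_apply]
    · simp only [Sum.elim_inr, resT_smul, Pi.smul_apply, RingHom.id_apply, map_smul]

theorem emb6_inl (w : Fin 3 × Fin 2 → F) (i : Fin 3) : emb6 b w (Sum.inl i) = resT b w i := rfl

theorem emb6_inr (w : Fin 3 × Fin 2 → F) (i : Fin 3) :
    emb6 b w (Sum.inr i) = frob F K (resT b w i) := rfl

/-- the projection back to `F`-coordinates -/
noncomputable def proj6 : (J6 → K) →ₗ[F] (Fin 3 × Fin 2 → F) where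
  toFun x p := b.repr (x (Sum.inl p.1)) p.2
  map_add' x y := by
    funext p
    simp only [Pi.add_apply, map_add, Finsupp.coe_add]
  map_smul' c x := by
    funext p
    simp only [Pi.smul_apply, map_smul, Finsupp.coe_smul, RingHom.id_apply]

theorem resT_proj6 (x : J6 → K) (i : Fin 3) : resT b (proj6 b x) i = x (Sum.inl i) := by
  simp only [resT, proj6, LinearMap.coe_mk, AddHom.coe_mk]
  exact b.sum_repr (x (Sum.inl i))

theorem proj6_emb6 (w : Fin 3 × Fin 2 → F) : proj6 b (emb6 b w) = w := by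
  funext p
  simp only [proj6, LinearMap.coe_mk, AddHom.coe_mk, emb6_inl, resT]
  rw [b.repr_sum_self]

theorem emb6_proj6 (x : J6 → K) (hx : ∀ i, x (Sum.inr i) = frob F K (x (Sum.inl i))) :
    emb6 b (proj6 b x) = x := by
  funext I
  rcases I with i | i
  · rw [emb6_inl, resT_proj6]
  · rw [emb6_inr, resT_proj6, hx]


theorem frob_frob [Fintype K] (hK : Fintype.card K = Fintype.card F ^ 2) (x : K) :
    frob F K (frob F K x) = x := by
  show (x ^ Fintype.card F) ^ Fintype.card F = x
  rw [← pow_mul, ← sq, ← hK, FiniteField.pow_card]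

/-- a matrix satisfying the star relation preserves the `F`-form -/
theorem star_stable (hσ : ∀ x : K, frob F K (frob F K x) = x) (C : Matrix J6 J6 K)
    (hC : C.map (frob F K) = C.submatrix Sum.swap Sum.swap) (x : J6 → K)
    (hx : ∀ i, x (Sum.inr i) = frob F K (x (Sum.inl i))) (i : Fin 3) :
    (C *ᵥ x) (Sum.inr i) = frob F K ((C *ᵥ x) (Sum.inl i)) := by
  have hx' : ∀ J : J6, frob F K (x J) = x (Sum.swap J) := by
    intro J
    rcases J with j | j
    · rw [Sum.swap_inl, hx]
    · rw [Sum.swap_inr, hx, hσ]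
  have hC' : ∀ I J : J6, frob F K (C I J) = C (Sum.swap I) (Sum.swap J) := by
    intro I J
    have := congrFun (congrFun hC I) J
    simpa using this
  simp only [Matrix.mulVec, dotProduct, map_sum, map_mul, hC', hx', Sum.swap_inl]
  exact (Equiv.sum_comp (Equiv.sumComm (Fin 3) (Fin 3)) (fun J => C (Sum.inr i) J * x J)).symm

variable (a c : F)
  (hA : algebraMap F K 1 = b 0 * frob F K (b 0))
  (hB : algebraMap F K a = b 0 * frob F K (b 1) + b 1 * frob F K (b 0))
  (hC : algebraMap F K c = b 1 * frob F K (b 1))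

include hA hB hC in
theorem quadFormPlus_emb6 (w : Fin 3 × Fin 2 → F) :
    Cfsg.quadFormPlus 3 K (emb6 b w) = algebraMap F K (sumBinForm 1 a c w) := by
  rw [← herm_self b 1 a c hA hB hC 3 w, hermForm_eq_frob]
  rfl

end descent

section hom
variable {F K : Type*} [Field F] [Fintype F] [Field K] [Algebra F K]
  (b : Module.Basis (Fin 2) F K) (hσ : ∀ x : K, frob F K (frob F K x) = x)

/-- the matrix of an element of `SU₄` -/
abbrev su4Mat (g : Cfsg.SU 4 K (Fintype.card F)) : Matrix (Fin 4) (Fin 4) K :=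
  ((g : Matrix.SpecialLinearGroup (Fin 4) K) : Matrix (Fin 4) (Fin 4) K)

theorem C2_su4_star (g : Cfsg.SU 4 K (Fintype.card F)) :
    (C2 (su4Mat g)).map (frob F K) = (C2 (su4Mat g)).submatrix Sum.swap Sum.swap :=
  C2_map_frob _ (fun u v => g.2 u v) g.1.2

/-- the induced `F`-linear map on `F⁶` -/
noncomputable def L6 (g : Cfsg.SU 4 K (Fintype.card F)) : Module.End F (Fin 3 × Fin 2 → F) :=
  proj6 b ∘ₗ ((Matrix.toLin' (C2 (su4Mat g))).restrictScalars F) ∘ₗ emb6 b

theorem L6_apply (g : Cfsg.SU 4 K (Fintype.card F)) (w : Fin 3 × Fin 2 → F) :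
    L6 b g w = proj6 b (C2 (su4Mat g) *ᵥ emb6 b w) := rfl

include hσ in
theorem emb6_L6 (g : Cfsg.SU 4 K (Fintype.card F)) (w : Fin 3 × Fin 2 → F) :
    emb6 b (L6 b g w) = C2 (su4Mat g) *ᵥ emb6 b w := by
  rw [L6_apply]
  apply emb6_proj6
  intro i
  exact star_stable hσ _ (C2_su4_star g) _ (fun i => rfl) i

theorem emb6_injective : Function.Injective (emb6 (F := F) b) :=
  Function.LeftInverse.injective (proj6_emb6 b)

include hσ in
theorem L6_one : L6 b (1 : Cfsg.SU 4 K (Fintype.card F)) = 1 := by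
  apply LinearMap.ext
  intro w
  apply emb6_injective b
  rw [emb6_L6 b hσ]
  show C2 (1 : Matrix (Fin 4) (Fin 4) K) *ᵥ emb6 b w = emb6 b w
  rw [C2_one, Matrix.one_mulVec]

include hσ in
theorem L6_mul (g h : Cfsg.SU 4 K (Fintype.card F)) : L6 b (g * h) = L6 b g * L6 b h := by
  apply LinearMap.ext
  intro w
  apply emb6_injective b
  rw [Module.End.mul_apply, emb6_L6 b hσ, emb6_L6 b hσ, emb6_L6 b hσ, Matrix.mulVec_mulVec, ← C2_mul]
  rfl

include hσ in
/-- a `K`-linear map fixing the `F`-form pointwise is the identity -/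
theorem eq_one_of_fixes_emb6 (C : Matrix J6 J6 K) (h : ∀ w, C *ᵥ emb6 b w = emb6 b w) : C = 1 := by
  have hfix : ∀ x : J6 → K, (∀ i, x (Sum.inr i) = frob F K (x (Sum.inl i))) → C *ᵥ x = x := by
    intro x hx
    rw [← emb6_proj6 b x hx]
    exact h _
  -- the twist of a vector
  have key : ∀ (x : J6 → K) (l : K),
      l • (C *ᵥ x) + frob F K l • (C *ᵥ (fun I => frob F K (x (Sum.swap I))))
        = l • x + frob F K l • (fun I => frob F K (x (Sum.swap I))) := by
    intro x l
    have := hfix (l • x + frob F K l • (fun I => frob F K (x (Sum.swap I)))) (by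
      intro i
      simp only [Pi.add_apply, Pi.smul_apply, smul_eq_mul, Sum.swap_inr, Sum.swap_inl, map_add,
        map_mul, hσ]
      ring)
    rw [Matrix.mulVec_add, Matrix.mulVec_smul, Matrix.mulVec_smul] at this
    exact this
  apply Matrix.toLin'.injective
  apply LinearMap.ext
  intro x
  rw [Matrix.toLin'_apply, Matrix.toLin'_one]
  show C *ᵥ x = x
  funext I
  have e0 := congrFun (key x (b 0)) I
  have e1 := congrFun (key x (b 1)) I
  simp only [Pi.add_apply, Pi.smul_apply, smul_eq_mul] at e0 e1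
  have hz := z0_ne_zero b
  apply mul_left_cancel₀ hz
  linear_combination frob F K (b 1) * e0 - frob F K (b 0) * e1

variable (a c : F)
  (hA : algebraMap F K 1 = b 0 * frob F K (b 0))
  (hB : algebraMap F K a = b 0 * frob F K (b 1) + b 1 * frob F K (b 0))
  (hC : algebraMap F K c = b 1 * frob F K (b 1))

/-- the matrices of the induced maps -/
noncomputable def kap0 : Cfsg.SU 4 K (Fintype.card F) →*
    Matrix (Fin 3 × Fin 2) (Fin 3 × Fin 2) F where
  toFun g := LinearMap.toMatrix' (L6 b g)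
  map_one' := by
    rw [L6_one b hσ]
    exact LinearMap.toMatrix'_one
  map_mul' g h := by
    rw [L6_mul b hσ]
    exact LinearMap.toMatrix'_mul _ _

theorem kap0_mulVec (g : Cfsg.SU 4 K (Fintype.card F)) (w : Fin 3 × Fin 2 → F) :
    kap0 b hσ g *ᵥ w = L6 b g w := by
  show LinearMap.toMatrix' (L6 b g) *ᵥ w = _
  rw [LinearMap.toMatrix'_mulVec]

include hσ hA hB hC in
theorem sumBinForm_L6 (g : Cfsg.SU 4 K (Fintype.card F)) (w : Fin 3 × Fin 2 → F) :
    sumBinForm 1 a c (L6 b g w) = sumBinForm 1 a c w := by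
  apply (algebraMap F K).injective
  rw [← quadFormPlus_emb6 b a c hA hB hC, ← quadFormPlus_emb6 b a c hA hB hC, emb6_L6 b hσ,
    quadFormPlus_C2_det]
  have : (su4Mat g).det = 1 := g.1.2
  rw [this, one_mul]

include hσ hA hB hC in
/-- **the hom `SU₄(q) → O(N ⊕ N ⊕ N)`** -/
noncomputable def kap1 : Cfsg.SU 4 K (Fintype.card F) →*
    Cfsg.isometryGroup F (sumBinForm (ι := Fin 3) 1 a c) :=
  (kap0 b hσ).toHomUnits.codRestrict _ (fun g => by
    rw [Cfsg.Agent.Helper45.mem_isometryGroup_iff]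
    intro w
    show sumBinForm 1 a c (kap0 b hσ g *ᵥ w) = _
    rw [kap0_mulVec]
    exact sumBinForm_L6 b hσ a c hA hB hC g w)

theorem kap1_coe (g : Cfsg.SU 4 K (Fintype.card F)) :
    (((kap1 b hσ a c hA hB hC g : Cfsg.isometryGroup F (sumBinForm (ι := Fin 3) 1 a c)) :
      GL (Fin 3 × Fin 2) F) : Matrix (Fin 3 × Fin 2) (Fin 3 × Fin 2) F) = kap0 b hσ g := rfl

/-- the kernel consists of `±1` -/
theorem mem_ker_kap1 (g : Cfsg.SU 4 K (Fintype.card F))
    (hg : g ∈ (kap1 b hσ a c hA hB hC).ker) : su4Mat g = 1 ∨ su4Mat g = -1 := by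
  rw [MonoidHom.mem_ker] at hg
  have h1 : kap0 b hσ g = 1 := by
    rw [← kap1_coe b hσ a c hA hB hC, hg]
    rfl
  have h2 : ∀ w, C2 (su4Mat g) *ᵥ emb6 b w = emb6 b w := by
    intro w
    rw [← emb6_L6 b hσ, ← kap0_mulVec b hσ, h1, Matrix.one_mulVec]
  have h3 : C2 (su4Mat g) = 1 := eq_one_of_fixes_emb6 b hσ _ h2
  exact ker_cases g.1 ((mem_ker_slHom g.1).2 h3)

end hom

end Cfsg.Agent.Helper5
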