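import Mathlib
import Cfsg.Agent.Helper62.Ore.Defs

/-!
# S2444 farm (helper62), piece (UPD): companion update of a cyclic operator
-/

set_option autoImplicit false

namespace Cfsg.Agent.Helper5.Ore

open Polynomial Module Cfsg.Agent.Helper62.Ore

variable {F : Type*} [Field F] {V : Type*} [AddCommGroup V] [Module F V]

theorem UPD_aeval_apply (M : Module.End F V) (p : F[X]) (v : V) :
    (Polynomial.aeval M p) v = ∑ i ∈ Finset.range (p.natDegree + 1), p.coeff i • (M ^ i) v := by
  rw [Polynomial.aeval_eq_sum_range]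
  simp [LinearMap.sum_apply]

/-- (UPD) companion update: if `ε` is the last coordinate functional of the Krylov basis of `ζ`,
adding `ε ⊗ w` changes the relation polynomial from `g` to `f`. -/
theorem cyc_update [FiniteDimensional F V] {n : ℕ} (hn : finrank F V = n)
    {B : Module.End F V} {ζ : V} {g f : F[X]} (ε : Module.Dual F V)
    (hB : Cyc n B ζ) (hg : Rel n B ζ g) (hf : f.Monic) (hfd : f.natDegree = n)
    (hε0 : ∀ k, k + 1 < n → ε ((B ^ k) ζ) = 0) (hε1 : ε ((B ^ (n - 1)) ζ) = 1) :
    Cyc n (B + ε.smulRight (∑ i ∈ Finset.range n, (g.coeff i - f.coeff i) • (B ^ i) ζ)) ζ ∧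
    Rel n (B + ε.smulRight (∑ i ∈ Finset.range n, (g.coeff i - f.coeff i) • (B ^ i) ζ)) ζ f := by
  set w : V := ∑ i ∈ Finset.range n, (g.coeff i - f.coeff i) • (B ^ i) ζ with hw
  set B' : Module.End F V := B + ε.smulRight w with hB'
  have happ : ∀ x, B' x = B x + ε x • w := by
    intro x
    simp [hB', LinearMap.smulRight_apply]
  have hpow : ∀ k, k < n → (B' ^ k) ζ = (B ^ k) ζ := by
    intro k
    induction k with
    | zero => intro _; simp
    | succ k ih =>
      intro hk
      rw [pow_succ', Module.End.mul_apply, ih (by omega), happ, hε0 k hk, zero_smul, add_zero,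
        pow_succ', Module.End.mul_apply]
  refine ⟨?_, hf, hfd, ?_⟩
  · have : (fun i : Fin n => (B' ^ (i : ℕ)) ζ) = fun i : Fin n => (B ^ (i : ℕ)) ζ := by
      funext i
      exact hpow i i.2
    show LinearIndependent F (fun i : Fin n => (B' ^ (i : ℕ)) ζ)
    rw [this]
    exact hB
  · obtain ⟨hgm, hgd, hg0⟩ := hg
    rcases Nat.eq_zero_or_pos n with h0 | hpos
    · -- `n = 0`: `g = 1`, so `ζ = 0`
      have hg1 : g = 1 := by
        have := Polynomial.eq_C_of_natDegree_eq_zero (by rw [hgd, h0] : g.natDegree = 0)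
        have hc : g.coeff 0 = 1 := by
          have := hgm.coeff_natDegree
          rwa [hgd, h0] at this
        rw [this, hc, map_one]
      have hζ : ζ = 0 := by
        rw [hg1] at hg0
        simpa using hg0
      rw [hζ, map_zero]
    · obtain ⟨m, rfl⟩ : ∃ m, n = m + 1 := ⟨n - 1, by omega⟩
      have hlast : (B' ^ (m + 1)) ζ = (B ^ (m + 1)) ζ + w := by
        rw [pow_succ', Module.End.mul_apply, hpow m (by omega), happ]
        have : ε ((B ^ m) ζ) = 1 := by simpa using hε1
        rw [this, one_smul, pow_succ', Module.End.mul_apply]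
      have hfn : f.coeff (m + 1) = 1 := by
        have := hf.coeff_natDegree
        rwa [hfd] at this
      have hgn : g.coeff (m + 1) = 1 := by
        have := hgm.coeff_natDegree
        rwa [hgd] at this
      rw [UPD_aeval_apply, hgd, Finset.sum_range_succ, hgn, one_smul] at hg0
      rw [UPD_aeval_apply, hfd, Finset.sum_range_succ, hfn, one_smul, hlast]
      have hsum : ∑ i ∈ Finset.range (m + 1), f.coeff i • (B' ^ i) ζ
          = ∑ i ∈ Finset.range (m + 1), f.coeff i • (B ^ i) ζ := by
        refine Finset.sum_congr rfl (fun i hi => ?_)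
        rw [hpow i (Finset.mem_range.mp hi)]
      rw [hsum]
      have hwe : w = ∑ i ∈ Finset.range (m + 1), g.coeff i • (B ^ i) ζ
          - ∑ i ∈ Finset.range (m + 1), f.coeff i • (B ^ i) ζ := by
        rw [hw, ← Finset.sum_sub_distrib]
        refine Finset.sum_congr rfl (fun i _ => ?_)
        rw [sub_smul]
      rw [hwe, ← hg0]
      abel

end Cfsg.Agent.Helper5.Ore
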