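import Cfsg.Agent.Helper96.OutChevC
import Cfsg.Agent.Helper18.Aut.GraphEx

set_option autoImplicit false

namespace Cfsg.Agent.Helper5.OutD4

open Cfsg Cfsg.Lie Cfsg.Agent.Helper96.OutChev Cfsg.Agent.Helper36

theorem hD4 : chevD4 ∈ [chevG2, chevB2, chevD4, chevF4, chevE6, chevE7, chevE8] := by simp

/-- the three outer nodes `0, 2, 3` of the `D₄` diagram -/
def up : Fin 3 → Fin chevD4.rank := fun k =>
  if k = 0 then ⟨0, by decide⟩ else if k = 1 then ⟨2, by decide⟩ else ⟨3, by decide⟩

/-- inverse of `up` (the central node `1` goes to `0`, never used) -/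
def down : Fin chevD4.rank → Fin 3 := fun i =>
  if i.val = 2 then 1 else if i.val = 3 then 2 else 0

/-- extend a permutation of the outer nodes to the diagram, fixing the central node -/
def embFun (π : Equiv.Perm (Fin 3)) : Fin chevD4.rank → Fin chevD4.rank := fun i =>
  if i.val = 1 then i else up (π (down i))

theorem embFun_embFun : ∀ (π ρ : Equiv.Perm (Fin 3)) (i : Fin chevD4.rank),
    embFun π (embFun ρ i) = embFun (π * ρ) i := by
  decide +kernel

theorem embFun_one : ∀ i : Fin chevD4.rank, embFun 1 i = i := by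
  decide +kernel

/-- the diagram symmetry of `D₄` attached to a permutation of the three outer nodes -/
def emb : Equiv.Perm (Fin 3) →* Equiv.Perm (Fin chevD4.rank) where
  toFun π :=
    { toFun := embFun π
      invFun := embFun π⁻¹
      left_inv := fun i => by rw [embFun_embFun, inv_mul_cancel, embFun_one]
      right_inv := fun i => by rw [embFun_embFun, mul_inv_cancel, embFun_one] }
  map_one' := Equiv.ext embFun_one
  map_mul' π ρ := Equiv.ext fun i => (embFun_embFun π ρ i).symm

theorem emb_apply (π : Equiv.Perm (Fin 3)) (i : Fin chevD4.rank) : emb π i = embFun π i := rfl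

theorem emb_cases : ∀ π : Equiv.Perm (Fin 3),
    emb π = 1 ∨ emb π = Equiv.swap d40 d42 ∨ emb π = Equiv.swap d40 d43 ∨
      emb π = Equiv.swap d42 d43 ∨ emb π = Equiv.swap d40 d42 * Equiv.swap d42 d43 ∨
      emb π = Equiv.swap d42 d43 * Equiv.swap d40 d42 := by
  decide +kernel

theorem emb_injective : Function.Injective emb := by
  have : ∀ π ρ : Equiv.Perm (Fin 3), emb π = emb ρ → π = ρ := by decide +kernel
  exact fun π ρ h => this π ρ h

theorem exists_emb_eq : ∀ π' : Equiv.Perm (Fin chevD4.rank),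
    (∀ i j : Fin chevD4.rank, i ≠ j → chevD4.bonds (π' i) (π' j) = chevD4.bonds i j) →
    ∃ π : Equiv.Perm (Fin 3), emb π = π' := by
  decide +kernel

theorem isDiagramSymmetry_emb (π : Equiv.Perm (Fin 3)) : chevD4.IsDiagramSymmetry (emb π) := by
  unfold ChevalleyDatum.IsDiagramSymmetry
  revert π
  decide +kernel

/-- `θ` acts on the fundamental root elements and their negatives through the node permutation `π`,
the scalars `c` and the field automorphism `σ`:
`x_{±p_i}(t) ↦ x_{±p_{π i}}(c_i^{±1} σ(t))` -/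
def ActsBy {F : Type*} [Field F] (θ : MulAut ↥(chevD4.group F)) (π : Equiv.Perm (Fin chevD4.rank))
    (c : Fin chevD4.rank → Fˣ) (σ : F ≃+* F) : Prop :=
  ∀ (i : Fin chevD4.rank) (t : F),
    θ (xg chevD4 hD4 (chevD4.simple i) t)
      = xg chevD4 hD4 (chevD4.simple (π i)) ((c i : F) * σ t) ∧
    θ (xg chevD4 hD4 (chevD4.neg (chevD4.simple i)) t)
      = xg chevD4 hD4 (chevD4.neg (chevD4.simple (π i))) ((((c i)⁻¹ : Fˣ) : F) * σ t)

/-- the outer diagonal invariant: `c₀ c₂` and `c₀ c₃` are squares -/
def SqC {F : Type*} [Field F] (c : Fin chevD4.rank → Fˣ) : Prop :=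
  IsSquare (c d40 * c d42) ∧ IsSquare (c d40 * c d43)

end Cfsg.Agent.Helper5.OutD4
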