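import Mathlib
import Cfsg.Agent.Helper5.Siegel4
import Cfsg.Agent.Helper44.StdNondeg

/-!
# The Siegel transvection groups form a set of abstract `F`-root subgroups
-/

set_option autoImplicit false
set_option linter.unusedSectionVars false

namespace Cfsg.Agent.Helper5

open Matrix QuadraticMap Module Cfsg.Agent.Helper44 Cfsg.Agent.Helper45.OmegaParity
open scoped commutatorElement

variable {F : Type*} [Field F] {ι : Type} [Fintype ι] [DecidableEq ι]
variable {Q : QuadraticForm F (ι → F)}

/-- the root subgroup axioms inside the generated subgroup, and connectivity -/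
theorem siegel_rootSet (hQ : (QuadraticMap.polarBilin Q).Nondegenerate)
    (h6 : 6 ≤ Fintype.card ι) (S₀ : Set (Subgroup (Cfsg.isometryGroup F ⇑Q)))
    (hS : S₀ = siegelFam Q) :
    Cfsg.IsKRootSubgroupSet F
      ((fun A : Subgroup (Cfsg.isometryGroup F ⇑Q) => A.subgroupOf (⨆ B ∈ S₀, B)) '' S₀) ∧
    Cfsg.IsConnectedFamily (Cfsg.FAdj S₀) S₀ := by
  subst hS
  constructor
  · refine Cfsg.Agent.Helper94.relFam_kroot F ?_ ?_ ?_ (siegel_pair hQ)
    · rintro A ⟨p, r, h, rfl⟩
      exact h.siegelSub_comm hQ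
    · rintro A ⟨p, r, h, rfl⟩
      exact h.siegelSub_ne_bot hQ
    · rintro A ⟨p, r, h, rfl⟩ g _
      rw [h.conjBy_siegelSub hQ g]
      exact ⟨_, _, h.map g, rfl⟩
  · intro A hA B hB
    refine Relation.ReflTransGen.mono ?_ A B (siegel_connected hQ h6 A hA B hB)
    rintro X Y ⟨hX, hY, hne, him⟩
    exact ⟨hX, hY, Cfsg.Agent.Helper94.isRankOnePair_of_image F him hne⟩

end Cfsg.Agent.Helper5
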