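import Mathlib

/-!
# Stabilizer-chain bounds for groups of isometries of an alternating form

Abstract setting: a finite group `G` acting linearly on a finite vector space `V` over a finite
field `F`, preserving an alternating bilinear form `B`.  For a subgroup `Γ` stabilizing a
`B`-nondegenerate subspace `U`, `|Γ| ≤ |Sp(U)| · |Γ ∩ Fix(U)|` (with `|Sp(U)|` written numerically).
-/

set_option autoImplicit false
set_option linter.unusedSectionVars false

namespace Cfsg.Agent.Helper5.SpCent

section orbit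
variable {G X : Type*} [Group G] [MulAction G X]

/-- orbit–stabilizer inequality for a subgroup -/
theorem card_le_mul_card_stab [Finite G] (Γ : Subgroup G) (x : X) (S : Set X) (hS : S.Finite)
    (h : ∀ g ∈ Γ, g • x ∈ S) :
    Nat.card Γ ≤ S.ncard * Nat.card (Γ ⊓ MulAction.stabilizer G x : Subgroup G) := by
  have h1 := Subgroup.index_mul_card (MulAction.stabilizer Γ x)
  rw [MulAction.index_stabilizer] at h1
  have h2 : (MulAction.orbit Γ x).ncard ≤ S.ncard :=
    Set.ncard_le_ncard (by rintro _ ⟨g, rfl⟩; exact h g.1 g.2) hS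
  have h3 : Nat.card (MulAction.stabilizer Γ x)
      = Nat.card (Γ ⊓ MulAction.stabilizer G x : Subgroup G) := by
    refine Nat.card_congr ⟨fun g => ⟨g.1.1, g.1.2, g.2⟩, fun g => ⟨⟨g.1, g.2.1⟩, g.2.2⟩,
      fun _ => rfl, fun _ => rfl⟩
  rw [← h1, h3]
  exact Nat.mul_le_mul_right _ h2

end orbit

section symp
variable {F : Type*} [Field F] [Fintype F] {V : Type*} [AddCommGroup V] [Module F V] [Finite V]
  {G : Type*} [Group G] [Finite G] [DistribMulAction G V] [SMulCommClass G F V]
  (B : LinearMap.BilinForm F V)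

/-- `U` is nondegenerate for `B` -/
def NondegOn (U : Submodule F V) : Prop := ∀ x ∈ U, (∀ y ∈ U, B x y = 0) → x = 0

variable (G) in
/-- the pointwise fixer of `U` -/
def fixer (U : Submodule F V) : Subgroup G where
  carrier := {g | ∀ x ∈ U, g • x = x}
  one_mem' := fun x _ => one_smul _ _
  mul_mem' := fun {a b} ha hb x hx => by rw [mul_smul, hb x hx, ha x hx]
  inv_mem' := fun {a} ha x hx => by rw [inv_smul_eq_iff, ha x hx]

theorem mem_fixer {U : Submodule F V} {g : G} : g ∈ fixer G U ↔ ∀ x ∈ U, g • x = x := Iff.rfl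

/-- the part of `U` orthogonal to `e` and `f` -/
def perpIn (U : Submodule F V) (e f : V) : Submodule F V :=
  U ⊓ LinearMap.ker (B.flip e) ⊓ LinearMap.ker (B.flip f)

theorem mem_perpIn {U : Submodule F V} {e f x : V} :
    x ∈ perpIn B U e f ↔ x ∈ U ∧ B x e = 0 ∧ B x f = 0 := by
  simp [perpIn, and_assoc]

variable {B}

theorem perpIn_le {U : Submodule F V} {e f : V} : perpIn B U e f ≤ U :=
  fun _ hx => ((mem_perpIn B).1 hx).1

theorem decomp_mem (halt : B.IsAlt) {U : Submodule F V} {e f : V} (he : e ∈ U) (hf : f ∈ U)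
    (hc : B e f ≠ 0) {x : V} (hx : x ∈ U) :
    x - ((B e f)⁻¹ * B x f) • e + ((B e f)⁻¹ * B x e) • f ∈ perpIn B U e f := by
  rw [mem_perpIn]
  have hfe : B f e = -B e f := (halt.neg_eq e f).symm
  refine ⟨U.add_mem (U.sub_mem hx (U.smul_mem _ he)) (U.smul_mem _ hf), ?_, ?_⟩
  · simp only [map_add, map_sub, map_smul, LinearMap.add_apply, LinearMap.sub_apply,
      LinearMap.smul_apply, smul_eq_mul, halt.self_eq_zero, hfe]
    field_simp
    ring
  · simp only [map_add, map_sub, map_smul, LinearMap.add_apply, LinearMap.sub_apply,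
      LinearMap.smul_apply, smul_eq_mul, halt.self_eq_zero]
    field_simp
    ring

/-- the parametrization `(a, b, x') ↦ a e + b f + x'` of `U` -/
theorem card_eq_sq_mul (halt : B.IsAlt) {U : Submodule F V} {e f : V} (he : e ∈ U) (hf : f ∈ U)
    (hc : B e f ≠ 0) :
    Nat.card U = Fintype.card F ^ 2 * Nat.card (perpIn B U e f) := by
  have hfe : B f e = -B e f := (halt.neg_eq e f).symm
  let ψ : F × F × perpIn B U e f → U := fun p =>
    ⟨p.1 • e + p.2.1 • f + p.2.2.1,
      U.add_mem (U.add_mem (U.smul_mem _ he) (U.smul_mem _ hf)) (perpIn_le p.2.2.2)⟩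
  have hψ : Function.Bijective ψ := by
    constructor
    · rintro ⟨a, b, x, hx⟩ ⟨a', b', y, hy⟩ h
      have h0 : a • e + b • f + x = a' • e + b' • f + y := congrArg Subtype.val h
      obtain ⟨-, hxe, hxf⟩ := (mem_perpIn B).1 hx
      obtain ⟨-, hye, hyf⟩ := (mem_perpIn B).1 hy
      have h1 := congrArg (fun z => B z f) h0
      have h2 := congrArg (fun z => B z e) h0
      simp only [map_add, map_smul, LinearMap.add_apply, LinearMap.smul_apply, smul_eq_mul,
        halt.self_eq_zero, hxe, hxf, hye, hyf, hfe, mul_zero, add_zero, zero_add] at h1 h2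
      have ha : a = a' := mul_right_cancel₀ hc h1
      have hb : b = b' := mul_right_cancel₀ (neg_ne_zero.2 hc) h2
      subst ha hb
      have hxy : x = y := add_left_cancel h0
      subst hxy
      rfl
    · rintro ⟨x, hx⟩
      refine ⟨⟨(B e f)⁻¹ * B x f, -((B e f)⁻¹ * B x e), ⟨_, decomp_mem halt he hf hc hx⟩⟩, ?_⟩
      apply Subtype.ext
      show ((B e f)⁻¹ * B x f) • e + (-((B e f)⁻¹ * B x e)) • f
        + (x - ((B e f)⁻¹ * B x f) • e + ((B e f)⁻¹ * B x e) • f) = x
      rw [neg_smul]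
      abel
  rw [← Nat.card_eq_of_bijective ψ hψ, Nat.card_prod, Nat.card_prod, Nat.card_eq_fintype_card]
  ring

/-- the slice `{y ∈ U | B e y = B e f}` has at most `q |U'|` elements -/
theorem ncard_slice_le (halt : B.IsAlt) {U : Submodule F V} {e f : V} (he : e ∈ U) (hf : f ∈ U)
    (hc : B e f ≠ 0) :
    {y : V | y ∈ U ∧ B e y = B e f}.ncard ≤ Fintype.card F * Nat.card (perpIn B U e f) := by
  have hfe : B f e = -B e f := (halt.neg_eq e f).symm
  let ψ : F × perpIn B U e f → V := fun p => p.1 • e + f + p.2.1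
  have hsub : {y : V | y ∈ U ∧ B e y = B e f} ⊆ Set.range ψ := by
    rintro y ⟨hy, hey⟩
    have hz : y - f ∈ U := U.sub_mem hy hf
    have h1 := decomp_mem halt he hf hc hz
    have h2 : B (y - f) e = 0 := by
      rw [map_sub, LinearMap.sub_apply, hfe, ← halt.neg_eq e y, hey]; ring
    rw [h2, mul_zero, zero_smul, add_zero] at h1
    refine ⟨⟨(B e f)⁻¹ * B (y - f) f, ⟨_, h1⟩⟩, ?_⟩
    show ((B e f)⁻¹ * B (y - f) f) • e + f + (y - f - ((B e f)⁻¹ * B (y - f) f) • e) = y
    abel
  calc {y : V | y ∈ U ∧ B e y = B e f}.ncard ≤ (Set.range ψ).ncard :=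
        Set.ncard_le_ncard hsub (Set.toFinite _)
    _ ≤ Nat.card (F × perpIn B U e f) := by
        rw [← Set.ncard_univ, ← Set.image_univ]
        exact Set.ncard_image_le (Set.toFinite _)
    _ = Fintype.card F * Nat.card (perpIn B U e f) := by
        rw [Nat.card_prod, Nat.card_eq_fintype_card]

theorem nondegOn_perpIn (halt : B.IsAlt) {U : Submodule F V} {e f : V} (he : e ∈ U) (hf : f ∈ U)
    (hc : B e f ≠ 0) (hU : NondegOn B U) : NondegOn B (perpIn B U e f) := by
  intro x hx h
  obtain ⟨hxU, hxe, hxf⟩ := (mem_perpIn B).1 hx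
  apply hU x hxU
  intro y hy
  have h1 := h _ (decomp_mem halt he hf hc hy)
  simp only [map_add, map_sub, map_smul, smul_eq_mul, hxe, hxf, mul_zero, sub_zero, add_zero] at h1
  exact h1

/-- isometries fixing `e` and `f` and preserving `U` preserve `perpIn U e f` -/
theorem smul_mem_perpIn (hinv : ∀ (g : G) (x y : V), B (g • x) (g • y) = B x y)
    {U : Submodule F V} {e f : V} {g : G} (hge : g • e = e) (hgf : g • f = f)
    (hgU : ∀ x ∈ U, g • x ∈ U) {x : V} (hx : x ∈ perpIn B U e f) : g • x ∈ perpIn B U e f := by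
  obtain ⟨hxU, hxe, hxf⟩ := (mem_perpIn B).1 hx
  refine (mem_perpIn B).2 ⟨hgU x hxU, ?_, ?_⟩
  · rw [← hxe]; conv_lhs => rw [← hge]
    exact hinv g x e
  · rw [← hxf]; conv_lhs => rw [← hgf]
    exact hinv g x f

/-- fixing `e`, `f` and `perpIn U e f` pointwise means fixing `U` pointwise -/
theorem mem_fixer_of_perpIn (halt : B.IsAlt) {U : Submodule F V} {e f : V} (he : e ∈ U)
    (hf : f ∈ U) (hc : B e f ≠ 0) {g : G} (hge : g • e = e) (hgf : g • f = f)
    (hg : g ∈ fixer G (perpIn B U e f)) : g ∈ fixer G U := by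
  intro x hx
  have h1 := hg _ (decomp_mem halt he hf hc hx)
  rw [smul_add, smul_sub, smul_comm g, smul_comm g, hge, hgf] at h1
  have h2 : g • x - ((B e f)⁻¹ * B x f) • e + ((B e f)⁻¹ * B x e) • f
      = x - ((B e f)⁻¹ * B x f) • e + ((B e f)⁻¹ * B x e) • f := h1
  have h3 := add_right_cancel h2
  exact sub_left_injective h3

end symp

end Cfsg.Agent.Helper5.SpCent
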