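import Mathlib
import Cfsg.Agent.Helper5.SpCent1

/-!
# Stabilizer-chain bounds II: the two inductive bounds
-/

set_option autoImplicit false
set_option linter.unusedSectionVars false

namespace Cfsg.Agent.Helper5.SpCent

/-- the product `∏_{i<k} (q^{2(i+1)} - 1)` -/
def pProd (q k : ℕ) : ℕ := ∏ i ∈ Finset.range k, (q ^ (2 * (i + 1)) - 1)

/-- the order of `Sp_{2k}(q)` -/
def spOrd (q k : ℕ) : ℕ := q ^ (k ^ 2) * pProd q k

theorem pProd_zero (q : ℕ) : pProd q 0 = 1 := by simp [pProd]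

theorem pProd_succ (q k : ℕ) : pProd q (k + 1) = pProd q k * (q ^ (2 * (k + 1)) - 1) := by
  simp [pProd, Finset.prod_range_succ]

theorem spOrd_zero (q : ℕ) : spOrd q 0 = 1 := by simp [spOrd, pProd_zero]

theorem spOrd_succ (q k : ℕ) :
    spOrd q (k + 1) = (q ^ (2 * (k + 1)) - 1) * q ^ (2 * k + 1) * spOrd q k := by
  rw [spOrd, spOrd, pProd_succ]
  have : (k + 1) ^ 2 = k ^ 2 + (2 * k + 1) := by ring
  rw [this, pow_add]
  ring

section symp
variable {F : Type*} [Field F] [Fintype F] {V : Type*} [AddCommGroup V] [Module F V] [Finite V]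
  {G : Type*} [Group G] [Finite G] [DistribMulAction G V] [SMulCommClass G F V]
  {B : LinearMap.BilinForm F V}

local notation "q" => Fintype.card F

theorem card_bot_submodule : Nat.card (⊥ : Submodule F V) = 1 := by
  rw [Nat.card_eq_one_iff_unique]
  exact ⟨inferInstance, inferInstance⟩

theorem card_le_inf_fixer_bot (Γ : Subgroup G) :
    Nat.card Γ ≤ Nat.card (Γ ⊓ fixer G (⊥ : Submodule F V) : Subgroup G) := by
  apply Subgroup.card_le_of_le
  intro g hg
  refine ⟨hg, ?_⟩
  intro x hx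
  rw [(Submodule.mem_bot F).1 hx, smul_zero]

theorem one_lt_q : 1 < q := Fintype.one_lt_card

theorem ncard_nonzero (U : Submodule F V) :
    {x : V | x ∈ U ∧ x ≠ 0}.ncard = Nat.card U - 1 := by
  have : {x : V | x ∈ U ∧ x ≠ 0} = (U : Set V) \ {0} := by
    ext x; simp
  rw [this, Set.ncard_sdiff_singleton_of_mem (U.zero_mem), ← Nat.card_coe_set_eq]
  rfl

/-- the first step of the chain: the stabilizer of a nonzero vector -/
theorem card_le_stab_vec (Γ : Subgroup G) (U : Submodule F V) (hΓU : ∀ g ∈ Γ, ∀ x ∈ U, g • x ∈ U)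
    {e : V} (he : e ∈ U) (he0 : e ≠ 0) :
    Nat.card Γ ≤ (Nat.card U - 1) * Nat.card (Γ ⊓ MulAction.stabilizer G e : Subgroup G) := by
  rw [← ncard_nonzero]
  refine card_le_mul_card_stab Γ e _ (Set.toFinite _) ?_
  intro g hg
  exact ⟨hΓU g hg e he, (smul_ne_zero_iff_ne g).2 he0⟩

theorem card_le_spOrd (halt : B.IsAlt) (hinv : ∀ (g : G) (x y : V), B (g • x) (g • y) = B x y) :
    ∀ (n : ℕ) (U : Submodule F V) (Γ : Subgroup G), Nat.card U ≤ q ^ n → NondegOn B U →
      (∀ g ∈ Γ, ∀ x ∈ U, g • x ∈ U) →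
      ∃ k, Nat.card U = q ^ (2 * k) ∧
        Nat.card Γ ≤ spOrd q k * Nat.card (Γ ⊓ fixer G U : Subgroup G) := by
  intro n
  induction n with
  | zero =>
    intro U Γ hcard _ _
    have hU : U = ⊥ := by
      rw [pow_zero] at hcard
      have h1 : Nat.card U = 1 := le_antisymm hcard Nat.card_pos
      have := (Nat.card_eq_one_iff_unique.1 h1).1
      exact Submodule.eq_bot_of_subsingleton
    subst hU
    refine ⟨0, by rw [card_bot_submodule]; simp, ?_⟩
    rw [spOrd_zero, one_mul]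
    exact card_le_inf_fixer_bot Γ
  | succ n ih =>
    intro U Γ hcard hU hΓU
    by_cases hbot : U = ⊥
    · subst hbot
      refine ⟨0, by rw [card_bot_submodule]; simp, ?_⟩
      rw [spOrd_zero, one_mul]
      exact card_le_inf_fixer_bot Γ
    obtain ⟨e, he, he0⟩ := Submodule.exists_mem_ne_zero_of_ne_bot hbot
    obtain ⟨f, hf, hc⟩ : ∃ f ∈ U, B e f ≠ 0 := by
      by_contra h
      push Not at h
      exact he0 (hU e he h)
    have hcardU := card_eq_sq_mul halt he hf hc
    set U' := perpIn B U e f with hU'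
    have hq : 0 < q := Fintype.card_pos
    have hcard' : Nat.card U' ≤ q ^ n := by
      rw [hcardU, pow_succ] at hcard
      have h1 : q * Nat.card U' ≤ q * q ^ n := by
        calc q * Nat.card U' ≤ q * (q * Nat.card U') := Nat.le_mul_of_pos_left _ hq
          _ = q ^ 2 * Nat.card U' := by ring
          _ ≤ q ^ n * q := hcard
          _ = q * q ^ n := by ring
      exact Nat.le_of_mul_le_mul_left h1 hq
    set Γ₁ : Subgroup G := Γ ⊓ MulAction.stabilizer G e with hΓ₁
    set Γ₂ : Subgroup G := Γ₁ ⊓ MulAction.stabilizer G f with hΓ₂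
    have h1 : Nat.card Γ ≤ (Nat.card U - 1) * Nat.card Γ₁ := card_le_stab_vec Γ U hΓU he he0
    have h2 : Nat.card Γ₁ ≤ (q * Nat.card U') * Nat.card Γ₂ := by
      refine (card_le_mul_card_stab Γ₁ f {y : V | y ∈ U ∧ B e y = B e f} (Set.toFinite _) ?_).trans
        (Nat.mul_le_mul_right _ (ncard_slice_le halt he hf hc))
      intro g hg'
      obtain ⟨hg, hge⟩ := Subgroup.mem_inf.1 hg'
      refine ⟨hΓU g hg f hf, ?_⟩
      rw [MulAction.mem_stabilizer_iff] at hge
      conv_lhs => rw [← hge]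
      exact hinv g e f
    have hΓ₂U' : ∀ g ∈ Γ₂, ∀ x ∈ U', g • x ∈ U' := by
      intro g hg' x hx
      obtain ⟨hg'', hgf⟩ := Subgroup.mem_inf.1 hg'
      obtain ⟨hg, hge⟩ := Subgroup.mem_inf.1 hg''
      exact smul_mem_perpIn hinv (MulAction.mem_stabilizer_iff.1 hge)
        (MulAction.mem_stabilizer_iff.1 hgf) (hΓU g hg) hx
    obtain ⟨k, hk, h3⟩ := ih U' Γ₂ hcard' (nondegOn_perpIn halt he hf hc hU) hΓ₂U'
    have h4 : Nat.card (Γ₂ ⊓ fixer G U' : Subgroup G) ≤ Nat.card (Γ ⊓ fixer G U : Subgroup G) := by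
      apply Subgroup.card_le_of_le
      intro g hg'
      obtain ⟨hg''', hgU'⟩ := Subgroup.mem_inf.1 hg'
      obtain ⟨hg'', hgf⟩ := Subgroup.mem_inf.1 hg'''
      obtain ⟨hg, hge⟩ := Subgroup.mem_inf.1 hg''
      exact Subgroup.mem_inf.2 ⟨hg, mem_fixer_of_perpIn halt he hf hc (MulAction.mem_stabilizer_iff.1 hge)
        (MulAction.mem_stabilizer_iff.1 hgf) hgU'⟩
    have hUk : Nat.card U = q ^ (2 * (k + 1)) := by
      rw [hcardU, hk]; ring
    refine ⟨k + 1, hUk, ?_⟩
    calc Nat.card Γ ≤ (Nat.card U - 1) * Nat.card Γ₁ := h1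
      _ ≤ (Nat.card U - 1) * ((q * Nat.card U') * Nat.card Γ₂) := Nat.mul_le_mul_left _ h2
      _ ≤ (Nat.card U - 1) * ((q * Nat.card U') *
            (spOrd q k * Nat.card (Γ ⊓ fixer G U : Subgroup G))) :=
          Nat.mul_le_mul_left _ (Nat.mul_le_mul_left _ (h3.trans (Nat.mul_le_mul_left _ h4)))
      _ = spOrd q (k + 1) * Nat.card (Γ ⊓ fixer G U : Subgroup G) := by
          rw [spOrd_succ, hUk, hk]
          have : q * q ^ (2 * k) = q ^ (2 * k + 1) := by ring
          rw [this]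
          ring

theorem card_le_pProd (halt : B.IsAlt) (hinv : ∀ (g : G) (x y : V), B (g • x) (g • y) = B x y)
    (h2 : (2 : F) ≠ 0) (t : G) (ht : ∀ x : V, t • t • x = -x) :
    ∀ (k : ℕ) (U : Submodule F V) (Γ : Subgroup G), Nat.card U = q ^ (2 * k) → NondegOn B U →
      (∀ x ∈ U, t • x ∈ U) → (∀ g ∈ Γ, g * t = t * g) → (∀ g ∈ Γ, ∀ x ∈ U, g • x ∈ U) →
      Nat.card Γ ≤ pProd q k * Nat.card (Γ ⊓ fixer G U : Subgroup G) := by
  intro k
  induction k with
  | zero =>
    intro U Γ hcard _ _ _ _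
    have hU : U = ⊥ := by
      rw [mul_zero, pow_zero] at hcard
      have := (Nat.card_eq_one_iff_unique.1 hcard).1
      exact Submodule.eq_bot_of_subsingleton
    subst hU
    rw [pProd_zero, one_mul]
    exact card_le_inf_fixer_bot Γ
  | succ k ih =>
    intro U Γ hcard hU htU hΓt hΓU
    have hq1 : 1 < q := one_lt_q
    -- a vector with `B e (t e) ≠ 0`
    obtain ⟨e, he, hc⟩ : ∃ e ∈ U, B e (t • e) ≠ 0 := by
      by_contra h
      push Not at h
      have hxy : ∀ x ∈ U, ∀ y ∈ U, B x (t • y) = 0 := by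
        intro x hx y hy
        have h1 := h (x + y) (U.add_mem hx hy)
        rw [smul_add, map_add, map_add, LinearMap.add_apply, LinearMap.add_apply, h x hx, h y hy,
          add_zero, zero_add] at h1
        have h3 : B y (t • x) = B x (t • y) := by
          rw [← halt.neg_eq (t • x) y, ← hinv t (t • x) y, ht x, map_neg, LinearMap.neg_apply,
            neg_neg]
        rw [h3] at h1
        have h4 : (2 : F) * B x (t • y) = 0 := by rw [two_mul]; exact h1
        exact (mul_eq_zero.1 h4).resolve_left h2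
      have hall : ∀ x ∈ U, x = 0 := by
        intro x hx
        apply hU x hx
        intro y hy
        have h1 := hxy x hx (-(t • y)) (U.neg_mem (htU y hy))
        rwa [smul_neg, ht y, neg_neg] at h1
      have hbot : U = ⊥ := (Submodule.eq_bot_iff U).2 hall
      rw [hbot, card_bot_submodule] at hcard
      have : 1 < q ^ (2 * (k + 1)) := Nat.one_lt_pow (by omega) hq1
      omega
    have hf : t • e ∈ U := htU e he
    have he0 : e ≠ 0 := by
      rintro rfl
      rw [map_zero, LinearMap.zero_apply] at hc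
      exact hc rfl
    have hcardU := card_eq_sq_mul halt he hf hc
    set U' := perpIn B U e (t • e) with hU'
    have hq : 0 < q := Fintype.card_pos
    have hcard' : Nat.card U' = q ^ (2 * k) := by
      rw [hcardU] at hcard
      have : q ^ (2 * (k + 1)) = q ^ 2 * q ^ (2 * k) := by ring
      rw [this] at hcard
      exact Nat.eq_of_mul_eq_mul_left (pow_pos hq 2) hcard
    set Γ₁ : Subgroup G := Γ ⊓ MulAction.stabilizer G e with hΓ₁
    have h1 : Nat.card Γ ≤ (Nat.card U - 1) * Nat.card Γ₁ := card_le_stab_vec Γ U hΓU he he0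
    have hΓ₁f : ∀ g ∈ Γ₁, g • t • e = t • e := by
      intro g hg'
      obtain ⟨hg, hge⟩ := Subgroup.mem_inf.1 hg'
      rw [← mul_smul, hΓt g hg, mul_smul, MulAction.mem_stabilizer_iff.1 hge]
    have htU' : ∀ x ∈ U', t • x ∈ U' := by
      intro x hx
      obtain ⟨hxU, hxe, hxf⟩ := (mem_perpIn B).1 hx
      refine (mem_perpIn B).2 ⟨htU x hxU, ?_, ?_⟩
      · have : e = -(t • t • e) := by rw [ht e, neg_neg]
        rw [this, map_neg, hinv, hxf, neg_zero]
      · rw [hinv, hxe]
    have hΓ₁U' : ∀ g ∈ Γ₁, ∀ x ∈ U', g • x ∈ U' := by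
      intro g hg x hx
      exact smul_mem_perpIn hinv (MulAction.mem_stabilizer_iff.1 (Subgroup.mem_inf.1 hg).2)
        (hΓ₁f g hg) (hΓU g (Subgroup.mem_inf.1 hg).1) hx
    have h3 := ih U' Γ₁ hcard' (nondegOn_perpIn halt he hf hc hU) htU'
      (fun g hg => hΓt g (Subgroup.mem_inf.1 hg).1) hΓ₁U'
    have h4 : Nat.card (Γ₁ ⊓ fixer G U' : Subgroup G) ≤ Nat.card (Γ ⊓ fixer G U : Subgroup G) := by
      apply Subgroup.card_le_of_le
      intro g hg'
      obtain ⟨hg, hgU'⟩ := Subgroup.mem_inf.1 hg'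
      exact Subgroup.mem_inf.2 ⟨(Subgroup.mem_inf.1 hg).1, mem_fixer_of_perpIn halt he hf hc
        (MulAction.mem_stabilizer_iff.1 (Subgroup.mem_inf.1 hg).2) (hΓ₁f g hg) hgU'⟩
    calc Nat.card Γ ≤ (Nat.card U - 1) * Nat.card Γ₁ := h1
      _ ≤ (Nat.card U - 1) * (pProd q k * Nat.card (Γ ⊓ fixer G U : Subgroup G)) :=
          Nat.mul_le_mul_left _ (h3.trans (Nat.mul_le_mul_left _ h4))
      _ = pProd q (k + 1) * Nat.card (Γ ⊓ fixer G U : Subgroup G) := by
          rw [pProd_succ, hcard]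
          ring

end symp

end Cfsg.Agent.Helper5.SpCent
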