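import Mathlib
import Cfsg.Agent.Helper5.SpCent2

/-!
# Stabilizer-chain bounds III: centralizers of elements with `t² = ±1`
-/

set_option autoImplicit false
set_option linter.unusedSectionVars false

namespace Cfsg.Agent.Helper5.SpCent

/-! ### numerics -/

theorem pProd_pos {q : ℕ} (hq : 1 < q) (k : ℕ) : 0 < pProd q k := by
  apply Finset.prod_pos
  intro i _
  have : 1 < q ^ (2 * (i + 1)) := Nat.one_lt_pow (by omega) hq
  omega

theorem spOrd_pos {q : ℕ} (hq : 1 < q) (k : ℕ) : 0 < spOrd q k :=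
  Nat.mul_pos (pow_pos (by omega) _) (pProd_pos hq k)

theorem spOrd_add_ge {q : ℕ} (hq : 1 < q) (a b : ℕ) :
    q ^ (4 * a * b) * (spOrd q a * spOrd q b) ≤ spOrd q (a + b) := by
  induction b with
  | zero => simp [spOrd_zero]
  | succ b ih =>
    rw [← add_assoc, spOrd_succ q (a + b), spOrd_succ q b]
    have h1 : q ^ (2 * a) * (q ^ (2 * (b + 1)) - 1) ≤ q ^ (2 * (a + b + 1)) - 1 := by
      have h2 : q ^ (2 * (a + b + 1)) = q ^ (2 * a) * q ^ (2 * (b + 1)) := by
        rw [← pow_add]; congr 1; ring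
      rw [h2, Nat.mul_sub, mul_one]
      have : 1 ≤ q ^ (2 * a) := Nat.one_le_pow _ _ (by omega)
      omega
    calc q ^ (4 * a * (b + 1)) * (spOrd q a * ((q ^ (2 * (b + 1)) - 1) * q ^ (2 * b + 1) * spOrd q b))
        = (q ^ (2 * a) * (q ^ (2 * (b + 1)) - 1)) * q ^ (2 * (a + b) + 1) *
            (q ^ (4 * a * b) * (spOrd q a * spOrd q b)) := by
          have e1 : q ^ (4 * a * (b + 1)) = q ^ (4 * a * b) * q ^ (2 * a) * q ^ (2 * a) := by
            rw [← pow_add, ← pow_add]; congr 1; ring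
          have e2 : q ^ (2 * (a + b) + 1) = q ^ (2 * a) * q ^ (2 * b + 1) := by
            rw [← pow_add]; congr 1; ring
          rw [e1, e2]; ring
      _ ≤ (q ^ (2 * (a + b + 1)) - 1) * q ^ (2 * (a + b) + 1) * spOrd q (a + b) :=
          Nat.mul_le_mul (Nat.mul_le_mul_right _ h1) ih

theorem spOrd_split_le {q : ℕ} (hq : 1 < q) {m k l : ℕ} (hm : 3 ≤ m) (hkl : k + l = m)
    (hk : k ≠ 0) (hl : l ≠ 0) :
    q ^ (2 * m + 2) * (spOrd q k * spOrd q l) ≤ spOrd q m := by
  subst hkl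
  refine le_trans (Nat.mul_le_mul_right _ ?_) (spOrd_add_ge hq k l)
  apply Nat.pow_le_pow_right (by omega)
  have hk1 : 1 ≤ k := Nat.one_le_iff_ne_zero.2 hk
  have hl1 : 1 ≤ l := Nat.one_le_iff_ne_zero.2 hl
  have : k + l - 1 ≤ k * l := by
    obtain ⟨k', rfl⟩ := Nat.exists_eq_add_of_le hk1
    obtain ⟨l', rfl⟩ := Nat.exists_eq_add_of_le hl1
    ring_nf
    omega
  nlinarith

theorem pProd_le {q : ℕ} (hq : 1 < q) {m : ℕ} (hm : 3 ≤ m) :
    q ^ (2 * m + 2) * pProd q m ≤ spOrd q m := by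
  rw [spOrd]
  apply Nat.mul_le_mul_right
  apply Nat.pow_le_pow_right (by omega)
  nlinarith

section symp
variable {F : Type*} [Field F] [Fintype F] {V : Type*} [AddCommGroup V] [Module F V] [Finite V]
  {G : Type*} [Group G] [Finite G] [DistribMulAction G V] [SMulCommClass G F V]
  {B : LinearMap.BilinForm F V}

local notation "q" => Fintype.card F

variable (F V) in
/-- the eigenspace `{x | t x = ε x}` -/
def eig (t : G) (ε : F) : Submodule F V where
  carrier := {x | t • x = ε • x}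
  add_mem' := fun {a b} ha hb => by
    show t • (a + b) = ε • (a + b)
    rw [smul_add, smul_add, ha, hb]
  zero_mem' := by show t • (0 : V) = ε • (0 : V); rw [smul_zero, smul_zero]
  smul_mem' := fun c x hx => by
    show t • (c • x) = ε • (c • x)
    rw [smul_comm t c x, hx, smul_comm]

theorem mem_eig {t : G} {ε : F} {x : V} : x ∈ eig F V t ε ↔ t • x = ε • x := Iff.rfl

theorem centralizer_smul_mem_eig {t g : G} (hg : g * t = t * g) {ε : F} {x : V}
    (hx : x ∈ eig F V t ε) : g • x ∈ eig F V t ε := by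
  rw [mem_eig] at hx ⊢
  rw [← mul_smul, ← hg, mul_smul, hx, smul_comm]

/-- the `ε`-component `(x + ε t x)/2` of `x` when `t² = 1`, `ε² = 1` -/
theorem comp_mem_eig (h2 : (2 : F) ≠ 0) {t : G} (ht : ∀ x : V, t • t • x = x) {ε : F}
    (hε : ε * ε = 1) (x : V) : (2 : F)⁻¹ • (x + ε • t • x) ∈ eig F V t ε := by
  rw [mem_eig, smul_comm t, smul_add, smul_comm t ε, ht x, smul_comm ε (2 : F)⁻¹]
  congr 1
  rw [smul_add, smul_smul, hε, one_smul, add_comm]

theorem eq_comp_add_comp (h2 : (2 : F) ≠ 0) (t : G) (x : V) :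
    x = (2 : F)⁻¹ • (x + (1 : F) • t • x) + (2 : F)⁻¹ • (x + (-1 : F) • t • x) := by
  rw [← smul_add, one_smul, neg_one_smul]
  have : x + t • x + (x + -(t • x)) = (2 : F) • x := by rw [two_smul]; abel
  rw [this, smul_smul, inv_mul_cancel₀ h2, one_smul]

theorem eig_orth (h2 : (2 : F) ≠ 0) (hinv : ∀ (g : G) (x y : V), B (g • x) (g • y) = B x y)
    {t : G} {ε δ : F} (hεδ : ε * δ = -1) {x y : V} (hx : x ∈ eig F V t ε) (hy : y ∈ eig F V t δ) :
    B x y = 0 := by
  have h1 := hinv t x y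
  rw [mem_eig.1 hx, mem_eig.1 hy, map_smul, map_smul, LinearMap.smul_apply, smul_eq_mul,
    smul_eq_mul, ← mul_assoc, mul_comm δ ε, hεδ, neg_one_mul] at h1
  have h3 : (2 : F) * B x y = 0 := by rw [two_mul]; nth_rewrite 1 [← h1]; exact neg_add_cancel _
  exact (mul_eq_zero.1 h3).resolve_left h2

theorem nondegOn_eig (h2 : (2 : F) ≠ 0) (hnd : ∀ x : V, (∀ y, B x y = 0) → x = 0)
    (hinv : ∀ (g : G) (x y : V), B (g • x) (g • y) = B x y)
    {t : G} (ht : ∀ x : V, t • t • x = x) {ε : F} (hε : ε * ε = 1) :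
    NondegOn B (eig F V t ε) := by
  intro x hx h
  apply hnd
  intro y
  have hy : y = (2 : F)⁻¹ • (y + ε • t • y) + (2 : F)⁻¹ • (y + (-ε) • t • y) := by
    rw [← smul_add, neg_smul]
    have : y + ε • t • y + (y + -(ε • t • y)) = (2 : F) • y := by rw [two_smul]; abel
    rw [this, smul_smul, inv_mul_cancel₀ h2, one_smul]
  rw [hy, map_add, h _ (comp_mem_eig h2 ht hε y),
    eig_orth h2 hinv (by rw [mul_neg, hε]) hx (comp_mem_eig h2 ht (by rw [neg_mul_neg, hε]) y),
    add_zero]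

theorem card_eig_mul (h2 : (2 : F) ≠ 0) {t : G} (ht : ∀ x : V, t • t • x = x) :
    Nat.card (eig F V t (1 : F)) * Nat.card (eig F V t (-1 : F)) = Nat.card V := by
  rw [← Nat.card_prod]
  let ψ : eig F V t (1 : F) × eig F V t (-1 : F) → V := fun p => p.1.1 + p.2.1
  refine Nat.card_eq_of_bijective ψ ⟨?_, ?_⟩
  · rintro ⟨⟨a, ha⟩, ⟨b, hb⟩⟩ ⟨⟨a', ha'⟩, ⟨b', hb'⟩⟩ h
    have h0 : a + b = a' + b' := h
    have h1 := congrArg (fun z => t • z) h0
    simp only [smul_add, mem_eig.1 ha, mem_eig.1 hb, mem_eig.1 ha', mem_eig.1 hb', one_smul,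
      neg_one_smul] at h1
    have h3 : (2 : F) • a = (2 : F) • a' := by
      rw [two_smul, two_smul]
      have : a + a = (a + b) + (a + -b) := by abel
      rw [this, h0, h1]; abel
    have haa : a = a' := smul_right_injective V h2 h3
    subst haa
    have hbb : b = b' := add_left_cancel h0
    subst hbb
    rfl
  · intro x
    refine ⟨⟨⟨_, comp_mem_eig h2 ht (one_mul 1) x⟩,
      ⟨_, comp_mem_eig h2 ht (by rw [neg_mul_neg, one_mul]) x⟩⟩, ?_⟩
    exact (eq_comp_add_comp h2 t x).symm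

theorem card_top_submodule : Nat.card (⊤ : Submodule F V) = Nat.card V :=
  Nat.card_congr (Equiv.Set.univ V)

/-- **Main bound.** If `t² = ±1` on `V` and `t ≠ ±1`, the centralizer of `t` has index at least
`q^(2m+2)`. -/
theorem card_centralizer_bound (halt : B.IsAlt) (hnd : ∀ x : V, (∀ y, B x y = 0) → x = 0)
    (hinv : ∀ (g : G) (x y : V), B (g • x) (g • y) = B x y)
    (hfaith : ∀ g : G, (∀ x : V, g • x = x) → g = 1) (h2 : (2 : F) ≠ 0)
    (m : ℕ) (hm : 3 ≤ m) (hV : Nat.card V = q ^ (2 * m)) (hG : Nat.card G = spOrd q m)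
    (t : G) (ht : (∀ x : V, t • t • x = x) ∨ (∀ x : V, t • t • x = -x))
    (ht1 : ¬ ∀ x : V, t • x = x) (ht2 : ¬ ∀ x : V, t • x = -x) :
    q ^ (2 * m + 2) * Nat.card (Subgroup.centralizer {t}) ≤ Nat.card G := by
  have hq1 : 1 < q := one_lt_q
  set C : Subgroup G := Subgroup.centralizer {t} with hC
  have hCt : ∀ g ∈ C, g * t = t * g := fun g hg =>
    ((Subgroup.mem_centralizer_iff.1 hg) t rfl).symm
  rcases ht with ht | ht
  · -- `t² = 1`
    have hCP : ∀ g ∈ C, ∀ x ∈ eig F V t (1 : F), g • x ∈ eig F V t (1 : F) :=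
      fun g hg x hx => centralizer_smul_mem_eig (hCt g hg) hx
    have hCM : ∀ g ∈ C, ∀ x ∈ eig F V t (-1 : F), g • x ∈ eig F V t (-1 : F) :=
      fun g hg x hx => centralizer_smul_mem_eig (hCt g hg) hx
    have hmul := card_eig_mul (F := F) h2 ht
    have hcM : Nat.card (eig F V t (-1 : F)) ≤ q ^ (2 * m) := by
      rw [← hV, ← hmul]
      exact Nat.le_mul_of_pos_left _ Nat.card_pos
    have hcP : Nat.card (eig F V t (1 : F)) ≤ q ^ (2 * m) := by
      rw [← hV, ← hmul]
      exact Nat.le_mul_of_pos_right _ Nat.card_pos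
    obtain ⟨k, hk, h1⟩ := card_le_spOrd halt hinv (2 * m) (eig F V t (-1 : F)) C hcM
      (nondegOn_eig h2 hnd hinv ht (by rw [neg_mul_neg, one_mul])) hCM
    obtain ⟨l, hl, h3⟩ := card_le_spOrd halt hinv (2 * m) (eig F V t (1 : F))
      (C ⊓ fixer G (eig F V t (-1 : F))) hcP (nondegOn_eig h2 hnd hinv ht (one_mul 1))
      (fun g hg => hCP g (Subgroup.mem_inf.1 hg).1)
    have hbot : (C ⊓ fixer G (eig F V t (-1 : F)) ⊓ fixer G (eig F V t (1 : F)) : Subgroup G) = ⊥ := by
      rw [eq_bot_iff]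
      intro g hg
      obtain ⟨hg', hgP⟩ := Subgroup.mem_inf.1 hg
      obtain ⟨-, hgM⟩ := Subgroup.mem_inf.1 hg'
      rw [Subgroup.mem_bot]
      apply hfaith
      intro x
      rw [eq_comp_add_comp h2 t x, smul_add,
        hgP _ (comp_mem_eig h2 ht (one_mul 1) x),
        hgM _ (comp_mem_eig h2 ht (by rw [neg_mul_neg, one_mul]) x)]
    rw [hbot, Subgroup.card_bot, mul_one] at h3
    have hkl : k + l = m := by
      rw [hk, hl, hV, ← pow_add] at hmul
      have := Nat.pow_right_injective hq1 hmul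
      omega
    have hk0 : k ≠ 0 := by
      rintro rfl
      apply ht1
      intro x
      have hx := comp_mem_eig h2 ht (by rw [neg_mul_neg, one_mul] : (-1 : F) * (-1) = 1) x
      rw [mul_zero, pow_zero] at hk
      have := (Nat.card_eq_one_iff_unique.1 hk).1
      have hbot' : eig F V t (-1 : F) = ⊥ := Submodule.eq_bot_of_subsingleton
      rw [hbot', Submodule.mem_bot, smul_eq_zero] at hx
      have hx' := hx.resolve_left (inv_ne_zero h2)
      rw [neg_one_smul] at hx'
      exact (add_neg_eq_zero.1 hx').symm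
    have hl0 : l ≠ 0 := by
      rintro rfl
      apply ht2
      intro x
      have hx := comp_mem_eig h2 ht (one_mul (1 : F)) x
      rw [mul_zero, pow_zero] at hl
      have := (Nat.card_eq_one_iff_unique.1 hl).1
      have hbot' : eig F V t (1 : F) = ⊥ := Submodule.eq_bot_of_subsingleton
      rw [hbot', Submodule.mem_bot, smul_eq_zero] at hx
      have hx' := hx.resolve_left (inv_ne_zero h2)
      rw [one_smul] at hx'
      exact (eq_neg_of_add_eq_zero_right hx')
    rw [hG]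
    calc q ^ (2 * m + 2) * Nat.card C
        ≤ q ^ (2 * m + 2) * (spOrd q k * spOrd q l) :=
          Nat.mul_le_mul_left _ (h1.trans (Nat.mul_le_mul_left _ h3))
      _ ≤ spOrd q m := spOrd_split_le hq1 hm hkl hk0 hl0
  · -- `t² = -1`
    have h1 := card_le_pProd halt hinv h2 t ht m (⊤ : Submodule F V) C
      (by rw [card_top_submodule, hV]) (fun x _ h => hnd x (fun y => h y Submodule.mem_top))
      (fun _ _ => Submodule.mem_top) hCt (fun _ _ _ _ => Submodule.mem_top)
    have hbot : (C ⊓ fixer G (⊤ : Submodule F V) : Subgroup G) = ⊥ := by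
      rw [eq_bot_iff]
      intro g hg
      rw [Subgroup.mem_bot]
      exact hfaith g (fun x => (Subgroup.mem_inf.1 hg).2 x Submodule.mem_top)
    rw [hbot, Subgroup.card_bot, mul_one] at h1
    rw [hG]
    exact (Nat.mul_le_mul_left _ h1).trans (pProd_le hq1 hm)

end symp

end Cfsg.Agent.Helper5.SpCent
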