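import Mathlib
import Cfsg.Agent.Helper5.SpCent3
import Cfsg.Agent.Helper5.SpCard
import Cfsg.Agent.Helper5.PSL2
import Cfsg.Agent.S0246

/-!
# Centralizers of lifts of involutions of `PSp_{2m}(q)`, `q` odd
-/

set_option autoImplicit false

namespace Cfsg.Agent.Helper5.SpInvClass

open Matrix Cfsg.Agent.Helper13 Cfsg.Agent.Helper5.SpCent

variable {F : Type*} [Field F] {m : ℕ}

/-- `sympForm` as a bilinear form -/
def sympBilin (m : ℕ) (F : Type*) [Field F] : LinearMap.BilinForm F (Fin m ⊕ Fin m → F) :=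
  LinearMap.mk₂ F (Cfsg.sympForm m F) sympForm_add_left sympForm_smul_left sympForm_add_right
    sympForm_smul_right

theorem sympBilin_apply (x y : Fin m ⊕ Fin m → F) :
    sympBilin m F x y = Cfsg.sympForm m F x y := rfl

theorem smul_def (g : Matrix.symplecticGroup (Fin m) F) (x : Fin m ⊕ Fin m → F) :
    g • x = (g : Matrix (Fin m ⊕ Fin m) (Fin m ⊕ Fin m) F) *ᵥ x := rfl

theorem sp_centralizer_bound [Fintype F] (hodd : Odd (Fintype.card F)) (hm : 3 ≤ m)
    (t : Matrix.symplecticGroup (Fin m) F)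
    (ht : t * t ∈ Subgroup.center (Matrix.symplecticGroup (Fin m) F))
    (ht' : t ∉ Subgroup.center (Matrix.symplecticGroup (Fin m) F)) :
    Fintype.card F ^ (2 * m + 2) * Nat.card (Subgroup.centralizer {t})
      ≤ Nat.card (Matrix.symplecticGroup (Fin m) F) := by
  have h2 : (2 : F) ≠ 0 := two_ne_zero_of_odd_card hodd
  have hm1 : 1 ≤ m := by omega
  have halt : (sympBilin m F).IsAlt := fun x => sympForm_self x
  have hnd : ∀ x : Fin m ⊕ Fin m → F, (∀ y, sympBilin m F x y = 0) → x = 0 := by
    intro x h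
    by_contra hx
    obtain ⟨y, hy⟩ := sympForm_nondeg_left hx
    apply hy
    rw [sympForm_swap, ← sympBilin_apply, h y, neg_zero]
  have hinv : ∀ (g : Matrix.symplecticGroup (Fin m) F) (x y : Fin m ⊕ Fin m → F),
      sympBilin m F (g • x) (g • y) = sympBilin m F x y := by
    intro g x y
    exact (mem_symplecticGroup_iff_preserves g.1).1 g.2 x y
  have hfaith : ∀ g : Matrix.symplecticGroup (Fin m) F,
      (∀ x : Fin m ⊕ Fin m → F, g • x = x) → g = 1 := by
    intro g h
    apply Subtype.ext
    apply Matrix.mulVec_injective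
    funext x
    rw [← smul_def, h x]
    exact (Matrix.one_mulVec x).symm
  have hV : Nat.card (Fin m ⊕ Fin m → F) = Fintype.card F ^ (2 * m) := by
    rw [Nat.card_eq_fintype_card, Fintype.card_fun, Fintype.card_sum, Fintype.card_fin, two_mul]
  have hG : Nat.card (Matrix.symplecticGroup (Fin m) F) = spOrd (Fintype.card F) m := by
    rw [card_sp]
    rfl
  have hsq : (∀ x : Fin m ⊕ Fin m → F, t • t • x = x) ∨
      (∀ x : Fin m ⊕ Fin m → F, t • t • x = -x) := by
    rcases (Cfsg.Agent.S0246.mem_center_iff hm1 _).1 ht with h | h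
    · left
      intro x
      rw [← mul_smul, h, one_smul]
    · right
      intro x
      rw [← mul_smul, h, smul_def]
      show (-1 : Matrix (Fin m ⊕ Fin m) (Fin m ⊕ Fin m) F) *ᵥ x = -x
      rw [Matrix.neg_mulVec, Matrix.one_mulVec]
  have ht1 : ¬ ∀ x : Fin m ⊕ Fin m → F, t • x = x := by
    intro h
    apply ht'
    rw [hfaith t h]
    exact Subgroup.one_mem _
  have ht2 : ¬ ∀ x : Fin m ⊕ Fin m → F, t • x = -x := by
    intro h
    apply ht'
    have : t = Cfsg.Agent.S0246.negOne m F := by
      apply Subtype.ext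
      apply Matrix.mulVec_injective
      funext x
      rw [← smul_def, h x]
      show -x = (-1 : Matrix (Fin m ⊕ Fin m) (Fin m ⊕ Fin m) F) *ᵥ x
      rw [Matrix.neg_mulVec, Matrix.one_mulVec]
    rw [this]
    exact Cfsg.Agent.S0246.negOne_mem_center
  exact card_centralizer_bound halt hnd hinv hfaith h2 m hm hV hG t hsq ht1 ht2

theorem card_center_le (hm : 1 ≤ m) [Finite F] :
    Nat.card (Subgroup.center (Matrix.symplecticGroup (Fin m) F)) ≤ 2 := by
  classical
  have hsub : (Subgroup.center (Matrix.symplecticGroup (Fin m) F) : Set _)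
      ⊆ (({1, Cfsg.Agent.S0246.negOne m F} : Finset (Matrix.symplecticGroup (Fin m) F)) :
        Set (Matrix.symplecticGroup (Fin m) F)) := by
    intro Z hZ
    rcases (Cfsg.Agent.S0246.mem_center_iff hm Z).1 hZ with h | h
    · simp [h]
    · simp [h]
  rw [← SetLike.coe_sort_coe, Nat.card_coe_set_eq]
  refine (Set.ncard_le_ncard hsub (Finset.finite_toSet _)).trans ?_
  rw [Set.ncard_coe_finset]
  exact Finset.card_le_two

end Cfsg.Agent.Helper5.SpInvClass
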