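import Mathlib
import Cfsg.Agent.Helper5.EichlerO

/-!
# Pointwise stabilisers of subspaces in the isometry group of a quadratic form

`fixer Q H` is the subgroup of the matrix isometry group of `Q` fixing the subspace `H` pointwise.
If `H₁^⊥ ∩ H₂^⊥` has dimension at least two, then `fixer Q H₁ ⊓ fixer Q H₂` contains a
non-trivial element: a reflection in a non-singular vector of the intersection or, when the
intersection is totally singular, a Siegel (Eichler) transformation.
-/

set_option autoImplicit false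

namespace Cfsg.Agent.Helper5.SylO

open Matrix QuadraticMap Module Cfsg.Agent.Helper44 Cfsg.Agent.Helper45.OmegaParity
  Cfsg.Agent.Helper5

variable {F : Type*} [Field F] {ι : Type} [Fintype ι] [DecidableEq ι]
variable (Q : QuadraticForm F (ι → F))

/-- the pointwise stabiliser of a subspace in the isometry group -/
def fixer (H : Submodule F (ι → F)) : Subgroup (Cfsg.isometryGroup F ⇑Q) where
  carrier := {g | ∀ h ∈ H, lin Q g h = h}
  mul_mem' := by
    intro a b ha hb h hh
    rw [lin_mul_apply, hb h hh, ha h hh]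
  one_mem' := by
    intro h _
    rw [lin_one_apply]
  inv_mem' := by
    intro a ha h hh
    have h1 := lin_inv_apply Q a h
    rw [ha h hh] at h1
    exact h1

theorem mem_fixer {H : Submodule F (ι → F)} {g : Cfsg.isometryGroup F ⇑Q} :
    g ∈ fixer Q H ↔ ∀ h ∈ H, lin Q g h = h := Iff.rfl

theorem conj_mem_fixer (g t : Cfsg.isometryGroup F ⇑Q) (H : Submodule F (ι → F))
    (ht : t ∈ fixer Q (H.map (lin Q g))) : g⁻¹ * t * g ∈ fixer Q H := by
  intro h hh
  rw [lin_mul_apply, lin_mul_apply, ht _ (Submodule.mem_map_of_mem hh), lin_inv_apply]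

theorem reflT_mem_fixer (H : Submodule F (ι → F)) (v : ι → F) (hv : Q v ≠ 0)
    (hvH : v ∈ LinearMap.BilinForm.orthogonal (QuadraticMap.polarBilin Q) H) :
    reflT Q v ∈ fixer Q H := by
  intro h hh
  rw [lin_reflT Q v hv, Helper14.qRefl_apply]
  have h1 : QuadraticMap.polarBilin Q h v = 0 :=
    (LinearMap.BilinForm.mem_orthogonal_iff.1 hvH) h hh
  rw [Helper14.qr_polar_comm Q v h, h1, mul_zero, zero_smul, sub_zero]

theorem reflT_ne_one (hQ : (QuadraticMap.polarBilin Q).Nondegenerate) (v : ι → F)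
    (hv : Q v ≠ 0) : reflT Q v ≠ 1 := by
  intro h1
  have hv0 : v ≠ 0 := by
    rintro rfl
    exact hv (QuadraticMap.map_zero Q)
  obtain ⟨x, hx⟩ : ∃ x, QuadraticMap.polarBilin Q v x ≠ 0 := by
    by_contra hcon
    push Not at hcon
    exact hv0 (hQ.1 v hcon)
  have h2 : lin Q (reflT Q v) x = x := by rw [h1, lin_one_apply]
  rw [lin_reflT Q v hv, Helper14.qRefl_apply, sub_eq_self] at h2
  rcases smul_eq_zero.1 h2 with h3 | h3
  · rcases mul_eq_zero.1 h3 with h4 | h4
    · exact hv (inv_eq_zero.1 h4)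
    · exact hx h4
  · exact hv0 h3

theorem eichlerO_mem_fixer (H : Submodule F (ι → F)) (u w : ι → F) (hu : Q u = 0)
    (huw : polar ⇑Q u w = 0)
    (huH : u ∈ LinearMap.BilinForm.orthogonal (QuadraticMap.polarBilin Q) H)
    (hwH : w ∈ LinearMap.BilinForm.orthogonal (QuadraticMap.polarBilin Q) H) :
    eichlerO Q u w ∈ fixer Q H := by
  intro h hh
  rw [lin_eichlerO Q hu huw]
  have h1 : QuadraticMap.polarBilin Q h u = 0 :=
    (LinearMap.BilinForm.mem_orthogonal_iff.1 huH) h hh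
  have h2 : QuadraticMap.polarBilin Q h w = 0 :=
    (LinearMap.BilinForm.mem_orthogonal_iff.1 hwH) h hh
  rw [QuadraticMap.polarBilin_apply_apply] at h1 h2
  rw [QuadraticMap.polar_comm ⇑Q w h, QuadraticMap.polar_comm ⇑Q u h, h1, h2]
  simp

theorem eichlerO_ne_one (hQ : (QuadraticMap.polarBilin Q).Nondegenerate) (u w : ι → F)
    (hu : Q u = 0) (huw : polar ⇑Q u w = 0) (hu0 : u ≠ 0)
    (hw : w ∉ Submodule.span F {u}) : eichlerO Q u w ≠ 1 := by
  intro h1
  obtain ⟨x, hx⟩ : ∃ x, QuadraticMap.polarBilin Q u x ≠ 0 := by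
    by_contra hcon
    push Not at hcon
    exact hu0 (hQ.1 u hcon)
  rw [QuadraticMap.polarBilin_apply_apply] at hx
  have h2 : lin Q (eichlerO Q u w) x = x := by rw [h1, lin_one_apply]
  rw [lin_eichlerO Q hu huw] at h2
  apply hw
  rw [Submodule.mem_span_singleton]
  refine ⟨(polar ⇑Q u x)⁻¹ * (polar ⇑Q w x - Q w * polar ⇑Q u x), ?_⟩
  have h3 : polar ⇑Q u x • w = (polar ⇑Q w x - Q w * polar ⇑Q u x) • u := by
    rw [sub_smul]
    have h4 : x + polar ⇑Q w x • u - polar ⇑Q u x • w - (Q w * polar ⇑Q u x) • u - x = 0 := by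
      rw [h2, sub_self]
    have h5 : polar ⇑Q w x • u - (Q w * polar ⇑Q u x) • u - polar ⇑Q u x • w = 0 := by
      rw [← h4]; abel
    rw [← sub_eq_zero, ← neg_eq_zero, ← h5]
    abel
  rw [mul_smul, ← h3, smul_smul, inv_mul_cancel₀ hx, one_smul]

/-- **common non-trivial element**: if `H₁^⊥ ∩ H₂^⊥` has dimension at least two then some
non-trivial isometry fixes both `H₁` and `H₂` pointwise -/
theorem exists_common (hQ : (QuadraticMap.polarBilin Q).Nondegenerate)
    (H₁ H₂ : Submodule F (ι → F))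
    (hdim : 2 ≤ finrank F ↥(LinearMap.BilinForm.orthogonal (QuadraticMap.polarBilin Q) H₁ ⊓
      LinearMap.BilinForm.orthogonal (QuadraticMap.polarBilin Q) H₂)) :
    ∃ t : Cfsg.isometryGroup F ⇑Q, t ≠ 1 ∧ t ∈ fixer Q H₁ ∧ t ∈ fixer Q H₂ := by
  obtain ⟨X, hX⟩ : ∃ X : Submodule F (ι → F),
      X = LinearMap.BilinForm.orthogonal (QuadraticMap.polarBilin Q) H₁ ⊓
        LinearMap.BilinForm.orthogonal (QuadraticMap.polarBilin Q) H₂ := ⟨_, rfl⟩
  rw [← hX] at hdim
  have hX1 : ∀ v ∈ X, v ∈ LinearMap.BilinForm.orthogonal (QuadraticMap.polarBilin Q) H₁ := by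
    intro v hv
    rw [hX] at hv
    exact hv.1
  have hX2 : ∀ v ∈ X, v ∈ LinearMap.BilinForm.orthogonal (QuadraticMap.polarBilin Q) H₂ := by
    intro v hv
    rw [hX] at hv
    exact hv.2
  by_cases hns : ∃ v ∈ X, Q v ≠ 0
  · obtain ⟨v, hvX, hv⟩ := hns
    exact ⟨reflT Q v, reflT_ne_one Q hQ v hv, reflT_mem_fixer Q H₁ v hv (hX1 v hvX),
      reflT_mem_fixer Q H₂ v hv (hX2 v hvX)⟩
  · push Not at hns
    -- two independent vectors
    have hpos : 0 < finrank F ↥X := by omega
    obtain ⟨u', hu'⟩ := (Module.finrank_pos_iff_exists_ne_zero (R := F) (M := ↥X)).1 hpos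
    obtain ⟨u, huX, hu0⟩ : ∃ u ∈ X, u ≠ 0 :=
      ⟨u'.1, u'.2, fun h => hu' (Subtype.ext h)⟩
    obtain ⟨w, hwX, hw⟩ : ∃ w ∈ X, w ∉ Submodule.span F {u} := by
      by_contra hcon
      push Not at hcon
      have hle : X ≤ Submodule.span F {u} := hcon
      have h1 := Submodule.finrank_mono hle
      rw [finrank_span_singleton hu0] at h1
      omega
    have huw : polar ⇑Q u w = 0 := by
      rw [QuadraticMap.polar, hns _ (X.add_mem huX hwX), hns u huX, hns w hwX]
      simp
    exact ⟨eichlerO Q u w, eichlerO_ne_one Q hQ u w (hns u huX) huw hu0 hw,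
      eichlerO_mem_fixer Q H₁ u w (hns u huX) huw (hX1 u huX) (hX1 w hwX),
      eichlerO_mem_fixer Q H₂ u w (hns u huX) huw (hX2 u huX) (hX2 w hwX)⟩

end Cfsg.Agent.Helper5.SylO
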