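import Mathlib
import Cfsg.Agent.Helper5.SylOA
import Cfsg.Agent.Helper44.StdForms
import Cfsg.Agent.Helper44.StdNondeg

/-!
# The pointwise stabiliser of `⟨e_i : i ≠ l⟩` in `O⁺_{2m}(2)` is a `2`-group
-/

set_option autoImplicit false
set_option linter.unusedSimpArgs false

namespace Cfsg.Agent.Helper5.SylO

open Matrix QuadraticMap Module Cfsg.Agent.Helper44 Cfsg.Agent.Helper45.OmegaParity
  Cfsg.Agent.Helper5

variable {F : Type*} [Field F] {m : ℕ}

/-- the totally singular subspace spanned by the `e_i`, `i ≠ l` -/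
def H0 (F : Type*) [Field F] {m : ℕ} (l : Fin m) : Submodule F (Fin m ⊕ Fin m → F) where
  carrier := {z | (∀ i, z (Sum.inr i) = 0) ∧ z (Sum.inl l) = 0}
  add_mem' := by
    rintro a b ⟨ha1, ha2⟩ ⟨hb1, hb2⟩
    refine ⟨fun i => ?_, ?_⟩
    · rw [Pi.add_apply, ha1, hb1, add_zero]
    · rw [Pi.add_apply, ha2, hb2, add_zero]
  zero_mem' := ⟨fun _ => rfl, rfl⟩
  smul_mem' := by
    rintro c a ⟨ha1, ha2⟩
    refine ⟨fun i => ?_, ?_⟩
    · rw [Pi.smul_apply, ha1, smul_zero]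
    · rw [Pi.smul_apply, ha2, smul_zero]

theorem mem_H0 {l : Fin m} {z : Fin m ⊕ Fin m → F} :
    z ∈ H0 F l ↔ (∀ i, z (Sum.inr i) = 0) ∧ z (Sum.inl l) = 0 := Iff.rfl

theorem finrank_H0_le (l : Fin m) : finrank F ↥(H0 F l) + 1 ≤ m := by
  -- injective linear map into functions on `{i // i ≠ l}`
  let φ : ↥(H0 F l) →ₗ[F] ({i : Fin m // i ≠ l} → F) :=
    { toFun := fun z i => (z : Fin m ⊕ Fin m → F) (Sum.inl i.1)
      map_add' := fun a b => rfl
      map_smul' := fun c a => rfl }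
  have hφ : Function.Injective φ := by
    intro a b hab
    apply Subtype.ext
    funext j
    rcases j with i | i
    · by_cases hi : i = l
      · rw [hi, a.2.2, b.2.2]
      · exact congrFun hab ⟨i, hi⟩
    · rw [a.2.1, b.2.1]
  have h1 := LinearMap.finrank_le_finrank_of_injective hφ
  rw [Module.finrank_fintype_fun_eq_card, Fintype.card_subtype_compl, Fintype.card_fin,
    Fintype.card_subtype_eq] at h1
  have hm : 0 < m := Fin.pos l
  omega

section two

variable [Fintype F]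

theorem eq_zero_or_one_of_card_two (hF : Fintype.card F = 2) (a : F) : a = 0 ∨ a = 1 := by
  classical
  by_contra hcon
  push Not at hcon
  have h1 : ({0, 1, a} : Finset F).card = 3 := by
    rw [Finset.card_eq_three]
    exact ⟨0, 1, a, zero_ne_one, hcon.1.symm, hcon.2.symm, rfl⟩
  have h2 := Finset.card_le_univ ({0, 1, a} : Finset F)
  omega

theorem two_eq_zero_of_card_two (hF : Fintype.card F = 2) : (2 : F) = 0 := by
  rcases eq_zero_or_one_of_card_two hF (2 : F) with h | h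
  · exact h
  · exfalso
    have h1 : (1 : F) = 0 := by linear_combination h
    exact one_ne_zero h1

end two

/-- `Q` on vectors orthogonal to `H0` -/
theorem quadFormPlus_of_perp (l : Fin m) (y : Fin m ⊕ Fin m → F)
    (hy : ∀ i, i ≠ l → y (Sum.inr i) = 0) :
    quadFormPlus m F y = y (Sum.inl l) * y (Sum.inr l) := by
  unfold quadFormPlus
  rw [Finset.sum_eq_single l]
  · intro i _ hi
    rw [hy i hi, mul_zero]
  · intro h
    exact absurd (Finset.mem_univ l) h

theorem polar_of_perp (l : Fin m) (y y' : Fin m ⊕ Fin m → F)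
    (hy : ∀ i, i ≠ l → y (Sum.inr i) = 0) (hy' : ∀ i, i ≠ l → y' (Sum.inr i) = 0) :
    polar (quadFormPlus m F) y y'
      = y (Sum.inl l) * y' (Sum.inr l) + y' (Sum.inl l) * y (Sum.inr l) := by
  rw [polar_quadFormPlus, Finset.sum_eq_single l]
  · intro i _ hi
    rw [hy i hi, hy' i hi, mul_zero, mul_zero, add_zero]
  · intro h
    exact absurd (Finset.mem_univ l) h

theorem polar_single_inl (i : Fin m) (y : Fin m ⊕ Fin m → F) :
    polar (quadFormPlus m F) y (Pi.single (Sum.inl i) 1) = y (Sum.inr i) := by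
  rw [polar_quadFormPlus, Finset.sum_eq_single i]
  · simp
  · intro j _ hj
    have h1 : (Sum.inl j : Fin m ⊕ Fin m) ≠ Sum.inl i := fun h => hj (Sum.inl.inj h)
    simp [Pi.single_apply, h1]
  · intro h
    exact absurd (Finset.mem_univ i) h

theorem single_inl_mem_H0 (l i : Fin m) (hi : i ≠ l) :
    (Pi.single (Sum.inl i) 1 : Fin m ⊕ Fin m → F) ∈ H0 F l := by
  refine ⟨fun j => ?_, ?_⟩
  · simp [Pi.single_apply]
  · have h1 : (Sum.inl l : Fin m ⊕ Fin m) ≠ Sum.inl i := fun h => hi (Sum.inl.inj h).symm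
    simp [Pi.single_apply, h1]

/-- decomposition of a vector of `H0^⊥` -/
theorem sub_mem_H0 (l : Fin m) (y : Fin m ⊕ Fin m → F)
    (hy : ∀ i, i ≠ l → y (Sum.inr i) = 0) :
    y - y (Sum.inl l) • (Pi.single (Sum.inl l) 1 : Fin m ⊕ Fin m → F)
      - y (Sum.inr l) • (Pi.single (Sum.inr l) 1 : Fin m ⊕ Fin m → F) ∈ H0 F l := by
  refine ⟨fun i => ?_, ?_⟩
  · by_cases hi : i = l
    · subst hi
      simp [Pi.single_apply]
    · have h1 : (Sum.inr i : Fin m ⊕ Fin m) ≠ Sum.inr l := fun h => hi (Sum.inr.inj h)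
      simp [Pi.single_apply, h1, hy i hi]
  · simp [Pi.single_apply]

variable [Fintype F]

set_option maxHeartbeats 1600000 in
/-- the key computation: elements of the pointwise stabiliser of `H0` have order dividing four -/
theorem pow_four_eq_one (hF : Fintype.card F = 2) (l : Fin m)
    (g : Cfsg.isometryGroup F ⇑(plusForm m F)) (hg : g ∈ fixer (plusForm m F) (H0 F l)) :
    g * g * (g * g) = 1 := by
  have h01 := eq_zero_or_one_of_card_two hF
  have h2 : (2 : F) = 0 := two_eq_zero_of_card_two hF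
  obtain ⟨G, hG⟩ : ∃ G : (Fin m ⊕ Fin m → F) →ₗ[F] (Fin m ⊕ Fin m → F),
      G = lin (plusForm m F) g := ⟨_, rfl⟩
  have hGQ : ∀ x, quadFormPlus m F (G x) = quadFormPlus m F x := by
    intro x
    rw [hG]
    exact lin_isometry (plusForm m F) g x
  have hGB : ∀ x y, polar (quadFormPlus m F) (G x) (G y) = polar (quadFormPlus m F) x y := by
    intro x y
    rw [hG]
    exact polar_lin (plusForm m F) g x y
  have hGfix : ∀ z ∈ H0 F l, G z = z := by
    intro z hz
    rw [hG]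
    exact hg z hz
  -- (1) the `inr i` coordinates, `i ≠ l`, are preserved
  have hc1 : ∀ x i, i ≠ l → (G x) (Sum.inr i) = x (Sum.inr i) := by
    intro x i hi
    rw [← polar_single_inl i (G x), ← polar_single_inl i x,
      ← hGB x (Pi.single (Sum.inl i) 1), hGfix _ (single_inl_mem_H0 l i hi)]
  obtain ⟨e, he⟩ : ∃ e : Fin m ⊕ Fin m → F, e = Pi.single (Sum.inl l) 1 := ⟨_, rfl⟩
  obtain ⟨f, hf⟩ : ∃ f : Fin m ⊕ Fin m → F, f = Pi.single (Sum.inr l) 1 := ⟨_, rfl⟩
  have heP : ∀ i, i ≠ l → e (Sum.inr i) = 0 := by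
    intro i _
    rw [he]
    simp [Pi.single_apply]
  have hfP : ∀ i, i ≠ l → f (Sum.inr i) = 0 := by
    intro i hi
    have h1 : (Sum.inr i : Fin m ⊕ Fin m) ≠ Sum.inr l := fun h => hi (Sum.inr.inj h)
    rw [hf]
    simp [Pi.single_apply, h1]
  have hGeP : ∀ i, i ≠ l → (G e) (Sum.inr i) = 0 := fun i hi => by rw [hc1 e i hi, heP i hi]
  have hGfP : ∀ i, i ≠ l → (G f) (Sum.inr i) = 0 := fun i hi => by rw [hc1 f i hi, hfP i hi]
  have he1 : e (Sum.inl l) = 1 := by rw [he]; simp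
  have he2 : e (Sum.inr l) = 0 := by rw [he]; simp [Pi.single_apply]
  have hf1 : f (Sum.inl l) = 0 := by rw [hf]; simp [Pi.single_apply]
  have hf2 : f (Sum.inr l) = 1 := by rw [hf]; simp
  obtain ⟨a₁, ha₁⟩ : ∃ a, a = (G e) (Sum.inl l) := ⟨_, rfl⟩
  obtain ⟨b₁, hb₁⟩ : ∃ a, a = (G e) (Sum.inr l) := ⟨_, rfl⟩
  obtain ⟨a₂, ha₂⟩ : ∃ a, a = (G f) (Sum.inl l) := ⟨_, rfl⟩
  obtain ⟨b₂, hb₂⟩ : ∃ a, a = (G f) (Sum.inr l) := ⟨_, rfl⟩
  have hr1 : a₁ * b₁ = 0 := by
    have h1 := hGQ e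
    rw [quadFormPlus_of_perp l (G e) hGeP, quadFormPlus_of_perp l e heP, ← ha₁, ← hb₁, he1, he2,
      mul_zero] at h1
    exact h1
  have hr2 : a₂ * b₂ = 0 := by
    have h1 := hGQ f
    rw [quadFormPlus_of_perp l (G f) hGfP, quadFormPlus_of_perp l f hfP, ← ha₂, ← hb₂, hf1,
      zero_mul] at h1
    exact h1
  have hr3 : a₁ * b₂ + a₂ * b₁ = 1 := by
    have h1 := hGB e f
    rw [polar_of_perp l (G e) (G f) hGeP hGfP, polar_of_perp l e f heP hfP, ← ha₁, ← hb₁, ← ha₂,
      ← hb₂, he1, he2, hf1, hf2] at h1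
    linear_combination h1
  -- the action on `H0^⊥ / H0`
  have hact : ∀ y : Fin m ⊕ Fin m → F, (∀ i, i ≠ l → y (Sum.inr i) = 0) →
      (G y) (Sum.inl l) = y (Sum.inl l) * a₁ + y (Sum.inr l) * a₂ ∧
      (G y) (Sum.inr l) = y (Sum.inl l) * b₁ + y (Sum.inr l) * b₂ := by
    intro y hy
    have h1 := sub_mem_H0 l y hy
    rw [← he, ← hf] at h1
    have h3 : G y = (y - y (Sum.inl l) • e - y (Sum.inr l) • f) + y (Sum.inl l) • G e
        + y (Sum.inr l) • G f := by
      have h4 := hGfix _ h1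
      rw [map_sub, map_sub, map_smul, map_smul] at h4
      rw [← h4]
      abel
    constructor
    · rw [h3]
      simp only [Pi.add_apply, Pi.sub_apply, Pi.smul_apply, smul_eq_mul, he1, hf1, ← ha₁, ← ha₂]
      ring
    · rw [h3]
      simp only [Pi.add_apply, Pi.sub_apply, Pi.smul_apply, smul_eq_mul, he2, hf2, ← hb₁, ← hb₂]
      ring
  have hGP : ∀ y : Fin m ⊕ Fin m → F, (∀ i, i ≠ l → y (Sum.inr i) = 0) →
      ∀ i, i ≠ l → (G y) (Sum.inr i) = 0 := fun y hy i hi => by rw [hc1 y i hi, hy i hi]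
  -- the square acts trivially on `H0^⊥ / H0`
  have hsq : ∀ y : Fin m ⊕ Fin m → F, (∀ i, i ≠ l → y (Sum.inr i) = 0) →
      G (G y) - y ∈ H0 F l := by
    intro y hy
    obtain ⟨k1, k2⟩ := hact y hy
    obtain ⟨k3, k4⟩ := hact (G y) (hGP y hy)
    refine ⟨fun i => ?_, ?_⟩
    · by_cases hi : i = l
      · subst hi
        rw [Pi.sub_apply, k4, k1, k2]
        rcases h01 a₁ with rfl | rfl <;> rcases h01 b₁ with rfl | rfl <;>
          rcases h01 a₂ with rfl | rfl <;> rcases h01 b₂ with rfl | rfl <;>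
          simp at hr1 hr2 hr3 ⊢
      · rw [Pi.sub_apply, hc1 _ i hi, hc1 _ i hi, sub_self]
    · rw [Pi.sub_apply, k3, k1, k2]
      rcases h01 a₁ with rfl | rfl <;> rcases h01 b₁ with rfl | rfl <;>
        rcases h01 a₂ with rfl | rfl <;> rcases h01 b₂ with rfl | rfl <;>
        simp at hr1 hr2 hr3 ⊢
  apply isom_ext
  intro x
  rw [lin_mul_apply, lin_mul_apply, lin_mul_apply, lin_one_apply, ← hG]
  -- `p = G x - x ∈ H0^⊥`
  have hp : ∀ i, i ≠ l → (G x - x) (Sum.inr i) = 0 := by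
    intro i hi
    rw [Pi.sub_apply, hc1 x i hi, sub_self]
  have h5 := hGfix _ (hsq (G x - x) hp)
  simp only [map_sub] at h5
  have h6 : G (G (G (G x))) - x = (2 : F) • (G (G (G x)) - G x) := by
    rw [two_smul]
    have h7 : G (G (G (G x))) - G (G (G x)) - (G (G x) - G x)
        - (G (G (G x)) - G (G x) - (G x - x)) = 0 := sub_eq_zero.2 h5
    rw [← sub_eq_zero, ← h7]
    abel
  rw [h2, zero_smul] at h6
  exact sub_eq_zero.1 h6

/-- the pointwise stabiliser of `H0` is a `2`-group -/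
theorem isPGroup_fixer_H0 (hF : Fintype.card F = 2) (l : Fin m) :
    IsPGroup 2 ↥(fixer (plusForm m F) (H0 F l)) := by
  intro g
  refine ⟨2, ?_⟩
  apply Subtype.ext
  have h1 := pow_four_eq_one hF l g.1 g.2
  rw [Subgroup.coe_pow, Subgroup.coe_one, ← h1]
  show g.1 ^ 4 = g.1 * g.1 * (g.1 * g.1)
  rw [pow_succ, pow_succ, pow_succ, pow_one, mul_assoc (g.1 * g.1)]

end Cfsg.Agent.Helper5.SylO
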