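import Mathlib
import Cfsg.Agent.Helper5.SylOB

/-!
# Any two Sylow `2`-subgroups of `O⁺_{2m}(2)` meet non-trivially
-/

set_option autoImplicit false
set_option linter.unusedSectionVars false

namespace Cfsg.Agent.Helper5.SylO

open Matrix QuadraticMap Module Cfsg.Agent.Helper44 Cfsg.Agent.Helper45.OmegaParity
  Cfsg.Agent.Helper5
open scoped Pointwise

variable {F : Type*} [Field F] [Fintype F] {m : ℕ}

theorem finrank_map_lin' {ι : Type} [Fintype ι] [DecidableEq ι] (Q : QuadraticForm F (ι → F))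
    (g : Cfsg.isometryGroup F ⇑Q) (U : Submodule F (ι → F)) :
    finrank F ↥(U.map (lin Q g)) = finrank F ↥U := by
  have hinj : Function.Injective (lin Q g) := by
    intro a b hab
    have h1 := congrArg (lin Q g⁻¹) hab
    rwa [lin_inv_apply, lin_inv_apply] at h1
  exact (LinearEquiv.finrank_eq (Submodule.equivMapOfInjective (lin Q g) hinj U)).symm

/-- the dimension count -/
theorem two_le_finrank_inf (l : Fin m) (a b : Cfsg.isometryGroup F ⇑(plusForm m F)) :
    2 ≤ finrank F ↥(LinearMap.BilinForm.orthogonal (QuadraticMap.polarBilin (plusForm m F))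
        ((H0 F l).map (lin (plusForm m F) a)) ⊓
      LinearMap.BilinForm.orthogonal (QuadraticMap.polarBilin (plusForm m F))
        ((H0 F l).map (lin (plusForm m F) b))) := by
  have hQ := nondegenerate_plusForm (F := F) m
  have hV : finrank F (Fin m ⊕ Fin m → F) = 2 * m := by
    rw [Module.finrank_fintype_fun_eq_card, Fintype.card_sum, Fintype.card_fin]
    omega
  have h0 := finrank_H0_le (F := F) l
  have h1 := LinearMap.BilinForm.finrank_orthogonal hQ ((H0 F l).map (lin (plusForm m F) a))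
  have h2 := LinearMap.BilinForm.finrank_orthogonal hQ ((H0 F l).map (lin (plusForm m F) b))
  rw [finrank_map_lin', hV] at h1 h2
  have h3 := Submodule.finrank_sup_add_finrank_inf_eq
    (LinearMap.BilinForm.orthogonal (QuadraticMap.polarBilin (plusForm m F))
      ((H0 F l).map (lin (plusForm m F) a)))
    (LinearMap.BilinForm.orthogonal (QuadraticMap.polarBilin (plusForm m F))
      ((H0 F l).map (lin (plusForm m F) b)))
  have h4 := Submodule.finrank_le
    (LinearMap.BilinForm.orthogonal (QuadraticMap.polarBilin (plusForm m F))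
      ((H0 F l).map (lin (plusForm m F) a)) ⊔
    LinearMap.BilinForm.orthogonal (QuadraticMap.polarBilin (plusForm m F))
      ((H0 F l).map (lin (plusForm m F) b)))
  rw [hV] at h4
  omega

/-- membership in a conjugate of a subgroup containing the pointwise stabiliser of `H0` -/
theorem mem_conj_smul_of_mem_fixer (l : Fin m)
    (S : Subgroup (Cfsg.isometryGroup F ⇑(plusForm m F)))
    (hS : fixer (plusForm m F) (H0 F l) ≤ S) (c t : Cfsg.isometryGroup F ⇑(plusForm m F))
    (ht : t ∈ fixer (plusForm m F) ((H0 F l).map (lin (plusForm m F) c))) :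
    t ∈ MulAut.conj c • S := by
  rw [Subgroup.mem_pointwise_smul_iff_inv_smul_mem, MulAut.smul_def, MulAut.conj_inv_apply]
  exact hS (conj_mem_fixer (plusForm m F) c t (H0 F l) ht)

theorem sylow_inf_conj_ne_bot (hF : Fintype.card F = 2) (hm : 1 ≤ m)
    (H : Sylow 2 (Cfsg.isometryGroup F ⇑(plusForm m F)))
    (x : Cfsg.isometryGroup F ⇑(plusForm m F)) :
    (H : Subgroup (Cfsg.isometryGroup F ⇑(plusForm m F))) ⊓ MulAut.conj x • (H : Subgroup _)
      ≠ ⊥ := by
  have : Fact (Nat.Prime 2) := ⟨Nat.prime_two⟩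
  obtain ⟨l⟩ : Nonempty (Fin m) := ⟨⟨0, hm⟩⟩
  obtain ⟨S₀, hS₀⟩ := (isPGroup_fixer_H0 hF l).exists_le_sylow
  obtain ⟨g, hg⟩ := MulAction.exists_smul_eq (Cfsg.isometryGroup F ⇑(plusForm m F)) S₀ H
  have hH : (H : Subgroup (Cfsg.isometryGroup F ⇑(plusForm m F)))
      = MulAut.conj g • (S₀ : Subgroup _) := by
    rw [← hg, Sylow.coe_subgroup_smul]
  have hxH : MulAut.conj x • (H : Subgroup (Cfsg.isometryGroup F ⇑(plusForm m F)))
      = MulAut.conj (x * g) • (S₀ : Subgroup _) := by
    rw [hH, smul_smul, ← map_mul]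
  obtain ⟨t, ht1, ht2, ht3⟩ := exists_common (plusForm m F) (nondegenerate_plusForm m)
    ((H0 F l).map (lin (plusForm m F) g)) ((H0 F l).map (lin (plusForm m F) (x * g)))
    (two_le_finrank_inf l g (x * g))
  intro hbot
  have h1 : t ∈ (H : Subgroup (Cfsg.isometryGroup F ⇑(plusForm m F)))
      ⊓ MulAut.conj x • (H : Subgroup _) := by
    refine ⟨?_, ?_⟩
    · show t ∈ (H : Subgroup (Cfsg.isometryGroup F ⇑(plusForm m F)))
      rw [hH]
      exact mem_conj_smul_of_mem_fixer l _ hS₀ g t ht2
    · show t ∈ MulAut.conj x • (H : Subgroup (Cfsg.isometryGroup F ⇑(plusForm m F)))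
      rw [hxH]
      exact mem_conj_smul_of_mem_fixer l _ hS₀ (x * g) t ht3
  rw [hbot, Subgroup.mem_bot] at h1
  exact ht1 h1

end Cfsg.Agent.Helper5.SylO
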